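import Mathlib
import Cfsg.Prelude.Def_Transfer
import Cfsg.Agent.Lib.Helper54.Coprime

set_option autoImplicit false

namespace Cfsg.Agent.Lib.Helper47.PF9N5

open Cfsg
open scoped Pointwise
open Cfsg.Agent.Lib.Helper54 (mem_conj_smul_iff mem_normalizer_iff_conj_smul card_conj_smul
  conj_smul_le_conj_smul conj_smul_le_normalizer card_sup_of_le_normalizer)

variable {G : Type*} [Group G]

/-- `conj g⁻¹ • conj g • R = R`. -/
theorem conj_inv_smul_conj_smul (g : G) (R : Subgroup G) :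
    MulAut.conj g⁻¹ • MulAut.conj g • R = R := by
  rw [map_inv, inv_smul_smul]

theorem conj_smul_conj_inv_smul (g : G) (R : Subgroup G) :
    MulAut.conj g • MulAut.conj g⁻¹ • R = R := by
  rw [map_inv, smul_inv_smul]

/-- If `U` normalizes `A` and `B` then it normalizes `A ⊔ B`. -/
theorem le_normalizer_sup {U A B : Subgroup G} (hA : U ≤ Subgroup.normalizer (A : Set G))
    (hB : U ≤ Subgroup.normalizer (B : Set G)) :
    U ≤ Subgroup.normalizer ((A ⊔ B : Subgroup G) : Set G) := by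
  intro u hu
  have h1 := mem_normalizer_iff_conj_smul.mp (hA hu)
  have h2 := mem_normalizer_iff_conj_smul.mp (hB hu)
  rw [mem_normalizer_iff_conj_smul, Subgroup.smul_sup, h1, h2]

/-- If `g` normalizes `U` and `U` normalizes `R`, then `U` normalizes `R ^ g`. -/
theorem le_normalizer_conj_smul {U R : Subgroup G} {g : G}
    (hg : g ∈ Subgroup.normalizer (U : Set G)) (hR : U ≤ Subgroup.normalizer (R : Set G)) :
    U ≤ Subgroup.normalizer ((MulAut.conj g • R : Subgroup G) : Set G) := by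
  have h1 := conj_smul_le_normalizer (g := g) hR
  rwa [mem_normalizer_iff_conj_smul.mp hg] at h1

/-- A minimal nontrivial `U`-invariant subgroup. -/
def IsMinInv (U R : Subgroup G) : Prop :=
  R ≠ ⊥ ∧ U ≤ Subgroup.normalizer (R : Set G) ∧
    ∀ R' : Subgroup G, R' ≤ R → U ≤ Subgroup.normalizer (R' : Set G) → R' = ⊥ ∨ R' = R

theorem IsMinInv.conj {U R : Subgroup G} (h : IsMinInv U R) {g : G}
    (hg : g ∈ Subgroup.normalizer (U : Set G)) : IsMinInv U (MulAut.conj g • R) := by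
  refine ⟨?_, le_normalizer_conj_smul hg h.2.1, ?_⟩
  · intro h0
    apply h.1
    have := conj_inv_smul_conj_smul g R
    rw [h0, Subgroup.smul_bot] at this
    exact this.symm
  · intro R' hR' hUR'
    have hg' : g⁻¹ ∈ Subgroup.normalizer (U : Set G) := inv_mem hg
    have h1 : MulAut.conj g⁻¹ • R' ≤ R := by
      have := conj_smul_le_conj_smul (g := g⁻¹) hR'
      rwa [conj_inv_smul_conj_smul] at this
    rcases h.2.2 _ h1 (le_normalizer_conj_smul hg' hUR') with h2 | h2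
    · left
      have := conj_smul_conj_inv_smul g R'
      rw [h2, Subgroup.smul_bot] at this
      exact this.symm
    · right
      have := conj_smul_conj_inv_smul g R'
      rw [h2] at this
      exact this.symm

/-- A `U`-invariant subgroup either meets a minimal one trivially or contains it. -/
theorem IsMinInv.inf_eq_bot_or_le {U R T : Subgroup G} (h : IsMinInv U R)
    (hT : U ≤ Subgroup.normalizer (T : Set G)) : R ⊓ T = ⊥ ∨ R ≤ T := by
  rcases h.2.2 (R ⊓ T) inf_le_left (Cfsg.Agent.Lib.Helper54.le_normalizer_inf h.2.1 hT) with h1 | h1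
  · exact Or.inl h1
  · exact Or.inr (inf_eq_left.mp h1)

/-- The chain argument: a join of conjugates of a minimal invariant subgroup inside an abelian
group has order a power of the order of that subgroup. -/
theorem card_iSup_conj [Finite G] {U P P₁ : Subgroup G} (hPc : IsMulCommutative P)
    (hP₁ : P₁ ≤ P) (h : IsMinInv U P₁) (S : Finset G)
    (hS : ∀ g ∈ S, g ∈ Subgroup.normalizer (U : Set G) ∧ g ∈ Subgroup.normalizer (P : Set G)) :
    (⨆ g ∈ S, MulAut.conj g • P₁) ≤ P ∧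
    U ≤ Subgroup.normalizer ((⨆ g ∈ S, MulAut.conj g • P₁ : Subgroup G) : Set G) ∧
    ∃ k : ℕ, Nat.card (⨆ g ∈ S, MulAut.conj g • P₁ : Subgroup G) = Nat.card P₁ ^ k := by
  classical
  induction S using Finset.induction_on with
  | empty =>
    have h0 : (⨆ g ∈ (∅ : Finset G), MulAut.conj g • P₁ : Subgroup G) = ⊥ := by simp
    rw [h0]
    refine ⟨bot_le, ?_, 0, by simp⟩
    intro u _
    rw [mem_normalizer_iff_conj_smul, Subgroup.smul_bot]
  | insert a S ha ih =>
    have hS' : ∀ g ∈ S, g ∈ Subgroup.normalizer (U : Set G) ∧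
        g ∈ Subgroup.normalizer (P : Set G) := fun g hg => hS g (Finset.mem_insert_of_mem hg)
    obtain ⟨ih1, ih2, k, ih3⟩ := ih hS'
    obtain ⟨haU, haP⟩ := hS a (Finset.mem_insert_self a S)
    have hmin := h.conj haU
    have haP₁ : MulAut.conj a • P₁ ≤ P := by
      have := conj_smul_le_conj_smul (g := a) hP₁
      rwa [mem_normalizer_iff_conj_smul.mp haP] at this
    rw [Finset.iSup_insert]
    refine ⟨sup_le haP₁ ih1, le_normalizer_sup hmin.2.1 ih2, ?_⟩
    rcases hmin.inf_eq_bot_or_le ih2 with h1 | h1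
    · refine ⟨k + 1, ?_⟩
      -- both subgroups lie in the abelian group `P`
      have hnorm : (⨆ g ∈ S, MulAut.conj g • P₁) ≤
          Subgroup.normalizer ((MulAut.conj a • P₁ : Subgroup G) : Set G) := by
        intro x hx
        rw [Subgroup.mem_normalizer_iff]
        intro y
        have key : y ∈ MulAut.conj a • P₁ → x * y * x⁻¹ = y := by
          intro hy
          have := hPc.is_comm.comm ⟨x, ih1 hx⟩ ⟨y, haP₁ hy⟩
          have h2 : x * y = y * x := congrArg Subtype.val this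
          rw [h2, mul_inv_cancel_right]
        constructor
        · intro hy
          rw [key hy]; exact hy
        · intro hy
          have h3 : x⁻¹ * (x * y * x⁻¹) * x⁻¹⁻¹ = x * y * x⁻¹ := by
            have := hPc.is_comm.comm ⟨x⁻¹, inv_mem (ih1 hx)⟩ ⟨x * y * x⁻¹, haP₁ hy⟩
            have h2 : x⁻¹ * (x * y * x⁻¹) = (x * y * x⁻¹) * x⁻¹ := congrArg Subtype.val this
            rw [h2, mul_inv_cancel_right]
          have h4 : x⁻¹ * (x * y * x⁻¹) * x⁻¹⁻¹ = y := by group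
          rw [← h4, h3]; exact hy
      rw [card_sup_of_le_normalizer hnorm h1, ih3, card_conj_smul, pow_succ, mul_comm]
    · refine ⟨k, ?_⟩
      rw [sup_eq_right.mpr h1, ih3]

/-- The join of all `W₁`-conjugates of `R` is normalized by `W₁`. -/
theorem le_normalizer_iSup_conj (W₁ R : Subgroup G) :
    W₁ ≤ Subgroup.normalizer
      ((⨆ w : ↥W₁, MulAut.conj (w : G) • R : Subgroup G) : Set G) := by
  have key : ∀ x ∈ W₁, MulAut.conj x • (⨆ w : ↥W₁, MulAut.conj (w : G) • R : Subgroup G) ≤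
      ⨆ w : ↥W₁, MulAut.conj (w : G) • R := by
    intro x hx
    rw [Subgroup.pointwise_smul_subset_iff]
    refine iSup_le fun w => ?_
    rw [Subgroup.subset_pointwise_smul_iff, inv_inv, smul_smul, ← map_mul]
    have h1 : x * (w : G) = ((⟨x, hx⟩ * w : ↥W₁) : G) := rfl
    rw [h1]
    have h2 := le_iSup (fun w : ↥W₁ => MulAut.conj (w : G) • R) (⟨x, hx⟩ * w)
    exact h2
  intro x hx
  rw [mem_normalizer_iff_conj_smul]
  refine le_antisymm (key x hx) ?_
  have h1 := conj_smul_le_conj_smul (g := x) (key x⁻¹ (inv_mem hx))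
  rwa [conj_smul_conj_inv_smul] at h1

/-- Existence of a minimal `U`-invariant subgroup of order `p` whose `W₁`-conjugates
generate `P`. -/
theorem exists_isMinInv_card_eq [Finite G] (p q : ℕ) [Fact p.Prime] (hq : q.Prime)
    (P U W₁ : Subgroup G) (hP : Cfsg.IsElementaryAbelian p P) (hcard : Nat.card P = p ^ q)
    (hWP : W₁ ≤ Subgroup.normalizer (P : Set G))
    (hWU : W₁ ≤ Subgroup.normalizer (U : Set G))
    (hchief : ∀ Q : Subgroup G, Q ≤ P → U ⊔ W₁ ≤ Subgroup.normalizer (Q : Set G) →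
      Q = ⊥ ∨ Q = P)
    (hred : ∃ Q : Subgroup G, Q ≤ P ∧ U ≤ Subgroup.normalizer (Q : Set G) ∧ Q ≠ ⊥ ∧ Q ≠ P) :
    ∃ P₁ : Subgroup G, P₁ ≤ P ∧ IsMinInv U P₁ ∧ Nat.card P₁ = p ∧
      (⨆ w : ↥W₁, MulAut.conj (w : G) • P₁) = P := by
  classical
  have hp : p.Prime := Fact.out
  obtain ⟨Q, hQP, hUQ, hQ0, hQP'⟩ := hred
  obtain ⟨P₁, hP₁Q, hmin⟩ := exists_minimal_le_of_wellFoundedLT
    (fun R : Subgroup G => U ≤ Subgroup.normalizer (R : Set G) ∧ R ≠ ⊥) Q ⟨hUQ, hQ0⟩
  have hP₁P : P₁ ≤ P := hP₁Q.trans hQP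
  have hMin : IsMinInv U P₁ := by
    refine ⟨hmin.1.2, hmin.1.1, ?_⟩
    intro R' hR' hUR'
    by_cases h0 : R' = ⊥
    · exact Or.inl h0
    · exact Or.inr (le_antisymm hR' (hmin.2 ⟨hUR', h0⟩ hR'))
  -- the full join
  have : Fintype ↥W₁ := Fintype.ofFinite _
  set T : Subgroup G := ⨆ w : ↥W₁, MulAut.conj (w : G) • P₁ with hT
  have hfin := card_iSup_conj hP.1 hP₁P hMin ((Finset.univ : Finset ↥W₁).image (Subtype.val : ↥W₁ → G))
    (by
      intro g hg
      rw [Finset.mem_image] at hg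
      obtain ⟨w, _, rfl⟩ := hg
      exact ⟨hWU w.2, hWP w.2⟩)
  have hTeq : (⨆ g ∈ (Finset.univ : Finset ↥W₁).image (Subtype.val : ↥W₁ → G),
      MulAut.conj g • P₁ : Subgroup G) = T := by
    rw [hT]
    apply le_antisymm
    · refine iSup₂_le fun g hg => ?_
      rw [Finset.mem_image] at hg
      obtain ⟨w, _, rfl⟩ := hg
      exact le_iSup (fun w : ↥W₁ => MulAut.conj (w : G) • P₁) w
    · refine iSup_le fun w => ?_
      exact le_iSup₂ (f := fun g (_ : g ∈ (Finset.univ : Finset ↥W₁).image (Subtype.val : ↥W₁ → G)) =>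
        MulAut.conj g • P₁) (w : G) (Finset.mem_image_of_mem _ (Finset.mem_univ w))
  rw [hTeq] at hfin
  obtain ⟨hTP, hUT, k, hk⟩ := hfin
  have hWT : W₁ ≤ Subgroup.normalizer (T : Set G) := le_normalizer_iSup_conj W₁ P₁
  have hP₁T : P₁ ≤ T := by
    have := le_iSup (fun w : ↥W₁ => MulAut.conj (w : G) • P₁) 1
    simpa using this
  have hTP' : T = P := by
    rcases hchief T hTP (sup_le hUT hWT) with h0 | h0
    · exfalso
      apply hMin.1
      rw [h0] at hP₁T
      exact le_bot_iff.mp hP₁T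
    · exact h0
  refine ⟨P₁, hP₁P, hMin, ?_, hTP'⟩
  -- the order of `P₁`
  have hdvd : Nat.card P₁ ∣ p ^ q := hcard ▸ Subgroup.card_dvd_of_le hP₁P
  obtain ⟨d, hdq, hd⟩ := (Nat.dvd_prime_pow hp).mp hdvd
  have hd0 : d ≠ 0 := by
    rintro rfl
    rw [pow_zero] at hd
    exact hMin.1 (Subgroup.card_eq_one.mp hd)
  have hqdk : q = d * k := by
    have h1 : p ^ q = p ^ (d * k) := by
      rw [← hcard, ← hTP', hk, hd, pow_mul]
    exact Nat.pow_right_injective hp.two_le h1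
  have hd1 : d = 1 ∨ d = q := (Nat.dvd_prime hq).mp ⟨k, hqdk⟩
  rcases hd1 with h1 | h1
  · rw [hd, h1, pow_one]
  · exfalso
    apply hQP'
    have h2 : Nat.card P₁ = Nat.card P := by rw [hd, h1, hcard]
    have h3 : P₁ = P := Subgroup.eq_of_le_of_card_ge hP₁P h2.ge
    exact le_antisymm hQP (h3 ▸ hP₁Q)

/-- Centralizing a conjugate. -/
theorem mem_centralizer_conj_smul_iff {g u : G} {R : Subgroup G} :
    u ∈ Subgroup.centralizer ((MulAut.conj g • R : Subgroup G) : Set G) ↔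
      g⁻¹ * u * g ∈ Subgroup.centralizer (R : Set G) := by
  rw [Subgroup.mem_centralizer_iff, Subgroup.mem_centralizer_iff]
  constructor
  · intro h r hr
    have h1 : g * r * g⁻¹ ∈ ((MulAut.conj g • R : Subgroup G) : Set G) := by
      rw [SetLike.mem_coe, mem_conj_smul_iff]
      simpa [mul_assoc] using hr
    have h2 := h _ h1
    calc r * (g⁻¹ * u * g) = g⁻¹ * ((g * r * g⁻¹) * u) * g := by group
      _ = g⁻¹ * (u * (g * r * g⁻¹)) * g := by rw [h2]
      _ = g⁻¹ * u * g * r := by group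
  · intro h y hy
    rw [SetLike.mem_coe, mem_conj_smul_iff] at hy
    have h2 := h _ hy
    calc y * u = g * ((g⁻¹ * y * g) * (g⁻¹ * u * g)) * g⁻¹ := by group
      _ = g * ((g⁻¹ * u * g) * (g⁻¹ * y * g)) * g⁻¹ := by rw [h2]
      _ = u * y := by group

/-- Conjugation by an element normalizing `U`, as an endomorphism of `↥U`. -/
def twist {U : Subgroup G} (g : G) (hg : g ∈ Subgroup.normalizer (U : Set G)) : ↥U →* ↥U where
  toFun u := ⟨g * u * g⁻¹, (Subgroup.mem_normalizer_iff.mp hg u).mp u.2⟩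
  map_one' := by ext; simp
  map_mul' a b := by ext; simp [mul_assoc]

theorem twist_coe {U : Subgroup G} (g : G) (hg : g ∈ Subgroup.normalizer (U : Set G)) (u : ↥U) :
    ((twist g hg u : ↥U) : G) = g * u * g⁻¹ := rfl

/-- The character of `U` on a cyclic subgroup `P₁` it normalizes. -/
noncomputable def lam (U P₁ : Subgroup G) (hUP₁ : U ≤ Subgroup.normalizer (P₁ : Set G))
    [IsCyclic ↥P₁] : ↥U →* (ZMod (Nat.card ↥P₁))ˣ :=
  (IsCyclic.mulAutMulEquiv ↥P₁).toMonoidHom.comp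
    (P₁.normalizerMonoidHom.comp (Subgroup.inclusion hUP₁))

theorem lam_eq_one_iff (U P₁ : Subgroup G) (hUP₁ : U ≤ Subgroup.normalizer (P₁ : Set G))
    [IsCyclic ↥P₁] (u : ↥U) :
    lam U P₁ hUP₁ u = 1 ↔ (u : G) ∈ Subgroup.centralizer (P₁ : Set G) := by
  unfold lam
  rw [MonoidHom.comp_apply, MonoidHom.comp_apply, MulEquiv.coe_toMonoidHom,
    MulEquiv.map_eq_one_iff, ← MonoidHom.mem_ker, Subgroup.normalizerMonoidHom_ker,
    Subgroup.mem_subgroupOf, Subgroup.coe_inclusion]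

/-- The character bound: if `P` is generated by the `W₁`-conjugates of a `U`-invariant subgroup
`P₁` of prime order `p`, and `W₁ ≠ 1` acts without fixed points on `U`, then
`|U : C_U(P)|` divides `(p - 1) ^ (|W₁| - 1)`. -/
theorem relIndex_dvd_of_cyclic_conj [Finite G] (p q : ℕ) (hp : p.Prime) (P U W₁ P₁ : Subgroup G)
    (hW₁ : Nat.card W₁ = q) (hq : 2 ≤ q)
    (hWU : W₁ ≤ Subgroup.normalizer (U : Set G))
    (hfpf : ∀ x ∈ W₁, x ≠ 1 → ∀ u ∈ U, x * u = u * x → u = 1)
    (hUP₁ : U ≤ Subgroup.normalizer (P₁ : Set G)) (hc : Nat.card P₁ = p)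
    (hsup : (⨆ w : ↥W₁, MulAut.conj (w : G) • P₁) = P) :
    (U ⊓ Subgroup.centralizer (P : Set G)).relIndex U ∣ (p - 1) ^ (q - 1) := by
  classical
  have : Fact p.Prime := ⟨hp⟩
  have : IsCyclic ↥P₁ := isCyclic_of_prime_card hc
  have : Fintype ↥W₁ := Fintype.ofFinite _
  let φ : ↥W₁ → (↥U →* (ZMod (Nat.card ↥P₁))ˣ) :=
    fun w => (lam U P₁ hUP₁).comp (twist (w : G) (hWU w.2))
  let μ : ↥U →* (ZMod (Nat.card ↥P₁))ˣ := ∏ w : ↥W₁, φ w
  have hφ : ∀ (w : ↥W₁) (u : ↥U), φ w u = 1 ↔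
      (u : G) ∈ Subgroup.centralizer ((MulAut.conj (w : G)⁻¹ • P₁ : Subgroup G) : Set G) := by
    intro w u
    show lam U P₁ hUP₁ (twist (w : G) (hWU w.2) u) = 1 ↔ _
    rw [lam_eq_one_iff, mem_centralizer_conj_smul_iff, twist_coe, inv_inv]
  -- invariance of `μ`
  have hμinv : ∀ (x : ↥W₁) (u : ↥U), μ (twist (x : G) (hWU x.2) u) = μ u := by
    intro x u
    simp only [μ, MonoidHom.finsetProd_apply]
    refine Fintype.prod_equiv (Equiv.mulRight x) _ _ (fun w => ?_)
    show lam U P₁ hUP₁ (twist (w : G) (hWU w.2) (twist (x : G) (hWU x.2) u)) =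
      lam U P₁ hUP₁ (twist ((w * x : ↥W₁) : G) (hWU (w * x).2) u)
    congr 1
    ext
    simp only [twist_coe, Subgroup.coe_mul]
    group
  -- `μ` is trivial
  obtain ⟨x₀, hx₀⟩ : ∃ x₀ : ↥W₁, x₀ ≠ 1 := by
    by_contra hne
    have hall : ∀ x : ↥W₁, x = 1 := fun x => by_contra fun hx => hne ⟨x, hx⟩
    have : Subsingleton ↥W₁ := ⟨fun a b => (hall a).trans (hall b).symm⟩
    have h1 : Nat.card ↥W₁ = 1 := Nat.card_unique
    omega
  have hinj : Function.Injective (fun v : ↥U => v⁻¹ * twist (x₀ : G) (hWU x₀.2) v) := by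
    intro v v' hvv
    have h1 : ((v⁻¹ * twist (x₀ : G) (hWU x₀.2) v : ↥U) : G) =
        ((v'⁻¹ * twist (x₀ : G) (hWU x₀.2) v' : ↥U) : G) := congrArg Subtype.val hvv
    simp only [Subgroup.coe_mul, Subgroup.coe_inv, twist_coe] at h1
    have h2 : (x₀ : G) * ((v' : G) * (v : G)⁻¹) = ((v' : G) * (v : G)⁻¹) * (x₀ : G) := by
      have h3 : (v' : G) * (v : G)⁻¹ = (x₀ : G) * ((v' : G) * (v : G)⁻¹) * (x₀ : G)⁻¹ := by
        calc (v' : G) * (v : G)⁻¹
            = (v' : G) * ((v : G)⁻¹ * ((x₀ : G) * v * (x₀ : G)⁻¹)) * ((x₀ : G) * v * (x₀ : G)⁻¹)⁻¹ := by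
              group
          _ = (v' : G) * ((v' : G)⁻¹ * ((x₀ : G) * v' * (x₀ : G)⁻¹)) *
                ((x₀ : G) * v * (x₀ : G)⁻¹)⁻¹ := by rw [h1]
          _ = (x₀ : G) * ((v' : G) * (v : G)⁻¹) * (x₀ : G)⁻¹ := by group
      calc (x₀ : G) * ((v' : G) * (v : G)⁻¹)
          = ((x₀ : G) * ((v' : G) * (v : G)⁻¹) * (x₀ : G)⁻¹) * (x₀ : G) := by group
        _ = ((v' : G) * (v : G)⁻¹) * (x₀ : G) := by rw [← h3]
    have h4 := hfpf (x₀ : G) x₀.2 (fun h => hx₀ (Subtype.ext h)) _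
      (U.mul_mem v'.2 (U.inv_mem v.2)) h2
    have h5 : (v' : G) = v := by
      rw [← mul_inv_eq_one]; exact h4
    exact (Subtype.ext h5).symm
  have hsurj := Finite.injective_iff_surjective.mp hinj
  have hμ1 : ∀ u : ↥U, μ u = 1 := by
    intro u
    obtain ⟨v, hv⟩ := hsurj u
    rw [← hv, map_mul, map_inv, hμinv, inv_mul_cancel]
  -- the kernel of the product map
  let Φ : ↥U →* ({w : ↥W₁ // w ≠ 1} → (ZMod (Nat.card ↥P₁))ˣ) :=
    MonoidHom.pi (fun i => φ i.1)
  have hker : Φ.ker = (U ⊓ Subgroup.centralizer (P : Set G)).subgroupOf U := by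
    ext u
    rw [MonoidHom.mem_ker, Subgroup.mem_subgroupOf, Subgroup.mem_inf]
    constructor
    · intro hu
      refine ⟨u.2, ?_⟩
      have h1 : ∀ w : ↥W₁, w ≠ 1 → φ w u = 1 := by
        intro w hw
        have := congrFun hu ⟨w, hw⟩
        exact this
      have h2 : φ 1 u = 1 := by
        have h3 := hμ1 u
        simp only [μ, MonoidHom.finsetProd_apply] at h3
        rwa [Fintype.prod_eq_single (1 : ↥W₁) (fun w hw => h1 w hw)] at h3
      have h4 : ∀ w : ↥W₁, φ w u = 1 := by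
        intro w
        by_cases hw : w = 1
        · rw [hw]; exact h2
        · exact h1 w hw
      -- `u` centralizes the join
      rw [← Subgroup.zpowers_le, Subgroup.le_centralizer_iff, ← hsup]
      refine iSup_le fun w => ?_
      rw [← Subgroup.le_centralizer_iff, Subgroup.zpowers_le]
      have h5 := (hφ w⁻¹ u).mp (h4 w⁻¹)
      rwa [Subgroup.coe_inv, inv_inv] at h5
    · rintro ⟨_, hu⟩
      funext i
      show φ i.1 u = 1
      rw [hφ]
      refine Subgroup.centralizer_le ?_ hu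
      rw [← hsup]
      have h2 := le_iSup (fun w : ↥W₁ => MulAut.conj (w : G) • P₁) (i.1)⁻¹
      exact h2
  -- counting
  have hcardB : Nat.card (ZMod (Nat.card ↥P₁))ˣ = p - 1 := by
    rw [← Nat.card_congr (IsCyclic.mulAutMulEquiv ↥P₁).toEquiv, IsCyclic.card_mulAut, hc,
      Nat.totient_prime hp]
  have hcardι : Nat.card {w : ↥W₁ // w ≠ 1} = q - 1 := by
    rw [Nat.card_eq_fintype_card, Fintype.card_subtype_compl, Fintype.card_subtype_eq,
      ← Nat.card_eq_fintype_card, hW₁]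
  have h1 : (U ⊓ Subgroup.centralizer (P : Set G)).relIndex U = Φ.ker.index := by
    rw [hker]; rfl
  rw [h1, Subgroup.index_ker]
  have h2 := Subgroup.card_subgroup_dvd_card Φ.range
  rwa [Nat.card_fun, hcardB, hcardι] at h2

/-- **Module N5** (Peterfalvi 9.7(a), the non-Galois bound). -/
theorem card_le_of_not_irreducible {G : Type*} [Group G] [Finite G] (p q : ℕ) [Fact p.Prime]
    (hq : q.Prime) (P U W₁ : Subgroup G) (hP : Cfsg.IsElementaryAbelian p P)
    (hcard : Nat.card P = p ^ q) (hW₁ : Nat.card W₁ = q)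
    (hUP : U ≤ Subgroup.normalizer (P : Set G)) (hWP : W₁ ≤ Subgroup.normalizer (P : Set G))
    (hWU : W₁ ≤ Subgroup.normalizer (U : Set G))
    (hfpf : ∀ x ∈ W₁, x ≠ 1 → ∀ u ∈ U, x * u = u * x → u = 1)
    (hcop : (Nat.card U).Coprime p)
    (hchief : ∀ Q : Subgroup G, Q ≤ P → U ⊔ W₁ ≤ Subgroup.normalizer (Q : Set G) →
      Q = ⊥ ∨ Q = P)
    (hred : ∃ Q : Subgroup G, Q ≤ P ∧ U ≤ Subgroup.normalizer (Q : Set G) ∧ Q ≠ ⊥ ∧ Q ≠ P) :
    (U ⊓ Subgroup.centralizer (P : Set G)).relIndex U ∣ (p - 1) ^ (q - 1) := by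
  obtain ⟨P₁, _, hMin, hc, hsup⟩ :=
    exists_isMinInv_card_eq p q hq P U W₁ hP hcard hWP hWU hchief hred
  exact relIndex_dvd_of_cyclic_conj p q Fact.out P U W₁ P₁ hW₁ hq.two_le hWU hfpf hMin.2.1 hc hsup

end Cfsg.Agent.Lib.Helper47.PF9N5
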