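import Mathlib
import Cfsg.Prelude.Def_LocalStructure

set_option autoImplicit false

namespace Cfsg.Agent.Lib.Helper47

open Cfsg

variable {G : Type*} [Group G]

/-! ### `pCore` -/

theorem pCore_isPGroup (p : ℕ) (G : Type*) [Group G] : IsPGroup p ↥(pCore p G) :=
  Sylow.sSup_of_normal _ (fun _ h => h.2) (fun _ h => h.1)

theorem le_pCore {p : ℕ} {N : Subgroup G} (hN : N.Normal) (hp : IsPGroup p ↥N) : N ≤ pCore p G :=
  le_sSup ⟨hN, hp⟩

theorem pCore_le_sylow {p : ℕ} (P : Sylow p G) : pCore p G ≤ (P : Subgroup G) :=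
  (pCore_isPGroup p G).le_sylow_of_normal P

/-! ### `pResidual` -/

theorem pResidual_normal (p : ℕ) (G : Type*) [Group G] : (pResidual p G).Normal := by
  constructor
  intro n hn g
  unfold pResidual at hn ⊢
  induction hn using Subgroup.closure_induction with
  | mem x hx =>
    apply Subgroup.subset_closure
    show Nat.Coprime (orderOf (g * x * g⁻¹)) p
    have : g * x * g⁻¹ = MulAut.conj g x := by simp
    rw [this, MulEquiv.orderOf_eq]
    exact hx
  | one => simp
  | mul x y _ _ hx hy =>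
    have : g * (x * y) * g⁻¹ = (g * x * g⁻¹) * (g * y * g⁻¹) := by group
    rw [this]
    exact Subgroup.mul_mem _ hx hy
  | inv x _ hx =>
    have : g * x⁻¹ * g⁻¹ = (g * x * g⁻¹)⁻¹ := by group
    rw [this]
    exact Subgroup.inv_mem _ hx

theorem mem_pResidual_of_coprime {p : ℕ} {g : G} (hg : Nat.Coprime (orderOf g) p) :
    g ∈ pResidual p G :=
  Subgroup.subset_closure hg

theorem pResidual_le_of_isPGroup_quotient {p : ℕ} [Fact p.Prime] {N : Subgroup G} [N.Normal]
    (h : IsPGroup p (G ⧸ N)) : pResidual p G ≤ N := by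
  unfold pResidual
  rw [Subgroup.closure_le]
  intro g (hg : Nat.Coprime (orderOf g) p)
  obtain ⟨k, hk⟩ := h (QuotientGroup.mk g)
  have h1 : orderOf (QuotientGroup.mk g : G ⧸ N) ∣ p ^ k := orderOf_dvd_of_pow_eq_one hk
  have h2 : orderOf (QuotientGroup.mk g : G ⧸ N) ∣ orderOf g :=
    orderOf_map_dvd (QuotientGroup.mk' N) g
  have h3 : orderOf (QuotientGroup.mk g : G ⧸ N) = 1 := by
    have : Nat.Coprime (orderOf g) (p ^ k) := Nat.Coprime.pow_right k hg
    exact Nat.eq_one_of_dvd_coprimes this h2 h1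
  rw [orderOf_eq_one_iff] at h3
  exact (QuotientGroup.eq_one_iff g).mp h3

theorem isPGroup_quotient_pResidual (p : ℕ) [Fact p.Prime] (G : Type*) [Group G] [Finite G]
    (N : Subgroup G) [N.Normal] (hN : pResidual p G ≤ N) : IsPGroup p (G ⧸ N) := by
  intro x
  obtain ⟨g, rfl⟩ := QuotientGroup.mk_surjective x
  have hpos : 0 < orderOf g := orderOf_pos g
  obtain ⟨k, m, hm, hkm⟩ := Nat.exists_eq_pow_mul_and_not_dvd hpos.ne' p (Fact.out : p.Prime).ne_one
  refine ⟨k, ?_⟩
  rw [← QuotientGroup.mk_pow, QuotientGroup.eq_one_iff]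
  apply hN
  apply mem_pResidual_of_coprime
  have hp : p.Prime := Fact.out
  have h1 : orderOf (g ^ p ^ k) = m := by
    rw [orderOf_pow' g (pow_ne_zero k hp.ne_zero), hkm]
    rw [Nat.gcd_eq_right (Dvd.intro _ rfl)]
    exact Nat.mul_div_cancel_left m (pow_pos hp.pos k)
  rw [h1]
  exact (Nat.Coprime.symm ((Nat.Prime.coprime_iff_not_dvd hp).mpr hm))

end Cfsg.Agent.Lib.Helper47
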