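import Mathlib
import Cfsg.Prelude.Def_LocalStructure
import Cfsg.Agent.Lib.Helper47.Basic

set_option autoImplicit false

namespace Cfsg.Agent.Lib.Helper47

open Cfsg
open scoped commutatorElement Pointwise

variable {G : Type*} [Group G]

/-- For `N` normal and `T` a Sylow `p`-subgroup of the finite group `G`, `T ∩ N` is a Sylow
`p`-subgroup of `N`. -/
theorem exists_sylow_eq_subgroupOf_of_normal {p : ℕ} [Fact p.Prime] [Finite G] (T : Sylow p G)
    (N : Subgroup G) [N.Normal] :
    ∃ P : Sylow p ↥N, (P : Subgroup ↥N) = (T : Subgroup G).subgroupOf N := by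
  obtain ⟨P₀⟩ : Nonempty (Sylow p ↥N) := inferInstance
  obtain ⟨Q, hQ⟩ := P₀.exists_comap_subtype_eq
  obtain ⟨g, hg⟩ := MulAction.exists_smul_eq G Q T
  refine ⟨(MulAut.conjNormal g : MulAut ↥N) • P₀, ?_⟩
  ext x
  rw [Sylow.pointwise_smul_def, Subgroup.mem_pointwise_smul_iff_inv_smul_mem, Subgroup.mem_subgroupOf,
    ← hg, Sylow.coe_subgroup_smul, Subgroup.mem_pointwise_smul_iff_inv_smul_mem, ← hQ]
  simp only [Subgroup.mem_comap, Subgroup.coe_subtype]
  have : (((MulAut.conjNormal g : MulAut ↥N)⁻¹ • x : ↥N) : G) = (MulAut.conj g)⁻¹ • (x : G) := by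
    rw [← map_inv, MulAut.smul_def, MulAut.smul_def, ← map_inv, MulAut.conjNormal_apply]
    simp
  rw [this]

/-- If `N ⊔ P = ⊤` for a normal subgroup `N` and a `p`-subgroup `P`, then `O^p(G) ≤ N`. -/
theorem pResidual_le_of_sup_eq_top {p : ℕ} [Fact p.Prime] {N P : Subgroup G} [N.Normal]
    (hP : IsPGroup p ↥P) (h : N ⊔ P = ⊤) : pResidual p G ≤ N := by
  apply pResidual_le_of_isPGroup_quotient
  have h1 : P.map (QuotientGroup.mk' N) = ⊤ := by
    have h2 : (N ⊔ P).map (QuotientGroup.mk' N) = ⊤ := by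
      rw [h, ← MonoidHom.range_eq_map, MonoidHom.range_eq_top]
      exact QuotientGroup.mk'_surjective N
    rw [Subgroup.map_sup] at h2
    have h3 : N.map (QuotientGroup.mk' N) = ⊥ := by
      rw [Subgroup.map_eq_bot_iff, QuotientGroup.ker_mk']
    rwa [h3, bot_sup_eq] at h2
  have h4 : IsPGroup p ↥(P.map (QuotientGroup.mk' N)) := hP.map _
  rw [h1] at h4
  exact h4.of_equiv Subgroup.topEquiv

/-- A finite group with a normal Sylow `p`-subgroup is `p`-closed. -/
theorem isPClosed_of_normal_sylow {p : ℕ} [Fact p.Prime] [Finite G] (P : Sylow p G)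
    (hP : (P : Subgroup G).Normal) : IsPClosed p G := by
  intro Q
  have := Sylow.unique_of_normal P hP
  rw [Subsingleton.elim Q P]
  exact hP

end Cfsg.Agent.Lib.Helper47
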