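import Mathlib
import Cfsg.Agent.Lib.Helper10.BGThirteenDefs
import Cfsg.Agent.Lib.Helper24.Omega
import Cfsg.Agent.Lib.Helper24.PrimeAction
import Cfsg.Agent.Lib.Helper54.Coprime
import Cfsg.Agent.Lib.Helper54.BGElevenA
import Cfsg.Agent.Lib.Helper54.BGElevenB
import Cfsg.Agent.Lib.Helper34.SigmaFusion

/-!
# Modules Y, TAU1, Z0, Z of the proof of Bender–Glauberman Lemma 13.4 (statement S1428)

Statements as requested by helper10 (board #2416).
-/

set_option autoImplicit false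

namespace Cfsg.Agent.Lib.Helper47.BG13Z

open Cfsg
open scoped Pointwise commutatorElement
open Cfsg.Agent.Lib.Helper34 (UniquenessThm)
open Cfsg.Agent.Lib.Helper10.BG13 (H1414)

variable {G : Type*} [Group G]

/-- If `x ^ m` and `x ^ n` lie in a subgroup and `m`, `n` are coprime then `x` does. -/
theorem mem_of_pow_mem_of_coprime {H : Subgroup G} {x : G} {m n : ℕ} (hmn : m.Coprime n)
    (hm : x ^ m ∈ H) (hn : x ^ n ∈ H) : x ∈ H := by
  have h1 : ((m.gcd n : ℕ) : ℤ) = m * m.gcdA n + n * m.gcdB n := Nat.gcd_eq_gcd_ab m n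
  rw [hmn.gcd_eq_one] at h1
  have h2 : x = (x ^ m) ^ (m.gcdA n) * (x ^ n) ^ (m.gcdB n) := by
    rw [← zpow_natCast x m, ← zpow_natCast x n, ← zpow_mul, ← zpow_mul, ← zpow_add, ← h1]
    simp
  rw [h2]
  exact H.mul_mem (H.zpow_mem hm _) (H.zpow_mem hn _)

variable [Finite G]

/-- **Module Y.** In a minimal simple group of odd order, the normalizer of a cyclic Sylow
`p`-subgroup `T` does not centralize the subgroup of order `p` of `T`. -/
theorem not_normalizer_le_centralizer_of_isCyclic (hG : IsMinSimpleOddOrder G) (p : ℕ)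
    [Fact p.Prime] (T : Sylow p G) (hTc : IsCyclic ↥(T : Subgroup G)) (P : Subgroup G)
    (hPT : P ≤ (T : Subgroup G)) (hP : Nat.card P = p) :
    ¬ Subgroup.normalizer ((T : Subgroup G) : Set G) ≤ Subgroup.centralizer (P : Set G) := by
  intro hNP
  have hp : p.Prime := Fact.out
  have hp2 : p ≠ 2 := by
    rintro rfl
    have h2 : 2 ∣ Nat.card G := by
      have := Subgroup.card_subgroup_dvd_card P
      rwa [hP] at this
    exact (Nat.not_even_iff_odd.mpr hG.1) (even_iff_two_dvd.mpr h2)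
  have hTcomm : ∀ a ∈ (T : Subgroup G), ∀ b ∈ (T : Subgroup G), a * b = b * a := by
    intro a ha b hb
    have h := (IsCyclic.commGroup (α := ↥(T : Subgroup G))).mul_comm ⟨a, ha⟩ ⟨b, hb⟩
    exact congrArg Subtype.val h
  -- elements of order dividing `p` of `T` lie in `P`
  have hΩ : ∀ x ∈ (T : Subgroup G), x ^ p = 1 → x ∈ P := by
    intro x hx hxp
    by_cases hx1 : x = 1
    · rw [hx1]; exact P.one_mem
    have hox : orderOf x = p := orderOf_eq_prime hxp hx1
    have hcard : Nat.card (Subgroup.zpowers x) = Nat.card P := by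
      rw [Nat.card_zpowers, hox, hP]
    have hle : Subgroup.zpowers x ≤ (T : Subgroup G) := (Subgroup.zpowers_le).mpr hx
    have := Cfsg.Agent.Lib.Helper23.le_of_card_le_of_le_cyclic hTc T.2 hle hPT hcard.le
    exact this (Subgroup.mem_zpowers x)
  -- `N(T) ≤ C(T)`
  have hNC : Subgroup.normalizer ((T : Subgroup G) : Set G) ≤
      Subgroup.centralizer ((T : Subgroup G) : Set G) := by
    intro n hn
    obtain ⟨a, b, hb, hab⟩ := Nat.exists_eq_pow_mul_and_not_dvd (orderOf_pos n).ne' p hp.ne_one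
    -- `n ^ b` is a `p`-element of `N(T)`, hence in `T`
    have h1 : n ^ b ∈ (T : Subgroup G) := by
      have hpg : IsPGroup p (Subgroup.zpowers (n ^ b)) := by
        have hdvd : orderOf (n ^ b) ∣ p ^ a := by
          apply orderOf_dvd_of_pow_eq_one
          rw [← pow_mul, mul_comm, ← hab, pow_orderOf_eq_one]
        obtain ⟨k, -, hk⟩ := (Nat.dvd_prime_pow hp).mp hdvd
        exact IsPGroup.of_card (n := k) (by rw [Nat.card_zpowers, hk])
      have hnorm : Subgroup.zpowers (n ^ b) ≤ Subgroup.normalizer ((T : Subgroup G) : Set G) :=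
        (Subgroup.zpowers_le).mpr (Subgroup.pow_mem _ hn b)
      have hsup : IsPGroup p ((Subgroup.zpowers (n ^ b)) ⊔ (T : Subgroup G) : Subgroup G) :=
        IsPGroup.to_sup_of_normal_right' hpg T.2 hnorm
      have heq := T.is_maximal' hsup le_sup_right
      have : n ^ b ∈ (Subgroup.zpowers (n ^ b)) ⊔ (T : Subgroup G) :=
        le_sup_left (a := Subgroup.zpowers (n ^ b)) (Subgroup.mem_zpowers _)
      rwa [heq] at this
    have h1c : n ^ b ∈ Subgroup.centralizer ((T : Subgroup G) : Set G) := by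
      rw [Subgroup.mem_centralizer_iff]
      intro t ht
      exact hTcomm t ht _ h1
    -- `n ^ (p ^ a)` is a `p'`-element of `N(T)` centralizing `P`, hence centralizes `T`
    have h2c : n ^ (p ^ a) ∈ Subgroup.centralizer ((T : Subgroup G) : Set G) := by
      have hn' : n ^ (p ^ a) ∈ Subgroup.normalizer ((T : Subgroup G) : Set G) :=
        Subgroup.pow_mem _ hn _
      have hcop : (orderOf (n ^ (p ^ a))).Coprime p := by
        have hdvd : orderOf (n ^ (p ^ a)) ∣ b := by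
          apply orderOf_dvd_of_pow_eq_one
          rw [← pow_mul, ← hab, pow_orderOf_eq_one]
        exact Nat.Coprime.coprime_dvd_left hdvd
          ((Nat.Prime.coprime_iff_not_dvd hp).mpr hb).symm
      have hfix : ∀ x ∈ (T : Subgroup G), x ^ p = 1 → n ^ (p ^ a) * x = x * n ^ (p ^ a) := by
        intro x hx hxp
        have hxP := hΩ x hx hxp
        have := Subgroup.mem_centralizer_iff.mp (hNP hn') x hxP
        exact this.symm
      have := Cfsg.Agent.Lib.Helper24.centralizes_of_centralizes_omega p hp2 (n ^ (p ^ a)) hcop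
        (T : Subgroup G) T.2 hn' hfix
      rw [Subgroup.mem_centralizer_iff]
      intro t ht
      exact (this t ht).symm
    have hcop : (p ^ a).Coprime b := Nat.Coprime.pow_left a ((Nat.Prime.coprime_iff_not_dvd hp).mpr hb)
    exact mem_of_pow_mem_of_coprime hcop h2c h1c
  -- Burnside's transfer theorem
  have hcompl := MonoidHom.ker_transferSylow_isComplement' T hNC
  have hs : IsSimpleGroup G := hG.2.1
  have hTtop : (T : Subgroup G) ≠ ⊤ := Cfsg.Agent.Lib.Helper54.ne_top_of_isPGroup hG.2.1 hG.2.2.1 T.2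
  have hTbot : (T : Subgroup G) ≠ ⊥ := by
    intro h
    rw [h] at hPT
    have : P = ⊥ := le_bot_iff.mp hPT
    rw [this, Subgroup.card_bot] at hP
    exact hp.one_lt.ne hP
  have hcard := hcompl.card_mul_card
  rcases hs.eq_bot_or_eq_top_of_normal _ (MonoidHom.normal_ker (MonoidHom.transferSylow T hNC))
    with h | h
  · rw [h, Subgroup.card_bot, one_mul] at hcard
    exact hTtop (Subgroup.eq_top_of_card_eq _ hcard)
  · rw [h, Subgroup.card_top] at hcard
    have h1 : Nat.card (T : Subgroup G) = 1 := by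
      have hpos : 0 < Nat.card G := Nat.card_pos
      exact Nat.eq_of_mul_eq_mul_left hpos (by rw [hcard, mul_one])
    exact hTbot (Subgroup.card_eq_one.mp h1)

/-- **Module TAU1 (a).** For `p ∈ τ₁(M)`, the normalizer in `M` of a subgroup of order `p` centralizes
it. -/
theorem tau1_normalizer_le_centralizer {M : Subgroup G} {p : ℕ} (hp : p ∈ tau1 M)
    {P : Subgroup G} (hPM : P ≤ M) (hP : Nat.card P = p) :
    M ⊓ Subgroup.normalizer (P : Set G) ≤ Subgroup.centralizer (P : Set G) := by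
  obtain ⟨hpp, -, -, hpd, -⟩ := hp
  have hinf : P ⊓ ⁅M, M⁆ = ⊥ := by
    have hdvd : Nat.card (P ⊓ ⁅M, M⁆ : Subgroup G) ∣ p := by
      rw [← hP]
      exact Subgroup.card_dvd_of_le inf_le_left
    rcases (Nat.dvd_prime hpp).mp hdvd with h | h
    · exact Subgroup.card_eq_one.mp h
    · exfalso
      apply hpd
      have : P ⊓ ⁅M, M⁆ = P :=
        Subgroup.eq_of_le_of_card_ge inf_le_left (by rw [h, hP])
      have hle : P ≤ ⁅M, M⁆ := by rw [← this]; exact inf_le_right
      rw [← hP]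
      exact Subgroup.card_dvd_of_le hle
  rintro n ⟨hnM, hnP⟩
  rw [Subgroup.mem_centralizer_iff]
  intro x hx
  have h1 : ⁅n, x⁆ ∈ P := by
    rw [commutatorElement_def]
    have := (Subgroup.mem_normalizer_iff.mp hnP x).mp hx
    exact P.mul_mem this (P.inv_mem hx)
  have h2 : ⁅n, x⁆ ∈ ⁅M, M⁆ := Subgroup.commutator_mem_commutator hnM (hPM hx)
  have h3 : ⁅n, x⁆ ∈ (P ⊓ ⁅M, M⁆ : Subgroup G) := ⟨h1, h2⟩
  rw [hinf, Subgroup.mem_bot, commutatorElement_eq_one_iff_mul_comm] at h3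
  exact h3.symm

omit [Finite G] in
theorem commutator_conj_smul (M : Subgroup G) (g : G) :
    ⁅MulAut.conj g • M, MulAut.conj g • M⁆ = MulAut.conj g • ⁅M, M⁆ := by
  have e : ∀ A : Subgroup G, MulAut.conj g • A = A.map (MulAut.conj g).toMonoidHom :=
    fun A => rfl
  rw [e M, e ⁅M, M⁆, Subgroup.map_commutator]

omit [Finite G] in
/-- `⁅g • M, g • M⁆` has the same order as `⁅M, M⁆`. -/
theorem card_commutator_conj_smul (M : Subgroup G) (g : G) :
    Nat.card ↥⁅MulAut.conj g • M, MulAut.conj g • M⁆ = Nat.card ↥⁅M, M⁆ := by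
  rw [commutator_conj_smul, Cfsg.Agent.Lib.Helper54.card_conj_smul]

omit [Finite G] in
theorem conj_inv_smul_conj_smul (M : Subgroup G) (g : G) :
    MulAut.conj g⁻¹ • (MulAut.conj g • M) = M := by
  rw [map_inv, inv_smul_smul]

/-- **Module TAU1 (b).** `τ₁(M)` is invariant under conjugation of `M`. -/
theorem tau1_conj_smul {M : Subgroup G} {p : ℕ} (hp : p ∈ tau1 M) (g : G) :
    p ∈ tau1 (MulAut.conj g • M) := by
  obtain ⟨hpp, hσ, hdvd, hder, hrank⟩ := hp
  refine ⟨hpp, ?_, ?_, ?_, ?_⟩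
  · intro h
    apply hσ
    have := Cfsg.Agent.Lib.Helper24.mem_sigma_conj_smul h g⁻¹
    rwa [conj_inv_smul_conj_smul] at this
  · rw [Cfsg.Agent.Lib.Helper54.card_conj_smul]; exact hdvd
  · rw [card_commutator_conj_smul]; exact hder
  · exact (Cfsg.Agent.Lib.Helper54.pRankLE_conj_smul_iff g M).mpr hrank

/-- The normal `p`-complement of `L'` (from S1414), as a subgroup of `G`. -/
theorem exists_pcompl_commutator (h1414 : H1414 G) (L : Subgroup G) (hL : IsCoatom L) (p : ℕ)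
    [Fact p.Prime] (hpL : p ∣ Nat.card L) (hpβ : p ∉ beta L) :
    ∃ K : Subgroup G, K ≤ ⁅L, L⁆ ∧ L ≤ Subgroup.normalizer (K : Set G) ∧ ¬ p ∣ Nat.card K ∧
      ∀ Y : Subgroup G, Y ≤ ⁅L, L⁆ → (Nat.card Y).Coprime p → Y ≤ K := by
  have hp : p.Prime := Fact.out
  obtain ⟨P, N, hN, hc⟩ := h1414 L hL p hp hpL hpβ
  have hidx : N.index = Nat.card (P : Subgroup ↥⁅L, L⁆) := hc.symm.index_eq_card
  have hYK : ∀ Y : Subgroup G, Y ≤ ⁅L, L⁆ → (Nat.card Y).Coprime p →
      Y ≤ N.map (⁅L, L⁆).subtype := by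
    intro Y hY hcop
    have h1 : (Nat.card (Y.subgroupOf ⁅L, L⁆)).Coprime N.index := by
      rw [hidx, Nat.card_congr (Subgroup.subgroupOfEquivOfLe hY).toEquiv]
      obtain ⟨k, hk⟩ := IsPGroup.iff_card.mp P.2
      rw [hk]
      exact Nat.Coprime.pow_right k hcop
    have h2 := Cfsg.Agent.Lib.Helper54.le_of_normal_of_coprime_index N h1
    intro y hy
    exact ⟨⟨y, hY hy⟩, h2 (Subgroup.mem_subgroupOf.mpr hy), rfl⟩
  have hKp : ¬ p ∣ Nat.card (N.map (⁅L, L⁆).subtype) := by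
    rw [Subgroup.card_map_of_injective (Subgroup.subtype_injective _), ← hc.index_eq_card]
    exact P.not_dvd_index
  refine ⟨N.map (⁅L, L⁆).subtype, Subgroup.map_subtype_le _, ?_, hKp, hYK⟩
  intro l hl
  rw [Cfsg.Agent.Lib.Helper54.mem_normalizer_iff_conj_smul]
  have hLn : MulAut.conj l • ⁅L, L⁆ = ⁅L, L⁆ := by
    rw [← commutator_conj_smul, Subgroup.conj_smul_eq_self_of_mem hl]
  have h1 : MulAut.conj l • N.map (⁅L, L⁆).subtype ≤ ⁅L, L⁆ := by
    have := Cfsg.Agent.Lib.Helper54.conj_smul_le_conj_smul (g := l) (Subgroup.map_subtype_le N)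
    rwa [hLn] at this
  have h2 : MulAut.conj l • N.map (⁅L, L⁆).subtype ≤ N.map (⁅L, L⁆).subtype := by
    apply hYK _ h1
    rw [Cfsg.Agent.Lib.Helper54.card_conj_smul]
    exact ((Nat.Prime.coprime_iff_not_dvd hp).mpr hKp).symm
  exact Subgroup.eq_of_le_of_card_ge h2 (by rw [Cfsg.Agent.Lib.Helper54.card_conj_smul])

/-- **Module Z0.** -/
theorem exists_conj_ge_of_mem_sigma_inter (hG : IsMinSimpleOddOrder G) (hU : UniquenessThm G)
    (h1414 : H1414 G) (M L : Subgroup G) (_hM : IsCoatom M) (hL : IsCoatom L) (p q : ℕ)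
    [Fact p.Prime] [Fact q.Prime] (hpq : p ≠ q) (hpL : p ∣ Nat.card L) (hpβ : p ∉ beta L)
    (hqM : q ∈ sigma M) (hqL : q ∈ sigma L) (T : Subgroup G) (hT : IsPGroup p T) (hTL : T ≤ L) :
    ∃ g : G, T ≤ MulAut.conj g • M ∧ ∀ y ∈ L, y ∈ Subgroup.normalizer (T : Set G) →
      ∃ c ∈ Subgroup.centralizer (T : Set G), c⁻¹ * y ∈ MulAut.conj g • M := by
  have hp : p.Prime := Fact.out
  have hq : q.Prime := Fact.out
  obtain ⟨K, hKL', hLK, hKp, hYK⟩ := exists_pcompl_commutator h1414 L hL p hpL hpβ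
  -- Sylow `q`-subgroups of `G` attached to `M` and `L`
  obtain ⟨-, -, P₀, hP₀⟩ := hqM
  obtain ⟨QM, hQM⟩ := Cfsg.Agent.Lib.Helper34.exists_sylow_eq_map_of_normalizer_le P₀ hP₀
  have hNQM : Subgroup.normalizer ((QM : Subgroup G) : Set G) ≤ M := by rw [hQM]; exact hP₀
  obtain ⟨-, -, P₁, hP₁⟩ := id hqL
  obtain ⟨QL, hQL⟩ := Cfsg.Agent.Lib.Helper34.exists_sylow_eq_map_of_normalizer_le P₁ hP₁
  have hQLL : (QL : Subgroup G) ≤ L := by rw [hQL]; exact Subgroup.map_subtype_le _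
  have hQLL' : (QL : Subgroup G) ≤ ⁅L, L⁆ :=
    Cfsg.Agent.Lib.Helper24.le_commutator_of_mem_sigma hG hU L hL q hqL QL.2 hQLL
  have hQLK : (QL : Subgroup G) ≤ K := by
    apply hYK _ hQLL'
    obtain ⟨k, hk⟩ := IsPGroup.iff_card.mp QL.2
    rw [hk]
    exact Nat.Coprime.pow_left k ((Nat.coprime_primes hq hp).mpr hpq.symm)
  -- coprime action of `T` on `K`
  have hTK : T ≤ Subgroup.normalizer (K : Set G) := hTL.trans hLK
  have hcop : (Nat.card T).Coprime (Nat.card K) := by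
    obtain ⟨k, hk⟩ := IsPGroup.iff_card.mp hT
    rw [hk]
    exact Nat.Coprime.pow_left k ((Nat.Prime.coprime_iff_not_dvd hp).mpr hKp)
  have hsolv : Group.IsSolvable T ∨ Group.IsSolvable K := by
    left
    have : Group.IsNilpotent T := hT.isNilpotent
    infer_instance
  obtain ⟨S₀, hS₀⟩ := Cfsg.Agent.Lib.Helper54.exists_invariant_sylow T K hTK hcop hsolv q
  -- `S₀` is `K`-conjugate to `QL`
  obtain ⟨k, -, hk⟩ := Cfsg.Agent.Lib.Helper54.exists_conj_sylow K (QL.subtype hQLK) S₀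
  rw [Sylow.coe_subtype, Subgroup.map_subgroupOf_eq_of_le hQLK] at hk
  obtain ⟨h, hh⟩ := MulAction.exists_smul_eq G QM QL
  have hS'' : (S₀ : Subgroup K).map K.subtype =
      MulAut.conj ((k : G) * h) • (QM : Subgroup G) := by
    rw [← hk, ← hh, Sylow.coe_subgroup_smul, map_mul, mul_smul]
  have hNS : Subgroup.normalizer (((S₀ : Subgroup K).map K.subtype : Subgroup G) : Set G) ≤
      MulAut.conj ((k : G) * h) • M := by
    rw [hS'', Cfsg.Agent.Lib.Helper54.normalizer_conj_smul]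
    exact Cfsg.Agent.Lib.Helper54.conj_smul_le_conj_smul hNQM
  refine ⟨(k : G) * h, hS₀.trans hNS, ?_⟩
  intro y hyL hyT
  -- the `y`-conjugate of `S₀`, as a Sylow subgroup of `K`
  have hyK : MulAut.conj y • K = K :=
    Cfsg.Agent.Lib.Helper54.mem_normalizer_iff_conj_smul.mp (hLK hyL)
  have hle : ((y • ((k : G) • QL) : Sylow q G) : Subgroup G) ≤ K := by
    rw [Sylow.coe_subgroup_smul, Sylow.coe_subgroup_smul, hk]
    have := Cfsg.Agent.Lib.Helper54.conj_smul_le_conj_smul (g := y)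
      (Subgroup.map_subtype_le (S₀ : Subgroup K))
    rwa [hyK] at this
  have hQmap : (((y • ((k : G) • QL) : Sylow q G).subtype hle : Sylow q K) : Subgroup K).map
      K.subtype = MulAut.conj y • (S₀ : Subgroup K).map K.subtype := by
    rw [Sylow.coe_subtype, Subgroup.map_subgroupOf_eq_of_le hle, Sylow.coe_subgroup_smul,
      Sylow.coe_subgroup_smul, hk]
  have hQ' : T ≤ Subgroup.normalizer
      ((((((y • ((k : G) • QL) : Sylow q G).subtype hle : Sylow q K) : Subgroup K).map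
        K.subtype : Subgroup G)) : Set G) := by
    rw [hQmap]
    have := Cfsg.Agent.Lib.Helper54.conj_smul_le_normalizer (g := y) hS₀
    rwa [Cfsg.Agent.Lib.Helper54.mem_normalizer_iff_conj_smul.mp hyT] at this
  obtain ⟨c, hcT, hcS⟩ := Cfsg.Agent.Lib.Helper54.exists_centralizer_conj_sylow T K hTK hcop hsolv q
    S₀ ((y • ((k : G) • QL) : Sylow q G).subtype hle) hS₀ hQ'
  have hcS' : MulAut.conj (c : G) • (S₀ : Subgroup K).map K.subtype =
      MulAut.conj y • (S₀ : Subgroup K).map K.subtype := by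
    rw [← hQmap, ← hcS, Sylow.pointwise_smul_def, Cfsg.Agent.Lib.Helper54.map_conj_smul]
  refine ⟨(c : G), hcT, hNS ?_⟩
  rw [Cfsg.Agent.Lib.Helper54.mem_normalizer_iff_conj_smul, map_mul, mul_smul, ← hcS', map_inv,
    inv_smul_smul]

/-- **Module Z.** If `p ∈ τ₁(M) ∩ σ(H)` and `p ∉ β(H)` then `σ(M) ∩ σ(H) = ∅`. -/
theorem sigma_inter_eq_empty (hG : IsMinSimpleOddOrder G) (hU : UniquenessThm G)
    (h1414 : H1414 G) (M H : Subgroup G) (hM : IsCoatom M) (hH : IsCoatom H) (p : ℕ)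
    (hpM : p ∈ tau1 M) (hpH : p ∈ sigma H) (hpβ : p ∉ beta H) : ∀ q ∈ sigma M, q ∉ sigma H := by
  intro q hqM hqH
  have hp : p.Prime := hpM.1
  have hq : q.Prime := hqM.1
  have : Fact p.Prime := ⟨hp⟩
  have : Fact q.Prime := ⟨hq⟩
  have hpq : p ≠ q := by
    rintro rfl
    exact hpM.2.1 hqM
  obtain ⟨-, hpdH, P₁, hP₁⟩ := id hpH
  obtain ⟨T1, hT1⟩ := Cfsg.Agent.Lib.Helper34.exists_sylow_eq_map_of_normalizer_le P₁ hP₁
  have hT1H : (T1 : Subgroup G) ≤ H := by rw [hT1]; exact Subgroup.map_subtype_le _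
  have hNT1 : Subgroup.normalizer ((T1 : Subgroup G) : Set G) ≤ H := by rw [hT1]; exact hP₁
  obtain ⟨g, hTg, hy⟩ := exists_conj_ge_of_mem_sigma_inter hG hU h1414 M H hM hH p q hpq hpdH hpβ
    hqM hqH (T1 : Subgroup G) T1.2 hT1H
  have hpG : p ∣ Nat.card G := hpdH.trans (Subgroup.card_subgroup_dvd_card H)
  have hp2 : p ≠ 2 := by
    rintro rfl
    exact (Nat.not_even_iff_odd.mpr hG.1) (even_iff_two_dvd.mpr hpG)
  have hτg : p ∈ tau1 (MulAut.conj g • M) := tau1_conj_smul hpM g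
  -- `T1` is cyclic
  have hT1c : IsCyclic ↥(T1 : Subgroup G) :=
    Cfsg.Agent.Lib.Helper54.isCyclic_of_pRankLE_one hp2 T1.2
      (Cfsg.Agent.Lib.Helper54.pRankLE_of_le hTg hτg.2.2.2.2)
  -- its subgroup of order `p`
  have hT1ne : (T1 : Subgroup G) ≠ ⊥ := T1.ne_bot_of_dvd_card hpG
  have hpT1 : p ^ 1 ∣ Nat.card ↥(T1 : Subgroup G) := by
    rw [pow_one]
    exact Cfsg.Agent.Lib.Helper34.dvd_card_of_isPGroup_ne_bot T1.2 hT1ne
  obtain ⟨P0, hP0⟩ := Sylow.exists_subgroup_card_pow_prime p hpT1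
  rw [pow_one] at hP0
  have hP1T : P0.map (T1 : Subgroup G).subtype ≤ (T1 : Subgroup G) := Subgroup.map_subtype_le _
  have hP1c : Nat.card (P0.map (T1 : Subgroup G).subtype) = p := by
    rw [Subgroup.card_map_of_injective (Subgroup.subtype_injective _)]; exact hP0
  apply not_normalizer_le_centralizer_of_isCyclic hG p T1 hT1c _ hP1T hP1c
  intro y hyN
  obtain ⟨c, hc, hcy⟩ := hy y (hNT1 hyN) hyN
  have hcN : c ∈ Subgroup.normalizer ((T1 : Subgroup G) : Set G) :=
    Subgroup.centralizer_le_normalizer _ hc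
  have h1 : c⁻¹ * y ∈ Subgroup.normalizer ((P0.map (T1 : Subgroup G).subtype : Subgroup G) : Set G) :=
    Cfsg.Agent.Lib.Helper54.normalizer_le_normalizer_of_isCyclic hT1c T1.2 hP1T
      (Subgroup.mul_mem _ (Subgroup.inv_mem _ hcN) hyN)
  have h2 : c⁻¹ * y ∈ Subgroup.centralizer ((P0.map (T1 : Subgroup G).subtype : Subgroup G) : Set G) :=
    tau1_normalizer_le_centralizer hτg (hP1T.trans hTg) hP1c ⟨hcy, h1⟩
  have h3 : c ∈ Subgroup.centralizer ((P0.map (T1 : Subgroup G).subtype : Subgroup G) : Set G) :=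
    Subgroup.centralizer_le (by exact_mod_cast hP1T) hc
  have : y = c * (c⁻¹ * y) := by group
  rw [this]
  exact Subgroup.mul_mem _ h3 h2

end Cfsg.Agent.Lib.Helper47.BG13Z
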