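/-
helper47: module ST-[ACTOFF] of helper35's project STEINBERG (Lemma 2): in a Steinberg model, the elements
`n̄_p(t)` conjugate the root elements `X_s(u)`, `s ≠ ± p`, as the matrices `n_p(t)` conjugate `x_s(u)`.
-/
import Cfsg.Agent.Lib.Helper35.StDefs

set_option autoImplicit false

namespace Cfsg.Agent.Lib.Helper47.St

open Cfsg.Lie Cfsg.Agent.Lib.Helper35.St

universe u v

variable {D : ChevalleyDatum} {K : Type u} [Field K] {Γ : Type v} [Group Γ]

/-- A root element lies in the subgroup generated by the root elements of its kind. -/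
theorem X_mem_sub (M : Model D K Γ) (P : ℕ → Prop) (r : ℕ) (t : K) (h : P r) : M.X r t ∈ M.sub P :=
  Subgroup.subset_closure ⟨r, t, h, rfl⟩

/-- `M.sub` is monotone in the predicate. -/
theorem sub_mono (M : Model D K Γ) {P Q : ℕ → Prop} (h : ∀ r, P r → Q r) : M.sub P ≤ M.sub Q := by
  apply Subgroup.closure_mono
  rintro g ⟨r, t, hr, rfl⟩
  exact ⟨r, t, h r hr, rfl⟩

/-- `n̄_p(t)` lies in the rank one subgroup. -/
theorem nbar_mem_rankOne (M : Model D K Γ) (i : ℕ) (t : K) : M.nbar (D.simple i) t ∈ M.RankOne i := by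
  unfold Model.nbar Model.RankOne
  refine Subgroup.mul_mem _ (Subgroup.mul_mem _ ?_ ?_) ?_
  · exact X_mem_sub M _ _ _ (Or.inl rfl)
  · exact X_mem_sub M _ _ _ (Or.inr rfl)
  · exact X_mem_sub M _ _ _ (Or.inl rfl)

/-- The matrix of `π (n̄_r(t))` is `n_r(t)`. -/
theorem coe_pi_nbar (M : Model D K Γ) (r : ℕ) (hr : r < D.nroots) (hnr : D.neg r < D.nroots) (t : K) :
    ((M.π (M.nbar r t) : GL D.Idx K) : Matrix D.Idx D.Idx K) = D.nMat K r t := by
  unfold Model.nbar ChevalleyDatum.nMat ChevalleyDatum.wordMat ChevalleyDatum.nWord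
  simp only [map_mul, Units.val_mul, M.hπ r hr, M.hπ _ hnr, List.map_cons, List.map_nil, List.prod_cons,
    List.prod_nil, mul_one, mul_assoc]

/-- Conjugation by `n̄_p(t)` on the level of `π`. -/
theorem pi_conj_eq (M : Model D K Γ) (r s s' : ℕ) (hr : r < D.nroots) (hnr : D.neg r < D.nroots)
    (hs : s < D.nroots) (hs' : s' < D.nroots) (t u u' : K)
    (h : D.nMat K r t * D.x K s u = D.x K s' u' * D.nMat K r t) :
    M.π (M.nbar r t * M.X s u * (M.nbar r t)⁻¹) = M.π (M.X s' u') := by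
  have h1 : M.π (M.nbar r t) * M.π (M.X s u) = M.π (M.X s' u') * M.π (M.nbar r t) := by
    apply Units.ext
    simp only [Units.val_mul, coe_pi_nbar M r hr hnr, M.hπ s hs, M.hπ s' hs']
    exact h
  rw [map_mul, map_mul, h1, map_inv, mul_inv_cancel_right]

/-- **ST-[ACTOFF]** (Lemma 2). -/
theorem actOff (M : Model D K Γ)
    (_hD : D ∈ [chevG2, chevB2, chevD4, chevF4, chevE6, chevE7, chevE8]) (tf : TF D) (hG : GAct D K)
    (hp : M.InjPos) (hn : M.InjNeg) (hN : M.Norm) : M.ActOff := by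
  intro i hi s hs hsp hsnp t ht
  obtain ⟨c, hc, hcu⟩ := hG i hi s hs t ht
  refine ⟨c, hc, fun u => ?_⟩
  have hppos : D.IsPosRoot (D.simple i) := tf.simple_pos i hi
  have hplt : D.simple i < D.nroots := tf.pos_lt _ hppos
  have hnplt : D.neg (D.simple i) < D.nroots := tf.neg_lt _ hplt
  have hws : D.reflectRoot i s < D.nroots := tf.refl_lt i hi s hs
  have hπ := pi_conj_eq M (D.simple i) s (D.reflectRoot i s) hplt hnplt hs hws t u (c * u) (hcu u)
  have hν : M.nbar (D.simple i) t ∈ M.RankOne i := nbar_mem_rankOne M i t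
  rcases tf.pos_or_neg s hs with hpos | hneg
  · -- positive root
    have hnorm := (hN i hi).1 hν
    have hx : M.X s u ∈ M.UbarI i := X_mem_sub M _ _ _ ⟨hpos, hsp⟩
    have h1 : M.nbar (D.simple i) t * M.X s u * (M.nbar (D.simple i) t)⁻¹ ∈ M.UbarI i :=
      (Subgroup.mem_normalizer_iff.mp hnorm (M.X s u)).mp hx
    have h2 : M.nbar (D.simple i) t * M.X s u * (M.nbar (D.simple i) t)⁻¹ ∈ M.Ubar :=
      sub_mono M (fun r hr => hr.1) h1
    have h3 : M.X (D.reflectRoot i s) (c * u) ∈ M.Ubar :=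
      X_mem_sub M _ _ _ (tf.refl_pos i hi s hpos hsp).1
    exact hp _ h2 _ h3 hπ
  · -- negative root
    have hnorm := (hN i hi).2 hν
    have hx : M.X s u ∈ M.VbarI i := X_mem_sub M _ _ _ ⟨hneg, hsnp⟩
    have h1 : M.nbar (D.simple i) t * M.X s u * (M.nbar (D.simple i) t)⁻¹ ∈ M.VbarI i :=
      (Subgroup.mem_normalizer_iff.mp hnorm (M.X s u)).mp hx
    have h2 : M.nbar (D.simple i) t * M.X s u * (M.nbar (D.simple i) t)⁻¹ ∈ M.Vbar :=
      sub_mono M (fun r hr => hr.1) h1
    have hnspos : D.IsPosRoot (D.neg s) := tf.neg_negR s hneg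
    have hnsne : D.neg s ≠ D.simple i := by
      intro h
      apply hsnp
      rw [← h, tf.neg_neg s hs]
    have h4 := (tf.refl_pos i hi (D.neg s) hnspos hnsne).1
    rw [tf.refl_neg i hi s hs] at h4
    have h5 : D.IsNegRoot (D.reflectRoot i s) := by
      have := tf.neg_pos _ h4
      rwa [tf.neg_neg _ hws] at this
    have h3 : M.X (D.reflectRoot i s) (c * u) ∈ M.Vbar := X_mem_sub M _ _ _ h5
    exact hn _ h2 _ h3 hπ

end Cfsg.Agent.Lib.Helper47.St
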