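/-
helper47: module ST-[COLLECT] of helper35's project STEINBERG: the collecting process in a Steinberg model.  If `P` is a
set of roots with a level function (the terms of the commutator formula of two roots of `P` lie in `P` and have strictly
larger level), then every element of `⟨X_r : P r⟩` is an ordered product `∏_{r ∈ l} X_r(t_r)` for any ordering `l` of
the roots of `P`.  Port of `Lib/Helper18/UFact1.lean` from the matrix group to an abstract model.
-/
import Cfsg.Agent.Lib.Helper47.StL3Core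

set_option autoImplicit false

namespace Cfsg.Agent.Lib.Helper47.St

open Cfsg.Lie Cfsg.Agent.Lib.Helper35.St

universe u v

variable {D : ChevalleyDatum} {K : Type u} [Field K] {Γ : Type v} [Group Γ]

/-- `U_m`: generated by the `X_r`, `P r`, of level at least `m`. -/
def Ulev (M : Model D K Γ) {P : ℕ → Prop} (L : Lvl D P) (m : ℕ) : Subgroup Γ :=
  M.sub fun r => P r ∧ m ≤ L.lvl r

theorem X_mem_Ulev (M : Model D K Γ) {P : ℕ → Prop} (L : Lvl D P) (m s : ℕ) (t : K) (hs : P s)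
    (hm : m ≤ L.lvl s) : M.X s t ∈ Ulev M L m :=
  X_mem_sub M _ s t ⟨hs, hm⟩

theorem Ulev_anti (M : Model D K Γ) {P : ℕ → Prop} (L : Lvl D P) {m m' : ℕ} (h : m ≤ m') :
    Ulev M L m' ≤ Ulev M L m :=
  sub_mono M fun _ hr => ⟨hr.1, le_trans h hr.2⟩

theorem Ulev_le_sub (M : Model D K Γ) {P : ℕ → Prop} (L : Lvl D P) (m : ℕ) : Ulev M L m ≤ M.sub P :=
  sub_mono M fun _ hr => hr.1

theorem Ulev_zero (M : Model D K Γ) {P : ℕ → Prop} (L : Lvl D P) : Ulev M L 0 = M.sub P :=
  le_antisymm (Ulev_le_sub M L 0) (sub_mono M fun _ hr => ⟨hr, Nat.zero_le _⟩)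

theorem Ulev_eq_bot (M : Model D K Γ) {P : ℕ → Prop} (L : Lvl D P) (m : ℕ) (hm : L.maxLvl < m) :
    Ulev M L m = ⊥ := by
  unfold Ulev Model.sub
  rw [Subgroup.closure_eq_bot_iff]
  rintro g ⟨s, t, ⟨hs, hms⟩, -⟩
  have := L.hmax s hs
  omega

theorem word_nil (M : Model D K Γ) : M.word ([] : List (ℕ × K)) = 1 := rfl

theorem word_cons (M : Model D K Γ) (a : ℕ × K) (w : List (ℕ × K)) :
    M.word (a :: w) = M.X a.1 a.2 * M.word w := by
  unfold Model.word
  rw [List.map_cons, List.prod_cons]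

theorem word_append (M : Model D K Γ) (w w' : List (ℕ × K)) :
    M.word (w ++ w') = M.word w * M.word w' := by
  unfold Model.word
  rw [List.map_append, List.prod_append]

/-- The inverse word. -/
def invWord (w : List (ℕ × K)) : List (ℕ × K) := w.reverse.map fun a => (a.1, -a.2)

theorem word_invWord (M : Model D K Γ) (w : List (ℕ × K)) (hw : ∀ a ∈ w, a.1 < D.nroots) :
    M.word (invWord w) = (M.word w)⁻¹ := by
  induction w with
  | nil => simp [invWord, Model.word]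
  | cons a w ih =>
    have e : invWord (a :: w) = invWord w ++ [(a.1, -a.2)] := by
      unfold invWord
      rw [List.reverse_cons, List.map_append]
      rfl
    rw [e, word_append, ih (fun b hb => hw b (List.mem_cons_of_mem _ hb)), word_cons, word_cons, word_nil,
      mul_one, mul_inv_rev, X_inv M a.1 (hw a List.mem_cons_self)]

theorem mem_invWord {w : List (ℕ × K)} {a : ℕ × K} (ha : a ∈ invWord w) : ∃ b ∈ w, a.1 = b.1 := by
  unfold invWord at ha
  rw [List.mem_map] at ha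
  obtain ⟨b, hb, rfl⟩ := ha
  exact ⟨b, List.mem_reverse.mp hb, rfl⟩

/-- Every element of `⟨X_r : P r⟩` is a word in the `X_r`, `P r`. -/
theorem exists_word_of_mem_sub (M : Model D K Γ) (P : ℕ → Prop) (hP : ∀ r, P r → r < D.nroots) (g : Γ)
    (hg : g ∈ M.sub P) : ∃ w : List (ℕ × K), (∀ a ∈ w, P a.1) ∧ g = M.word w := by
  unfold Model.sub at hg
  induction hg using Subgroup.closure_induction with
  | mem g hg =>
    obtain ⟨s, t, hs, rfl⟩ := hg
    refine ⟨[(s, t)], ?_, ?_⟩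
    · intro a ha
      rw [List.mem_singleton] at ha
      rw [ha]; exact hs
    · rw [word_cons, word_nil, mul_one]
  | one => exact ⟨[], by simp, (word_nil M).symm⟩
  | mul g₁ g₂ _ _ h1 h2 =>
    obtain ⟨w₁, hw₁, rfl⟩ := h1
    obtain ⟨w₂, hw₂, rfl⟩ := h2
    refine ⟨w₁ ++ w₂, ?_, (word_append M w₁ w₂).symm⟩
    intro a ha
    rcases List.mem_append.mp ha with h | h
    · exact hw₁ a h
    · exact hw₂ a h
  | inv g _ h1 =>
    obtain ⟨w, hw, rfl⟩ := h1
    refine ⟨invWord w, ?_, (word_invWord M w fun a ha => hP a.1 (hw a ha)).symm⟩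
    intro a ha
    obtain ⟨b, hb, hab⟩ := mem_invWord ha
    rw [hab]; exact hw b hb

/-- A word in the `X_r`, `P r`, lies in `⟨X_r : P r⟩`. -/
theorem word_mem_sub (M : Model D K Γ) (P : ℕ → Prop) (w : List (ℕ × K)) (hw : ∀ a ∈ w, P a.1) :
    M.word w ∈ M.sub P := by
  induction w with
  | nil => rw [word_nil]; exact one_mem _
  | cons a w ih =>
    rw [word_cons]
    exact mul_mem (X_mem_sub M P a.1 a.2 (hw a List.mem_cons_self))
      (ih fun b hb => hw b (List.mem_cons_of_mem _ hb))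

/-- The commutator formula for two distinct roots of `P`, with the commutator in a higher level. -/
theorem comm_X_lvl (M : Model D K Γ) {P : ℕ → Prop} (L : Lvl D P) (r s : ℕ) (hr : P r) (hs : P s)
    (hsr : s ≠ r) (m : ℕ) (hm : m ≤ L.lvl r ∨ m ≤ L.lvl s) (t u : K) :
    ∃ c ∈ Ulev M L (m + 1), M.X s u * M.X r t = M.X r t * M.X s u * c := by
  have hcomm := M.comm r s (L.lt r hr) (L.lt s hs) hsr (L.noneg r s hr hs) t u
  have hterms : ∀ a ∈ D.commWord K r s t u, P a.1 ∧ m + 1 ≤ L.lvl a.1 := by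
    intro a ha
    unfold ChevalleyDatum.commWord at ha
    rw [List.mem_map] at ha
    obtain ⟨c, hc, rfl⟩ := ha
    obtain ⟨h1, h2, h3⟩ := L.hcomm r s hr hs hsr c hc
    refine ⟨h1, ?_⟩
    show m + 1 ≤ L.lvl c.1
    rcases hm with hm | hm <;> omega
  refine ⟨M.word (D.commWord K r s t u), word_mem_sub M _ _ hterms, ?_⟩
  unfold Model.word
  rw [← hcomm]
  group

/-- Conjugating a generator of `U_m` by the inverse of a root element. -/
theorem X_inv_conj_gen_mem_Ulev (M : Model D K Γ) {P : ℕ → Prop} (L : Lvl D P) (m a : ℕ) (ha : P a) (t : K)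
    (b : ℕ) (v : K) (hb : P b) (hmb : m ≤ L.lvl b) :
    (M.X a t)⁻¹ * M.X b v * M.X a t ∈ Ulev M L m := by
  by_cases hab : b = a
  · rw [hab, X_inv M a (L.lt a ha), M.add a (L.lt a ha), M.add a (L.lt a ha)]
    have e : -t + v + t = v := by ring
    rw [e, ← hab]
    exact X_mem_Ulev M L m b v hb hmb
  · obtain ⟨c, hc, hcomm⟩ := comm_X_lvl M L a b ha hb hab m (Or.inr hmb) t v
    have e : (M.X a t)⁻¹ * M.X b v * M.X a t = M.X b v * c := by
      rw [mul_assoc, hcomm]; group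
    rw [e]
    exact mul_mem (X_mem_Ulev M L m b v hb hmb) (Ulev_anti M L (Nat.le_succ m) hc)

/-- If conjugation by `g` maps a generating set into the subgroup it generates, it maps that subgroup into itself. -/
theorem conj_mem_closure_of (S : Set Γ) (g : Γ) (h1 : ∀ y ∈ S, g * y * g⁻¹ ∈ Subgroup.closure S) (y : Γ)
    (hy : y ∈ Subgroup.closure S) : g * y * g⁻¹ ∈ Subgroup.closure S := by
  induction hy using Subgroup.closure_induction with
  | mem y hy => exact h1 y hy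
  | one => simp [one_mem]
  | mul y₁ y₂ _ _ ih1 ih2 =>
    have e : g * (y₁ * y₂) * g⁻¹ = (g * y₁ * g⁻¹) * (g * y₂ * g⁻¹) := by group
    rw [e]; exact mul_mem ih1 ih2
  | inv y _ ih =>
    have e : g * y⁻¹ * g⁻¹ = (g * y * g⁻¹)⁻¹ := by group
    rw [e]; exact inv_mem ih

/-- `⟨X_r : P r⟩` normalises `U_m`. -/
theorem sub_le_normalizer_Ulev (M : Model D K Γ) {P : ℕ → Prop} (L : Lvl D P) (m : ℕ) :
    M.sub P ≤ Subgroup.normalizer (Ulev M L m : Set Γ) := by
  have key : ∀ (a : ℕ) (t : K), P a → ∀ y ∈ Ulev M L m, M.X a t * y * (M.X a t)⁻¹ ∈ Ulev M L m := by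
    intro a t ha y hy
    refine conj_mem_closure_of _ (M.X a t) ?_ y hy
    rintro z ⟨b, v, ⟨hb, hmb⟩, rfl⟩
    have := X_inv_conj_gen_mem_Ulev M L m a ha (-t) b v hb hmb
    rwa [← X_inv M a (L.lt a ha), inv_inv] at this
  unfold Model.sub
  rw [Subgroup.closure_le]
  rintro g ⟨a, t, ha, rfl⟩
  rw [SetLike.mem_coe, Subgroup.mem_normalizer_iff]
  intro y
  constructor
  · exact key a t ha y
  · intro hy
    have := key a (-t) ha _ hy
    rw [← X_inv M a (L.lt a ha), inv_inv] at this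
    have e : (M.X a t)⁻¹ * (M.X a t * y * (M.X a t)⁻¹) * M.X a t = y := by group
    rwa [e] at this

theorem conj_mem_Ulev (M : Model D K Γ) {P : ℕ → Prop} (L : Lvl D P) (m : ℕ) (g y : Γ) (hg : g ∈ M.sub P)
    (hy : y ∈ Ulev M L m) : g * y * g⁻¹ ∈ Ulev M L m :=
  ((Subgroup.mem_normalizer_iff.mp (sub_le_normalizer_Ulev M L m hg)) y).mp hy

theorem inv_conj_mem_Ulev (M : Model D K Γ) {P : ℕ → Prop} (L : Lvl D P) (m : ℕ) (g y : Γ) (hg : g ∈ M.sub P)
    (hy : y ∈ Ulev M L m) : g⁻¹ * y * g ∈ Ulev M L m := by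
  have := conj_mem_Ulev M L m g⁻¹ y (inv_mem hg) hy
  rwa [inv_inv] at this

/-- The commutator `g⁻¹ y⁻¹ g y` of `g ∈ ⟨X_r : P r⟩` and `y ∈ U_m` lies in `U_{m+1}`. -/
theorem comm_mem_Ulev (M : Model D K Γ) {P : ℕ → Prop} (L : Lvl D P) (m : ℕ) (g y : Γ) (hg : g ∈ M.sub P)
    (hy : y ∈ Ulev M L m) : g⁻¹ * y⁻¹ * g * y ∈ Ulev M L (m + 1) := by
  -- generators against generators
  have h1 : ∀ (a : ℕ) (t : K), P a → ∀ (b : ℕ) (v : K), P b → m ≤ L.lvl b →
      (M.X a t)⁻¹ * (M.X b v)⁻¹ * M.X a t * M.X b v ∈ Ulev M L (m + 1) := by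
    intro a t ha b v hb hmb
    by_cases hab : b = a
    · rw [hab, X_inv M a (L.lt a ha), X_inv M a (L.lt a ha), M.add a (L.lt a ha), M.add a (L.lt a ha),
        M.add a (L.lt a ha)]
      have e : -t + -v + t + v = 0 := by ring
      rw [e, X_zero M a (L.lt a ha)]
      exact one_mem _
    · obtain ⟨c, hc, hcomm⟩ := comm_X_lvl M L b a hb ha (Ne.symm hab) m (Or.inl hmb) v t
      have e : (M.X a t)⁻¹ * (M.X b v)⁻¹ * M.X a t * M.X b v = c := by
        rw [mul_assoc _ (M.X a t), hcomm]; group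
      rw [e]
      exact hc
  -- all of `⟨X_r : P r⟩` against generators
  have h2 : ∀ (b : ℕ) (v : K), P b → m ≤ L.lvl b → ∀ g ∈ M.sub P,
      g⁻¹ * (M.X b v)⁻¹ * g * M.X b v ∈ Ulev M L (m + 1) := by
    intro b v hb hmb g hg
    unfold Model.sub at hg
    induction hg using Subgroup.closure_induction with
    | mem g hg =>
      obtain ⟨a, t, ha, rfl⟩ := hg
      exact h1 a t ha b v hb hmb
    | one => simp [one_mem]
    | mul g₁ g₂ hg₁ hg₂ ih1 ih2 =>
      have e : (g₁ * g₂)⁻¹ * (M.X b v)⁻¹ * (g₁ * g₂) * M.X b v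
          = (g₂⁻¹ * (g₁⁻¹ * (M.X b v)⁻¹ * g₁ * M.X b v) * g₂) * (g₂⁻¹ * (M.X b v)⁻¹ * g₂ * M.X b v) := by
        group
      rw [e]
      exact mul_mem (inv_conj_mem_Ulev M L (m + 1) g₂ _ hg₂ ih1) ih2
    | inv g hg ih =>
      have e : g⁻¹⁻¹ * (M.X b v)⁻¹ * g⁻¹ * M.X b v
          = g * (g⁻¹ * (M.X b v)⁻¹ * g * M.X b v)⁻¹ * g⁻¹ := by group
      rw [e]
      exact conj_mem_Ulev M L (m + 1) g _ hg (inv_mem ih)
  unfold Ulev Model.sub at hy
  induction hy using Subgroup.closure_induction with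
  | mem y hy =>
    obtain ⟨b, v, ⟨hb, hmb⟩, rfl⟩ := hy
    exact h2 b v hb hmb g hg
  | one => simp [one_mem]
  | mul y₁ y₂ hy₁ hy₂ ih1 ih2 =>
    have hy₂U : y₂ ∈ M.sub P := Ulev_le_sub M L m hy₂
    have e : g⁻¹ * (y₁ * y₂)⁻¹ * g * (y₁ * y₂)
        = (g⁻¹ * y₂⁻¹ * g * y₂) * (y₂⁻¹ * (g⁻¹ * y₁⁻¹ * g * y₁) * y₂) := by group
    rw [e]
    exact mul_mem ih2 (inv_conj_mem_Ulev M L (m + 1) y₂ _ hy₂U ih1)
  | inv y hy ih =>
    have hyU : y ∈ M.sub P := Ulev_le_sub M L m hy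
    have e : g⁻¹ * y⁻¹⁻¹ * g * y⁻¹ = y * (g⁻¹ * y⁻¹ * g * y)⁻¹ * y⁻¹ := by group
    rw [e]
    exact conj_mem_Ulev M L (m + 1) y _ hyU (inv_mem ih)

theorem prodL_nil (M : Model D K Γ) (t : ℕ → K) : M.prodL [] t = 1 := rfl

theorem prodL_cons (M : Model D K Γ) (a : ℕ) (l : List ℕ) (t : ℕ → K) :
    M.prodL (a :: l) t = M.X a (t a) * M.prodL l t := by
  unfold Model.prodL
  rw [List.map_cons, List.prod_cons]

theorem prodL_congr (M : Model D K Γ) (l : List ℕ) (t t' : ℕ → K) (h : ∀ r ∈ l, t r = t' r) :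
    M.prodL l t = M.prodL l t' := by
  unfold Model.prodL
  congr 1
  apply List.map_congr_left
  intro r hr
  rw [h r hr]

theorem prodL_zero (M : Model D K Γ) (l : List ℕ) (hl : ∀ r ∈ l, r < D.nroots) :
    M.prodL l (fun _ => (0 : K)) = 1 := by
  induction l with
  | nil => rfl
  | cons a l ih =>
    rw [prodL_cons, ih (fun r hr => hl r (List.mem_cons_of_mem _ hr)), X_zero M a (hl a List.mem_cons_self),
      one_mul]

theorem prodL_mem_sub (M : Model D K Γ) (P : ℕ → Prop) (l : List ℕ) (hl : ∀ r ∈ l, P r) (t : ℕ → K) :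
    M.prodL l t ∈ M.sub P := by
  induction l with
  | nil => rw [prodL_nil]; exact one_mem _
  | cons a l ih =>
    rw [prodL_cons]
    exact mul_mem (X_mem_sub M P a _ (hl a List.mem_cons_self))
      (ih fun r hr => hl r (List.mem_cons_of_mem _ hr))

/-- Inserting a root element of level at least `m` into an ordered product, modulo `U_{m+1}`. -/
theorem prodL_mul_X (M : Model D K Γ) {P : ℕ → Prop} (L : Lvl D P) (m : ℕ) (l : List ℕ) (hl : ∀ r ∈ l, P r)
    (hnd : l.Nodup) (b : ℕ) (hb : b ∈ l) (hmb : m ≤ L.lvl b) (t : ℕ → K) (s : K) :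
    ∃ c ∈ Ulev M L (m + 1), M.prodL l t * M.X b s = M.prodL l (Function.update t b (t b + s)) * c := by
  induction l with
  | nil => exact absurd hb (List.not_mem_nil)
  | cons a l ih =>
    have hbpos : P b := hl b hb
    have hl' : ∀ r ∈ l, P r := fun r hr => hl r (List.mem_cons_of_mem _ hr)
    rw [List.nodup_cons] at hnd
    by_cases hab : a = b
    · subst hab
      have hP : M.prodL l t ∈ M.sub P := prodL_mem_sub M P l hl' t
      have hy : M.X a s ∈ Ulev M L m := X_mem_Ulev M L m a s hbpos hmb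
      refine ⟨_, comm_mem_Ulev M L m (M.prodL l t) (M.X a s) hP hy, ?_⟩
      have e1 : M.prodL l (Function.update t a (t a + s)) = M.prodL l t := by
        apply prodL_congr
        intro r hr
        rw [Function.update_of_ne]
        rintro rfl
        exact hnd.1 hr
      rw [prodL_cons, prodL_cons, e1, Function.update_self, ← M.add a (L.lt a hbpos)]
      group
    · have hb' : b ∈ l := by
        rcases List.mem_cons.mp hb with h | h
        · exact absurd h.symm hab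
        · exact h
      obtain ⟨c, hc, hcc⟩ := ih hl' hnd.2 hb'
      refine ⟨c, hc, ?_⟩
      rw [prodL_cons, prodL_cons, mul_assoc, hcc, Function.update_of_ne hab, mul_assoc]

/-- Multiplying an ordered product over all roots of `P` by a word of level at least `m`, modulo `U_{m+1}`. -/
theorem prodL_mul_word (M : Model D K Γ) {P : ℕ → Prop} (L : Lvl D P) (m : ℕ) (l : List ℕ) (hl : ∀ r ∈ l, P r)
    (hnd : l.Nodup) (hall : ∀ r, P r → r ∈ l) (w : List (ℕ × K))
    (hw : ∀ a ∈ w, P a.1 ∧ m ≤ L.lvl a.1) (t : ℕ → K) :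
    ∃ (t' : ℕ → K), ∃ c ∈ Ulev M L (m + 1), M.prodL l t * M.word w = M.prodL l t' * c := by
  induction w generalizing t with
  | nil => exact ⟨t, 1, one_mem _, by rw [word_nil]⟩
  | cons a w ih =>
    have ha := hw a List.mem_cons_self
    have hw' : ∀ b ∈ w, P b.1 ∧ m ≤ L.lvl b.1 := fun b hb => hw b (List.mem_cons_of_mem _ hb)
    obtain ⟨c₁, hc₁, h1⟩ := prodL_mul_X M L m l hl hnd a.1 (hall a.1 ha.1) ha.2 t a.2
    obtain ⟨t', c₂, hc₂, h2⟩ := ih hw' (Function.update t a.1 (t a.1 + a.2))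
    have hW : M.word w ∈ M.sub P := word_mem_sub M P w fun b hb => (hw' b hb).1
    refine ⟨t', c₂ * ((M.word w)⁻¹ * c₁ * M.word w),
      mul_mem hc₂ (inv_conj_mem_Ulev M L (m + 1) _ _ hW hc₁), ?_⟩
    rw [word_cons, ← mul_assoc, h1, ← mul_assoc (M.prodL l t'), ← h2]
    group

/-- Every element of `⟨X_r : P r⟩` is an ordered product modulo `U_k`, for every `k`. -/
theorem exists_prodL_mul_Ulev (M : Model D K Γ) {P : ℕ → Prop} (L : Lvl D P) (l : List ℕ)
    (hl : ∀ r ∈ l, P r) (hnd : l.Nodup) (hall : ∀ r, P r → r ∈ l) (g : Γ) (hg : g ∈ M.sub P) (k : ℕ) :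
    ∃ (t : ℕ → K), ∃ c ∈ Ulev M L k, g = M.prodL l t * c := by
  induction k with
  | zero =>
    refine ⟨fun _ => 0, g, ?_, ?_⟩
    · rw [Ulev_zero]; exact hg
    · rw [prodL_zero M l (fun r hr => L.lt r (hl r hr)), one_mul]
  | succ k ih =>
    obtain ⟨t, c, hc, rfl⟩ := ih
    obtain ⟨w, hw, rfl⟩ := exists_word_of_mem_sub M _ (fun r hr => L.lt r hr.1) c hc
    obtain ⟨t', c', hc', h⟩ := prodL_mul_word M L k l hl hnd hall w hw t
    exact ⟨t', c', hc', h⟩

/-- **ST-[COLLECT]**: every element of `⟨X_r : P r⟩` is an ordered product of root elements, for any ordering of the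
roots of `P`. -/
theorem collect (M : Model D K Γ) (P : ℕ → Prop) (L : Lvl D P) (l : List ℕ) (hnd : l.Nodup)
    (hl : ∀ r, r ∈ l ↔ P r) : M.Collect P l := by
  intro g hg
  obtain ⟨t, c, hc, rfl⟩ := exists_prodL_mul_Ulev M L l (fun r hr => (hl r).mp hr) hnd
    (fun r hr => (hl r).mpr hr) g hg (L.maxLvl + 1)
  rw [Ulev_eq_bot M L _ (Nat.lt_succ_self _), Subgroup.mem_bot] at hc
  exact ⟨t, by rw [hc, mul_one]⟩

end Cfsg.Agent.Lib.Helper47.St
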