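/-
helper47: abstract core of module ST-[KER] of helper35's project STEINBERG: the kernel of the projection of a
Steinberg model is central, given the matrix-side facts `U ∩ N = 1` and injectivity of `(s, c) ↦ x_s(c)` at `x_s(1)`
as explicit hypotheses.
-/
import Cfsg.Agent.Lib.Helper35.StDefs

set_option autoImplicit false

namespace Cfsg.Agent.Lib.Helper47.St

open Cfsg.Lie Cfsg.Agent.Lib.Helper35.St

universe u v

variable {D : ChevalleyDatum} {K : Type u} [Field K] {Γ : Type v} [Group Γ]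

/-- `π` maps `Ū` into `U`. -/
theorem pi_Ubar_le (M : Model D K Γ) (tf : TF D) : M.Ubar ≤ (D.posUnipotent K).comap M.π := by
  unfold Model.Ubar Model.sub
  rw [Subgroup.closure_le]
  rintro g ⟨r, t, hr, rfl⟩
  show M.π (M.X r t) ∈ D.posUnipotent K
  exact Subgroup.subset_closure ⟨r, t, hr, M.hπ r (tf.pos_lt r hr) t⟩

/-- `π` maps `M̄` into `N`, given that the matrices `n_p(t)` are monomial. -/
theorem pi_Mbar_le (M : Model D K Γ) (tf : TF D)
    (hNm : ∀ i, i < D.rank → ∀ t : K, t ≠ 0 → ∀ g : GL D.Idx K,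
      (g : Matrix D.Idx D.Idx K) = D.nMat K (D.simple i) t → g ∈ D.monomialSubgroup K) :
    M.Mbar ≤ (D.monomialSubgroup K).comap M.π := by
  unfold Model.Mbar Model.MbarSet
  rw [Subgroup.closure_le]
  rintro g ⟨i, t, hi, ht, rfl⟩
  show M.π (M.nbar (D.simple i) t) ∈ D.monomialSubgroup K
  have hplt : D.simple i < D.nroots := tf.pos_lt _ (tf.simple_pos i hi)
  apply hNm i hi t ht
  unfold Model.nbar ChevalleyDatum.nMat ChevalleyDatum.wordMat ChevalleyDatum.nWord
  simp only [map_mul, Units.val_mul, M.hπ _ hplt, M.hπ _ (tf.neg_lt _ hplt), List.map_cons, List.map_nil,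
    List.prod_cons, List.prod_nil, mul_one, mul_assoc]

/-- An element commuting with all root elements is central, when the root elements generate. -/
theorem mem_center_of_comm (M : Model D K Γ) (hgen : M.Gen) (m : Γ)
    (h : ∀ s, s < D.nroots → ∀ u : K, m * M.X s u = M.X s u * m) : m ∈ Subgroup.center Γ := by
  rw [Subgroup.mem_center_iff]
  intro g
  have hg : g ∈ Subgroup.centralizer ({m} : Set Γ) := by
    have hle : Subgroup.closure {g : Γ | ∃ (r : ℕ) (t : K), r < D.nroots ∧ g = M.X r t} ≤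
        Subgroup.centralizer ({m} : Set Γ) := by
      rw [Subgroup.closure_le]
      rintro x ⟨r, t, hr, rfl⟩
      rw [SetLike.mem_coe, Subgroup.mem_centralizer_iff]
      intro y hy
      rw [Set.mem_singleton_iff] at hy
      subst hy
      exact h r hr t
    have : g ∈ (⊤ : Subgroup Γ) := Subgroup.mem_top g
    rw [← hgen] at this
    exact hle this
  rw [Subgroup.mem_centralizer_iff] at hg
  exact (hg m rfl).symm

/-- Abstract core of **ST-[KER]**. -/
theorem ker_le_center_core (M : Model D K Γ) (tf : TF D)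
    (hp : M.InjPos) (hmono : ∀ g ∈ M.Mbar, M.IsMono g) (hbr : M.Bruhat) (hgen : M.Gen)
    (hNm : ∀ i, i < D.rank → ∀ t : K, t ≠ 0 → ∀ g : GL D.Idx K,
      (g : Matrix D.Idx D.Idx K) = D.nMat K (D.simple i) t → g ∈ D.monomialSubgroup K)
    (hUN : D.posUnipotent K ⊓ D.monomialSubgroup K = ⊥)
    (hinj : ∀ s s', s < D.nroots → s' < D.nroots → ∀ c : K, D.x K s 1 = D.x K s' c → s' = s ∧ c = 1) :
    M.π.ker ≤ Subgroup.center Γ := by
  intro k hk
  rw [MonoidHom.mem_ker] at hk
  obtain ⟨u₁, hu₁, m, hm, u₂, hu₂, rfl⟩ := hbr k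
  have h1 : M.π u₁ ∈ D.posUnipotent K := pi_Ubar_le M tf hu₁
  have h2 : M.π u₂ ∈ D.posUnipotent K := pi_Ubar_le M tf hu₂
  have h3 : M.π m ∈ D.monomialSubgroup K := pi_Mbar_le M tf hNm hm
  have hπm : M.π m = (M.π u₁)⁻¹ * (M.π u₂)⁻¹ := by
    rw [map_mul, map_mul] at hk
    have : M.π m = (M.π u₁)⁻¹ * (M.π u₁ * M.π m * M.π u₂) * (M.π u₂)⁻¹ := by group
    rw [this, hk, mul_one]
  have h4 : M.π m ∈ D.posUnipotent K ⊓ D.monomialSubgroup K := by
    refine ⟨?_, h3⟩
    rw [hπm]
    exact Subgroup.mul_mem _ (Subgroup.inv_mem _ h1) (Subgroup.inv_mem _ h2)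
  rw [hUN, Subgroup.mem_bot] at h4
  -- `u₂ = u₁⁻¹`
  have h5 : M.π u₂ = M.π u₁⁻¹ := by
    rw [map_mul, map_mul, h4, mul_one] at hk
    rw [map_inv]
    exact eq_inv_of_mul_eq_one_right hk
  have hu : u₂ = u₁⁻¹ := hp u₂ hu₂ u₁⁻¹ (Subgroup.inv_mem _ hu₁) h5
  -- `m` is central
  obtain ⟨ρ, c, hρ, hconj⟩ := hmono m hm
  have hmc : m ∈ Subgroup.center Γ := by
    apply mem_center_of_comm M hgen
    intro s hs u
    obtain ⟨hρs, hcs, -⟩ := hρ s hs
    have hx : D.x K s 1 = D.x K (ρ s) (c s) := by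
      have := congrArg (fun g => ((M.π g : GL D.Idx K) : Matrix D.Idx D.Idx K)) (hconj s hs 1)
      simp only [map_mul, map_inv, h4, one_mul, inv_one, mul_one] at this
      rw [M.hπ s hs, M.hπ _ hρs] at this
      exact this
    obtain ⟨h6, h7⟩ := hinj s (ρ s) hs hρs (c s) hx
    have := hconj s hs u
    rw [h6, h7, one_mul] at this
    calc m * M.X s u = m * M.X s u * m⁻¹ * m := by group
      _ = M.X s u * m := by rw [this]
  rw [hu]
  have : u₁ * m * u₁⁻¹ = m := by
    rw [Subgroup.mem_center_iff] at hmc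
    rw [hmc u₁, mul_inv_cancel_right]
  rw [this]
  exact hmc

end Cfsg.Agent.Lib.Helper47.St
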