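/-
helper47: abstract core of module ST-[L3] of helper35's project STEINBERG (Lemma 3): in a Steinberg model the elements
`n̄_p(t)` conjugate `X_{±p}(u)` to `X_{∓p}(c u)`, given the action on the other roots (`ActOff`), the normalisation
property `Norm`, injectivity of `π` on `Ū`, the certificates `L3Cert`, and the matrix-side facts `U ∩ V = 1`,
`x_r(t) = 1 → t = 0` as explicit hypotheses.
-/
import Cfsg.Agent.Lib.Helper47.StActOff
import Cfsg.Agent.Lib.Helper47.StKerCore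

set_option autoImplicit false

namespace Cfsg.Agent.Lib.Helper47.St

open Cfsg.Lie Cfsg.Agent.Lib.Helper35.St

universe u v

variable {D : ChevalleyDatum} {K : Type u} [Field K] {Γ : Type v} [Group Γ]

theorem X_zero (M : Model D K Γ) (r : ℕ) (hr : r < D.nroots) : M.X r (0 : K) = 1 := by
  have h := M.add r hr 0 0
  rw [add_zero] at h
  exact mul_left_cancel (a := M.X r 0) (h.trans (mul_one _).symm)

theorem X_inv (M : Model D K Γ) (r : ℕ) (hr : r < D.nroots) (t : K) : (M.X r t)⁻¹ = M.X r (-t) := by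
  apply inv_eq_of_mul_eq_one_right
  rw [M.add r hr, add_neg_cancel, X_zero M r hr]

/-- `(n̄_r(t))⁻¹ = n̄_r(-t)`. -/
theorem nbar_inv (M : Model D K Γ) (r : ℕ) (hr : r < D.nroots) (hnr : D.neg r < D.nroots) (t : K) :
    (M.nbar r t)⁻¹ = M.nbar r (-t) := by
  unfold Model.nbar
  rw [mul_inv_rev, mul_inv_rev, X_inv M r hr, X_inv M _ hnr, mul_assoc]
  simp only [neg_neg, inv_neg]

/-- `π` maps `V̄` into `V`. -/
theorem pi_X_neg_mem (M : Model D K Γ) (r : ℕ) (hr : D.IsNegRoot r) (t : K) :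
    M.π (M.X r t) ∈ D.negUnipotent K :=
  Subgroup.subset_closure ⟨r, t, hr, M.hπ r hr.1 t⟩

/-- Lemma A: a word all of whose roots are `e` (`= ± p`) or positive roots `≠ p` lies in `X_e(σ) Ū_i`, `σ` the sum of the
coefficients of the letters with root `e`. -/
theorem word_mem_coset (M : Model D K Γ) (i : ℕ) (e : ℕ) (he : e = D.simple i ∨ e = D.neg (D.simple i))
    (helt : e < D.nroots) (hN : M.RankOne i ≤ Subgroup.normalizer (M.UbarI i : Set Γ))
    (w : List (ℕ × K)) (hw : ∀ q ∈ w, q.1 = e ∨ (D.IsPosRoot q.1 ∧ q.1 ≠ D.simple i)) :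
    ∃ z ∈ M.UbarI i,
      M.word w = M.X e (((w.filter (fun q : ℕ × K => decide (q.1 = e))).map (fun q => q.2)).sum) * z := by
  induction w with
  | nil =>
    refine ⟨1, Subgroup.one_mem _, ?_⟩
    simp [Model.word, X_zero M e helt]
  | cons q w ih =>
    obtain ⟨z', hz', hw'⟩ := ih (fun q' hq' => hw q' (List.mem_cons_of_mem _ hq'))
    have hword : M.word (q :: w) = M.X q.1 q.2 * M.word w := by
      simp [Model.word]
    by_cases hq : q.1 = e
    · refine ⟨z', hz', ?_⟩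
      rw [hword, hw', List.filter_cons_of_pos (by simpa using hq), List.map_cons, List.sum_cons, hq,
        ← mul_assoc, M.add e helt]
    · have hq' : D.IsPosRoot q.1 ∧ q.1 ≠ D.simple i := by
        rcases hw q (List.mem_cons_self) with h | h
        · exact absurd h hq
        · exact h
      set σ := (((w.filter (fun q : ℕ × K => decide (q.1 = e))).map (fun q => q.2)).sum) with hσ
      have hxe : (M.X e σ)⁻¹ ∈ M.RankOne i := by
        apply Subgroup.inv_mem
        rcases he with h | h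
        · exact X_mem_sub M _ _ _ (Or.inl h)
        · exact X_mem_sub M _ _ _ (Or.inr h)
      have hconj : (M.X e σ)⁻¹ * M.X q.1 q.2 * ((M.X e σ)⁻¹)⁻¹ ∈ M.UbarI i :=
        (Subgroup.mem_normalizer_iff.mp (hN hxe) _).mp (X_mem_sub M _ _ _ hq')
      refine ⟨(M.X e σ)⁻¹ * M.X q.1 q.2 * ((M.X e σ)⁻¹)⁻¹ * z', Subgroup.mul_mem _ hconj hz', ?_⟩
      rw [hword, hw', List.filter_cons_of_neg (by simpa using hq), ← hσ]
      group

/-- The sum of the coefficients of the letters with root `p` in a commutator word with a unique `p`-term. -/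
theorem commWord_filter_sum (p r' s' : ℕ) (t u : K) (C : ℤ) (a b : ℕ)
    (hfilt : (D.commTerms r' s').filter (fun c => decide (c.1 = p)) = [(p, C, a, b)]) :
    (((D.commWord K r' s' t u).filter (fun q : ℕ × K => decide (q.1 = p))).map (fun q => q.2)).sum =
      (C : K) * (-t) ^ a * u ^ b := by
  unfold ChevalleyDatum.commWord
  rw [List.filter_map]
  have : ((fun q : ℕ × K => decide (q.1 = p)) ∘
      fun c : ℕ × ℤ × ℕ × ℕ => (c.1, (c.2.1 : K) * (-t) ^ c.2.2.1 * u ^ c.2.2.2)) =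
      fun c => decide (c.1 = p) := rfl
  rw [this, hfilt]
  simp

/-- Step (3): the action of `n̄_p(t)` on `X_p`. -/
theorem act_simple (M : Model D K Γ) (tf : TF D) (hG : GAct D K)
    (hp : M.InjPos) (hN : M.Norm) (hA : M.ActOff) (i : ℕ) (hi : i < D.rank) (hc : L3Cert D i)
    (hUV : D.posUnipotent K ⊓ D.negUnipotent K = ⊥)
    (hx1 : ∀ r, r < D.nroots → ∀ t : K, D.x K r t = 1 → t = 0)
    (t : K) (ht : t ≠ 0) :
    ∃ c : K, c ≠ 0 ∧ ∀ u : K,
      M.nbar (D.simple i) t * M.X (D.simple i) u * (M.nbar (D.simple i) t)⁻¹ = M.X (D.neg (D.simple i)) (c * u) := by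
  have hppos : D.IsPosRoot (D.simple i) := tf.simple_pos i hi
  have hplt : D.simple i < D.nroots := tf.pos_lt _ hppos
  have hnplt : D.neg (D.simple i) < D.nroots := tf.neg_lt _ hplt
  have hnpneg : D.IsNegRoot (D.neg (D.simple i)) := tf.neg_pos _ hppos
  obtain ⟨r', s', hr', hs', hsr, hsnr, hr'p, hr'np, hs'p, hs'np, ⟨C, j, hC, hfilt⟩, hposterms, hreflterms⟩ := hc
  obtain ⟨c, hc0, hcu⟩ := hG i hi (D.simple i) hplt t ht
  rw [tf.refl_simple i hi] at hcu
  obtain ⟨c₁, -, hc₁⟩ := hA i hi r' hr' hr'p hr'np t ht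
  obtain ⟨c₂, -, hc₂⟩ := hA i hi s' hs' hs'p hs'np t ht
  refine ⟨c, hc0, fun u => ?_⟩
  set ν := M.nbar (D.simple i) t with hν
  have hνmem : ν ∈ M.RankOne i := nbar_mem_rankOne M i t
  have hNi := (hN i hi).1
  have hCsq : (C : K) * (C : K) = 1 := by
    rcases hC with h | h <;> simp [h]
  -- the commutator word `W`
  set t' : K := -u * (C : K) with ht'
  have hW := M.comm r' s' hr' hs' hsr hsnr t' 1
  obtain ⟨z, hz, hWz⟩ := word_mem_coset M i (D.simple i) (Or.inl rfl) hplt hNi (D.commWord K r' s' t' 1) (by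
    intro q hq
    unfold ChevalleyDatum.commWord at hq
    rw [List.mem_map] at hq
    obtain ⟨c', hc', rfl⟩ := hq
    by_cases h : c'.1 = D.simple i
    · exact Or.inl h
    · exact Or.inr ⟨hposterms c' hc' h, h⟩)
  rw [commWord_filter_sum (D.simple i) r' s' t' 1 C 1 j hfilt] at hWz
  have hσ : (C : K) * (-t') ^ 1 * 1 ^ j = u := by
    rw [ht', pow_one, one_pow, mul_one, neg_mul, neg_neg, mul_comm u, ← mul_assoc, hCsq, one_mul]
  rw [hσ] at hWz
  change M.word (D.commWord K r' s' t' 1) = M.X (D.simple i) u * z at hWz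
  -- `X_p(u) = W z⁻¹`
  have hXp : M.X (D.simple i) u = (M.X s' 1)⁻¹ * (M.X r' t')⁻¹ * M.X s' 1 * M.X r' t' * z⁻¹ := by
    rw [hW]
    change _ = M.word (D.commWord K r' s' t' 1) * z⁻¹
    rw [hWz, mul_inv_cancel_right]
  -- conjugate the commutator
  have hwr' : D.reflectRoot i r' < D.nroots := tf.refl_lt i hi r' hr'
  have hws' : D.reflectRoot i s' < D.nroots := tf.refl_lt i hi s' hs'
  have hne1 : D.reflectRoot i s' ≠ D.reflectRoot i r' := by
    intro h
    apply hsr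
    rw [← tf.refl_refl i hi s' hs', h, tf.refl_refl i hi r' hr']
  have hne2 : D.reflectRoot i s' ≠ D.neg (D.reflectRoot i r') := by
    intro h
    apply hsnr
    rw [← tf.refl_neg i hi r' hr'] at h
    rw [← tf.refl_refl i hi s' hs', h, tf.refl_refl i hi _ (tf.neg_lt r' hr')]
  have hW2 := M.comm (D.reflectRoot i r') (D.reflectRoot i s') hwr' hws' hne1 hne2 (c₁ * t') (c₂ * 1)
  obtain ⟨z₂, hz₂, hW2z⟩ := word_mem_coset M i (D.neg (D.simple i)) (Or.inr rfl) hnplt hNi
    (D.commWord K (D.reflectRoot i r') (D.reflectRoot i s') (c₁ * t') (c₂ * 1)) (by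
    intro q hq
    unfold ChevalleyDatum.commWord at hq
    rw [List.mem_map] at hq
    obtain ⟨c', hc', rfl⟩ := hq
    exact hreflterms c' hc')
  set v := (((D.commWord K (D.reflectRoot i r') (D.reflectRoot i s') (c₁ * t') (c₂ * 1)).filter
    (fun q : ℕ × K => decide (q.1 = D.neg (D.simple i)))).map (fun q => q.2)).sum with hv
  change ((D.commWord K (D.reflectRoot i r') (D.reflectRoot i s') (c₁ * t') (c₂ * 1)).map
    fun p => M.X p.1 p.2).prod = M.X (D.neg (D.simple i)) v * z₂ at hW2z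
  have hz₃ : ν * z⁻¹ * ν⁻¹ ∈ M.UbarI i :=
    (Subgroup.mem_normalizer_iff.mp (hNi hνmem) _).mp (Subgroup.inv_mem _ hz)
  have hy : ν * M.X (D.simple i) u * ν⁻¹ = M.X (D.neg (D.simple i)) v * (z₂ * (ν * z⁻¹ * ν⁻¹)) := by
    rw [hXp]
    have : ν * ((M.X s' 1)⁻¹ * (M.X r' t')⁻¹ * M.X s' 1 * M.X r' t' * z⁻¹) * ν⁻¹ =
        (ν * M.X s' 1 * ν⁻¹)⁻¹ * (ν * M.X r' t' * ν⁻¹)⁻¹ * (ν * M.X s' 1 * ν⁻¹) * (ν * M.X r' t' * ν⁻¹) *
          (ν * z⁻¹ * ν⁻¹) := by group
    rw [this, hc₁, hc₂, hW2, hW2z, mul_assoc]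
  -- compare the images under `π`
  have hπy : M.π (ν * M.X (D.simple i) u * ν⁻¹) = M.π (M.X (D.neg (D.simple i)) (c * u)) :=
    pi_conj_eq M (D.simple i) (D.simple i) (D.neg (D.simple i)) hplt hnplt hplt hnplt t u (c * u) (hcu u)
  set zz := z₂ * (ν * z⁻¹ * ν⁻¹) with hzz
  have hzzmem : zz ∈ M.UbarI i := Subgroup.mul_mem _ hz₂ hz₃
  have hzzU : zz ∈ M.Ubar := sub_mono M (fun r hr => hr.1) hzzmem
  have hπzz : M.π zz = M.π (M.X (D.neg (D.simple i)) (c * u - v)) := by
    rw [hy, map_mul] at hπy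
    have : M.π zz = (M.π (M.X (D.neg (D.simple i)) v))⁻¹ * M.π (M.X (D.neg (D.simple i)) (c * u)) := by
      rw [← hπy, inv_mul_cancel_left]
    rw [this, ← map_inv, ← map_mul, X_inv M _ hnplt, M.add _ hnplt, neg_add_eq_sub]
  have hin : M.π zz ∈ D.posUnipotent K ⊓ D.negUnipotent K := by
    refine ⟨pi_Ubar_le M tf hzzU, ?_⟩
    rw [hπzz]
    exact pi_X_neg_mem M _ hnpneg _
  rw [hUV, Subgroup.mem_bot] at hin
  have hzz1 : zz = 1 := hp zz hzzU 1 (Subgroup.one_mem _) (by rw [hin, map_one])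
  have hvc : c * u - v = 0 := by
    apply hx1 _ hnplt
    rw [← M.hπ _ hnplt, ← hπzz, hin, Units.val_one]
  rw [hy, hzz1, mul_one, ← sub_eq_zero.mp hvc]

/-- Abstract core of **ST-[L3]**. -/
theorem act_core (M : Model D K Γ) (tf : TF D) (hG : GAct D K)
    (hp : M.InjPos) (hN : M.Norm) (hA : M.ActOff) (hc : ∀ i, i < D.rank → L3Cert D i)
    (hUV : D.posUnipotent K ⊓ D.negUnipotent K = ⊥)
    (hx1 : ∀ r, r < D.nroots → ∀ t : K, D.x K r t = 1 → t = 0) : M.Act := by
  intro i hi s hs t ht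
  have hppos : D.IsPosRoot (D.simple i) := tf.simple_pos i hi
  have hplt : D.simple i < D.nroots := tf.pos_lt _ hppos
  have hnplt : D.neg (D.simple i) < D.nroots := tf.neg_lt _ hplt
  by_cases hsp : s = D.simple i
  · subst hsp
    rw [tf.refl_simple i hi]
    exact act_simple M tf hG hp hN hA i hi (hc i hi) hUV hx1 t ht
  by_cases hsnp : s = D.neg (D.simple i)
  · subst hsnp
    have hrefl : D.reflectRoot i (D.neg (D.simple i)) = D.simple i := by
      rw [tf.refl_neg i hi _ hplt, tf.refl_simple i hi, tf.neg_neg _ hplt]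
    rw [hrefl]
    obtain ⟨c', hc'0, hc'⟩ := act_simple M tf hG hp hN hA i hi (hc i hi) hUV hx1 (-t) (neg_ne_zero.mpr ht)
    refine ⟨c'⁻¹, inv_ne_zero hc'0, fun u => ?_⟩
    have h := hc' (c'⁻¹ * u)
    rw [← nbar_inv M _ hplt hnplt, inv_inv, mul_inv_cancel_left₀ hc'0] at h
    rw [← h]
    group
  · exact hA i hi s hs hsp hsnp t ht

end Cfsg.Agent.Lib.Helper47.St
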