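import Mathlib
import Cfsg.Agent.Lib.Helper74.PF127Defs

/-!
# Peterfalvi (12.7) = S1540: module [EXT] (helper47, for helper74's `core127`)

`K = H ⋊ ⟨x⟩` with `x` of prime order `r` not dividing `|H|`: every element of `K = H ⊔ ⟨x⟩`
is uniquely `x ^ i * h`; an `x`-invariant linear character `θ` of `H` and an `r`-th root of
unity `ζ` give the linear character `x ^ i * h ↦ ζ ^ i * θ h` of `K`; and sums over `K` are
double sums over `i < r`, `h ∈ H`.
-/

set_option autoImplicit false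

namespace Cfsg.Agent.Lib.Helper47.PF127Ext

open Cfsg
open scoped ComplexConjugate

/-- Every element of `H ⊔ ⟨x⟩` is `x ^ i * h`. -/
theorem exists_rep {L : Type*} [Group L] [Finite L] (H : Subgroup L) [H.Normal] (x : L)
    (k : L) (hk : k ∈ H ⊔ Subgroup.zpowers x) : ∃ (i : ℕ) (h : H), k = x ^ i * (h : L) := by
  rw [sup_comm, Subgroup.mem_sup_of_normal_right] at hk
  obtain ⟨y, hy, z, hz, rfl⟩ := hk
  rw [← mem_powers_iff_mem_zpowers, Submonoid.mem_powers_iff] at hy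
  obtain ⟨n, rfl⟩ := hy
  exact ⟨n, ⟨z, hz⟩, rfl⟩

/-- Uniqueness of the representation `x ^ i * h`. -/
theorem rep_unique {L : Type*} [Group L] [Finite L] (H : Subgroup L) (x : L) (r : ℕ)
    (hr : r.Prime) (hx : orderOf x = r) (hcop : ¬ r ∣ Nat.card H) (i j : ℕ) (h h' : L)
    (hh : h ∈ H) (hh' : h' ∈ H) (heq : x ^ i * h = x ^ j * h') : x ^ i = x ^ j ∧ h = h' := by
  have hdisj : Disjoint (Subgroup.zpowers x) H := by
    apply Subgroup.disjoint_of_coprime_natCard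
    rw [Nat.card_zpowers, hx]
    exact (Nat.Prime.coprime_iff_not_dvd hr).mpr hcop
  have hy : (x ^ j)⁻¹ * x ^ i = h' * h⁻¹ := by
    have : x ^ i = x ^ j * h' * h⁻¹ := by rw [← heq]; group
    rw [this]; group
  have h1 : (x ^ j)⁻¹ * x ^ i ∈ Subgroup.zpowers x :=
    (Subgroup.zpowers x).mul_mem ((Subgroup.zpowers x).inv_mem (Subgroup.npow_mem_zpowers x j))
      (Subgroup.npow_mem_zpowers x i)
  have h2 : (x ^ j)⁻¹ * x ^ i ∈ H := by rw [hy]; exact H.mul_mem hh' (H.inv_mem hh)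
  have h3 : (x ^ j)⁻¹ * x ^ i = 1 := Subgroup.disjoint_def.mp hdisj h1 h2
  constructor
  · have := congrArg (fun t => x ^ j * t) h3
    simpa using this
  · rw [h3] at hy
    have := congrArg (fun t => t * h) hy
    simpa using this

/-- `θ` is invariant under conjugation by powers of `x⁻¹`. -/
theorem inv_pow {L : Type*} [Group L] (H : Subgroup L) [H.Normal] (x : L)
    (θ : H →* ℂˣ) (hθ : ∀ h h' : H, (h' : L) = x * h * x⁻¹ → θ h' = θ h) :
    ∀ (j : ℕ) (h h' : H), (h' : L) = (x ^ j)⁻¹ * h * x ^ j → θ h' = θ h := by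
  intro j
  induction j with
  | zero =>
    intro h h' hh
    have : h' = h := Subtype.ext (by simpa using hh)
    rw [this]
  | succ j ih =>
    intro h h' hh
    have hn : (x ^ j)⁻¹ * (h : L) * x ^ j ∈ H := by
      have := ‹H.Normal›.conj_mem (h : L) h.2 (x ^ j)⁻¹
      simpa using this
    have h1 := ih h ⟨_, hn⟩ rfl
    have h2 : θ ⟨_, hn⟩ = θ h' := by
      apply hθ
      show (x ^ j)⁻¹ * (h : L) * x ^ j = x * (h' : L) * x⁻¹
      rw [hh, pow_succ]; group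
    rw [← h2, h1]

/-- MODULE [EXT] -/
theorem exists_linear_extension {L : Type*} [Group L] [Finite L] (H : Subgroup L) [H.Normal]
    (x : L) (r : ℕ) (hr : r.Prime) (hx : orderOf x = r) (hcop : ¬ r ∣ Nat.card H)
    (θ : H →* ℂˣ) (hθ : ∀ h h' : H, (h' : L) = x * h * x⁻¹ → θ h' = θ h)
    (ζ : ℂˣ) (hζ : ζ ^ r = 1) :
    ∃ f : ↥(H ⊔ Subgroup.zpowers x) →* ℂˣ,
      ∀ (i : ℕ) (h : H) (hk : x ^ i * (h : L) ∈ H ⊔ Subgroup.zpowers x),
        f ⟨x ^ i * (h : L), hk⟩ = ζ ^ i * θ h := by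
  classical
  have hA := fun k : ↥(H ⊔ Subgroup.zpowers x) => exists_rep H x (k : L) k.2
  -- the function
  let f₀ : ↥(H ⊔ Subgroup.zpowers x) → ℂˣ := fun k =>
    ζ ^ (Classical.choose (hA k)) * θ (Classical.choose (Classical.choose_spec (hA k)))
  have hζpow : ∀ i j : ℕ, x ^ i = x ^ j → ζ ^ i = ζ ^ j := by
    intro i j hij
    rw [pow_eq_pow_iff_modEq, hx] at hij
    rw [← Nat.mod_add_div i r, ← Nat.mod_add_div j r, pow_add, pow_add, pow_mul, pow_mul, hζ,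
      one_pow, one_pow, hij]
  have hC : ∀ (i : ℕ) (h : H) (hk : x ^ i * (h : L) ∈ H ⊔ Subgroup.zpowers x),
      f₀ ⟨x ^ i * (h : L), hk⟩ = ζ ^ i * θ h := by
    intro i h hk
    have hspec := Classical.choose_spec (Classical.choose_spec (hA ⟨x ^ i * (h : L), hk⟩))
    obtain ⟨e1, e2⟩ := rep_unique H x r hr hx hcop _ _ _ _ h.2
      (Classical.choose (Classical.choose_spec (hA ⟨x ^ i * (h : L), hk⟩))).2 hspec
    show ζ ^ _ * θ _ = _
    rw [← hζpow _ _ e1, ← Subtype.ext e2]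
  have hmul : ∀ a b : ↥(H ⊔ Subgroup.zpowers x), f₀ (a * b) = f₀ a * f₀ b := by
    intro a b
    obtain ⟨i, h, ha⟩ := hA a
    obtain ⟨j, h', hb⟩ := hA b
    have hn : (x ^ j)⁻¹ * (h : L) * x ^ j ∈ H := by
      have := ‹H.Normal›.conj_mem (h : L) h.2 (x ^ j)⁻¹
      simpa using this
    have hab : ((a * b : ↥(H ⊔ Subgroup.zpowers x)) : L) =
        x ^ (i + j) * ((⟨_, hn⟩ * h' : H) : L) := by
      show (a : L) * (b : L) = x ^ (i + j) * (((x ^ j)⁻¹ * (h : L) * x ^ j) * (h' : L))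
      rw [ha, hb, pow_add]; group
    have e1 : a * b = ⟨x ^ (i + j) * ((⟨_, hn⟩ * h' : H) : L), hab ▸ (a * b).2⟩ :=
      Subtype.ext hab
    have e2 : a = ⟨x ^ i * (h : L), ha ▸ a.2⟩ := Subtype.ext ha
    have e3 : b = ⟨x ^ j * (h' : L), hb ▸ b.2⟩ := Subtype.ext hb
    rw [e1, hC, e2, hC, e3, hC, map_mul, inv_pow H x θ hθ j h ⟨_, hn⟩ rfl, pow_add]
    rw [mul_mul_mul_comm]
  exact ⟨MonoidHom.mk' f₀ hmul, hC⟩

/-- MODULE [EXT], summation over `H ⊔ ⟨x⟩`. -/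
theorem sum_sup_zpowers {L : Type*} [Group L] [Fintype L] (H : Subgroup L) [H.Normal]
    [Fintype H] (x : L) [Fintype ↥(H ⊔ Subgroup.zpowers x)] (r : ℕ) (hr : r.Prime)
    (hx : orderOf x = r) (hcop : ¬ r ∣ Nat.card H) (g : L → ℂ) :
    ∑ k : ↥(H ⊔ Subgroup.zpowers x), g (k : L) =
      ∑ i ∈ Finset.range r, ∑ h : H, g (x ^ i * (h : L)) := by
  classical
  rw [← Finset.sum_product']
  symm
  have hmem : ∀ (i : ℕ) (h : H), x ^ i * (h : L) ∈ H ⊔ Subgroup.zpowers x := fun i h =>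
    (H ⊔ Subgroup.zpowers x).mul_mem
      ((le_sup_right : Subgroup.zpowers x ≤ H ⊔ Subgroup.zpowers x)
        (Subgroup.npow_mem_zpowers x i))
      ((le_sup_left : H ≤ H ⊔ Subgroup.zpowers x) h.2)
  refine Finset.sum_bij (fun p _ => (⟨x ^ p.1 * (p.2 : L), hmem p.1 p.2⟩ :
    ↥(H ⊔ Subgroup.zpowers x))) (fun _ _ => Finset.mem_univ _) ?_ ?_ (fun _ _ => rfl)
  · rintro ⟨i, h⟩ hi ⟨j, h'⟩ hj heq
    rw [Finset.mem_product, Finset.mem_range] at hi hj
    have heq' : x ^ i * (h : L) = x ^ j * (h' : L) := congrArg Subtype.val heq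
    obtain ⟨e1, e2⟩ := rep_unique H x r hr hx hcop i j _ _ h.2 h'.2 heq'
    have : i = j := by
      rw [pow_eq_pow_iff_modEq, hx] at e1
      exact Nat.ModEq.eq_of_lt_of_lt e1 hi.1 hj.1
    rw [this, Subtype.ext e2]
  · intro k _
    obtain ⟨i, h, hk⟩ := exists_rep H x (k : L) k.2
    refine ⟨(i % r, h), ?_, ?_⟩
    · rw [Finset.mem_product, Finset.mem_range]
      exact ⟨Nat.mod_lt _ hr.pos, Finset.mem_univ _⟩
    · apply Subtype.ext
      show x ^ (i % r) * (h : L) = k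
      rw [hk, ← hx, pow_mod_orderOf]

end Cfsg.Agent.Lib.Helper47.PF127Ext
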