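import Mathlib
import Cfsg.Prelude.Def_LocalStructure
import Cfsg.Agent.Lib.Helper47.Basic

set_option autoImplicit false

namespace Cfsg.Agent.Lib.Helper47

open Cfsg
open scoped commutatorElement

variable {G : Type*} [Group G]

/-- If every element of order prime to `p` is trivial, the (finite) group is a `p`-group. -/
theorem isPGroup_of_forall_coprime_eq_one {p : ℕ} [Fact p.Prime] {K : Type*} [Group K] [Finite K]
    (h : ∀ x : K, Nat.Coprime (orderOf x) p → x = 1) : IsPGroup p K := by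
  intro g
  have hp : p.Prime := Fact.out
  have hpos : 0 < orderOf g := orderOf_pos g
  obtain ⟨k, m, hm, hkm⟩ := Nat.exists_eq_pow_mul_and_not_dvd hpos.ne' p hp.ne_one
  refine ⟨k, ?_⟩
  apply h
  have h1 : orderOf (g ^ p ^ k) = m := by
    rw [orderOf_pow' g (pow_ne_zero k hp.ne_zero), hkm]
    rw [Nat.gcd_eq_right (Dvd.intro _ rfl)]
    exact Nat.mul_div_cancel_left m (pow_pos hp.pos k)
  rw [h1]
  exact (Nat.Coprime.symm ((Nat.Prime.coprime_iff_not_dvd hp).mpr hm))

/-- Subgroup version. -/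
theorem isPGroup_subgroup_of_forall_coprime_eq_one {p : ℕ} [Fact p.Prime] [Finite G]
    (L : Subgroup G) (h : ∀ x ∈ L, Nat.Coprime (orderOf x) p → x = 1) : IsPGroup p ↥L := by
  apply isPGroup_of_forall_coprime_eq_one
  intro x hx
  have := h (x : G) x.2 (by rwa [Subgroup.orderOf_coe])
  exact Subtype.ext this

/-- If `c = ⁅r, x⁆` commutes with `x`, then `c ^ orderOf x = 1`. -/
theorem commutator_pow_orderOf_eq_one (r x : G) (hc : Commute ⁅r, x⁆ x) :
    ⁅r, x⁆ ^ orderOf x = 1 := by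
  have h1 : r * x * r⁻¹ = ⁅r, x⁆ * x := by simp [commutatorElement_def]
  have h2 : (r * x * r⁻¹) ^ orderOf x = 1 := by
    rw [conj_pow, pow_orderOf_eq_one]; simp
  rw [h1, hc.mul_pow, pow_orderOf_eq_one, mul_one] at h2
  exact h2

/-- A `p`-element `c = ⁅r, x⁆` commuting with the `p'`-element `x` is trivial. -/
theorem commutator_eq_one_of_coprime {p : ℕ} [Fact p.Prime] (r x : G) (hc : Commute ⁅r, x⁆ x)
    (hx : Nat.Coprime (orderOf x) p) (hp : ∃ k : ℕ, ⁅r, x⁆ ^ p ^ k = 1) : ⁅r, x⁆ = 1 := by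
  obtain ⟨k, hk⟩ := hp
  have h1 : orderOf ⁅r, x⁆ ∣ orderOf x := orderOf_dvd_of_pow_eq_one (commutator_pow_orderOf_eq_one r x hc)
  have h2 : orderOf ⁅r, x⁆ ∣ p ^ k := orderOf_dvd_of_pow_eq_one hk
  have h3 : Nat.Coprime (orderOf x) (p ^ k) := Nat.Coprime.pow_right k hx
  have := Nat.eq_one_of_dvd_coprimes h3 h1 h2
  exact orderOf_eq_one_iff.mp this

/-- Key coprime-action step: if the `p'`-element `x` normalizes the `p`-subgroup `R`, `A ≤ R`,
and `x` centralizes all commutators `⁅a, x⁆` for `a ∈ A`, then `x` centralizes `A`. -/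
theorem commute_of_coprime_of_commutator_commute {p : ℕ} [Fact p.Prime] {R : Subgroup G}
    (hR : IsPGroup p ↥R) (x : G) (hx : Nat.Coprime (orderOf x) p)
    (a : G) (hcR : ⁅a, x⁆ ∈ R) (hc : Commute ⁅a, x⁆ x) : Commute a x := by
  have h1 : ⁅a, x⁆ = 1 := by
    apply commutator_eq_one_of_coprime (p := p) a x hc hx
    obtain ⟨k, hk⟩ := hR ⟨_, hcR⟩
    refine ⟨k, ?_⟩
    have := congrArg Subtype.val hk
    simpa using this
  exact commutatorElement_eq_one_iff_commute.mp h1

end Cfsg.Agent.Lib.Helper47
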