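import Mathlib
import Cfsg.Prelude.Def_LocalStructure
import Cfsg.Agent.Lib.Helper47.Basic
import Cfsg.Agent.Lib.Helper47.Coprime

set_option autoImplicit false

namespace Cfsg.Agent.Lib.Helper47

open Cfsg
open scoped commutatorElement

variable {G : Type*} [Group G]

/-- A subgroup generated by pairwise commuting `p`-elements is a `p`-group. -/
theorem isPGroup_closure_of_commute {p : ℕ} (S : Set G)
    (hS : ∀ x ∈ S, ∃ k : ℕ, x ^ p ^ k = 1)
    (hc : ∀ x ∈ Subgroup.closure S, ∀ y ∈ Subgroup.closure S, Commute x y) :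
    IsPGroup p ↥(Subgroup.closure S) := by
  have key : ∀ x ∈ Subgroup.closure S, ∃ k : ℕ, x ^ p ^ k = 1 := by
    intro x hx
    induction hx using Subgroup.closure_induction with
    | mem x hx => exact hS x hx
    | one => exact ⟨0, by simp⟩
    | mul x y hx hy ihx ihy =>
      obtain ⟨a, ha⟩ := ihx
      obtain ⟨b, hb⟩ := ihy
      refine ⟨a + b, ?_⟩
      rw [(hc x hx y hy).mul_pow, pow_add, pow_mul, ha, one_pow, one_mul, mul_comm (p ^ a), pow_mul,
        hb, one_pow]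
    | inv x _ ih =>
      obtain ⟨a, ha⟩ := ih
      exact ⟨a, by rw [inv_pow, ha, inv_one]⟩
  intro x
  obtain ⟨k, hk⟩ := key x x.2
  exact ⟨k, Subtype.ext (by simpa using hk)⟩

/-- If `N ≤ K`, `K` normalizes `N` and `N` is a `p`-group, then `N ≤ O_p(K)` (viewed in `K`). -/
theorem subgroupOf_le_pCore {p : ℕ} {N K : Subgroup G} (hNK : K ≤ Subgroup.normalizer (N : Set G))
    (hp : IsPGroup p ↥N) : N.subgroupOf K ≤ pCore p ↥K := by
  have hn : (N.subgroupOf K).Normal := Subgroup.normal_subgroupOf_of_le_normalizer hNK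
  exact le_pCore hn hp.comap_subtype

/-- If `N ≤ K`, `K` normalizes `N`, `N` is a `p`-group and `O_p(K) = 1`, then `N = 1`. -/
theorem eq_bot_of_pCore_eq_bot {p : ℕ} {N K : Subgroup G} (hle : N ≤ K)
    (hNK : K ≤ Subgroup.normalizer (N : Set G))
    (hp : IsPGroup p ↥N) (hO : pCore p ↥K = ⊥) : N = ⊥ := by
  have h1 : N.subgroupOf K ≤ ⊥ := hO ▸ subgroupOf_le_pCore hNK hp
  rw [le_bot_iff, Subgroup.subgroupOf_eq_bot] at h1
  rw [eq_bot_iff]
  intro x hx
  have h2 : x ∈ N ⊓ K := ⟨hx, hle hx⟩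
  rw [disjoint_iff.mp h1] at h2
  exact h2

end Cfsg.Agent.Lib.Helper47
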