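import Mathlib
import Cfsg.Prelude.Def_LocalStructure
import Cfsg.Agent.Lib.Helper47.Basic

set_option autoImplicit false

namespace Cfsg.Agent.Lib.Helper47

open Cfsg
open scoped commutatorElement Pointwise

variable {G : Type*} [Group G]

theorem map_mk'_self (N : Subgroup G) [N.Normal] : N.map (QuotientGroup.mk' N) = ⊥ := by
  rw [Subgroup.map_eq_bot_iff, QuotientGroup.ker_mk']

theorem comap_map_mk' (N : Subgroup G) [N.Normal] {K : Subgroup G} (h : N ≤ K) :
    (K.map (QuotientGroup.mk' N)).comap (QuotientGroup.mk' N) = K := by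
  apply Subgroup.comap_map_eq_self
  rwa [QuotientGroup.ker_mk']

theorem map_comap_mk' (N : Subgroup G) [N.Normal] (X : Subgroup (G ⧸ N)) :
    (X.comap (QuotientGroup.mk' N)).map (QuotientGroup.mk' N) = X :=
  Subgroup.map_comap_eq_self_of_surjective (QuotientGroup.mk'_surjective N) X

theorem le_comap_mk' (N : Subgroup G) [N.Normal] (X : Subgroup (G ⧸ N)) :
    N ≤ X.comap (QuotientGroup.mk' N) := by
  conv_lhs => rw [← QuotientGroup.ker_mk' N]
  exact Subgroup.ker_le_comap _ _

theorem map_mk'_top (N : Subgroup G) [N.Normal] :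
    (⊤ : Subgroup G).map (QuotientGroup.mk' N) = ⊤ := by
  rw [← MonoidHom.range_eq_map, MonoidHom.range_eq_top]
  exact QuotientGroup.mk'_surjective N

/-- If `N ⊔ P = ⊤` then the image of `P` in `G ⧸ N` is everything. -/
theorem map_mk'_eq_top_of_sup_eq_top {N P : Subgroup G} [N.Normal] (h : N ⊔ P = ⊤) :
    P.map (QuotientGroup.mk' N) = ⊤ := by
  have h2 : (N ⊔ P).map (QuotientGroup.mk' N) = ⊤ := by rw [h, map_mk'_top]
  rwa [Subgroup.map_sup, map_mk'_self, bot_sup_eq] at h2

/-- If the image of `P` in `G ⧸ N` is everything then `N ⊔ P = ⊤`. -/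
theorem sup_eq_top_of_map_mk'_eq_top {N P : Subgroup G} [N.Normal]
    (h : P.map (QuotientGroup.mk' N) = ⊤) : N ⊔ P = ⊤ := by
  have h1 : ((N ⊔ P).map (QuotientGroup.mk' N)).comap (QuotientGroup.mk' N) = N ⊔ P :=
    comap_map_mk' N le_sup_left
  rw [Subgroup.map_sup, map_mk'_self, bot_sup_eq, h, Subgroup.comap_top] at h1
  exact h1.symm

/-- If `N ⊔ P = ⊤` for a normal subgroup `N` and a `p`-subgroup `P`, then `G ⧸ N` is a `p`-group. -/
theorem isPGroup_quotient_of_sup_eq_top {p : ℕ} {N P : Subgroup G} [N.Normal]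
    (hP : IsPGroup p ↥P) (h : N ⊔ P = ⊤) : IsPGroup p (G ⧸ N) := by
  have h4 : IsPGroup p ↥(P.map (QuotientGroup.mk' N)) := hP.map _
  rw [map_mk'_eq_top_of_sup_eq_top h] at h4
  exact h4.of_equiv Subgroup.topEquiv

/-- Coatoms of the quotient pull back to coatoms. -/
theorem isCoatom_comap_mk' (N : Subgroup G) [N.Normal] {X : Subgroup (G ⧸ N)} (hX : IsCoatom X) :
    IsCoatom (X.comap (QuotientGroup.mk' N)) := by
  refine ⟨fun h => hX.1 ?_, fun K hK => ?_⟩
  · rw [← map_comap_mk' N X, h, map_mk'_top]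
  · have hNK : N ≤ K := (le_comap_mk' N X).trans hK.le
    have h1 : X ≤ K.map (QuotientGroup.mk' N) := by
      rw [← map_comap_mk' N X]
      exact Subgroup.map_mono hK.le
    have h2 : X ≠ K.map (QuotientGroup.mk' N) := by
      intro h
      have : K ≤ X.comap (QuotientGroup.mk' N) := by
        rw [h]; exact Subgroup.le_comap_map _ _
      exact (lt_irrefl _ (lt_of_lt_of_le hK this))
    have h3 := hX.2 _ (lt_of_le_of_ne h1 h2)
    rw [← comap_map_mk' N hNK, h3, Subgroup.comap_top]

/-- Coatoms containing `N` push forward to coatoms of the quotient. -/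
theorem isCoatom_map_mk' (N : Subgroup G) [N.Normal] {M : Subgroup G} (hM : IsCoatom M)
    (hNM : N ≤ M) : IsCoatom (M.map (QuotientGroup.mk' N)) := by
  refine ⟨fun h => hM.1 ?_, fun X hX => ?_⟩
  · rw [← comap_map_mk' N hNM, h, Subgroup.comap_top]
  · have h1 : M ≤ X.comap (QuotientGroup.mk' N) := by
      rw [← comap_map_mk' N hNM]
      exact Subgroup.comap_mono hX.le
    have h2 : M ≠ X.comap (QuotientGroup.mk' N) := by
      intro h
      have : X ≤ M.map (QuotientGroup.mk' N) := by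
        rw [h, map_comap_mk']
      exact (lt_irrefl _ (lt_of_lt_of_le hX this))
    have h3 := hM.2 _ (lt_of_le_of_ne h1 h2)
    rw [← map_comap_mk' N X, h3, map_mk'_top]

end Cfsg.Agent.Lib.Helper47
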