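import Mathlib
import Cfsg.Prelude.Def_LocalStructure
import Cfsg.Agent.Lib.Helper47.Basic
import Cfsg.Agent.Lib.Helper47.Quot
import Cfsg.Agent.Lib.Helper47.SylowLemmas

set_option autoImplicit false

namespace Cfsg.Agent.Lib.Helper47

open Cfsg
open scoped commutatorElement Pointwise

variable {G : Type*} [Group G]

/-- An element normalizing `A` and `B` normalizes `⁅A, B⁆`. -/
theorem normalizer_inf_normalizer_le_normalizer_commutator (A B : Subgroup G) :
    Subgroup.normalizer (A : Set G) ⊓ Subgroup.normalizer (B : Set G) ≤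
      Subgroup.normalizer ((⁅A, B⁆ : Subgroup G) : Set G) := by
  intro g hg
  simp_rw [Subgroup.mem_inf, Subgroup.mem_normalizer_iff_map_conj_eq] at hg ⊢
  rw [Subgroup.map_commutator, hg.1, hg.2]

/-- If `N` is a `p`-closed normal subgroup of the finite group `G`, every `p`-subgroup of `N` lies in
`O_p(G)`. -/
theorem le_pCore_of_le_normal_isPClosed {p : ℕ} [Fact p.Prime] [Finite G] (N : Subgroup G)
    [hN : N.Normal] (hc : IsPClosed p ↥N) {Y : Subgroup G} (hYN : Y ≤ N) (hY : IsPGroup p ↥Y) :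
    Y ≤ pCore p G := by
  have hY' : IsPGroup p ↥(Y.subgroupOf N) := hY.comap_subtype
  obtain ⟨Q, hQ⟩ := hY'.exists_le_sylow
  have hQn : (Q : Subgroup ↥N).Normal := hc Q
  have hQc : (Q : Subgroup ↥N).Characteristic := Sylow.characteristic_of_normal Q hQn
  have hQ' : ((Q : Subgroup ↥N).map N.subtype).Normal := ConjAct.normal_of_characteristic_of_normal
  have hQp : IsPGroup p ↥((Q : Subgroup ↥N).map N.subtype) := Q.isPGroup'.map _
  have h1 : Y ≤ (Q : Subgroup ↥N).map N.subtype := by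
    intro y hy
    exact ⟨⟨y, hYN hy⟩, hQ (by simpa [Subgroup.mem_subgroupOf] using hy), rfl⟩
  exact h1.trans (le_pCore hQ' hQp)

/-- If a normal subgroup `N` containing a Sylow `p`-subgroup of `G` is `p`-closed, so is `G`. -/
theorem isPClosed_of_sylow_le_normal_isPClosed {p : ℕ} [Fact p.Prime] [Finite G] (N : Subgroup G)
    [hN : N.Normal] (hc : IsPClosed p ↥N) (T : Sylow p G) (hTN : (T : Subgroup G) ≤ N) :
    IsPClosed p G := by
  have h1 : (T : Subgroup G) ≤ pCore p G := le_pCore_of_le_normal_isPClosed N hc hTN T.isPGroup'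
  have h2 : (T : Subgroup G) = pCore p G := le_antisymm h1 (pCore_le_sylow T)
  apply isPClosed_of_normal_sylow T
  rw [h2]
  infer_instance

/-- In a `p`-group every Sylow `p`-subgroup is everything. -/
theorem sylow_eq_top_of_isPGroup {p : ℕ} (hG : IsPGroup p G) (P : Sylow p G) :
    (P : Subgroup G) = ⊤ :=
  (P.3 (hG.to_subgroup ⊤) le_top).symm

/-- If `G ⧸ N` is a `p`-group then `N ⊔ T = ⊤` for every Sylow `p`-subgroup `T` of the finite
group `G`. -/
theorem sup_sylow_eq_top_of_isPGroup_quotient {p : ℕ} [Fact p.Prime] [Finite G] (N : Subgroup G)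
    [N.Normal] (h : IsPGroup p (G ⧸ N)) (T : Sylow p G) : N ⊔ (T : Subgroup G) = ⊤ := by
  apply sup_eq_top_of_map_mk'_eq_top
  have := sylow_eq_top_of_isPGroup h (T.mapSurjective (QuotientGroup.mk'_surjective N))
  rwa [Sylow.coe_mapSurjective] at this

/-- `O^p(G) T = G` for a Sylow `p`-subgroup `T` of the finite group `G`. -/
theorem pResidual_sup_sylow {p : ℕ} [Fact p.Prime] [Finite G] (T : Sylow p G) :
    pResidual p G ⊔ (T : Subgroup G) = ⊤ := by
  have := pResidual_normal p G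
  exact sup_sylow_eq_top_of_isPGroup_quotient _ (isPGroup_quotient_pResidual p G _ le_rfl) T

/-- A `p'`-element of `D ⊔ Y`, with `D` normal and `Y` a `p`-group, lies in `D`. -/
theorem mem_of_coprime_of_mem_sup {p : ℕ} [Fact p.Prime] {D Y : Subgroup G} [D.Normal]
    (hY : IsPGroup p ↥Y) {g : G} (hg : g ∈ D ⊔ Y) (hco : Nat.Coprime (orderOf g) p) : g ∈ D := by
  have h1 : (QuotientGroup.mk' D) g ∈ (D ⊔ Y).map (QuotientGroup.mk' D) :=
    Subgroup.mem_map_of_mem _ hg
  rw [Subgroup.map_sup, map_mk'_self, bot_sup_eq] at h1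
  have hYp : IsPGroup p ↥(Y.map (QuotientGroup.mk' D)) := hY.map _
  obtain ⟨k, hk⟩ := hYp ⟨_, h1⟩
  have hk' : ((QuotientGroup.mk' D) g) ^ p ^ k = 1 := by simpa using congrArg Subtype.val hk
  have h2 : orderOf ((QuotientGroup.mk' D) g) ∣ p ^ k := orderOf_dvd_of_pow_eq_one hk'
  have h3 : orderOf ((QuotientGroup.mk' D) g) ∣ orderOf g := orderOf_map_dvd (QuotientGroup.mk' D) g
  have h4 : orderOf ((QuotientGroup.mk' D) g) = 1 :=
    Nat.eq_one_of_dvd_coprimes (Nat.Coprime.pow_right k hco) h3 h2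
  rw [orderOf_eq_one_iff] at h4
  exact (QuotientGroup.eq_one_iff g).mp h4

end Cfsg.Agent.Lib.Helper47
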