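import Mathlib
import Cfsg.Prelude.Def_LocalStructure
import Cfsg.Agent.Lib.Helper47.Basic
import Cfsg.Agent.Lib.Helper47.Comm
import Cfsg.Agent.Lib.Helper47.PClosed

set_option autoImplicit false

namespace Cfsg.Agent.Lib.Helper47

open Cfsg
open scoped commutatorElement Pointwise

variable {G : Type*} [Group G]

/-! ### `O_p` is characteristic -/

theorem pCore_characteristic (p : ℕ) (G : Type*) [Group G] : (pCore p G).Characteristic := by
  rw [Subgroup.characteristic_iff_map_le]
  intro φ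
  unfold pCore
  rw [Subgroup.map_le_iff_le_comap]
  apply sSup_le
  intro N hN
  rw [← Subgroup.map_le_iff_le_comap]
  apply le_sSup
  refine ⟨?_, hN.2.map _⟩
  have := hN.1
  exact Subgroup.Normal.map this φ.toMonoidHom φ.surjective

/-- `N(H)` normalizes the image in `G` of every characteristic subgroup of `H`. -/
theorem normalizer_le_normalizer_map_subtype_of_characteristic (H : Subgroup G) (C : Subgroup ↥H)
    [hC : C.Characteristic] :
    Subgroup.normalizer (H : Set G) ≤ Subgroup.normalizer ((C.map H.subtype : Subgroup G) : Set G) := by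
  rw [Subgroup.le_normalizer_iff]
  rintro k hk x ⟨c, hc, rfl⟩
  have hφ := (Subgroup.characteristic_iff_map_eq.mp hC) (H.normalizerMonoidHom ⟨k, hk⟩)
  have hmem : (H.normalizerMonoidHom ⟨k, hk⟩) c ∈ C := by
    rw [← hφ]
    exact Subgroup.mem_map_of_mem _ hc
  refine ⟨(H.normalizerMonoidHom ⟨k, hk⟩) c, hmem, ?_⟩
  simp [Subgroup.normalizerMonoidHom_apply_apply_coe]

theorem normalizer_le_normalizer_pCoreOf (p : ℕ) (H : Subgroup G) :
    Subgroup.normalizer (H : Set G) ≤ Subgroup.normalizer ((pCoreOf p H : Subgroup G) : Set G) := by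
  have := pCore_characteristic p ↥H
  exact normalizer_le_normalizer_map_subtype_of_characteristic H (pCore p ↥H)

theorem pCoreOf_isPGroup (p : ℕ) (H : Subgroup G) : IsPGroup p ↥(pCoreOf p H) :=
  (pCore_isPGroup p ↥H).map _

theorem pCoreOf_le (p : ℕ) (H : Subgroup G) : pCoreOf p H ≤ H := by
  rintro x ⟨c, _, rfl⟩
  exact c.2

/-- A `p`-subgroup `N ≤ K` normalized by `K` lies in `O_p(K)` (ambient version). -/
theorem le_pCoreOf {p : ℕ} {N K : Subgroup G} (hle : N ≤ K)
    (hNK : K ≤ Subgroup.normalizer (N : Set G)) (hp : IsPGroup p ↥N) : N ≤ pCoreOf p K := by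
  intro x hx
  have h1 : (⟨x, hle hx⟩ : ↥K) ∈ N.subgroupOf K := by
    rw [Subgroup.mem_subgroupOf]; exact hx
  exact ⟨⟨x, hle hx⟩, subgroupOf_le_pCore hNK hp h1, rfl⟩

theorem pCoreOf_top (p : ℕ) (G : Type*) [Group G] : pCoreOf p (⊤ : Subgroup G) = pCore p G := by
  apply le_antisymm
  · apply le_pCore
    · have : (pCoreOf p (⊤ : Subgroup G)).Normal := by
        rw [← Subgroup.normalizer_eq_top_iff, eq_top_iff]
        refine le_trans ?_ (normalizer_le_normalizer_pCoreOf p ⊤)
        rw [Subgroup.normalizer_eq_top_iff.mpr (inferInstance : (⊤ : Subgroup G).Normal)]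
      exact this
    · exact pCoreOf_isPGroup p ⊤
  · apply le_pCoreOf le_top
    · rw [Subgroup.normalizer_eq_top_iff.mpr (inferInstance : (pCore p G).Normal)]
    · exact pCore_isPGroup p G

/-- `O_p(H) ≤ O_p(G)` for `H` subnormal in `G`. -/
theorem pCoreOf_le_pCore_of_isSubnormal (p : ℕ) {H : Subgroup G} (hH : H.IsSubnormal) :
    pCoreOf p H ≤ pCore p G := by
  induction hH with
  | top => rw [pCoreOf_top]
  | step H K hle hK hn ih =>
    have hKH : K ≤ Subgroup.normalizer (H : Set G) :=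
      (Subgroup.normal_subgroupOf_iff_le_normalizer hle).mp hn
    have h1 : K ≤ Subgroup.normalizer ((pCoreOf p H : Subgroup G) : Set G) :=
      hKH.trans (normalizer_le_normalizer_pCoreOf p H)
    have h2 : pCoreOf p H ≤ pCoreOf p K :=
      le_pCoreOf ((pCoreOf_le p H).trans hle) h1 (pCoreOf_isPGroup p H)
    exact h2.trans ih

/-- A subnormal `p`-subgroup lies in `O_p(G)`. -/
theorem le_pCore_of_isSubnormal_of_isPGroup {p : ℕ} {A : Subgroup G} (hA : A.IsSubnormal)
    (hp : IsPGroup p ↥A) : A ≤ pCore p G := by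
  have h1 : A ≤ pCoreOf p A := le_pCoreOf le_rfl Subgroup.le_normalizer hp
  exact h1.trans (pCoreOf_le_pCore_of_isSubnormal p hA)

/-! ### `O^p` of a subgroup, in the ambient group -/

/-- `O^p(B)` as a subgroup of the ambient group. -/
def opOf (p : ℕ) (B : Subgroup G) : Subgroup G := (pResidual p ↥B).map B.subtype

theorem opOf_eq_closure (p : ℕ) (B : Subgroup G) :
    opOf p B = Subgroup.closure {x : G | x ∈ B ∧ Nat.Coprime (orderOf x) p} := by
  unfold opOf pResidual
  rw [MonoidHom.map_closure]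
  congr 1
  ext x
  constructor
  · rintro ⟨b, hb, rfl⟩
    exact ⟨b.2, by simpa [Subgroup.orderOf_coe] using hb⟩
  · rintro ⟨hxB, hx⟩
    refine ⟨⟨x, hxB⟩, ?_, rfl⟩
    show Nat.Coprime (orderOf (⟨x, hxB⟩ : ↥B)) p
    rw [← Subgroup.orderOf_coe]
    exact hx

theorem opOf_le (p : ℕ) (B : Subgroup G) : opOf p B ≤ B := by
  rintro x ⟨c, _, rfl⟩
  exact c.2

theorem opOf_mono (p : ℕ) {B C : Subgroup G} (h : B ≤ C) : opOf p B ≤ opOf p C := by
  rw [opOf_eq_closure, opOf_eq_closure]
  apply Subgroup.closure_mono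
  rintro x ⟨hxB, hx⟩
  exact ⟨h hxB, hx⟩

theorem opOf_le_iff (p : ℕ) (B D : Subgroup G) :
    opOf p B ≤ D ↔ ∀ x ∈ B, Nat.Coprime (orderOf x) p → x ∈ D := by
  rw [opOf_eq_closure, Subgroup.closure_le]
  constructor
  · intro h x hx hco; exact h ⟨hx, hco⟩
  · rintro h x ⟨hx, hco⟩; exact h x hx hco

theorem normalizer_le_normalizer_opOf (p : ℕ) (B : Subgroup G) :
    Subgroup.normalizer (B : Set G) ≤ Subgroup.normalizer ((opOf p B : Subgroup G) : Set G) := by
  rw [opOf_eq_closure]
  refine le_trans ?_ (Subgroup.normalizer_le_normalizer_closure _)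
  intro k hk
  rw [Subgroup.mem_set_normalizer_iff]
  intro x
  have hk' := Subgroup.mem_normalizer_iff.mp hk
  have hord : orderOf (k * x * k⁻¹) = orderOf x := by
    have : k * x * k⁻¹ = MulAut.conj k x := by simp
    rw [this, MulEquiv.orderOf_eq]
  constructor
  · rintro ⟨hxB, hx⟩
    exact ⟨(hk' x).mp hxB, by rwa [hord]⟩
  · rintro ⟨hxB, hx⟩
    exact ⟨(hk' x).mpr hxB, by rwa [hord] at hx⟩

/-- Key lemma: if `B` is subnormal in the finite group `G` and `G = B P` with `P` a normal
`p`-subgroup, then every `p'`-element of `G` lies in `B`. -/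
theorem mem_of_coprime_of_isSubnormal_of_sup_eq_top {p : ℕ} [Fact p.Prime] {B P : Subgroup G}
    [hPn : P.Normal] (hP : IsPGroup p ↥P) (hB : B.IsSubnormal) (hBP : B ⊔ P = ⊤) :
    ∀ g : G, Nat.Coprime (orderOf g) p → g ∈ B := by
  induction hB with
  | top => intro g _; trivial
  | step B K hle hK hn ih =>
    intro g hg
    have hKP : K ⊔ P = ⊤ := by
      rw [eq_top_iff, ← hBP]; exact sup_le_sup_right hle P
    have hgK : g ∈ K := ih hKP g hg
    have hgBP : g ∈ B ⊔ P := by rw [hBP]; trivial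
    rw [Subgroup.mem_sup_of_normal_right] at hgBP
    obtain ⟨b, hb, x, hx, rfl⟩ := hgBP
    have hxK : x ∈ K := by
      have : x = b⁻¹ * (b * x) := by group
      rw [this]; exact K.mul_mem (K.inv_mem (hle hb)) hgK
    -- work inside K
    have hYp : IsPGroup p ↥((K ⊓ P).subgroupOf K) :=
      (hP.to_le inf_le_right).comap_subtype
    have hmem : (⟨b * x, hgK⟩ : ↥K) ∈ B.subgroupOf K ⊔ (K ⊓ P).subgroupOf K := by
      have : (⟨b * x, hgK⟩ : ↥K) = ⟨b, hle hb⟩ * ⟨x, hxK⟩ := rfl
      rw [this]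
      exact Subgroup.mul_mem_sup (by simpa [Subgroup.mem_subgroupOf] using hb)
        (by simp [Subgroup.mem_subgroupOf, hx])
    have hco : Nat.Coprime (orderOf (⟨b * x, hgK⟩ : ↥K)) p := by
      rwa [← Subgroup.orderOf_coe]
    have := mem_of_coprime_of_mem_sup hYp hmem hco
    simpa [Subgroup.mem_subgroupOf] using this

end Cfsg.Agent.Lib.Helper47
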