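/-
helper47: project ASCH (helper99, S5630), module ASCH-[SLOTNORM]:
an invertible matrix on the `k`-fold tensor power which permutes the slot algebras lies in the
standard tensor wreath subgroup (`0 < k` is necessary: for `k = 0` the group is trivial while
`GL_1(F)` is not).
-/
import Mathlib
import Cfsg.Prelude.Def_GeometricClasses
import Cfsg.Agent.Lib.Helper99.AschDefs
import Cfsg.Agent.Lib.Helper54.SkolemNoether

set_option autoImplicit false

namespace Cfsg.Agent.Lib.Helper47.AschSlotNorm

open Cfsg Cfsg.Geo Cfsg.Agent.Lib.Helper99.Asch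
open scoped MatrixGroups Matrix Kronecker

variable {k d : ℕ} {F : Type*} [Field F]

/-- the tensor product of `k` matrices of size `d` -/
def pureT (gs : Fin k → Matrix (Fin d) (Fin d) F) :
    Matrix (Fin k → Fin d) (Fin k → Fin d) F :=
  fun x y => ∏ i, gs i (x i) (y i)

theorem pureT_mul (gs hs : Fin k → Matrix (Fin d) (Fin d) F) :
    pureT gs * pureT hs = pureT (fun i => gs i * hs i) := by
  ext x y
  simp only [Matrix.mul_apply, pureT]
  rw [Finset.prod_univ_sum]
  simp only [← Finset.prod_mul_distrib, Fintype.piFinset_univ]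

theorem pureT_one : pureT (fun _ : Fin k => (1 : Matrix (Fin d) (Fin d) F)) = 1 := by
  ext x y
  simp only [pureT, Matrix.one_apply]
  rw [Fintype.prod_boole]
  congr 1
  exact propext ⟨fun h => funext h, fun h i => congrFun h i⟩

theorem slot_eq_pureT (i : Fin k) (a : Matrix (Fin d) (Fin d) F) :
    slotMatrix i a = pureT (Function.update (fun _ => (1 : Matrix (Fin d) (Fin d) F)) i a) := by
  ext x y
  simp only [slotMatrix, pureT]
  rw [← Finset.mul_prod_erase Finset.univ _ (Finset.mem_univ i)]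
  simp only [Function.update_self]
  have h1 : ∏ j ∈ Finset.univ.erase i,
      Function.update (fun _ => (1 : Matrix (Fin d) (Fin d) F)) i a j (x j) (y j) =
      ∏ j ∈ Finset.univ.erase i, (if x j = y j then (1 : F) else 0) := by
    refine Finset.prod_congr rfl (fun j hj => ?_)
    rw [Function.update_of_ne (Finset.ne_of_mem_erase hj), Matrix.one_apply]
  rw [h1, Finset.prod_boole]
  by_cases h : ∀ j, j ≠ i → x j = y j
  · rw [if_pos h, if_pos (fun j hj => h j (Finset.ne_of_mem_erase hj)), mul_one]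
  · rw [if_neg h, if_neg (fun h' => h (fun j hj => h' j (Finset.mem_erase.2 ⟨hj, Finset.mem_univ j⟩))),
      mul_zero]

theorem slot_mul (i : Fin k) (a b : Matrix (Fin d) (Fin d) F) :
    slotMatrix i a * slotMatrix i b = slotMatrix i (a * b) := by
  rw [slot_eq_pureT, slot_eq_pureT, slot_eq_pureT, pureT_mul]
  congr 1
  funext j
  by_cases hj : j = i
  · subst hj; simp
  · simp [Function.update_of_ne hj]

theorem slot_one (i : Fin k) : slotMatrix i (1 : Matrix (Fin d) (Fin d) F) = 1 := by
  rw [slot_eq_pureT, ← pureT_one]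
  congr 1
  funext j
  by_cases hj : j = i
  · subst hj; simp
  · simp [Function.update_of_ne hj]

theorem slot_add (i : Fin k) (a b : Matrix (Fin d) (Fin d) F) :
    slotMatrix i (a + b) = slotMatrix i a + slotMatrix i b := by
  ext x y
  simp only [slotMatrix, Matrix.add_apply]
  split_ifs <;> simp

theorem slot_smul (i : Fin k) (c : F) (a : Matrix (Fin d) (Fin d) F) :
    slotMatrix i (c • a) = c • slotMatrix i a := by
  ext x y
  simp only [slotMatrix, Matrix.smul_apply]
  split_ifs <;> simp

theorem slot_zero (i : Fin k) : slotMatrix i (0 : Matrix (Fin d) (Fin d) F) = 0 := by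
  ext x y
  simp only [slotMatrix, Matrix.zero_apply]
  split_ifs <;> rfl

theorem slot_injective (i : Fin k) {a b : Matrix (Fin d) (Fin d) F}
    (h : slotMatrix i a = slotMatrix i b) : a = b := by
  ext p q
  have h1 := congrFun (congrFun h (fun _ => p)) (Function.update (fun _ => p) i q)
  simp only [slotMatrix] at h1
  rw [if_pos (fun j hj => by rw [Function.update_of_ne hj]),
    if_pos (fun j hj => by rw [Function.update_of_ne hj])] at h1
  simpa using h1

/-! ### factor permutations -/

/-- the factor permutation matrix -/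
def permM (τ : Equiv.Perm (Fin k)) : Matrix (Fin k → Fin d) (Fin k → Fin d) F :=
  fun x y => if y = x ∘ τ then 1 else 0

theorem permM_mul_apply (τ : Equiv.Perm (Fin k)) (M : Matrix (Fin k → Fin d) (Fin k → Fin d) F)
    (x y : Fin k → Fin d) :
    ((permM τ : Matrix (Fin k → Fin d) (Fin k → Fin d) F) * M) x y = M (x ∘ τ) y := by
  simp [Matrix.mul_apply, permM]

theorem mul_permM_apply (τ : Equiv.Perm (Fin k)) (M : Matrix (Fin k → Fin d) (Fin k → Fin d) F)
    (x y : Fin k → Fin d) :
    (M * (permM τ : Matrix (Fin k → Fin d) (Fin k → Fin d) F)) x y = M x (y ∘ τ.symm) := by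
  simp only [Matrix.mul_apply, permM]
  have h : ∀ v : Fin k → Fin d, (y = v ∘ τ) ↔ (v = y ∘ τ.symm) := by
    intro v
    constructor
    · rintro rfl
      funext j
      simp
    · rintro rfl
      funext j
      simp
  simp only [h]
  simp

theorem mul_permM_inv_apply (τ : Equiv.Perm (Fin k))
    (M : Matrix (Fin k → Fin d) (Fin k → Fin d) F) (x y : Fin k → Fin d) :
    (M * (permM τ⁻¹ : Matrix (Fin k → Fin d) (Fin k → Fin d) F)) x y = M x (y ∘ τ) := by
  rw [mul_permM_apply, Equiv.Perm.inv_def, Equiv.symm_symm]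

theorem permM_mul_inv (τ : Equiv.Perm (Fin k)) :
    (permM τ : Matrix (Fin k → Fin d) (Fin k → Fin d) F) * permM τ⁻¹ = 1 := by
  ext x y
  rw [permM_mul_apply]
  simp only [permM, Matrix.one_apply]
  have h : (y = (x ∘ τ) ∘ (τ⁻¹ : Equiv.Perm (Fin k))) ↔ x = y := by
    have h1 : (x ∘ τ) ∘ (τ⁻¹ : Equiv.Perm (Fin k)) = x := by
      funext j
      simp
    rw [h1]
    exact eq_comm
  simp only [h]

/-- the factor permutation as an invertible matrix -/
def permGL (τ : Equiv.Perm (Fin k)) : GL (Fin k → Fin d) F :=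
  ⟨permM τ, permM τ⁻¹, permM_mul_inv τ, by simpa using permM_mul_inv (d := d) (F := F) τ⁻¹⟩

theorem permGL_val (τ : Equiv.Perm (Fin k)) :
    ((permGL τ : GL (Fin k → Fin d) F) : Matrix (Fin k → Fin d) (Fin k → Fin d) F) = permM τ := rfl

theorem permGL_inv_val (τ : Equiv.Perm (Fin k)) :
    (((permGL τ)⁻¹ : GL (Fin k → Fin d) F) : Matrix (Fin k → Fin d) (Fin k → Fin d) F) =
      permM τ⁻¹ := rfl

theorem perm_conj_slot (τ : Equiv.Perm (Fin k)) (i : Fin k) (a : Matrix (Fin d) (Fin d) F) :
    (permM τ : Matrix (Fin k → Fin d) (Fin k → Fin d) F) * slotMatrix i a * permM τ⁻¹ =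
      slotMatrix (τ i) a := by
  ext x y
  rw [mul_permM_inv_apply, permM_mul_apply]
  simp only [slotMatrix, Function.comp_apply]
  have h : (∀ j, j ≠ i → x (τ j) = y (τ j)) ↔ (∀ j, j ≠ τ i → x j = y j) := by
    constructor
    · intro h j hj
      have h1 := h (τ.symm j) (fun h2 => hj (by rw [← h2]; simp))
      simpa using h1
    · intro h j hj
      exact h (τ j) (fun h2 => hj (τ.injective h2))
  by_cases hc : ∀ j, j ≠ τ i → x j = y j
  · rw [if_pos hc, if_pos (h.2 hc)]
  · rw [if_neg hc, if_neg (fun h' => hc (h.1 h'))]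

/-! ### an element normalising one slot algebra acts on it by an inner automorphism -/

theorem slot_conj_inner (i : Fin k) (u : GL (Fin k → Fin d) F)
    (hu : ∀ a : Matrix (Fin d) (Fin d) F, ∃ a' : Matrix (Fin d) (Fin d) F,
      (u : Matrix (Fin k → Fin d) (Fin k → Fin d) F) * slotMatrix i a *
        ((u⁻¹ : GL (Fin k → Fin d) F) : Matrix (Fin k → Fin d) (Fin k → Fin d) F) =
        slotMatrix i a') :
    ∃ b : GL (Fin d) F, ∀ a : Matrix (Fin d) (Fin d) F,
      (u : Matrix (Fin k → Fin d) (Fin k → Fin d) F) * slotMatrix i a *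
        ((u⁻¹ : GL (Fin k → Fin d) F) : Matrix (Fin k → Fin d) (Fin k → Fin d) F) =
        slotMatrix i ((b : Matrix (Fin d) (Fin d) F) * a *
          ((b⁻¹ : GL (Fin d) F) : Matrix (Fin d) (Fin d) F)) := by
  choose ψ hψ using hu
  have hinv : ((u⁻¹ : GL (Fin k → Fin d) F) : Matrix (Fin k → Fin d) (Fin k → Fin d) F) *
      (u : Matrix (Fin k → Fin d) (Fin k → Fin d) F) = 1 := by
    rw [← Units.val_mul, inv_mul_cancel, Units.val_one]
  have hinv' : (u : Matrix (Fin k → Fin d) (Fin k → Fin d) F) *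
      ((u⁻¹ : GL (Fin k → Fin d) F) : Matrix (Fin k → Fin d) (Fin k → Fin d) F) = 1 := by
    rw [← Units.val_mul, mul_inv_cancel, Units.val_one]
  let φ : Matrix (Fin d) (Fin d) F →ₐ[F] Matrix (Fin d) (Fin d) F :=
    { toFun := ψ
      map_one' := by
        apply slot_injective i
        rw [← hψ, slot_one, mul_one, hinv']
      map_mul' := by
        intro a b
        apply slot_injective i
        rw [← hψ, ← slot_mul, ← slot_mul, ← hψ, ← hψ]
        calc (u : Matrix (Fin k → Fin d) (Fin k → Fin d) F) * (slotMatrix i a * slotMatrix i b) *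
              ((u⁻¹ : GL (Fin k → Fin d) F) : Matrix (Fin k → Fin d) (Fin k → Fin d) F)
            = (u : Matrix (Fin k → Fin d) (Fin k → Fin d) F) * slotMatrix i a * 1 * slotMatrix i b *
              ((u⁻¹ : GL (Fin k → Fin d) F) : Matrix (Fin k → Fin d) (Fin k → Fin d) F) := by
              simp only [mul_one, mul_assoc]
          _ = _ := by rw [← hinv]; simp only [mul_assoc]
      map_zero' := by
        apply slot_injective i
        rw [← hψ, slot_zero, mul_zero, zero_mul]
      map_add' := by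
        intro a b
        apply slot_injective i
        rw [← hψ, slot_add, slot_add, ← hψ, ← hψ, mul_add, add_mul]
      commutes' := by
        intro r
        apply slot_injective i
        rw [← hψ, Algebra.algebraMap_eq_smul_one, slot_smul, slot_one, Matrix.mul_smul, mul_one,
          Matrix.smul_mul, hinv'] }
  obtain ⟨T, hT⟩ := Cfsg.Agent.Lib.Helper54.SkolemNoether.exists_conj_of_algHom φ
  refine ⟨T, fun a => ?_⟩
  rw [hψ a]
  congr 1
  exact hT a

/-! ### pure tensors as invertible matrices -/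

/-- the pure tensor of invertible matrices -/
def tGL (as : Fin k → GL (Fin d) F) : GL (Fin k → Fin d) F :=
  ⟨pureT (fun i => ((as i : GL (Fin d) F) : Matrix (Fin d) (Fin d) F)),
   pureT (fun i => (((as i)⁻¹ : GL (Fin d) F) : Matrix (Fin d) (Fin d) F)),
   by
    rw [pureT_mul, ← pureT_one]
    congr 1
    funext i
    rw [← Units.val_mul, mul_inv_cancel, Units.val_one],
   by
    rw [pureT_mul, ← pureT_one]
    congr 1
    funext i
    rw [← Units.val_mul, inv_mul_cancel, Units.val_one]⟩

theorem tGL_conj_slot (as : Fin k → GL (Fin d) F) (i : Fin k) (a : Matrix (Fin d) (Fin d) F) :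
    ((tGL as : GL (Fin k → Fin d) F) : Matrix (Fin k → Fin d) (Fin k → Fin d) F) * slotMatrix i a *
      (((tGL as)⁻¹ : GL (Fin k → Fin d) F) : Matrix (Fin k → Fin d) (Fin k → Fin d) F) =
      slotMatrix i (((as i : GL (Fin d) F) : Matrix (Fin d) (Fin d) F) * a *
        (((as i)⁻¹ : GL (Fin d) F) : Matrix (Fin d) (Fin d) F)) := by
  show pureT _ * slotMatrix i a * pureT _ = _
  rw [slot_eq_pureT, slot_eq_pureT, pureT_mul, pureT_mul]
  congr 1
  funext j
  by_cases hj : j = i
  · subst hj
    simp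
  · simp only [Function.update_of_ne hj, mul_one]
    rw [← Units.val_mul, mul_inv_cancel, Units.val_one]

/-! ### the commutant of all slot algebras is scalar -/

theorem commute_pureT (c : Matrix (Fin k → Fin d) (Fin k → Fin d) F)
    (hc : ∀ (i : Fin k) (a : Matrix (Fin d) (Fin d) F), c * slotMatrix i a = slotMatrix i a * c)
    (gs : Fin k → Matrix (Fin d) (Fin d) F) : c * pureT gs = pureT gs * c := by
  classical
  have key : ∀ s : Finset (Fin k), ∀ gs : Fin k → Matrix (Fin d) (Fin d) F,
      (∀ j, j ∉ s → gs j = 1) → c * pureT gs = pureT gs * c := by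
    intro s
    induction s using Finset.induction_on with
    | empty =>
      intro gs hgs
      have : gs = fun _ => 1 := funext (fun j => hgs j (Finset.notMem_empty j))
      rw [this, pureT_one, mul_one, one_mul]
    | insert i s hi ih =>
      intro gs hgs
      have hsplit : pureT gs = pureT (Function.update gs i 1) * slotMatrix i (gs i) := by
        rw [slot_eq_pureT, pureT_mul]
        congr 1
        funext j
        by_cases hj : j = i
        · subst hj; simp
        · simp [Function.update_of_ne hj]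
      have h1 := ih (Function.update gs i 1) (by
        intro j hj
        by_cases hji : j = i
        · subst hji; simp
        · rw [Function.update_of_ne hji]
          exact hgs j (fun h => (Finset.mem_insert.1 h).elim hji hj))
      rw [hsplit, ← mul_assoc, h1, mul_assoc, hc, ← mul_assoc]
  exact key Finset.univ gs (fun j hj => absurd (Finset.mem_univ j) hj)

theorem single_eq_pureT (x z : Fin k → Fin d) :
    Matrix.single x z (1 : F) = pureT (fun i => Matrix.single (x i) (z i) (1 : F)) := by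
  ext u v
  simp only [pureT, Matrix.single_apply]
  rw [Fintype.prod_boole]
  congr 1
  apply propext
  constructor
  · rintro ⟨rfl, rfl⟩ i
    exact ⟨rfl, rfl⟩
  · intro h
    exact ⟨funext (fun i => (h i).1), funext (fun i => (h i).2)⟩

theorem scalar_of_commute (c : Matrix (Fin k → Fin d) (Fin k → Fin d) F)
    (hc : ∀ (i : Fin k) (a : Matrix (Fin d) (Fin d) F), c * slotMatrix i a = slotMatrix i a * c) :
    ∃ l : F, c = l • (1 : Matrix (Fin k → Fin d) (Fin k → Fin d) F) := by
  have h := Matrix.mem_range_scalar_of_commute_single (M := c) (fun x z _ => by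
    show Matrix.single x z (1 : F) * c = c * Matrix.single x z (1 : F)
    rw [single_eq_pureT, commute_pureT c hc])
  obtain ⟨l, hl⟩ := h
  refine ⟨l, ?_⟩
  rw [← hl]
  ext x y
  simp [Matrix.scalar_apply, Matrix.diagonal_apply, Matrix.one_apply]

/-! ### the main theorem -/

theorem units_conj_comm {M : Type*} [Monoid M] (u t : Mˣ) (s : M)
    (h : (u : M) * s * ((u⁻¹ : Mˣ) : M) = (t : M) * s * ((t⁻¹ : Mˣ) : M)) :
    ((t⁻¹ * u : Mˣ) : M) * s = s * ((t⁻¹ * u : Mˣ) : M) := by
  rw [Units.val_mul]
  calc ((t⁻¹ : Mˣ) : M) * (u : M) * s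
      = ((t⁻¹ : Mˣ) : M) * ((u : M) * s * ((u⁻¹ : Mˣ) : M)) * (u : M) := by
        simp only [mul_assoc, Units.inv_mul, mul_one]
    _ = ((t⁻¹ : Mˣ) : M) * ((t : M) * s * ((t⁻¹ : Mˣ) : M)) * (u : M) := by rw [h]
    _ = s * (((t⁻¹ : Mˣ) : M) * (u : M)) := by
        simp only [← mul_assoc, Units.inv_mul, one_mul]

theorem permM_inv_mul (τ : Equiv.Perm (Fin k)) :
    (permM τ⁻¹ : Matrix (Fin k → Fin d) (Fin k → Fin d) F) * permM τ = 1 := by
  simpa using permM_mul_inv (d := d) (F := F) τ⁻¹

theorem slotnorm_main (hk : 0 < k) (g : GL (Fin k → Fin d) F) (σ : Equiv.Perm (Fin k))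
    (hg : ∀ i (a : Matrix (Fin d) (Fin d) F), ∃ a' : Matrix (Fin d) (Fin d) F,
      (g : Matrix (Fin k → Fin d) (Fin k → Fin d) F) * slotMatrix i a *
        ((g⁻¹ : GL (Fin k → Fin d) F) : Matrix (Fin k → Fin d) (Fin k → Fin d) F) =
        slotMatrix (σ i) a') :
    g ∈ tensorWreathStandard d k F := by
  classical
  rcases Nat.eq_zero_or_pos d with hd | hd
  · subst hd
    have hE : IsEmpty (Fin k → Fin 0) := ⟨fun x => (x ⟨0, hk⟩).elim0⟩
    have h1 : g = 1 := by
      apply Units.ext
      ext x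
      exact isEmptyElim x
    rw [h1]
    exact Subgroup.one_mem _
  have hg' : ∀ i (a : Matrix (Fin d) (Fin d) F), ∃ a' : Matrix (Fin d) (Fin d) F,
      (((permGL σ)⁻¹ * g : GL (Fin k → Fin d) F) : Matrix (Fin k → Fin d) (Fin k → Fin d) F) *
        slotMatrix i a *
        ((((permGL σ)⁻¹ * g)⁻¹ : GL (Fin k → Fin d) F) :
          Matrix (Fin k → Fin d) (Fin k → Fin d) F) = slotMatrix i a' := by
    intro i a
    obtain ⟨a', ha'⟩ := hg i a
    refine ⟨a', ?_⟩
    rw [mul_inv_rev, inv_inv, Units.val_mul, Units.val_mul, permGL_inv_val, permGL_val]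
    calc (permM σ⁻¹ : Matrix (Fin k → Fin d) (Fin k → Fin d) F) *
          (g : Matrix (Fin k → Fin d) (Fin k → Fin d) F) * slotMatrix i a *
          (((g⁻¹ : GL (Fin k → Fin d) F) : Matrix (Fin k → Fin d) (Fin k → Fin d) F) * permM σ)
        = permM σ⁻¹ * ((g : Matrix (Fin k → Fin d) (Fin k → Fin d) F) * slotMatrix i a *
          ((g⁻¹ : GL (Fin k → Fin d) F) : Matrix (Fin k → Fin d) (Fin k → Fin d) F)) *
            permM σ := by simp only [mul_assoc]
      _ = permM σ⁻¹ * (permM σ * slotMatrix i a' * permM σ⁻¹) * permM σ := by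
          rw [ha', perm_conj_slot]
      _ = (permM σ⁻¹ * permM σ) * slotMatrix i a' * (permM σ⁻¹ * permM σ) := by
          simp only [mul_assoc]
      _ = slotMatrix i a' := by rw [permM_inv_mul, one_mul, mul_one]
  have hb := fun i => slot_conj_inner i _ (hg' i)
  choose as has using hb
  have hcomm : ∀ i (a : Matrix (Fin d) (Fin d) F),
      (((tGL as)⁻¹ * ((permGL σ)⁻¹ * g) : GL (Fin k → Fin d) F) :
        Matrix (Fin k → Fin d) (Fin k → Fin d) F) * slotMatrix i a =
      slotMatrix i a * (((tGL as)⁻¹ * ((permGL σ)⁻¹ * g) : GL (Fin k → Fin d) F) :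
        Matrix (Fin k → Fin d) (Fin k → Fin d) F) := by
    intro i a
    have h1 := has i a
    rw [← tGL_conj_slot as i a] at h1
    exact units_conj_comm _ (tGL as) (slotMatrix i a) h1
  obtain ⟨l, hl⟩ := scalar_of_commute _ hcomm
  have hl0 : l ≠ 0 := by
    rintro rfl
    rw [zero_smul] at hl
    have h2 : (((tGL as)⁻¹ * ((permGL σ)⁻¹ * g) : GL (Fin k → Fin d) F) *
        ((tGL as)⁻¹ * ((permGL σ)⁻¹ * g))⁻¹ : GL (Fin k → Fin d) F) = 1 := mul_inv_cancel _
    have h3 := congrArg (fun u : GL (Fin k → Fin d) F =>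
      (u : Matrix (Fin k → Fin d) (Fin k → Fin d) F)) h2
    simp only [Units.val_mul, hl, zero_mul, Units.val_one] at h3
    have h4 := congrFun (congrFun h3 (fun _ => ⟨0, hd⟩)) (fun _ => ⟨0, hd⟩)
    simp at h4
  have hcP : IsPureTensor d k ((tGL as)⁻¹ * ((permGL σ)⁻¹ * g)) := by
    let s : GL (Fin d) F := ⟨l • 1, l⁻¹ • 1, by
      rw [Matrix.smul_mul, Matrix.one_mul, smul_smul, mul_inv_cancel₀ hl0, one_smul], by
      rw [Matrix.smul_mul, Matrix.one_mul, smul_smul, inv_mul_cancel₀ hl0, one_smul]⟩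
    refine ⟨fun i => if i = (⟨0, hk⟩ : Fin k) then s else 1, fun x y => ?_⟩
    have h5 : (((tGL as)⁻¹ * ((permGL σ)⁻¹ * g) : GL (Fin k → Fin d) F) :
        Matrix (Fin k → Fin d) (Fin k → Fin d) F) =
        pureT (fun i => (((if i = (⟨0, hk⟩ : Fin k) then s else 1 : GL (Fin d) F)) :
          Matrix (Fin d) (Fin d) F)) := by
      rw [hl, ← slot_one (⟨0, hk⟩ : Fin k), ← slot_smul, slot_eq_pureT]
      congr 1
      funext j
      by_cases hj : j = (⟨0, hk⟩ : Fin k)
      · subst hj
        simp [s]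
      · simp [hj, Function.update_of_ne hj]
    rw [h5]
    rfl
  have hgen : ∀ u : GL (Fin k → Fin d) F, (IsPureTensor d k u ∨ IsFactorPermutation d k u) →
      u ∈ tensorWreathStandard d k F := fun u hu => Subgroup.subset_closure hu
  have hgeq : g = permGL σ * (tGL as * ((tGL as)⁻¹ * ((permGL σ)⁻¹ * g))) := by group
  rw [hgeq]
  exact Subgroup.mul_mem _ (hgen _ (Or.inr ⟨σ, fun x y => rfl⟩))
    (Subgroup.mul_mem _ (hgen _ (Or.inl ⟨as, fun x y => rfl⟩)) (hgen _ (Or.inl hcP)))

end Cfsg.Agent.Lib.Helper47.AschSlotNorm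

namespace Cfsg.Agent.Lib.Helper99.Asch

open Cfsg Cfsg.Geo
open scoped MatrixGroups Matrix Kronecker

variable {n : ℕ} {F : Type*} [Field F] [Fintype F]

/-- ASCH-[SLOTNORM] (sheet statement plus the necessary hypothesis `0 < k`) -/
theorem mem_tensorWreathStandard_of_permutes_slots {k d : ℕ} (hk : 0 < k)
    (g : GL (Fin k → Fin d) F) (σ : Equiv.Perm (Fin k))
    (hg : ∀ i (a : Matrix (Fin d) (Fin d) F), ∃ a' : Matrix (Fin d) (Fin d) F,
      (g : Matrix (Fin k → Fin d) (Fin k → Fin d) F) * slotMatrix i a *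
        ((g⁻¹ : GL (Fin k → Fin d) F) : Matrix (Fin k → Fin d) (Fin k → Fin d) F) =
        slotMatrix (σ i) a') :
    g ∈ tensorWreathStandard d k F :=
  Cfsg.Agent.Lib.Helper47.AschSlotNorm.slotnorm_main hk g σ hg

end Cfsg.Agent.Lib.Helper99.Asch
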