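import Mathlib
import Cfsg.Prelude.Def_PLocal
import Cfsg.Prelude.Def_ConjugacyFunctors
import Cfsg.Agent.Lib.Helper50.LargeAbelian
import Cfsg.Agent.S0651

/-!
Helper47 library: the abelian-version Thompson subgroup `J(P)` (generated by the abelian subgroups of
largest order): functoriality, the description inside an ambient group, and Thompson's replacement
theorem for an abelian normal subgroup (all primes).
-/

set_option autoImplicit false

namespace Cfsg.Agent.Lib.Helper47

open Cfsg

universe u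

section functor

variable {G : Type u} [Group G]

theorem map_mem_maxAbelianSubgroups {H : Type u} [Group H] (e : G ≃* H) {A : Subgroup G}
    (hA : A ∈ maxAbelianSubgroups G) : A.map e.toMonoidHom ∈ maxAbelianSubgroups H := by
  obtain ⟨hA1, hA2⟩ := hA
  refine ⟨Subgroup.map_isMulCommutative _ _, fun B hB => ?_⟩
  have h1 : Nat.card (B.map e.symm.toMonoidHom) = Nat.card B :=
    Subgroup.card_map_of_injective e.symm.injective
  have h2 : Nat.card (A.map e.toMonoidHom) = Nat.card A :=
    Subgroup.card_map_of_injective e.injective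
  rw [h2, ← h1]
  exact hA2 _ (Subgroup.map_isMulCommutative _ _)

theorem thompsonSubgroupA_map_equiv {H : Type u} [Group H] (e : G ≃* H) :
    (thompsonSubgroupA G).map e.toMonoidHom = thompsonSubgroupA H := by
  apply le_antisymm
  · unfold thompsonSubgroupA
    rw [(Subgroup.gc_map_comap e.toMonoidHom).l_sSup]
    refine iSup₂_le fun A hA => ?_
    exact le_sSup (map_mem_maxAbelianSubgroups e hA)
  · unfold thompsonSubgroupA
    refine sSup_le fun B hB => ?_
    have hB' := map_mem_maxAbelianSubgroups e.symm hB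
    have : B = (B.map e.symm.toMonoidHom).map e.toMonoidHom := by
      rw [Subgroup.map_map]
      have : e.toMonoidHom.comp e.symm.toMonoidHom = MonoidHom.id H := by
        ext x; simp
      rw [this, Subgroup.map_id]
    rw [this]
    exact Subgroup.map_mono (le_sSup hB')

theorem thompsonSubgroupA_ne_bot [Finite G] [Nontrivial G] : thompsonSubgroupA G ≠ ⊥ := by
  obtain ⟨A, hA⟩ := Cfsg.Agent.Lib.Helper50.exists_mem_maxAbelianSubgroups G
  obtain ⟨x, hx⟩ := exists_ne (1 : G)
  intro hbot
  have hAle : A ≤ ⊥ := hbot ▸ (le_sSup hA : A ≤ thompsonSubgroupA G)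
  have hAbot : A = ⊥ := le_bot_iff.mp hAle
  have hz : IsMulCommutative ↥(Subgroup.zpowers x) := inferInstance
  have hcard := hA.2 _ hz
  rw [hAbot, Subgroup.card_bot] at hcard
  have h1 : Nat.card (Subgroup.zpowers x) = 1 := le_antisymm hcard Nat.card_pos
  rw [Subgroup.card_eq_one] at h1
  apply hx
  have : x ∈ Subgroup.zpowers x := Subgroup.mem_zpowers x
  rw [h1] at this
  exact this

theorem isCharPFunctor_thompsonA (p : ℕ) :
    IsCharPFunctor.{u} p (fun (Q : Type u) [Group Q] => thompsonSubgroupA Q) := by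
  refine ⟨fun Q _ _ _ hnt => ?_, fun Q R _ _ _ _ φ => thompsonSubgroupA_map_equiv φ⟩
  exact thompsonSubgroupA_ne_bot

theorem inducedFunctor_thompsonA (P : Subgroup G) :
    inducedFunctor (fun (Q : Type u) [Group Q] => thompsonSubgroupA Q) P = thompsonSubgroupAOf P :=
  rfl

end functor

section ambient

variable {G : Type*} [Group G]

/-- The abelian subgroups of `T` of largest order, as subgroups of the ambient group. -/
def maxAbIn (T : Subgroup G) : Set (Subgroup G) :=
  {A | A ≤ T ∧ IsMulCommutative A ∧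
    ∀ B : Subgroup G, B ≤ T → IsMulCommutative B → Nat.card B ≤ Nat.card A}

theorem mem_maxAbIn_iff [Finite G] (T A : Subgroup G) :
    A ∈ maxAbIn T ↔ ∃ A' ∈ maxAbelianSubgroups ↥T, A'.map T.subtype = A := by
  have := Cfsg.Agent.S0651.mem_image_maxAbelian T A
  simp only [Set.mem_image] at this
  rw [this]
  rfl

theorem map_mem_maxAbIn [Finite G] (T : Subgroup G) {A' : Subgroup ↥T}
    (hA' : A' ∈ maxAbelianSubgroups ↥T) : A'.map T.subtype ∈ maxAbIn T :=
  (mem_maxAbIn_iff T _).mpr ⟨A', hA', rfl⟩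

theorem maxAbIn_nonempty [Finite G] (T : Subgroup G) : (maxAbIn T).Nonempty := by
  obtain ⟨A, hA⟩ := Cfsg.Agent.Lib.Helper50.exists_mem_maxAbelianSubgroups ↥T
  exact ⟨_, map_mem_maxAbIn T hA⟩

theorem thompsonSubgroupAOf_eq_sSup [Finite G] (T : Subgroup G) :
    thompsonSubgroupAOf T = sSup (maxAbIn T) := by
  unfold thompsonSubgroupAOf thompsonSubgroupA
  rw [(Subgroup.gc_map_comap T.subtype).l_sSup]
  apply le_antisymm
  · refine iSup₂_le fun A hA => ?_
    exact le_sSup (map_mem_maxAbIn T hA)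
  · refine sSup_le fun A hA => ?_
    obtain ⟨A', hA', rfl⟩ := (mem_maxAbIn_iff T A).mp hA
    exact le_iSup₂ (f := fun (B : Subgroup ↥T) (_ : B ∈ maxAbelianSubgroups ↥T) => B.map T.subtype)
      A' hA'

theorem le_thompsonSubgroupAOf [Finite G] {T A : Subgroup G} (hA : A ∈ maxAbIn T) :
    A ≤ thompsonSubgroupAOf T := by
  rw [thompsonSubgroupAOf_eq_sSup]
  exact le_sSup hA

theorem thompsonSubgroupAOf_le_of_forall [Finite G] {T U : Subgroup G}
    (h : ∀ A ∈ maxAbIn T, A ≤ U) : thompsonSubgroupAOf T ≤ U := by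
  rw [thompsonSubgroupAOf_eq_sSup]
  exact sSup_le h

theorem thompsonSubgroupAOf_le' (T : Subgroup G) : thompsonSubgroupAOf T ≤ T := by
  unfold thompsonSubgroupAOf
  exact Subgroup.map_subtype_le _

/-- If `J(T) ≤ U ≤ T` then `J(U) = J(T)`. -/
theorem thompsonSubgroupAOf_eq_of_le_of_le [Finite G] {T U : Subgroup G} (hUT : U ≤ T)
    (hJU : thompsonSubgroupAOf T ≤ U) : thompsonSubgroupAOf U = thompsonSubgroupAOf T := by
  obtain ⟨A₀, hA₀⟩ := maxAbIn_nonempty T
  have hA₀U : A₀ ≤ U := (le_thompsonSubgroupAOf hA₀).trans hJU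
  have hsets : maxAbIn U = maxAbIn T := by
    ext A
    constructor
    · intro hA
      refine ⟨hA.1.trans hUT, hA.2.1, fun B hBT hB => ?_⟩
      exact (hA₀.2.2 B hBT hB).trans (hA.2.2 A₀ hA₀U hA₀.2.1)
    · intro hA
      exact ⟨(le_thompsonSubgroupAOf hA).trans hJU, hA.2.1,
        fun B hBU hB => hA.2.2 B (hBU.trans hUT) hB⟩
  rw [thompsonSubgroupAOf_eq_sSup, thompsonSubgroupAOf_eq_sSup, hsets]

/-- An abelian subgroup of `T` of largest order contains every abelian subgroup of `T` commuting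
with it. -/
theorem le_of_mem_maxAbIn_of_commute [Finite G] {T A B : Subgroup G} (hA : A ∈ maxAbIn T)
    (hBT : B ≤ T) (hB : IsMulCommutative B) (hAB : B ≤ Subgroup.centralizer (A : Set G)) :
    B ≤ A := by
  have hsup : IsMulCommutative ↥(B ⊔ A) :=
    Cfsg.Agent.Lib.Helper50.isMulCommutative_sup B A hB hA.2.1 hAB
  have hcard := hA.2.2 _ (sup_le hBT hA.1) hsup
  have : A = B ⊔ A := Subgroup.eq_of_le_of_card_ge le_sup_right hcard
  rw [this]
  exact le_sup_left

end ambient

section replacement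

open Cfsg.Agent.Lib.Helper11

/-- Thompson's replacement theorem (type form, all primes): in a finite `p`-group `S` with an abelian
normal subgroup `B` not contained in some abelian subgroup of largest order, some abelian subgroup of
largest order does not contain `B` and is normalized by `B`. -/
theorem thompson_replacement_type {S : Type*} [Group S] [Finite S] {p : ℕ} [Fact p.Prime]
    (hS : IsPGroup p S) (B : Subgroup S) [B.Normal] (hB : IsMulCommutative B)
    (hex : ∃ U ∈ maxAbelianSubgroups S, ¬ B ≤ U) :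
    ∃ A ∈ maxAbelianSubgroups S, ¬ B ≤ A ∧ B ≤ Subgroup.normalizer (A : Set S) := by
  have hBB : ⁅B, B⁆ = ⊥ := by
    rw [Subgroup.commutator_eq_bot_iff_le_centralizer]
    exact (Cfsg.Agent.Lib.Helper50.isMulCommutative_iff_le_centralizer B).mp hB
  have hB2 : p = 2 → IsMulCommutative B := fun _ => hB
  obtain ⟨A, hA, -, h2, h3⟩ := Cfsg.Agent.S0651.replacement_max hS (maxAbelianSubgroups S) B hB2
    (fun A hA => hA.1)
    (fun A hA b hb hBA hbN hbA =>
      ⟨starA_isMulCommutative hS A B b hB2 hA.1 hBA hb hbN, fun V hV => by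
        rw [card_starA hS A B b hB2 hA.1 hBA hb hbN]
        exact hA.2 V hV⟩)
    (by
      obtain ⟨U, hU, hBU⟩ := hex
      exact ⟨U, hU, by rw [hBB]; exact bot_le, hBU⟩)
  exact ⟨A, hA, h2, h3⟩

/-- Thompson's replacement theorem inside an ambient group: `T` a `p`-subgroup, `V ≤ T` abelian and
normalized by `T`; if some abelian subgroup of `T` of largest order does not contain `V`, then one of
them does not contain `V` and is normalized by `V`. -/
theorem thompson_replacement_in {G : Type*} [Group G] [Finite G] {p : ℕ} [Fact p.Prime]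
    (T V : Subgroup G) (hT : IsPGroup p T) (hVT : V ≤ T)
    (hVn : T ≤ Subgroup.normalizer (V : Set G)) (hV : IsMulCommutative V)
    (hex : ∃ U ∈ maxAbIn T, ¬ V ≤ U) :
    ∃ A ∈ maxAbIn T, ¬ V ≤ A ∧ V ≤ Subgroup.normalizer (A : Set G) := by
  have hBn : (V.subgroupOf T).Normal := Subgroup.normal_subgroupOf_of_le_normalizer hVn
  have hBc : IsMulCommutative (V.subgroupOf T) := inferInstance
  have hmapB : (V.subgroupOf T).map T.subtype = V := Subgroup.map_subgroupOf_eq_of_le hVT
  have hex' : ∃ U ∈ maxAbelianSubgroups ↥T, ¬ V.subgroupOf T ≤ U := by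
    obtain ⟨U, hU, hVU⟩ := hex
    obtain ⟨U', hU', rfl⟩ := (mem_maxAbIn_iff T U).mp hU
    refine ⟨U', hU', fun hle => hVU ?_⟩
    rw [← hmapB]
    exact Subgroup.map_mono hle
  obtain ⟨A, hA, h2, h3⟩ := thompson_replacement_type hT (V.subgroupOf T) hBc hex'
  refine ⟨A.map T.subtype, map_mem_maxAbIn T hA, ?_, ?_⟩
  · intro hle
    apply h2
    intro x hx
    have hx' : (x : G) ∈ V := Subgroup.mem_subgroupOf.mp hx
    obtain ⟨y, hy, hyx⟩ := hle hx'
    have : y = x := Subtype.ext hyx
    rwa [← this]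
  · intro v hv
    have hvT : v ∈ T := hVT hv
    have h4 := h3 (Subgroup.mem_subgroupOf.mpr (show ((⟨v, hvT⟩ : ↥T) : G) ∈ V from hv))
    rw [Subgroup.mem_normalizer_iff] at h4 ⊢
    intro g
    constructor
    · rintro ⟨a, ha, rfl⟩
      exact ⟨⟨v, hvT⟩ * a * ⟨v, hvT⟩⁻¹, (h4 a).mp ha, rfl⟩
    · rintro ⟨a, ha, hag⟩
      have hgT : g ∈ T := by
        have h5 : g = v⁻¹ * (a : G) * v := by
          have : (a : G) = v * g * v⁻¹ := hag
          rw [this]; group
        rw [h5]
        exact T.mul_mem (T.mul_mem (T.inv_mem hvT) a.2) hvT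
      refine ⟨⟨g, hgT⟩, ?_, rfl⟩
      have : (⟨v, hvT⟩ : ↥T) * ⟨g, hgT⟩ * (⟨v, hvT⟩ : ↥T)⁻¹ = a := Subtype.ext hag.symm
      have h6 : (⟨g, hgT⟩ : ↥T) ∈ A := by
        rw [h4 ⟨g, hgT⟩, this]
        exact ha
      exact h6

end replacement

end Cfsg.Agent.Lib.Helper47
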