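import Mathlib
import Cfsg.Agent.Lib.Lead.Thompson.Local
import Cfsg.Agent.Lib.Helper47.ThompsonA
import Cfsg.Agent.Lib.Helper34.ThompsonSections
import Cfsg.Agent.S0056

/-!
Helper47 library: the local step of Thompson's normal `p`-complement theorem for the abelian-version
Thompson subgroup: common part and the case of odd `p`.
-/

set_option autoImplicit false

namespace Cfsg.Agent.Lib.Helper47

open Cfsg Cfsg.Agent.Lib.Lead.Thompson
open scoped commutatorElement

universe u

section common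

variable {Y : Type u} [Group Y] [Finite Y] {p : ℕ} [Fact p.Prime]

/-- `C_Y(Ω₁(Z(O_p(Y)))) ≤ O_p(Y)` when `C_Y(O_p(Y)) ≤ O_p(Y)` and `C_Y(Z(T))` has a normal
`p`-complement (all primes). -/
theorem centralizer_omegaZ_le'
    (hC : Subgroup.centralizer ((pCore p Y : Subgroup Y) : Set Y) ≤ pCore p Y) (T : Sylow p Y)
    (hZ : HasNormalPComplement p ↥(Subgroup.centralizer
      (((T : Subgroup Y) ⊓ Subgroup.centralizer ((T : Subgroup Y) : Set Y) : Subgroup Y) : Set Y))) :
    Subgroup.centralizer ((omegaZ p (pCore p Y) : Subgroup Y) : Set Y) ≤ pCore p Y := by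
  have hpp : p.Prime := Fact.out
  set U := pCore p Y with hUdef
  have hUn : U.Normal := Cfsg.pCore_normal p Y
  have hUp : IsPGroup p U := Cfsg.Agent.Lib.Helper97.isPGroup_pCore p Y
  have hUT : U ≤ (T : Subgroup Y) := Cfsg.Agent.Lib.Helper97.pCore_le_sylow' T
  set V := omegaZ p U with hVdef
  have hVn : V.Normal := omegaZ_normal p U
  have hNn : (Subgroup.centralizer (V : Set Y)).Normal := inferInstance
  apply Cfsg.Agent.Lib.Helper97.le_pCore_of_normal hNn
  apply isPGroup_of_forall_coprime_eq_one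
  intro y hy hcop
  -- `Z = Z(U)`
  set Z := U ⊓ Subgroup.centralizer (U : Set Y) with hZdef
  have hZn : Z.Normal := inferInstance
  have hZp : IsPGroup p Z := hUp.to_le inf_le_left
  have hZc : IsMulCommutative Z := by
    refine ⟨⟨?_⟩⟩
    rintro ⟨a, ha⟩ ⟨b, hb⟩
    apply Subtype.ext
    show a * b = b * a
    exact Subgroup.mem_centralizer_iff.mp hb.2 a ha.1
  have hcent : Subgroup.zpowers y ≤ Subgroup.centralizer (Z : Set Y) := by
    apply Cfsg.Agent.S0056.result (Subgroup.zpowers y) Z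
    · rw [Subgroup.normalizer_eq_top]; exact le_top
    · rw [Nat.card_zpowers]
      obtain ⟨k, hk⟩ := hZp.exists_card_eq
      rw [hk]
      exact Nat.Coprime.pow_right k hcop
    · intro v hv hvprime a ha
      obtain ⟨k, rfl⟩ := Subgroup.mem_zpowers_iff.mp ha
      have hvV : v ∈ V := by
        refine ⟨hv.1, fun u hu => Subgroup.mem_centralizer_iff.mp hv.2 u hu, ?_⟩
        obtain ⟨j, hj⟩ := (IsPGroup.iff_orderOf.mp hZp) ⟨v, hv⟩
        rw [Subgroup.orderOf_mk] at hj
        have : orderOf v = p := by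
          rw [hj] at hvprime
          rcases j with _ | j
          · simp at hvprime
            exact absurd hvprime Nat.not_prime_one
          · have h1 : p ∣ p ^ (j + 1) := dvd_pow_self p (Nat.succ_ne_zero j)
            rw [hj]
            exact ((Nat.prime_dvd_prime_iff_eq hpp hvprime).mp h1).symm
        rw [← this]
        exact pow_orderOf_eq_one v
      have h1 : y * v = v * y := (Subgroup.mem_centralizer_iff.mp hy v hvV).symm
      exact ((Commute.zpow_left h1 k : Commute (y ^ k) v)).eq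
  have hcent' : ∀ z ∈ Z, z * y = y * z := fun z hz =>
    Subgroup.mem_centralizer_iff.mp (hcent (Subgroup.mem_zpowers y)) z hz
  -- `Z(T) ≤ Z(U)`
  set ZT := (T : Subgroup Y) ⊓ Subgroup.centralizer ((T : Subgroup Y) : Set Y) with hZTdef
  have hZTZ : ZT ≤ Z := by
    intro z hz
    have h1 : z ∈ Subgroup.centralizer (U : Set Y) := Subgroup.centralizer_le hUT hz.2
    exact ⟨hC h1, h1⟩
  set M := Subgroup.centralizer (ZT : Set Y) with hMdef
  have hyM : y ∈ M := by
    rw [Subgroup.mem_centralizer_iff]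
    intro z hz
    exact hcent' z (hZTZ hz)
  have hUM : U ≤ M := by
    intro u hu
    rw [Subgroup.mem_centralizer_iff]
    intro z hz
    exact (Subgroup.mem_centralizer_iff.mp (hZTZ hz).2 u hu).symm
  obtain ⟨M₀, hM₀n, hM₀cop, k, hk⟩ := Cfsg.Agent.Lib.Helper34.hasNPC_iff_exists_normal.mp hZ
  have hy'M₀ : (⟨y, hyM⟩ : ↥M) ∈ M₀ := by
    have hle := Cfsg.Agent.Lib.Helper34.le_of_card_coprime_of_index_pow M₀ hk
      (Subgroup.zpowers (⟨y, hyM⟩ : ↥M)) (by
        rw [Nat.card_zpowers, Subgroup.orderOf_mk]; exact hcop)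
    exact hle (Subgroup.mem_zpowers _)
  -- `y` centralizes `U`
  have hyU : y ∈ Subgroup.centralizer (U : Set Y) := by
    rw [Subgroup.mem_centralizer_iff]
    intro u hu
    have h1 : (⟨u, hUM hu⟩ : ↥M) * ⟨y, hyM⟩ * (⟨u, hUM hu⟩ : ↥M)⁻¹ * (⟨y, hyM⟩ : ↥M)⁻¹ ∈ M₀ :=
      M₀.mul_mem (hM₀n.conj_mem _ hy'M₀ _) (M₀.inv_mem hy'M₀)
    have h2 : u * y * u⁻¹ * y⁻¹ ∈ M₀.map M.subtype := ⟨_, h1, rfl⟩
    have h3 : u * y * u⁻¹ * y⁻¹ ∈ U := by
      have : u * y * u⁻¹ * y⁻¹ = u * (y * u⁻¹ * y⁻¹) := by group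
      rw [this]
      exact U.mul_mem hu (hUn.conj_mem _ (U.inv_mem hu) y)
    have hdisj : M₀.map M.subtype ⊓ U = ⊥ := by
      apply (Subgroup.disjoint_of_coprime_natCard ?_).eq_bot
      rw [Subgroup.card_map_of_injective M.subtype_injective]
      obtain ⟨a, ha⟩ := hUp.exists_card_eq
      rw [ha]
      exact Nat.Coprime.pow_right a hM₀cop
    have h4 : u * y * u⁻¹ * y⁻¹ ∈ M₀.map M.subtype ⊓ U := ⟨h2, h3⟩
    rw [hdisj, Subgroup.mem_bot] at h4
    calc u * y = (u * y * u⁻¹ * y⁻¹) * (y * u) := by group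
      _ = y * u := by rw [h4, one_mul]
  have hyUmem : y ∈ U := hC hyU
  obtain ⟨j, hj⟩ := (IsPGroup.iff_orderOf.mp hUp) ⟨y, hyUmem⟩
  rw [Subgroup.orderOf_mk] at hj
  have h5 : orderOf y = 1 := by
    have h6 : (orderOf y).Coprime (orderOf y) := by
      conv_rhs => rw [hj]
      exact Nat.Coprime.pow_right j hcop
    exact (Nat.coprime_self _).mp h6
  exact orderOf_eq_one_iff.mp h5

/-- If every abelian subgroup of `T` of largest order lies in `O_p(Y)`, then `J(T) ⊴ Y`. -/
theorem thompsonA_normal_of_forall_le (T : Sylow p Y)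
    (h : ∀ A ∈ maxAbIn (T : Subgroup Y), A ≤ pCore p Y) :
    (thompsonSubgroupAOf (T : Subgroup Y)).Normal := by
  set U := pCore p Y with hUdef
  have hUn : U.Normal := Cfsg.pCore_normal p Y
  have hUp : IsPGroup p U := Cfsg.Agent.Lib.Helper97.isPGroup_pCore p Y
  have hUT : U ≤ (T : Subgroup Y) := Cfsg.Agent.Lib.Helper97.pCore_le_sylow' T
  have hJU : thompsonSubgroupAOf (T : Subgroup Y) ≤ U := thompsonSubgroupAOf_le_of_forall h
  have hJeq := thompsonSubgroupAOf_eq_of_le_of_le hUT hJU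
  rw [← hJeq]
  have h6 := Cfsg.Agent.Lib.Helper34.normalizer_le_normalizer_inducedFunctor
    (fun (Q : Type u) [Group Q] => thompsonSubgroupA Q) (isCharPFunctor_thompsonA p) U hUp
  rw [inducedFunctor_thompsonA, Subgroup.normalizer_eq_top_iff.mpr hUn, top_le_iff] at h6
  exact Subgroup.normalizer_eq_top_iff.mp h6

/-- If some abelian subgroup of `T` of largest order is not in `C_Y(V) = O_p(Y)`, one of them acts
quadratically and nontrivially on `V`. -/
theorem exists_quadratic_maxAbIn (T : Sylow p Y) (V : Subgroup Y) [V.Normal]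
    (hVc : IsMulCommutative V) (hVT : V ≤ (T : Subgroup Y))
    (hex : ∃ A ∈ maxAbIn (T : Subgroup Y), ¬ A ≤ Subgroup.centralizer (V : Set Y)) :
    ∃ A ∈ maxAbIn (T : Subgroup Y), ¬ A ≤ Subgroup.centralizer (V : Set Y) ∧
      ⁅V, A⁆ ≤ A ∧ ⁅⁅V, A⁆, A⁆ = ⊥ := by
  obtain ⟨A', hA', hA'V⟩ := hex
  have hVA' : ¬ V ≤ A' := by
    intro hle
    apply hA'V
    have hc : A' ≤ Subgroup.centralizer (A' : Set Y) :=
      (Cfsg.Agent.Lib.Helper50.isMulCommutative_iff_le_centralizer A').mp hA'.2.1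
    exact hc.trans (Subgroup.centralizer_le hle)
  have hVn : (T : Subgroup Y) ≤ Subgroup.normalizer (V : Set Y) := by
    rw [Subgroup.normalizer_eq_top]; exact le_top
  obtain ⟨A, hA, hVA, hVNA⟩ := thompson_replacement_in (T : Subgroup Y) V T.isPGroup' hVT hVn hVc
    ⟨A', hA', hVA'⟩
  have h1 : ⁅V, A⁆ ≤ A := by
    rw [Subgroup.commutator_comm]
    exact Subgroup.le_normalizer_iff_commutator_le_left.mp hVNA
  refine ⟨A, hA, ?_, h1, ?_⟩
  · intro hle
    apply hVA
    apply le_of_mem_maxAbIn_of_commute hA hVT hVc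
    exact Subgroup.le_centralizer_iff.mp hle
  · rw [eq_bot_iff]
    calc ⁅⁅V, A⁆, A⁆ ≤ ⁅A, A⁆ := Subgroup.commutator_mono h1 le_rfl
      _ = ⊥ := by
        rw [Subgroup.commutator_eq_bot_iff_le_centralizer]
        exact (Cfsg.Agent.Lib.Helper50.isMulCommutative_iff_le_centralizer A).mp hA.2.1

end common

section odd

variable {Y : Type u} [Group Y] [Finite Y] {p : ℕ} [Fact p.Prime]

/-- The local step of Thompson's normal `p`-complement theorem, abelian-version `J`, `p` odd. -/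
theorem thompsonA_local_odd (hp : p ≠ 2)
    (hC : Subgroup.centralizer ((pCore p Y : Subgroup Y) : Set Y) ≤ pCore p Y)
    (hQ : HasNormalPComplement p (Y ⧸ pCore p Y)) (T : Sylow p Y)
    (hT : IsCoatom (T : Subgroup Y))
    (hZ : HasNormalPComplement p ↥(Subgroup.centralizer
      (((T : Subgroup Y) ⊓ Subgroup.centralizer ((T : Subgroup Y) : Set Y) : Subgroup Y) : Set Y))) :
    (thompsonSubgroupAOf (T : Subgroup Y)).Normal := by
  have hpp : p.Prime := Fact.out
  set U := pCore p Y with hUdef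
  have hUn : U.Normal := Cfsg.pCore_normal p Y
  have hUp : IsPGroup p U := Cfsg.Agent.Lib.Helper97.isPGroup_pCore p Y
  have hUT : U ≤ (T : Subgroup Y) := Cfsg.Agent.Lib.Helper97.pCore_le_sylow' T
  set V := omegaZ p U with hVdef
  have hVn : V.Normal := omegaZ_normal p U
  have hVel : IsElementaryAbelian p V := omegaZ_isElementaryAbelian p U
  have hCV : Subgroup.centralizer (V : Set Y) ≤ U := centralizer_omegaZ_le' hC T hZ
  have hUCV : U ≤ Subgroup.centralizer (V : Set Y) := le_centralizer_omegaZ p U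
  -- `p`-stability
  have hPA := Cfsg.Agent.Lib.Helper97.isPAbelianP_of_sylow_coatom hQ T hT
  have hst : IsPStableOn p V := Cfsg.Agent.Lib.Helper97.isPStableOn_of_isPAbelianP hp hPA V hVel
  -- quadratic elements lie in `U`
  have hquad : ∀ a : Y, ⁅⁅V, Subgroup.zpowers a⁆, Subgroup.zpowers a⁆ = ⊥ → a ∈ U := by
    intro a ha
    have h1 := hst a ha
    set D := (pCore p (Y ⧸ Subgroup.centralizer (V : Set Y))).comap
      (QuotientGroup.mk' (Subgroup.centralizer (V : Set Y))) with hDdef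
    have hDn : D.Normal := (Cfsg.pCore_normal p _).comap _
    have hDp : IsPGroup p D := by
      apply (Cfsg.Agent.Lib.Helper97.isPGroup_pCore p _).comap_of_ker_isPGroup
      rw [QuotientGroup.ker_mk']
      exact hUp.to_le hCV
    have hDU : D ≤ U := Cfsg.Agent.Lib.Helper97.le_pCore_of_normal hDn hDp
    exact hDU h1
  apply thompsonA_normal_of_forall_le T
  by_contra hnot
  have hex : ∃ A' ∈ maxAbIn (T : Subgroup Y), ¬ A' ≤ U := by
    by_contra h2
    exact hnot (fun A hA => by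
      by_contra h3
      exact h2 ⟨A, hA, h3⟩)
  obtain ⟨A', hA', hA'U⟩ := hex
  obtain ⟨A, hA, hAV, -, hquadA⟩ := exists_quadratic_maxAbIn T V hVel.1
    ((omegaZ_le p U).trans hUT) ⟨A', hA', fun hle => hA'U (hle.trans hCV)⟩
  apply hAV
  intro a ha
  apply hUCV
  apply hquad
  rw [eq_bot_iff, ← hquadA]
  have hz : Subgroup.zpowers a ≤ A := by
    rw [Subgroup.zpowers_le]; exact ha
  exact Subgroup.commutator_mono (Subgroup.commutator_mono le_rfl hz) hz

end odd

end Cfsg.Agent.Lib.Helper47
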