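import Mathlib
import Cfsg.Agent.Lib.Helper47.ThompsonA
import Cfsg.Agent.Lib.Helper97.Cores
import Cfsg.Agent.Lib.Helper97.Thompson2

/-!
Helper47 library: auxiliary lemmas for the local step (prime `2`) of Thompson's normal `p`-complement
theorem with the abelian-version Thompson subgroup.
-/

set_option autoImplicit false

namespace Cfsg.Agent.Lib.Helper47

open Cfsg
open scoped commutatorElement

section general

variable {G : Type*} [Group G]

/-- `|X| = |f(X)| · |X ∩ ker f|`. -/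
theorem card_eq_card_map_mul_card_inf_ker {G' : Type*} [Group G'] (f : G →* G') (X : Subgroup G) :
    Nat.card X = Nat.card (X.map f) * Nat.card (X ⊓ f.ker : Subgroup G) := by
  set g : ↥X →* G' := f.comp X.subtype with hg
  have hrange : g.range = X.map f := by
    rw [hg, MonoidHom.range_comp, Subgroup.range_subtype]
  have hker : g.ker = f.ker.subgroupOf X := by
    rw [hg]
    rfl
  have h1 := Subgroup.card_mul_index g.ker
  rw [Subgroup.index_ker, hrange, hker] at h1
  have h2 : Nat.card (f.ker.subgroupOf X) = Nat.card (X ⊓ f.ker : Subgroup G) := by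
    rw [← Subgroup.inf_subgroupOf_left]
    exact Nat.card_congr (Subgroup.subgroupOfEquivOfLe inf_le_left).toEquiv
  rw [h2] at h1
  rw [← h1, mul_comm]

/-- Best-offender inequality for an abelian subgroup of largest order. -/
theorem card_mul_card_cv_le_of_mem_maxAbIn [Finite G] {T A V X : Subgroup G} (hA : A ∈ maxAbIn T)
    (hVT : V ≤ T) (hVc : IsMulCommutative V) (hXA : X ≤ A) :
    Nat.card X * Nat.card (V ⊓ Subgroup.centralizer (X : Set G) : Subgroup G) ≤
      Nat.card A * Nat.card (V ⊓ Subgroup.centralizer (A : Set G) : Subgroup G) := by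
  set C := V ⊓ Subgroup.centralizer (X : Set G) with hC
  have hXc : IsMulCommutative X := Cfsg.Agent.Lib.Helper50.isMulCommutative_of_le hA.2.1 hXA
  have hCc : IsMulCommutative C := Cfsg.Agent.Lib.Helper50.isMulCommutative_of_le hVc inf_le_left
  have hsup : IsMulCommutative ↥(C ⊔ X) :=
    Cfsg.Agent.Lib.Helper50.isMulCommutative_sup C X hCc hXc inf_le_right
  have h1 : Nat.card (C ⊔ X : Subgroup G) ≤ Nat.card A :=
    hA.2.2 _ (sup_le (inf_le_left.trans hVT) (hXA.trans hA.1)) hsup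
  have h2 := Cfsg.Agent.Lib.Helper97.card_mul_card_le_sup_mul_inf X C
  have h3 : X ⊓ C ≤ V ⊓ Subgroup.centralizer (A : Set G) := by
    intro x hx
    refine ⟨hx.2.1, ?_⟩
    have hAc : A ≤ Subgroup.centralizer (A : Set G) :=
      (Cfsg.Agent.Lib.Helper50.isMulCommutative_iff_le_centralizer A).mp hA.2.1
    exact hAc (hXA hx.1)
  have h4 : Nat.card (X ⊓ C : Subgroup G) ≤
      Nat.card (V ⊓ Subgroup.centralizer (A : Set G) : Subgroup G) := Subgroup.card_le_of_le h3
  calc Nat.card X * Nat.card C ≤ Nat.card (X ⊔ C : Subgroup G) * Nat.card (X ⊓ C : Subgroup G) := h2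
    _ ≤ Nat.card A * Nat.card (V ⊓ Subgroup.centralizer (A : Set G) : Subgroup G) := by
      rw [sup_comm]
      exact Nat.mul_le_mul h1 h4

/-- A quadratically acting element on an elementary abelian `2`-group has its square acting trivially. -/
theorem sq_mem_centralizer_of_quadratic {V A : Subgroup G} [hVn : V.Normal]
    (hV2 : ∀ v ∈ V, v ^ 2 = 1) (hquad : ⁅⁅V, A⁆, A⁆ = ⊥) {b : G} (hb : b ∈ A) :
    b ^ 2 ∈ Subgroup.centralizer (V : Set G) := by
  rw [Subgroup.mem_centralizer_iff]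
  intro v hv
  set x := ⁅v, b⁆ with hx
  have hxVA : x ∈ ⁅V, A⁆ := Subgroup.commutator_mem_commutator hv hb
  have hxV : x ∈ V := Subgroup.commutator_le_left V A hxVA
  have hcomm : ⁅V, A⁆ ≤ Subgroup.centralizer (A : Set G) :=
    Subgroup.commutator_eq_bot_iff_le_centralizer.mp hquad
  have hxb : b * x = x * b := Subgroup.mem_centralizer_iff.mp (hcomm hxVA) b hb
  have hx2 : x * x = 1 := by rw [← pow_two]; exact hV2 x hxV
  -- `b v b⁻¹ = x⁻¹ v`
  have h1 : b * v * b⁻¹ = x⁻¹ * v := by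
    rw [hx, commutatorElement_def]; group
  have h2 : b * x⁻¹ * b⁻¹ = x⁻¹ := by
    have : Commute b x := hxb
    have h3 : Commute b x⁻¹ := this.inv_right
    calc b * x⁻¹ * b⁻¹ = x⁻¹ * b * b⁻¹ := by rw [h3.eq]
      _ = x⁻¹ := by group
  have h4 : b ^ 2 * v * (b ^ 2)⁻¹ = v := by
    calc b ^ 2 * v * (b ^ 2)⁻¹ = b * (b * v * b⁻¹) * b⁻¹ := by rw [pow_two]; group
      _ = b * (x⁻¹ * v) * b⁻¹ := by rw [h1]
      _ = (b * x⁻¹ * b⁻¹) * (b * v * b⁻¹) := by group
      _ = x⁻¹ * (x⁻¹ * v) := by rw [h2, h1]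
      _ = (x * x)⁻¹ * v := by group
      _ = v := by rw [hx2, inv_one, one_mul]
  calc v * b ^ 2 = (b ^ 2 * v * (b ^ 2)⁻¹) * b ^ 2 := by rw [h4]
    _ = b ^ 2 * v := by group

end general

section pcore

variable {Y : Type*} [Group Y] [Finite Y] {p : ℕ} [Fact p.Prime]

/-- If `T K = Y` for a Sylow `p`-subgroup `T` and a normal subgroup `K`, an element `b ∈ T` whose
commutators with `K` all lie in `O_p(Y)` lies in `O_p(Y)`. -/
theorem mem_pCore_of_forall_commutator_mem (T : Sylow p Y) (K : Subgroup Y) [hKn : K.Normal]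
    (hTK : (T : Subgroup Y) ⊔ K = ⊤) {b : Y} (hb : b ∈ (T : Subgroup Y))
    (h : ∀ k ∈ K, k * b * k⁻¹ * b⁻¹ ∈ pCore p Y) : b ∈ pCore p Y := by
  have hUT : pCore p Y ≤ (T : Subgroup Y) := Cfsg.Agent.Lib.Helper97.pCore_le_sylow' T
  set M := Subgroup.normalClosure ({b} : Set Y) with hM
  have hMT : M ≤ (T : Subgroup Y) := by
    rw [hM, Subgroup.normalClosure, Subgroup.closure_le]
    intro a ha
    rw [Group.mem_conjugatesOfSet_iff] at ha
    obtain ⟨x, hx, hxa⟩ := ha
    rw [Set.mem_singleton_iff] at hx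
    subst hx
    rw [isConj_iff] at hxa
    obtain ⟨y, rfl⟩ := hxa
    have hy : y ∈ (((T : Subgroup Y) ⊔ K : Subgroup Y) : Set Y) := by rw [hTK]; trivial
    rw [Subgroup.mul_normal] at hy
    obtain ⟨t, ht, k, hk, rfl⟩ := hy
    have h1 : k * x * k⁻¹ ∈ (T : Subgroup Y) := by
      have h2 : k * x * k⁻¹ = (k * x * k⁻¹ * x⁻¹) * x := by group
      rw [h2]
      exact (T : Subgroup Y).mul_mem (hUT (h k hk)) hb
    have h3 : t * k * x * (t * k)⁻¹ = t * (k * x * k⁻¹) * t⁻¹ := by group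
    show t * k * x * (t * k)⁻¹ ∈ (T : Subgroup Y)
    rw [h3]
    exact (T : Subgroup Y).mul_mem ((T : Subgroup Y).mul_mem ht h1) ((T : Subgroup Y).inv_mem ht)
  have hMn : M.Normal := Subgroup.normalClosure_normal
  have hMp : IsPGroup p M := T.isPGroup'.to_le hMT
  have hMU : M ≤ pCore p Y := Cfsg.Agent.Lib.Helper97.le_pCore_of_normal hMn hMp
  exact hMU (Subgroup.subset_normalClosure (Set.mem_singleton b))

/-- A Sylow `p`-subgroup and a normal subgroup of `p`-power index generate the group. -/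
theorem sylow_sup_eq_top_of_index_pow (T : Sylow p Y) (K : Subgroup Y) {n : ℕ}
    (hK : K.index = p ^ n) : (T : Subgroup Y) ⊔ K = ⊤ := by
  rw [← Subgroup.index_eq_one]
  have h1 : ((T : Subgroup Y) ⊔ K).index ∣ (T : Subgroup Y).index := Subgroup.index_dvd_of_le le_sup_left
  have h2 : ((T : Subgroup Y) ⊔ K).index ∣ p ^ n := hK ▸ Subgroup.index_dvd_of_le le_sup_right
  obtain ⟨j, -, hj⟩ := (Nat.dvd_prime_pow Fact.out).mp h2
  rcases j with _ | j
  · simpa using hj
  · exfalso
    apply T.not_dvd_index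
    refine dvd_trans ?_ h1
    rw [hj]
    exact dvd_pow_self p (Nat.succ_ne_zero j)

end pcore

end Cfsg.Agent.Lib.Helper47
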