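import Mathlib

/-!
Helper47 library: an element of odd order normalizing a group `W` of order `4` without nontrivial
fixed points has its cube centralizing `W`.
-/

set_option autoImplicit false

namespace Cfsg.Agent.Lib.Helper47

variable {Y : Type*} [Group Y]

/-- An element of odd order commuting with `x` up to its square commutes with `x`. -/
theorem commute_of_sq_commute_of_odd {q x : Y} (hodd : Nat.Coprime 2 (orderOf q))
    (h : q ^ 2 * x = x * q ^ 2) : q * x = x * q := by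
  obtain ⟨m, hm⟩ := exists_pow_eq_self_of_coprime hodd
  have h1 : Commute (q ^ 2) x := h
  have h2 : Commute ((q ^ 2) ^ m) x := h1.pow_left m
  rw [hm] at h2
  exact h2

theorem cube_mem_centralizer_of_card_four [Finite Y] (W : Subgroup Y) (hW : Nat.card W = 4) (q : Y)
    (hq : q ∈ Subgroup.normalizer (W : Set Y)) (hodd : Nat.Coprime 2 (orderOf q))
    (hfix : ∀ w ∈ W, q * w = w * q → w = 1) : q ^ 3 ∈ Subgroup.centralizer (W : Set Y) := by
  classical
  rw [Subgroup.mem_centralizer_iff]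
  intro w hw
  by_cases hw1 : w = 1
  · rw [hw1, one_mul, mul_one]
  -- the conjugates
  have hconj : ∀ x ∈ W, q * x * q⁻¹ ∈ W := fun x hx => (Subgroup.mem_normalizer_iff.mp hq x).mp hx
  set w₁ := q * w * q⁻¹ with hw₁def
  set w₂ := q * w₁ * q⁻¹ with hw₂def
  set w₃ := q * w₂ * q⁻¹ with hw₃def
  have hw₁ : w₁ ∈ W := hconj w hw
  have hw₂ : w₂ ∈ W := hconj w₁ hw₁
  have hw₃ : w₃ ∈ W := hconj w₂ hw₂
  have hnf : ∀ x ∈ W, x ≠ 1 → q * x * q⁻¹ ≠ x := by
    intro x hx hx1 h
    apply hx1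
    apply hfix x hx
    calc q * x = q * x * q⁻¹ * q := by group
      _ = x * q := by rw [h]
  have hne1 : ∀ x : Y, x ≠ 1 → q * x * q⁻¹ ≠ 1 := by
    intro x hx h
    apply hx
    calc x = q⁻¹ * (q * x * q⁻¹) * q := by group
      _ = 1 := by rw [h]; group
  have hinj : ∀ x y : Y, q * x * q⁻¹ = q * y * q⁻¹ → x = y := by
    intro x y h
    calc x = q⁻¹ * (q * x * q⁻¹) * q := by group
      _ = q⁻¹ * (q * y * q⁻¹) * q := by rw [h]
      _ = y := by group
  have h11 : w₁ ≠ 1 := hne1 w hw1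
  have h21 : w₂ ≠ 1 := hne1 w₁ h11
  have h31 : w₃ ≠ 1 := hne1 w₂ h21
  have h1w : w₁ ≠ w := hnf w hw hw1
  have h21' : w₂ ≠ w₁ := hnf w₁ hw₁ h11
  have h32 : w₃ ≠ w₂ := hnf w₂ hw₂ h21
  have h2w : w₂ ≠ w := by
    intro h
    apply hw1
    apply hfix w hw
    apply commute_of_sq_commute_of_odd hodd
    have : q ^ 2 * w * (q ^ 2)⁻¹ = w₂ := by
      rw [hw₂def, hw₁def, pow_two]; group
    calc q ^ 2 * w = q ^ 2 * w * (q ^ 2)⁻¹ * q ^ 2 := by group
      _ = w * q ^ 2 := by rw [this, h]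
  have h31' : w₃ ≠ w₁ := fun h => h2w (hinj _ _ h)
  -- `w₃ ∈ {1, w, w₁, w₂}` by counting
  have hmem : w₃ = 1 ∨ w₃ = w ∨ w₃ = w₁ ∨ w₃ = w₂ := by
    by_contra hcon
    push Not at hcon
    obtain ⟨c1, c2, c3, c4⟩ := hcon
    let s : Finset Y := {1, w, w₁, w₂, w₃}
    have hs : s.card = 5 := by
      have e1 : w₂ ∉ ({w₃} : Finset Y) := by simp [Ne.symm h32]
      have e2 : w₁ ∉ ({w₂, w₃} : Finset Y) := by simp [Ne.symm h21', Ne.symm h31']
      have e3 : w ∉ ({w₁, w₂, w₃} : Finset Y) := by simp [Ne.symm h1w, Ne.symm h2w, Ne.symm c2]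
      have e4 : (1 : Y) ∉ ({w, w₁, w₂, w₃} : Finset Y) := by
        simp [Ne.symm hw1, Ne.symm h11, Ne.symm h21, Ne.symm h31]
      show (insert 1 (insert w (insert w₁ (insert w₂ ({w₃} : Finset Y))))).card = 5
      rw [Finset.card_insert_of_notMem e4, Finset.card_insert_of_notMem e3,
        Finset.card_insert_of_notMem e2, Finset.card_insert_of_notMem e1, Finset.card_singleton]
    have hsub : (s : Set Y) ⊆ (W : Set Y) := by
      intro x hx
      simp only [s, Finset.coe_insert, Finset.coe_singleton, Set.mem_insert_iff,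
        Set.mem_singleton_iff] at hx
      rcases hx with rfl | rfl | rfl | rfl | rfl
      · exact W.one_mem
      · exact hw
      · exact hw₁
      · exact hw₂
      · exact hw₃
    have h5 : (s : Set Y).ncard ≤ (W : Set Y).ncard := Set.ncard_le_ncard hsub (Set.toFinite _)
    rw [Set.ncard_coe_finset, hs] at h5
    have h6 : (W : Set Y).ncard = 4 := by
      rw [← hW]
      rfl
    omega
  have hw₃w : w₃ = w := by
    rcases hmem with h | h | h | h
    · exact absurd h h31
    · exact h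
    · exact absurd h h31'
    · exact absurd h h32
  have : q ^ 3 * w * (q ^ 3)⁻¹ = w₃ := by
    rw [hw₃def, hw₂def, hw₁def, pow_succ, pow_two]; group
  calc w * q ^ 3 = w₃ * q ^ 3 := by rw [hw₃w]
    _ = q ^ 3 * w * (q ^ 3)⁻¹ * q ^ 3 := by rw [this]
    _ = q ^ 3 * w := by group

end Cfsg.Agent.Lib.Helper47
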