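import Mathlib
import Cfsg.Prelude.Def_LocalStructure

set_option autoImplicit false

namespace Cfsg.Agent.Lib.Helper47

open Cfsg
open scoped commutatorElement Pointwise

variable {G : Type*} [Group G]

theorem centralizer_inf_centralizer_le_centralizer_sup (A B : Subgroup G) :
    Subgroup.centralizer (A : Set G) ⊓ Subgroup.centralizer (B : Set G) ≤
      Subgroup.centralizer ((A ⊔ B : Subgroup G) : Set G) := by
  intro w hw
  have h1 : Subgroup.zpowers w ≤ Subgroup.centralizer (A : Set G) := by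
    rw [Subgroup.zpowers_le]; exact hw.1
  have h2 : Subgroup.zpowers w ≤ Subgroup.centralizer (B : Set G) := by
    rw [Subgroup.zpowers_le]; exact hw.2
  rw [Subgroup.le_centralizer_iff] at h1 h2
  have h3 : A ⊔ B ≤ Subgroup.centralizer (Subgroup.zpowers w : Set G) := sup_le h1 h2
  rw [Subgroup.le_centralizer_iff] at h3
  exact h3 (Subgroup.mem_zpowers w)

theorem map_conj_eq_of_mem_normalizer {V : Subgroup G} {g : G}
    (hg : g ∈ Subgroup.normalizer (V : Set G)) : V.map (MulAut.conj g).toMonoidHom = V :=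
  Subgroup.mem_normalizer_iff_map_conj_eq.mp hg

theorem mem_map_conj_iff {V : Subgroup G} {g x : G} :
    x ∈ V.map (MulAut.conj g).toMonoidHom ↔ g⁻¹ * x * g ∈ V := by
  constructor
  · rintro ⟨v, hv, rfl⟩
    simpa [mul_assoc] using hv
  · intro h
    exact ⟨g⁻¹ * x * g, h, by simp [mul_assoc]⟩

theorem conj_mem_map_conj {V : Subgroup G} {g x : G} (hx : x ∈ V) :
    g * x * g⁻¹ ∈ V.map (MulAut.conj g).toMonoidHom :=
  ⟨x, hx, by simp⟩

/-- If `H ≤ N(K)` then `h k h⁻¹ ∈ K`. -/
theorem conj_mem_of_le_normalizer {H K : Subgroup G} (h : H ≤ Subgroup.normalizer (K : Set G))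
    {x k : G} (hx : x ∈ H) (hk : k ∈ K) : x * k * x⁻¹ ∈ K :=
  (Subgroup.mem_normalizer_iff.mp (h hx) k).mp hk

theorem conj_mem_of_le_normalizer' {H K : Subgroup G} (h : H ≤ Subgroup.normalizer (K : Set G))
    {x k : G} (hx : x ∈ H) (hk : k ∈ K) : x⁻¹ * k * x ∈ K := by
  have := conj_mem_of_le_normalizer h (H.inv_mem hx) hk
  simpa using this

end Cfsg.Agent.Lib.Helper47
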