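import Mathlib
import Cfsg.Prelude.Def_LocalStructure
import Cfsg.Agent.Lib.Helper47.Basic
import Cfsg.Agent.Lib.Helper47.Quot
import Cfsg.Agent.Lib.Helper47.PClosed
import Cfsg.Agent.Lib.Helper47.Commutator

set_option autoImplicit false

namespace Cfsg.Agent.Lib.Helper47

open Cfsg
open scoped commutatorElement Pointwise

variable {G : Type*} [Group G]

/-! ### `O_p(G/N) = 1` in terms of normal subgroups of `G` -/

/-- `O_p(G ⧸ N) = 1` iff every normal subgroup `D` of `G` that is a `p`-group modulo `N` lies in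
`N`. -/
theorem pCore_quotient_eq_bot_iff (p : ℕ) (N : Subgroup G) [N.Normal] :
    pCore p (G ⧸ N) = ⊥ ↔
      ∀ D : Subgroup G, D.Normal → (∀ d ∈ D, ∃ k : ℕ, d ^ p ^ k ∈ N) → D ≤ N := by
  constructor
  · intro h D hD hDp
    have h1 : (D.map (QuotientGroup.mk' N)).Normal :=
      Subgroup.Normal.map hD _ (QuotientGroup.mk'_surjective N)
    have h2 : IsPGroup p ↥(D.map (QuotientGroup.mk' N)) := by
      rintro ⟨x, d, hd, rfl⟩
      obtain ⟨k, hk⟩ := hDp d hd
      refine ⟨k, Subtype.ext ?_⟩
      simp only [Subgroup.coe_pow, Subgroup.coe_one]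
      rw [← map_pow]
      exact (QuotientGroup.eq_one_iff _).mpr hk
    have h3 : D.map (QuotientGroup.mk' N) ≤ ⊥ := h ▸ le_pCore h1 h2
    intro d hd
    have : (QuotientGroup.mk' N) d ∈ (⊥ : Subgroup (G ⧸ N)) := h3 (Subgroup.mem_map_of_mem _ hd)
    rw [Subgroup.mem_bot] at this
    exact (QuotientGroup.eq_one_iff d).mp this
  · intro h
    have hX : IsPGroup p ↥(pCore p (G ⧸ N)) := pCore_isPGroup p _
    have h1 : (pCore p (G ⧸ N)).comap (QuotientGroup.mk' N) ≤ N := by
      apply h
      · exact Subgroup.Normal.comap inferInstance _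
      · intro d hd
        obtain ⟨k, hk⟩ := hX ⟨_, hd⟩
        refine ⟨k, ?_⟩
        have hk' := congrArg Subtype.val hk
        simp only [Subgroup.coe_pow, Subgroup.coe_one] at hk'
        rw [← map_pow] at hk'
        exact (QuotientGroup.eq_one_iff _).mp hk'
    rw [eq_bot_iff, ← map_comap_mk' N (pCore p (G ⧸ N))]
    refine le_trans (Subgroup.map_mono h1) ?_
    rw [map_mk'_self]

/-- The "subgroup" form of `O_p(L / C_L(V)) = 1`. -/
def PRed (p : ℕ) (V : Subgroup G) : Prop :=
  ∀ D : Subgroup G, D.Normal →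
    (∀ d ∈ D, ∃ k : ℕ, d ^ p ^ k ∈ Subgroup.centralizer (V : Set G)) →
      D ≤ Subgroup.centralizer (V : Set G)

theorem isPReducedNormal_iff (p : ℕ) (V : Subgroup G) :
    IsPReducedNormal p V ↔ V.Normal ∧ IsElementaryAbelian p V ∧ PRed p V := by
  unfold IsPReducedNormal PRed
  constructor
  · rintro ⟨hV, hel, hn, hO⟩
    refine ⟨hV, hel, ?_⟩
    exact (pCore_quotient_eq_bot_iff p _).mp hO
  · rintro ⟨hV, hel, hD⟩
    have hn : (Subgroup.centralizer (V : Set G)).Normal := Subgroup.normal_centralizer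
    exact ⟨hV, hel, hn, (pCore_quotient_eq_bot_iff p _).mpr hD⟩

/-! ### Elementary abelian subgroups -/

theorem IsElementaryAbelian.isPGroup {p : ℕ} {A : Subgroup G} (h : IsElementaryAbelian p A) :
    IsPGroup p ↥A := by
  intro a
  refine ⟨1, Subtype.ext ?_⟩
  simpa using h.2 a a.2

theorem IsElementaryAbelian.mono {p : ℕ} {A B : Subgroup G} (h : IsElementaryAbelian p B)
    (hAB : A ≤ B) : IsElementaryAbelian p A := by
  refine ⟨?_, fun a ha => h.2 a (hAB ha)⟩
  have := h.1
  rw [← Subgroup.le_centralizer_iff_isMulCommutative] at this ⊢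
  exact hAB.trans (this.trans (Subgroup.centralizer_le hAB))

/-- The set of elements of order dividing `p` in an abelian subgroup `Z` is a subgroup; this is
`omegaOne p Z` and it is elementary abelian. -/
theorem mem_omegaOne_iff_of_comm {p : ℕ} {Z : Subgroup G} (hZ : IsMulCommutative ↥Z) {x : G} :
    x ∈ omegaOne p Z ↔ x ∈ Z ∧ x ^ p = 1 := by
  constructor
  · intro hx
    unfold omegaOne at hx
    have hZc : Z ≤ Subgroup.centralizer (Z : Set G) :=
      Subgroup.le_centralizer_iff_isMulCommutative.mpr hZ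
    induction hx using Subgroup.closure_induction with
    | mem x hx => exact hx
    | one => exact ⟨Z.one_mem, one_pow _⟩
    | mul a b _ _ ha hb =>
      refine ⟨Z.mul_mem ha.1 hb.1, ?_⟩
      have hc : Commute a b := ((Subgroup.mem_centralizer_iff.mp (hZc hb.1)) a ha.1)
      rw [hc.mul_pow, ha.2, hb.2, one_mul]
    | inv a _ ha => exact ⟨Z.inv_mem ha.1, by rw [inv_pow, ha.2, inv_one]⟩
  · intro hx
    exact Subgroup.subset_closure hx

theorem omegaOne_le {p : ℕ} {Z : Subgroup G} : omegaOne p Z ≤ Z := by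
  unfold omegaOne
  rw [Subgroup.closure_le]
  intro x hx
  exact hx.1

theorem isElementaryAbelian_omegaOne_of_comm {p : ℕ} {Z : Subgroup G} (hZ : IsMulCommutative ↥Z) :
    IsElementaryAbelian p (omegaOne p Z) := by
  constructor
  · have hZc : Z ≤ Subgroup.centralizer (Z : Set G) :=
      Subgroup.le_centralizer_iff_isMulCommutative.mpr hZ
    rw [← Subgroup.le_centralizer_iff_isMulCommutative]
    exact omegaOne_le.trans (hZc.trans (Subgroup.centralizer_le omegaOne_le))
  · intro a ha
    exact ((mem_omegaOne_iff_of_comm hZ).mp ha).2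

/-- The centre `Z(K) = K ⊓ C(K)` of a subgroup is commutative. -/
theorem isMulCommutative_inf_centralizer (K : Subgroup G) :
    IsMulCommutative ↥(K ⊓ Subgroup.centralizer (K : Set G)) := by
  rw [← Subgroup.le_centralizer_iff_isMulCommutative]
  intro x hx
  exact Subgroup.centralizer_le (show ((K ⊓ Subgroup.centralizer (K : Set G) : Subgroup G) : Set G) ⊆ K from
    fun y hy => hy.1) hx.2

/-- `Ω₁Z(K)` is elementary abelian. -/
theorem isElementaryAbelian_omegaOne_center (p : ℕ) (K : Subgroup G) :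
    IsElementaryAbelian p (omegaOne p (K ⊓ Subgroup.centralizer (K : Set G))) :=
  isElementaryAbelian_omegaOne_of_comm (isMulCommutative_inf_centralizer K)

/-! ### `p`-reduced normal subgroups lie in `Ω₁Z(O_p(L))` -/

theorem pCore_le_centralizer_of_pRed {p : ℕ} {V : Subgroup G} (h : PRed p V) :
    pCore p G ≤ Subgroup.centralizer (V : Set G) := by
  apply h _ inferInstance
  intro d hd
  obtain ⟨k, hk⟩ := pCore_isPGroup p G ⟨d, hd⟩
  refine ⟨k, ?_⟩
  have : d ^ p ^ k = 1 := by simpa using congrArg Subtype.val hk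
  rw [this]
  exact Subgroup.one_mem _

theorem le_omegaOne_center_pCore_of_isPReducedNormal {p : ℕ} {V : Subgroup G}
    (h : IsPReducedNormal p V) :
    V ≤ omegaOne p (pCore p G ⊓ Subgroup.centralizer (pCore p G : Set G)) := by
  rw [isPReducedNormal_iff] at h
  obtain ⟨hVn, hel, hred⟩ := h
  intro v hv
  rw [mem_omegaOne_iff_of_comm (isMulCommutative_inf_centralizer _)]
  refine ⟨⟨le_pCore hVn (IsElementaryAbelian.isPGroup hel) hv, ?_⟩, hel.2 v hv⟩
  have h1 := pCore_le_centralizer_of_pRed hred
  rw [Subgroup.le_centralizer_iff] at h1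
  exact h1 hv

/-! ### The largest `p`-reduced normal subgroup -/

theorem largestPReduced_le_omegaOne (p : ℕ) (G : Type*) [Group G] :
    largestPReduced p G ≤ omegaOne p (pCore p G ⊓ Subgroup.centralizer (pCore p G : Set G)) := by
  unfold largestPReduced
  apply sSup_le
  intro V hV
  exact le_omegaOne_center_pCore_of_isPReducedNormal hV

theorem isPReducedNormal_largestPReduced (p : ℕ) (G : Type*) [Group G] :
    IsPReducedNormal p (largestPReduced p G) := by
  rw [isPReducedNormal_iff]
  refine ⟨?_, ?_, ?_⟩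
  · exact Subgroup.sSup_normal _ (fun V hV => hV.1)
  · exact IsElementaryAbelian.mono (isElementaryAbelian_omegaOne_center p _)
      (largestPReduced_le_omegaOne p G)
  · intro D hD hDp
    rw [Subgroup.le_centralizer_iff]
    unfold largestPReduced
    apply sSup_le
    intro V hV
    rw [← Subgroup.le_centralizer_iff]
    have hV' := ((isPReducedNormal_iff p V).mp hV).2.2
    apply hV' D hD
    intro d hd
    obtain ⟨k, hk⟩ := hDp d hd
    refine ⟨k, ?_⟩
    have hle : V ≤ largestPReduced p G := le_sSup hV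
    exact Subgroup.centralizer_le (show (V : Set G) ⊆ (largestPReduced p G : Set G) from hle) hk

theorem le_largestPReduced {p : ℕ} {V : Subgroup G} (h : IsPReducedNormal p V) :
    V ≤ largestPReduced p G := le_sSup h

end Cfsg.Agent.Lib.Helper47
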