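import Mathlib
import Cfsg.Prelude.Def_LocalStructure
import Cfsg.Agent.Lib.Helper47.Basic
import Cfsg.Agent.Lib.Helper47.Quot
import Cfsg.Agent.Lib.Helper47.PClosed
import Cfsg.Agent.Lib.Helper47.SylowLemmas
import Cfsg.Agent.Lib.Helper47.Commutator
import Cfsg.Agent.Lib.Helper47.PReduced

set_option autoImplicit false

namespace Cfsg.Agent.Lib.Helper47

open Cfsg
open scoped commutatorElement Pointwise

variable {G : Type*} [Group G]

/-- If `D`, `C` are normal in the finite group `G`, `D` is a `p`-group modulo `C`, and `S` is a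
Sylow `p`-subgroup of `G`, then `D = (D ∩ C)(D ∩ S)`. -/
theorem le_inf_sup_inf_sylow {p : ℕ} [Fact p.Prime] [Finite G] {D C : Subgroup G} [hD : D.Normal]
    [hC : C.Normal] (hDp : ∀ d ∈ D, ∃ k : ℕ, d ^ p ^ k ∈ C) (S : Sylow p G) :
    D ≤ (D ⊓ C) ⊔ (D ⊓ (S : Subgroup G)) := by
  have hN' : (C.subgroupOf D).Normal := inferInstance
  have hq : IsPGroup p (↥D ⧸ C.subgroupOf D) := by
    intro x
    obtain ⟨d, rfl⟩ := QuotientGroup.mk_surjective x
    obtain ⟨k, hk⟩ := hDp d d.2
    refine ⟨k, ?_⟩
    rw [← QuotientGroup.mk_pow, QuotientGroup.eq_one_iff, Subgroup.mem_subgroupOf]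
    simpa using hk
  obtain ⟨S', hS'⟩ := exists_sylow_eq_subgroupOf_of_normal S D
  have htop := sup_sylow_eq_top_of_isPGroup_quotient (C.subgroupOf D) hq S'
  intro d hd
  have hmem : (⟨d, hd⟩ : ↥D) ∈ C.subgroupOf D ⊔ (S' : Subgroup ↥D) := by rw [htop]; trivial
  rw [Subgroup.mem_sup_of_normal_left] at hmem
  obtain ⟨n, hn, s, hs, hns⟩ := hmem
  have : d = (n : G) * (s : G) := by
    have := congrArg Subtype.val hns
    simpa using this.symm
  rw [this]
  apply Subgroup.mul_mem_sup
  · exact ⟨n.2, by simpa [Subgroup.mem_subgroupOf] using hn⟩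
  · refine ⟨s.2, ?_⟩
    have hs' : s ∈ (S : Subgroup G).subgroupOf D := by rw [← hS']; exact hs
    rw [Subgroup.mem_subgroupOf] at hs'
    exact hs'

/-- `Ω₁Z(O_p(G))` is normal. -/
theorem omegaOne_center_pCore_normal (p : ℕ) (G : Type*) [Group G] :
    (omegaOne p (pCore p G ⊓ Subgroup.centralizer (pCore p G : Set G))).Normal := by
  constructor
  intro x hx g
  rw [mem_omegaOne_iff_of_comm (isMulCommutative_inf_centralizer _)] at hx ⊢
  have hn : (pCore p G ⊓ Subgroup.centralizer (pCore p G : Set G)).Normal := inferInstance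
  refine ⟨hn.conj_mem x hx.1 g, ?_⟩
  rw [conj_pow, hx.2]
  simp

/-- If `D` is normal and centralizes `X`, it centralizes the normal closure of `X`. -/
theorem le_centralizer_normalClosure {D : Subgroup G} [D.Normal] {X : Subgroup G}
    (h : D ≤ Subgroup.centralizer (X : Set G)) :
    D ≤ Subgroup.centralizer ((Subgroup.normalClosure (X : Set G) : Subgroup G) : Set G) := by
  rw [Subgroup.le_centralizer_iff] at h ⊢
  exact Subgroup.normalClosure_le_normal h

/-- Elementwise transfer of centralizer membership between a subgroup and the ambient group. -/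
theorem mem_centralizer_subtype_iff {R : Subgroup G} (X : Subgroup ↥R) (r : ↥R) :
    r ∈ Subgroup.centralizer (X : Set ↥R) ↔
      (r : G) ∈ Subgroup.centralizer ((X.map R.subtype : Subgroup G) : Set G) := by
  rw [Subgroup.mem_centralizer_iff, Subgroup.mem_centralizer_iff]
  constructor
  · rintro h _ ⟨x, hx, rfl⟩
    have := congrArg Subtype.val (h x hx)
    simpa using this
  · intro h x hx
    apply Subtype.ext
    have := h (x : G) ⟨x, hx, rfl⟩
    simpa using this

end Cfsg.Agent.Lib.Helper47
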