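import Mathlib
import Cfsg.Prelude.Def_LocalStructure
import Cfsg.Agent.Lib.Helper47.Basic
import Cfsg.Agent.Lib.Helper47.Quot
import Cfsg.Agent.Lib.Helper47.PClosed
import Cfsg.Agent.Lib.Helper47.SylowLemmas
import Cfsg.Agent.Lib.Helper47.Commutator
import Cfsg.Agent.Lib.Helper47.Subnormal
import Cfsg.Agent.Lib.Helper47.PReduced
import Cfsg.Agent.Lib.Helper47.PReduced2

set_option autoImplicit false

namespace Cfsg.Agent.Lib.Helper47

open Cfsg
open scoped commutatorElement Pointwise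

variable {G : Type*} [Group G]

/-- Modulo the normal subgroup `C`, every element of `Q ⊔ C` (`Q` a `p`-group) has `p`-power
order. -/
theorem exists_pow_mem_of_mem_sup {p : ℕ} {Q C : Subgroup G} [C.Normal] (hQ : IsPGroup p ↥Q)
    {d : G} (hd : d ∈ Q ⊔ C) : ∃ k : ℕ, d ^ p ^ k ∈ C := by
  have h1 : (QuotientGroup.mk' C) d ∈ (Q ⊔ C).map (QuotientGroup.mk' C) :=
    Subgroup.mem_map_of_mem _ hd
  rw [Subgroup.map_sup, map_mk'_self, sup_bot_eq] at h1
  have hQp : IsPGroup p ↥(Q.map (QuotientGroup.mk' C)) := hQ.map _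
  obtain ⟨k, hk⟩ := hQp ⟨_, h1⟩
  refine ⟨k, ?_⟩
  have hk' := congrArg Subtype.val hk
  simp only [Subgroup.coe_pow, Subgroup.coe_one] at hk'
  rw [← map_pow] at hk'
  exact (QuotientGroup.eq_one_iff _).mp hk'

/-- `T ∩ N` is normalized by `T` when `N` is normal. -/
theorem le_normalizer_inf_of_normal (T N : Subgroup G) [hN : N.Normal] :
    T ≤ Subgroup.normalizer ((T ⊓ N : Subgroup G) : Set G) := by
  refine le_trans ?_ Subgroup.inf_normalizer_le_normalizer_inf
  exact le_inf Subgroup.le_normalizer Subgroup.le_normalizer_of_normal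

/-- Frattini argument in the form: for `N` normal and `T` Sylow in the finite group `G`,
`N_G(T ∩ N) N = G`. -/
theorem normalizer_inf_sup_eq_top {p : ℕ} [Fact p.Prime] [Finite G] (T : Sylow p G)
    (N : Subgroup G) [N.Normal] :
    Subgroup.normalizer (((T : Subgroup G) ⊓ N : Subgroup G) : Set G) ⊔ N = ⊤ := by
  obtain ⟨P, hP⟩ := exists_sylow_eq_subgroupOf_of_normal T N
  have hfr := Sylow.normalizer_sup_eq_top P
  have hPmap : (P : Subgroup ↥N).map N.subtype = (T : Subgroup G) ⊓ N := by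
    rw [hP, Subgroup.subgroupOf_map_subtype]
  rwa [hPmap] at hfr

/-- `O_p(N) ≤ T` whenever the Sylow `p`-subgroup `T` of `G` lies in `N`. -/
theorem pCoreOf_le_sylow_of_le {p : ℕ} [Fact p.Prime] (T : Sylow p G) {N : Subgroup G}
    (hTN : (T : Subgroup G) ≤ N) : pCoreOf p N ≤ (T : Subgroup G) := by
  have h1 : pCore p ↥N ≤ ((T.subtype hTN : Sylow p ↥N) : Subgroup ↥N) := pCore_le_sylow _
  rintro x ⟨c, hc, rfl⟩
  have := h1 hc
  rw [Sylow.coe_subtype, Subgroup.mem_subgroupOf] at this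
  exact this

end Cfsg.Agent.Lib.Helper47
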