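import Mathlib
import Cfsg.Prelude.Def_LocalStructure
import Cfsg.Agent.Lib.Helper47.Basic
import Cfsg.Agent.Lib.Helper47.Quot
import Cfsg.Agent.Lib.Helper47.PClosed
import Cfsg.Agent.Lib.Helper47.SylowLemmas
import Cfsg.Agent.Lib.Helper47.Commutator
import Cfsg.Agent.Lib.Helper47.Subnormal
import Cfsg.Agent.Lib.Helper47.PReduced
import Cfsg.Agent.Lib.Helper47.PReduced2
import Cfsg.Agent.Lib.Helper47.PReduced3

set_option autoImplicit false

namespace Cfsg.Agent.Lib.Helper47

open Cfsg
open scoped commutatorElement Pointwise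

variable {G : Type*} [Group G]

/-- `L` normalizes the image in `G` of a normal subgroup of `L`. -/
theorem le_normalizer_map_subtype_of_normal (L : Subgroup G) (N' : Subgroup ↥L) [hN : N'.Normal] :
    L ≤ Subgroup.normalizer ((N'.map L.subtype : Subgroup G) : Set G) := by
  rw [Subgroup.le_normalizer_iff]
  rintro l hl _ ⟨n, hn, rfl⟩
  exact ⟨⟨l, hl⟩ * n * ⟨l, hl⟩⁻¹, hN.conj_mem n hn ⟨l, hl⟩, by simp⟩

theorem map_subtype_le' (L : Subgroup G) (N' : Subgroup ↥L) : N'.map L.subtype ≤ L := by
  rintro _ ⟨n, _, rfl⟩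
  exact n.2

/-- A Sylow `p`-subgroup `T` of the finite group `G` normalizing `C` meets `C` in a Sylow
`p`-subgroup of `C`. -/
theorem exists_sylow_eq_subgroupOf_of_le_normalizer {p : ℕ} [Fact p.Prime] [Finite G]
    (T : Sylow p G) (C : Subgroup G) (h : (T : Subgroup G) ≤ Subgroup.normalizer (C : Set G)) :
    ∃ P : Sylow p ↥C, (P : Subgroup ↥C) = (T : Subgroup G).subgroupOf C := by
  -- work in N = N_G(C)
  have hCN : C ≤ Subgroup.normalizer (C : Set G) := Subgroup.le_normalizer
  have hn : (C.subgroupOf (Subgroup.normalizer (C : Set G))).Normal := Subgroup.normal_in_normalizer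
  obtain ⟨P', hP'⟩ := exists_sylow_eq_subgroupOf_of_normal (T.subtype h)
    (C.subgroupOf (Subgroup.normalizer (C : Set G)))
  let e := (Subgroup.subgroupOfEquivOfLe hCN).symm
  have hinj : Function.Injective e.toMonoidHom := e.injective
  have hrange : (P' : Subgroup _) ≤ e.toMonoidHom.range := by
    intro x _
    exact ⟨e.symm x, by simp⟩
  refine ⟨P'.comapOfInjective e.toMonoidHom hinj hrange, ?_⟩
  rw [Sylow.coe_comapOfInjective]
  ext x
  rw [Subgroup.mem_comap, hP', Subgroup.mem_subgroupOf, Sylow.coe_subtype,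
    Subgroup.mem_subgroupOf, Subgroup.mem_subgroupOf]
  rfl

/-! ### Transport of "elementary abelian" -/

theorem isElementaryAbelian_map_subtype {p : ℕ} {L : Subgroup G} {V' : Subgroup ↥L}
    (h : IsElementaryAbelian p V') : IsElementaryAbelian p (V'.map L.subtype) := by
  constructor
  · have := h.1
    infer_instance
  · rintro _ ⟨v, hv, rfl⟩
    have := congrArg Subtype.val (h.2 v hv)
    simpa using this

theorem isElementaryAbelian_subgroupOf {p : ℕ} {L V : Subgroup G}
    (h : IsElementaryAbelian p V) : IsElementaryAbelian p (V.subgroupOf L) := by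
  constructor
  · have := h.1
    infer_instance
  · intro v hv
    rw [Subgroup.mem_subgroupOf] at hv
    apply Subtype.ext
    simpa using h.2 _ hv

/-! ### Ambient form of `PRed` -/

theorem pRed_ambient {p : ℕ} {L : Subgroup G} {V' : Subgroup ↥L} (h : PRed p V') {D : Subgroup G}
    (hDL : D ≤ L) (hLD : L ≤ Subgroup.normalizer (D : Set G))
    (hDp : ∀ d ∈ D, ∃ k : ℕ, d ^ p ^ k ∈ Subgroup.centralizer ((V'.map L.subtype : Subgroup G) : Set G)) :
    D ≤ Subgroup.centralizer ((V'.map L.subtype : Subgroup G) : Set G) := by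
  have hn : (D.subgroupOf L).Normal := Subgroup.normal_subgroupOf_of_le_normalizer hLD
  have h1 : D.subgroupOf L ≤ Subgroup.centralizer (V' : Set ↥L) := by
    apply h _ hn
    intro d hd
    rw [Subgroup.mem_subgroupOf] at hd
    obtain ⟨k, hk⟩ := hDp _ hd
    refine ⟨k, ?_⟩
    rw [mem_centralizer_subtype_iff]
    simpa using hk
  intro d hd
  have := h1 (show (⟨d, hDL hd⟩ : ↥L) ∈ D.subgroupOf L by rw [Subgroup.mem_subgroupOf]; exact hd)
  rw [mem_centralizer_subtype_iff] at this
  exact this

theorem pRed_of_ambient {p : ℕ} {L V : Subgroup G} (hVL : V ≤ L)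
    (hred : ∀ D : Subgroup G, D ≤ L → L ≤ Subgroup.normalizer (D : Set G) →
      (∀ d ∈ D, ∃ k : ℕ, d ^ p ^ k ∈ Subgroup.centralizer (V : Set G)) →
        D ≤ Subgroup.centralizer (V : Set G)) : PRed p (V.subgroupOf L) := by
  intro D' hD' hD'p
  have hVmap : (V.subgroupOf L).map L.subtype = V := by
    rw [Subgroup.subgroupOf_map_subtype, inf_of_le_left hVL]
  have h1 : D'.map L.subtype ≤ Subgroup.centralizer (V : Set G) := by
    apply hred _ (map_subtype_le' L D') (le_normalizer_map_subtype_of_normal L D')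
    rintro _ ⟨d, hd, rfl⟩
    obtain ⟨k, hk⟩ := hD'p d hd
    refine ⟨k, ?_⟩
    rw [mem_centralizer_subtype_iff, hVmap] at hk
    simpa using hk
  intro d hd
  rw [mem_centralizer_subtype_iff, hVmap]
  exact h1 (Subgroup.mem_map_of_mem _ hd)

/-- Ambient criterion for being a `p`-reduced normal subgroup of `L`. -/
theorem isPReducedNormal_subgroupOf_of_ambient {p : ℕ} {L V : Subgroup G} (hVL : V ≤ L)
    (hLV : L ≤ Subgroup.normalizer (V : Set G)) (hel : IsElementaryAbelian p V)
    (hred : ∀ D : Subgroup G, D ≤ L → L ≤ Subgroup.normalizer (D : Set G) →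
      (∀ d ∈ D, ∃ k : ℕ, d ^ p ^ k ∈ Subgroup.centralizer (V : Set G)) →
        D ≤ Subgroup.centralizer (V : Set G)) : IsPReducedNormal p (V.subgroupOf L) := by
  rw [isPReducedNormal_iff]
  exact ⟨Subgroup.normal_subgroupOf_of_le_normalizer hLV, isElementaryAbelian_subgroupOf hel,
    pRed_of_ambient hVL hred⟩

theorem le_largestPReducedOf {p : ℕ} {L V : Subgroup G} (hVL : V ≤ L)
    (hLV : L ≤ Subgroup.normalizer (V : Set G)) (hel : IsElementaryAbelian p V)
    (hred : ∀ D : Subgroup G, D ≤ L → L ≤ Subgroup.normalizer (D : Set G) →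
      (∀ d ∈ D, ∃ k : ℕ, d ^ p ^ k ∈ Subgroup.centralizer (V : Set G)) →
        D ≤ Subgroup.centralizer (V : Set G)) : V ≤ largestPReducedOf p L := by
  have h1 := le_largestPReduced (isPReducedNormal_subgroupOf_of_ambient hVL hLV hel hred)
  have h2 := Subgroup.map_mono (f := L.subtype) h1
  rw [Subgroup.subgroupOf_map_subtype, inf_of_le_left hVL] at h2
  exact h2

/-! ### Basic ambient facts about `Y_L` -/

theorem largestPReducedOf_le (p : ℕ) (L : Subgroup G) : largestPReducedOf p L ≤ L :=
  map_subtype_le' L _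

theorem le_normalizer_largestPReducedOf (p : ℕ) (L : Subgroup G) :
    L ≤ Subgroup.normalizer ((largestPReducedOf p L : Subgroup G) : Set G) := by
  have : (largestPReduced p ↥L).Normal := (isPReducedNormal_largestPReduced p ↥L).1
  exact le_normalizer_map_subtype_of_normal L _

theorem isElementaryAbelian_largestPReducedOf (p : ℕ) (L : Subgroup G) :
    IsElementaryAbelian p (largestPReducedOf p L) :=
  isElementaryAbelian_map_subtype (isPReducedNormal_largestPReduced p ↥L).2.1

theorem pRed_largestPReducedOf (p : ℕ) (L : Subgroup G) {D : Subgroup G}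
    (hDL : D ≤ L) (hLD : L ≤ Subgroup.normalizer (D : Set G))
    (hDp : ∀ d ∈ D, ∃ k : ℕ, d ^ p ^ k ∈ Subgroup.centralizer ((largestPReducedOf p L : Subgroup G) : Set G)) :
    D ≤ Subgroup.centralizer ((largestPReducedOf p L : Subgroup G) : Set G) :=
  pRed_ambient ((isPReducedNormal_iff p _).mp (isPReducedNormal_largestPReduced p ↥L)).2.2 hDL hLD hDp

theorem pCoreOf_le_centralizer_largestPReducedOf (p : ℕ) (L : Subgroup G) :
    pCoreOf p L ≤ Subgroup.centralizer ((largestPReducedOf p L : Subgroup G) : Set G) := by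
  apply pRed_largestPReducedOf p L (pCoreOf_le p L)
    (Subgroup.le_normalizer.trans (normalizer_le_normalizer_pCoreOf p L))
  intro d hd
  obtain ⟨k, hk⟩ := pCoreOf_isPGroup p L ⟨d, hd⟩
  refine ⟨k, ?_⟩
  have : d ^ p ^ k = 1 := by simpa using congrArg Subtype.val hk
  rw [this]
  exact Subgroup.one_mem _

theorem largestPReducedOf_le_pCoreOf (p : ℕ) (L : Subgroup G) :
    largestPReducedOf p L ≤ pCoreOf p L :=
  le_pCoreOf (largestPReducedOf_le p L) (le_normalizer_largestPReducedOf p L)
    (IsElementaryAbelian.isPGroup (isElementaryAbelian_largestPReducedOf p L))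

theorem largestPReducedOf_le_omegaOne (p : ℕ) (L : Subgroup G) :
    largestPReducedOf p L ≤
      omegaOne p (pCoreOf p L ⊓ Subgroup.centralizer ((pCoreOf p L : Subgroup G) : Set G)) := by
  intro y hy
  rw [mem_omegaOne_iff_of_comm (isMulCommutative_inf_centralizer _)]
  refine ⟨⟨largestPReducedOf_le_pCoreOf p L hy, ?_⟩, (isElementaryAbelian_largestPReducedOf p L).2 y hy⟩
  exact (Subgroup.le_centralizer_iff.mp (pCoreOf_le_centralizer_largestPReducedOf p L)) hy

end Cfsg.Agent.Lib.Helper47
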