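import Mathlib
import Cfsg.Prelude.Def_LocalStructure
import Cfsg.Agent.Lib.Helper47.PReducedAmb

set_option autoImplicit false

namespace Cfsg.Agent.Lib.Helper47

open Cfsg
open scoped commutatorElement Pointwise

variable {G : Type*} [Group G]

theorem mem_omegaOne_center_iff {p : ℕ} {K : Subgroup G} {x : G} :
    x ∈ omegaOne p (K ⊓ Subgroup.centralizer (K : Set G)) ↔
      x ∈ K ∧ x ∈ Subgroup.centralizer (K : Set G) ∧ x ^ p = 1 := by
  rw [mem_omegaOne_iff_of_comm (isMulCommutative_inf_centralizer K), Subgroup.mem_inf, and_assoc]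

/-- Conjugation carries `Ω₁Z(K)` to `Ω₁Z(gKg⁻¹)`. -/
theorem conj_mem_omegaOne_center {p : ℕ} {K : Subgroup G} {x : G} (g : G)
    (hx : x ∈ omegaOne p (K ⊓ Subgroup.centralizer (K : Set G))) :
    g * x * g⁻¹ ∈ omegaOne p (K.map (MulAut.conj g).toMonoidHom ⊓
      Subgroup.centralizer ((K.map (MulAut.conj g).toMonoidHom : Subgroup G) : Set G)) := by
  rw [mem_omegaOne_center_iff] at hx ⊢
  obtain ⟨hxK, hxC, hxp⟩ := hx
  refine ⟨conj_mem_map_conj hxK, ?_, ?_⟩
  · rw [Subgroup.mem_centralizer_iff]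
    rintro _ ⟨k, hk, rfl⟩
    have := (Subgroup.mem_centralizer_iff.mp hxC) k hk
    simp only [MulEquiv.coe_toMonoidHom, MulAut.conj_apply]
    calc g * k * g⁻¹ * (g * x * g⁻¹) = g * (k * x) * g⁻¹ := by group
      _ = g * (x * k) * g⁻¹ := by rw [this]
      _ = g * x * g⁻¹ * (g * k * g⁻¹) := by group
  · rw [conj_pow, hxp]; simp

/-- The image in `G` of the conjugate `l • S` of a Sylow subgroup of `L`. -/
theorem sylow_smul_map_subtype {p : ℕ} {L : Subgroup G} (S : Sylow p ↥L) (l : ↥L) :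
    ((l • S : Sylow p ↥L) : Subgroup ↥L).map L.subtype =
      ((S : Subgroup ↥L).map L.subtype).map (MulAut.conj (l : G)).toMonoidHom := by
  ext x
  rw [mem_map_conj_iff]
  constructor
  · rintro ⟨y, hy, rfl⟩
    rw [Sylow.coe_subgroup_smul] at hy
    change y ∈ MulAut.conj l • (S : Subgroup ↥L) at hy
    rw [Subgroup.mem_pointwise_smul_iff_inv_smul_mem] at hy
    refine ⟨_, hy, ?_⟩
    simp [MulAut.smul_def, mul_assoc]
  · rintro ⟨y, hy, hyx⟩
    have hx : x = (l : G) * (y : G) * (l : G)⁻¹ := by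
      have : (y : G) = (l : G)⁻¹ * x * (l : G) := hyx
      rw [this]; group
    refine ⟨l * y * l⁻¹, ?_, by simp [hx]⟩
    rw [Sylow.coe_subgroup_smul]
    change l * y * l⁻¹ ∈ MulAut.conj l • (S : Subgroup ↥L)
    rw [Subgroup.mem_pointwise_smul_iff_inv_smul_mem]
    have : (MulAut.conj l)⁻¹ • (l * y * l⁻¹) = y := by
      simp [MulAut.smul_def, mul_assoc]
    rw [this]; exact hy

theorem sylowCenterClosure_le (p : ℕ) (L : Subgroup G) : sylowCenterClosure p L ≤ L := by
  unfold sylowCenterClosure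
  apply iSup_le
  intro S x hx
  rw [mem_omegaOne_center_iff] at hx
  exact map_subtype_le' L _ hx.1

theorem le_normalizer_sylowCenterClosure (p : ℕ) (L : Subgroup G) :
    L ≤ Subgroup.normalizer ((sylowCenterClosure p L : Subgroup G) : Set G) := by
  rw [Subgroup.le_normalizer_iff]
  intro l hl z hz
  unfold sylowCenterClosure at hz ⊢
  refine Subgroup.iSup_induction _ (C := fun z => l * z * l⁻¹ ∈ ⨆ S : Sylow p ↥L,
      omegaOne p ((S : Subgroup ↥L).map L.subtype ⊓
        Subgroup.centralizer (((S : Subgroup ↥L).map L.subtype : Subgroup G) : Set G))) hz ?_ ?_ ?_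
  · intro S x hx
    have h1 := conj_mem_omegaOne_center l hx
    rw [← sylow_smul_map_subtype S ⟨l, hl⟩] at h1
    exact Subgroup.mem_iSup_of_mem ((⟨l, hl⟩ : ↥L) • S) h1
  · simp
  · intro x y hx hy
    have : l * (x * y) * l⁻¹ = (l * x * l⁻¹) * (l * y * l⁻¹) := by group
    rw [this]; exact Subgroup.mul_mem _ hx hy

/-- `Ω₁Z(T) ≤ Z_L` for a Sylow `p`-subgroup `T ≤ L` of `G`. -/
theorem omegaOne_center_sylow_le_sylowCenterClosure {p : ℕ} [Fact p.Prime] (T : Sylow p G)
    {L : Subgroup G} (hTL : (T : Subgroup G) ≤ L) :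
    omegaOne p ((T : Subgroup G) ⊓ Subgroup.centralizer ((T : Subgroup G) : Set G)) ≤
      sylowCenterClosure p L := by
  unfold sylowCenterClosure
  refine le_iSup_of_le (T.subtype hTL) (le_of_eq ?_)
  have : ((T.subtype hTL : Sylow p ↥L) : Subgroup ↥L).map L.subtype = (T : Subgroup G) := by
    rw [Sylow.coe_subtype, Subgroup.subgroupOf_map_subtype, inf_of_le_left hTL]
  rw [this]

/-- In a group `L` of characteristic `p`, `Ω₁Z(S) ≤ Ω₁Z(O_p(L))` for Sylow subgroups `S` of `L`. -/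
theorem omegaOne_center_sylow_le_of_charP {p : ℕ} [Fact p.Prime] {L : Subgroup G}
    (hL : Subgroup.centralizer (pCore p ↥L : Set ↥L) ≤ pCore p ↥L) (S : Sylow p ↥L) :
    omegaOne p ((S : Subgroup ↥L).map L.subtype ⊓
      Subgroup.centralizer (((S : Subgroup ↥L).map L.subtype : Subgroup G) : Set G)) ≤
    omegaOne p (pCoreOf p L ⊓ Subgroup.centralizer ((pCoreOf p L : Subgroup G) : Set G)) := by
  intro w hw
  rw [mem_omegaOne_center_iff] at hw ⊢
  obtain ⟨hwS, hwC, hwp⟩ := hw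
  have hOS : pCoreOf p L ≤ (S : Subgroup ↥L).map L.subtype :=
    Subgroup.map_mono (pCore_le_sylow S)
  have hwc : w ∈ Subgroup.centralizer ((pCoreOf p L : Subgroup G) : Set G) :=
    Subgroup.centralizer_le (show ((pCoreOf p L : Subgroup G) : Set G) ⊆ _ from hOS) hwC
  have hwL : w ∈ L := map_subtype_le' L _ hwS
  have h1 : (⟨w, hwL⟩ : ↥L) ∈ Subgroup.centralizer (pCore p ↥L : Set ↥L) := by
    rw [mem_centralizer_subtype_iff]; exact hwc
  exact ⟨⟨⟨w, hwL⟩, hL h1, rfl⟩, hwc, hwp⟩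

theorem sylowCenterClosure_le_omegaOne_of_charP {p : ℕ} [Fact p.Prime] {L : Subgroup G}
    (hL : Subgroup.centralizer (pCore p ↥L : Set ↥L) ≤ pCore p ↥L) :
    sylowCenterClosure p L ≤
      omegaOne p (pCoreOf p L ⊓ Subgroup.centralizer ((pCoreOf p L : Subgroup G) : Set G)) := by
  unfold sylowCenterClosure
  exact iSup_le (fun S => omegaOne_center_sylow_le_of_charP hL S)

/-- Ambient version of `D = (D ∩ C)(D ∩ S)`. -/
theorem le_inf_sup_inf_sylow_ambient {p : ℕ} [Fact p.Prime] [Finite G] {L D C : Subgroup G}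
    (hDL : D ≤ L) (hLD : L ≤ Subgroup.normalizer (D : Set G))
    (hLC : L ≤ Subgroup.normalizer (C : Set G)) (hDp : ∀ d ∈ D, ∃ k : ℕ, d ^ p ^ k ∈ C)
    (S : Sylow p ↥L) : D ≤ (D ⊓ C) ⊔ (D ⊓ (S : Subgroup ↥L).map L.subtype) := by
  have hD'n : (D.subgroupOf L).Normal := Subgroup.normal_subgroupOf_of_le_normalizer hLD
  have hC'n : (C.subgroupOf L).Normal := Subgroup.normal_subgroupOf_of_le_normalizer hLC
  have hD'p : ∀ d ∈ D.subgroupOf L, ∃ k : ℕ, d ^ p ^ k ∈ C.subgroupOf L := by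
    intro d hd
    rw [Subgroup.mem_subgroupOf] at hd
    obtain ⟨k, hk⟩ := hDp _ hd
    exact ⟨k, by rw [Subgroup.mem_subgroupOf]; simpa using hk⟩
  have h1 := le_inf_sup_inf_sylow hD'p S
  intro d hd
  have h2 := h1 (show (⟨d, hDL hd⟩ : ↥L) ∈ D.subgroupOf L by rw [Subgroup.mem_subgroupOf]; exact hd)
  have h3 : L.subtype ⟨d, hDL hd⟩ ∈ ((D.subgroupOf L ⊓ C.subgroupOf L) ⊔
      (D.subgroupOf L ⊓ (S : Subgroup ↥L))).map L.subtype := Subgroup.mem_map_of_mem _ h2
  rw [Subgroup.map_sup] at h3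
  refine (sup_le_sup ?_ ?_ : _ ≤ (D ⊓ C) ⊔ (D ⊓ (S : Subgroup ↥L).map L.subtype)) h3
  · rintro _ ⟨x, ⟨hxD, hxC⟩, rfl⟩
    exact ⟨by simpa [Subgroup.mem_subgroupOf] using hxD, by simpa [Subgroup.mem_subgroupOf] using hxC⟩
  · rintro _ ⟨x, ⟨hxD, hxS⟩, rfl⟩
    exact ⟨by simpa [Subgroup.mem_subgroupOf] using hxD, Subgroup.mem_map_of_mem _ hxS⟩

/-- `N(V) ≤ N(C(V))`. -/
theorem normalizer_le_normalizer_centralizer (V : Subgroup G) :
    Subgroup.normalizer (V : Set G) ≤
      Subgroup.normalizer ((Subgroup.centralizer (V : Set G) : Subgroup G) : Set G) := by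
  rw [Subgroup.le_normalizer_iff]
  intro k hk c hc
  rw [Subgroup.mem_centralizer_iff] at hc ⊢
  intro v hv
  have hv' : k⁻¹ * v * k ∈ V := (Subgroup.mem_normalizer_iff''.mp hk v).mp hv
  have := hc _ hv'
  calc v * (k * c * k⁻¹) = k * ((k⁻¹ * v * k) * c) * k⁻¹ := by group
    _ = k * (c * (k⁻¹ * v * k)) * k⁻¹ := by rw [this]
    _ = k * c * k⁻¹ * v := by group

/-- In a subgroup `L` of characteristic `p` of the finite group `G`, `Z_L ≤ Y_L`. -/
theorem sylowCenterClosure_le_largestPReducedOf {p : ℕ} [Fact p.Prime] [Finite G] {L : Subgroup G}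
    (hL : Subgroup.centralizer (pCore p ↥L : Set ↥L) ≤ pCore p ↥L) :
    sylowCenterClosure p L ≤ largestPReducedOf p L := by
  apply le_largestPReducedOf (sylowCenterClosure_le p L) (le_normalizer_sylowCenterClosure p L)
  · exact IsElementaryAbelian.mono (isElementaryAbelian_omegaOne_center p _)
      (sylowCenterClosure_le_omegaOne_of_charP hL)
  · intro D hDL hLD hDp
    have hLC : L ≤ Subgroup.normalizer
        ((Subgroup.centralizer ((sylowCenterClosure p L : Subgroup G) : Set G) : Subgroup G) : Set G) :=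
      (le_normalizer_sylowCenterClosure p L).trans (normalizer_le_normalizer_centralizer _)
    rw [Subgroup.le_centralizer_iff]
    unfold sylowCenterClosure
    apply iSup_le
    intro S
    rw [← Subgroup.le_centralizer_iff]
    have hsplit := le_inf_sup_inf_sylow_ambient hDL hLD hLC hDp S
    refine hsplit.trans (sup_le ?_ ?_)
    · refine inf_le_right.trans (Subgroup.centralizer_le ?_)
      intro x hx
      exact (le_iSup (fun S : Sylow p ↥L => omegaOne p ((S : Subgroup ↥L).map L.subtype ⊓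
        Subgroup.centralizer (((S : Subgroup ↥L).map L.subtype : Subgroup G) : Set G))) S) hx
    · refine inf_le_right.trans ?_
      rw [Subgroup.le_centralizer_iff]
      intro w hw
      rw [mem_omegaOne_center_iff] at hw
      exact hw.2.1

end Cfsg.Agent.Lib.Helper47
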