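import Mathlib
import Cfsg.Prelude.Def_LocalStructure
import Cfsg.Agent.Lib.Helper47.SylowCenter

set_option autoImplicit false

/-!
Weakly closed subgroups (helper47): if `Q` is weakly closed in the Sylow `p`-subgroup `T` of the
finite group `G` and `Q, Q^g ≤ X`, then `Q^g = Q^x` for some `x ∈ X`.
-/

namespace Cfsg.Agent.Lib.Helper47

open Cfsg
open scoped Pointwise

variable {G : Type*} [Group G]

theorem map_conj_map_conj (V : Subgroup G) (a b : G) :
    (V.map (MulAut.conj a).toMonoidHom).map (MulAut.conj b).toMonoidHom =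
      V.map (MulAut.conj (b * a)).toMonoidHom := by
  ext x
  simp only [mem_map_conj_iff, mul_inv_rev, mul_assoc]

theorem map_conj_one (V : Subgroup G) : V.map (MulAut.conj (1 : G)).toMonoidHom = V := by
  ext x
  simp

/-- The conjugate `h • T` of a Sylow subgroup in `map` form. -/
theorem sylow_smul_eq_map_conj {p : ℕ} (T : Sylow p G) (h : G) :
    ((h • T : Sylow p G) : Subgroup G) = (T : Subgroup G).map (MulAut.conj h).toMonoidHom := by
  rw [Sylow.coe_subgroup_smul]
  rfl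

/-- Every `p`-subgroup lies in a conjugate of the Sylow `p`-subgroup `T`. -/
theorem exists_le_map_conj_sylow [Finite G] {p : ℕ} [Fact p.Prime] (T : Sylow p G)
    {P₀ : Subgroup G} (hP : IsPGroup p ↥P₀) :
    ∃ h : G, P₀ ≤ (T : Subgroup G).map (MulAut.conj h).toMonoidHom := by
  obtain ⟨T', hT'⟩ := hP.exists_le_sylow
  obtain ⟨h, hh⟩ := MulAction.exists_smul_eq G T T'
  refine ⟨h, ?_⟩
  rw [← sylow_smul_eq_map_conj, hh]
  exact hT'

/-- Two `p`-subgroups of `X` can be brought into a common `p`-subgroup by conjugating one of them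
inside `X`. -/
theorem exists_conj_le_common [Finite G] {p : ℕ} [Fact p.Prime] {X A B : Subgroup G}
    (hAX : A ≤ X) (hBX : B ≤ X) (hA : IsPGroup p ↥A) (hB : IsPGroup p ↥B) :
    ∃ x ∈ X, ∃ P₀ : Subgroup G, IsPGroup p ↥P₀ ∧ A ≤ P₀ ∧
      B.map (MulAut.conj x).toMonoidHom ≤ P₀ := by
  obtain ⟨P, hP⟩ := (hA.comap_subtype (K := X)).exists_le_sylow
  obtain ⟨P₂, hP₂⟩ := (hB.comap_subtype (K := X)).exists_le_sylow
  obtain ⟨y, hy⟩ := MulAction.exists_smul_eq ↥X P₂ P
  refine ⟨(y : G), y.2, (P : Subgroup ↥X).map X.subtype, P.2.map _, ?_, ?_⟩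
  · intro a ha
    exact ⟨⟨a, hAX ha⟩, hP (Subgroup.mem_subgroupOf.mpr ha), rfl⟩
  · rw [← hy, sylow_smul_map_subtype]
    apply Subgroup.map_mono
    intro b hb
    exact ⟨⟨b, hBX hb⟩, hP₂ (Subgroup.mem_subgroupOf.mpr hb), rfl⟩

/-- Conjugates of a weakly closed subgroup inside a subgroup `X ≥ Q` are conjugate in `X`. -/
theorem exists_conj_eq_of_isWeaklyClosed [Finite G] {p : ℕ} [Fact p.Prime] {Q : Subgroup G}
    (T : Sylow p G) (hwc : IsWeaklyClosed Q (T : Subgroup G)) {X : Subgroup G} (hQX : Q ≤ X)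
    {g : G} (hg : Q.map (MulAut.conj g).toMonoidHom ≤ X) :
    ∃ x ∈ X, Q.map (MulAut.conj g).toMonoidHom = Q.map (MulAut.conj x).toMonoidHom := by
  have hQp : IsPGroup p ↥Q := T.2.to_le hwc.1
  obtain ⟨x, hxX, P₀, hP₀, hQP, hgP⟩ := exists_conj_le_common hQX hg hQp (hQp.map _)
  rw [map_conj_map_conj] at hgP
  obtain ⟨h, hh⟩ := exists_le_map_conj_sylow T hP₀
  have hT : ((T : Subgroup G).map (MulAut.conj h).toMonoidHom).map (MulAut.conj h⁻¹).toMonoidHom =
      (T : Subgroup G) := by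
    rw [map_conj_map_conj, inv_mul_cancel, map_conj_one]
  have h1 : Q.map (MulAut.conj h⁻¹).toMonoidHom ≤ (T : Subgroup G) := by
    rw [← hT]; exact Subgroup.map_mono (hQP.trans hh)
  have h2 := hwc.2 h⁻¹ h1
  have h3 : Q.map (MulAut.conj (h⁻¹ * (x * g))).toMonoidHom ≤ (T : Subgroup G) := by
    rw [← map_conj_map_conj, ← hT]; exact Subgroup.map_mono (hgP.trans hh)
  have h4 := hwc.2 _ h3
  -- `Q^{xg} = Q`
  have h5 : Q.map (MulAut.conj (x * g)).toMonoidHom = Q := by
    have e1 := congrArg (Subgroup.map (MulAut.conj h).toMonoidHom) h4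
    have e2 := congrArg (Subgroup.map (MulAut.conj h).toMonoidHom) h2
    rw [map_conj_map_conj, mul_inv_cancel, map_conj_one] at e2
    rw [map_conj_map_conj, ← mul_assoc, mul_inv_cancel, one_mul, ← e2] at e1
    exact e1
  refine ⟨x⁻¹, X.inv_mem hxX, ?_⟩
  have e3 := congrArg (Subgroup.map (MulAut.conj x⁻¹).toMonoidHom) h5
  rw [map_conj_map_conj, ← mul_assoc, inv_mul_cancel, one_mul] at e3
  exact e3

end Cfsg.Agent.Lib.Helper47
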