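import Mathlib
import Cfsg.Prelude.Def_LocalStructure
import Cfsg.Agent.Lib.Helper47.WeaklyClosed

set_option autoImplicit false

/-!
Large subgroups (helper47): conjugates of large subgroups are large; a large `p`-subgroup is weakly
closed in every Sylow `p`-subgroup containing it.
-/

namespace Cfsg.Agent.Lib.Helper47

open Cfsg
open scoped Pointwise

variable {G : Type*} [Group G]

theorem centralizer_map_conj (V : Subgroup G) (g : G) :
    Subgroup.centralizer ((V.map (MulAut.conj g).toMonoidHom : Subgroup G) : Set G) =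
      (Subgroup.centralizer (V : Set G)).map (MulAut.conj g).toMonoidHom := by
  ext x
  rw [mem_map_conj_iff, Subgroup.mem_centralizer_iff, Subgroup.mem_centralizer_iff]
  constructor
  · intro h v hv
    have := h (g * v * g⁻¹) (conj_mem_map_conj hv)
    calc v * (g⁻¹ * x * g) = g⁻¹ * ((g * v * g⁻¹) * x) * g := by group
      _ = g⁻¹ * (x * (g * v * g⁻¹)) * g := by rw [this]
      _ = g⁻¹ * x * g * v := by group
  · rintro h _ ⟨v, hv, rfl⟩
    have := h v hv
    simp only [MulEquiv.coe_toMonoidHom, MulAut.conj_apply]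
    calc g * v * g⁻¹ * x = g * (v * (g⁻¹ * x * g)) * g⁻¹ := by group
      _ = g * ((g⁻¹ * x * g) * v) * g⁻¹ := by rw [this]
      _ = x * (g * v * g⁻¹) := by group

theorem normalizer_map_conj (V : Subgroup G) (g : G) :
    Subgroup.normalizer ((V.map (MulAut.conj g).toMonoidHom : Subgroup G) : Set G) =
      (Subgroup.normalizer (V : Set G)).map (MulAut.conj g).toMonoidHom := by
  ext x
  rw [mem_map_conj_iff, Subgroup.mem_normalizer_iff_map_conj_eq,
    Subgroup.mem_normalizer_iff_map_conj_eq]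
  show (V.map (MulAut.conj g).toMonoidHom).map (MulAut.conj x).toMonoidHom = _ ↔
    V.map (MulAut.conj (g⁻¹ * x * g)).toMonoidHom = V
  rw [map_conj_map_conj]
  constructor
  · intro h
    have := congrArg (Subgroup.map (MulAut.conj g⁻¹).toMonoidHom) h
    rw [map_conj_map_conj, map_conj_map_conj, inv_mul_cancel, map_conj_one, ← mul_assoc] at this
    exact this
  · intro h
    have := congrArg (Subgroup.map (MulAut.conj g).toMonoidHom) h
    rw [map_conj_map_conj] at this
    rw [← this]
    congr 2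
    group

/-- A conjugate of a large subgroup is large. -/
theorem isLarge_map_conj {Q : Subgroup G} (hQ : IsLarge Q) (g : G) :
    IsLarge (Q.map (MulAut.conj g).toMonoidHom) := by
  refine ⟨?_, ?_⟩
  · rw [centralizer_map_conj]
    exact Subgroup.map_mono hQ.1
  · intro U hU hU1
    rw [centralizer_map_conj] at hU
    -- `U^{g⁻¹} ≤ C(Q)`
    have h1 : U.map (MulAut.conj g⁻¹).toMonoidHom ≤ Subgroup.centralizer (Q : Set G) := by
      have := Subgroup.map_mono (f := (MulAut.conj g⁻¹).toMonoidHom) hU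
      rwa [map_conj_map_conj, inv_mul_cancel, map_conj_one] at this
    have h2 : U.map (MulAut.conj g⁻¹).toMonoidHom ≠ ⊥ := by
      intro h
      apply hU1
      have := congrArg (Subgroup.map (MulAut.conj g).toMonoidHom) h
      rwa [map_conj_map_conj, mul_inv_cancel, map_conj_one, Subgroup.map_bot] at this
    have h3 := hQ.2 _ h1 h2
    rw [normalizer_map_conj] at h3
    have h4 := Subgroup.map_mono (f := (MulAut.conj g).toMonoidHom) h3
    rw [map_conj_map_conj, mul_inv_cancel, map_conj_one] at h4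
    rw [normalizer_map_conj]
    exact h4

/-- A large subgroup contained in a Sylow `p`-subgroup `S` is weakly closed in `S`. -/
theorem isWeaklyClosed_of_isLarge [Finite G] {p : ℕ} [Fact p.Prime] {Q : Subgroup G}
    (hQ : IsLarge Q) (hQ1 : Q ≠ ⊥) (S : Sylow p G) (hQS : Q ≤ (S : Subgroup G)) :
    IsWeaklyClosed Q (S : Subgroup G) := by
  refine ⟨hQS, ?_⟩
  intro g hg
  -- `Z = Z(S)`
  set Z := (S : Subgroup G) ⊓ Subgroup.centralizer ((S : Subgroup G) : Set G) with hZ
  have hS1 : (S : Subgroup G) ≠ ⊥ := fun h => hQ1 (le_bot_iff.mp (h ▸ hQS))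
  have hZ1 : Z ≠ ⊥ := by
    have hnt : Nontrivial ↥(S : Subgroup G) := (Subgroup.nontrivial_iff_ne_bot _).mpr hS1
    have hc := S.2.center_nontrivial
    obtain ⟨⟨z, hz⟩, hz1⟩ := exists_ne (1 : ↥(Subgroup.center ↥(S : Subgroup G)))
    intro hbot
    apply hz1
    have hzZ : (z : G) ∈ Z := by
      refine Subgroup.mem_inf.mpr ⟨z.2, ?_⟩
      rw [Subgroup.mem_centralizer_iff]
      intro s hs
      have := Subgroup.mem_center_iff.mp hz ⟨s, hs⟩
      exact congrArg Subtype.val this
    rw [hbot, Subgroup.mem_bot] at hzZ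
    apply Subtype.ext
    apply Subtype.ext
    exact hzZ
  have hZQ : Z ≤ Subgroup.centralizer (Q : Set G) :=
    inf_le_right.trans (Subgroup.centralizer_le hQS)
  have hZQg : Z ≤ Subgroup.centralizer ((Q.map (MulAut.conj g).toMonoidHom : Subgroup G) : Set G) :=
    inf_le_right.trans (Subgroup.centralizer_le hg)
  have hNZ : Subgroup.normalizer (Z : Set G) ≤ Subgroup.normalizer (Q : Set G) := hQ.2 Z hZQ hZ1
  have hNZg := (isLarge_map_conj hQ g).2 Z hZQg hZ1
  -- `N(S) ≤ N(Z)`
  have hNSZ : Subgroup.normalizer ((S : Subgroup G) : Set G) ≤ Subgroup.normalizer (Z : Set G) := by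
    intro n hn
    rw [Subgroup.mem_normalizer_iff_map_conj_eq] at hn ⊢
    show Z.map (MulAut.conj n).toMonoidHom = Z
    have h1 : Subgroup.centralizer ((S : Subgroup G) : Set G) =
        (Subgroup.centralizer ((S : Subgroup G) : Set G)).map (MulAut.conj n).toMonoidHom := by
      rw [← centralizer_map_conj]
      congr 2
      exact hn.symm
    rw [hZ, Subgroup.map_inf_eq _ _ _ (MulAut.conj n).injective]
    · show (S : Subgroup G).map (MulAut.conj n).toMonoidHom ⊓ _ = _
      rw [← h1]
      congr 1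
  -- `S ≤ N(Q)` and `S^{g⁻¹} ≤ N(Q)`
  have hSN : (S : Subgroup G) ≤ Subgroup.normalizer (Q : Set G) :=
    (Subgroup.le_normalizer.trans hNSZ).trans hNZ
  have hSgN : (S : Subgroup G).map (MulAut.conj g⁻¹).toMonoidHom ≤ Subgroup.normalizer (Q : Set G) := by
    have h1 : (S : Subgroup G) ≤ Subgroup.normalizer
        ((Q.map (MulAut.conj g).toMonoidHom : Subgroup G) : Set G) :=
      (Subgroup.le_normalizer.trans hNSZ).trans hNZg
    rw [normalizer_map_conj] at h1
    have h2 := Subgroup.map_mono (f := (MulAut.conj g⁻¹).toMonoidHom) h1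
    rwa [map_conj_map_conj, inv_mul_cancel, map_conj_one] at h2
  -- conjugate inside `N(Q)`
  set N := Subgroup.normalizer (Q : Set G) with hN
  have hSg' : ((g⁻¹ • S : Sylow p G) : Subgroup G) ≤ N := by
    rw [sylow_smul_eq_map_conj]; exact hSgN
  obtain ⟨n, hn⟩ := MulAction.exists_smul_eq ↥N ((g⁻¹ • S).subtype hSg') (S.subtype hSN)
  have h5 := congrArg (fun P : Sylow p ↥N => (P : Subgroup ↥N).map N.subtype) hn
  rw [sylow_smul_map_subtype, Sylow.coe_subtype, Sylow.coe_subtype,
    Subgroup.subgroupOf_map_subtype, Subgroup.subgroupOf_map_subtype, inf_of_le_left hSg',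
    inf_of_le_left hSN, sylow_smul_eq_map_conj, map_conj_map_conj] at h5
  -- `n g⁻¹ ∈ N(S) ≤ N(Z) ≤ N(Q)`
  have h6 : (n : G) * g⁻¹ ∈ Subgroup.normalizer (Q : Set G) := by
    apply hNZ
    apply hNSZ
    rw [Subgroup.mem_normalizer_iff_map_conj_eq]
    exact h5
  have h7 : g⁻¹ ∈ Subgroup.normalizer (Q : Set G) := by
    have := Subgroup.mul_mem _ (Subgroup.inv_mem _ n.2) h6
    simpa using this
  have h8 : g ∈ Subgroup.normalizer (Q : Set G) := by
    have := Subgroup.inv_mem _ h7
    simpa using this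
  exact map_conj_eq_of_mem_normalizer h8

end Cfsg.Agent.Lib.Helper47

namespace Cfsg.Agent.Lib.Helper47

open Cfsg

variable {G : Type*} [Group G]

/-- A `p`-group `Q` normalizing a nontrivial `p`-group `Y` centralizes a nontrivial element of
`Y`. -/
theorem inf_centralizer_ne_bot_of_isPGroup [Finite G] {p : ℕ} [Fact p.Prime] {Q Y : Subgroup G}
    (hQ : IsPGroup p ↥Q) (hY : IsPGroup p ↥Y) (hY1 : Y ≠ ⊥)
    (hQY : Q ≤ Subgroup.normalizer (Y : Set G)) :
    Y ⊓ Subgroup.centralizer (Q : Set G) ≠ ⊥ := by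
  let _ : MulDistribMulAction ↥Q ↥Y := MulDistribMulAction.compHom ↥Y (Subgroup.inclusion hQY)
  have hsmul : ∀ (q : ↥Q) (a : ↥Y), ((q • a : ↥Y) : G) = (q : G) * (a : G) * (q : G)⁻¹ :=
    fun _ _ => rfl
  have hdvd : p ∣ Nat.card ↥Y := by
    rcases hY.card_eq_or_dvd with h | h
    · exact absurd (Subgroup.card_eq_one.mp h) hY1
    · exact h
  have hone : (1 : ↥Y) ∈ MulAction.fixedPoints ↥Q ↥Y := fun q => smul_one q
  obtain ⟨b, hb, hb1⟩ := hQ.exists_fixed_point_of_prime_dvd_card_of_fixed_point ↥Y hdvd hone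
  intro hbot
  apply hb1
  have hmem : (b : G) ∈ Y ⊓ Subgroup.centralizer (Q : Set G) := by
    refine Subgroup.mem_inf.mpr ⟨b.2, ?_⟩
    rw [Subgroup.mem_centralizer_iff]
    intro q hq
    have := congrArg Subtype.val (hb ⟨q, hq⟩)
    rw [hsmul] at this
    calc q * (b : G) = (q * (b : G) * q⁻¹) * q := by group
      _ = (b : G) * q := by rw [this]
  rw [hbot, Subgroup.mem_bot] at hmem
  exact (Subtype.ext hmem).symm

/-- If the large `p`-subgroup `Q` normalizes the nontrivial `p`-subgroup `Y`, then `C(Y)`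
normalizes `Q`. -/
theorem centralizer_le_normalizer_of_isLarge [Finite G] {p : ℕ} [Fact p.Prime] {Q Y : Subgroup G}
    (hL : IsLarge Q) (hQ : IsPGroup p ↥Q) (hY : IsPGroup p ↥Y) (hY1 : Y ≠ ⊥)
    (hQY : Q ≤ Subgroup.normalizer (Y : Set G)) :
    Subgroup.centralizer (Y : Set G) ≤ Subgroup.normalizer (Q : Set G) := by
  have hU1 := inf_centralizer_ne_bot_of_isPGroup hQ hY hY1 hQY
  have h1 := hL.2 _ inf_le_right hU1
  refine le_trans ?_ h1
  exact (Subgroup.centralizer_le (show ((Y ⊓ Subgroup.centralizer (Q : Set G) : Subgroup G) : Set G) ⊆ Y from inf_le_left)).trans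
    (Subgroup.centralizer_le_normalizer _)

end Cfsg.Agent.Lib.Helper47
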