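import Mathlib
import Cfsg.Prelude.Def_LocalStructure
import Cfsg.Agent.Lib.Helper47.SylowCenter

set_option autoImplicit false

namespace Cfsg.Agent.Lib.Helper47

open Cfsg
open scoped commutatorElement Pointwise

variable {G : Type*} [Group G]

/-- If `d` normalizes `C` and `c ∈ C` then `(d c)^n ∈ d^n C`. -/
theorem exists_mul_pow_eq {C : Subgroup G} {d c : G} (hd : d ∈ Subgroup.normalizer (C : Set G))
    (hc : c ∈ C) (n : ℕ) : ∃ c' ∈ C, (d * c) ^ n = d ^ n * c' := by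
  induction n with
  | zero => exact ⟨1, C.one_mem, by simp⟩
  | succ n ih =>
    obtain ⟨c', hc', h⟩ := ih
    refine ⟨(d⁻¹ * c' * d) * c, C.mul_mem ?_ hc, ?_⟩
    · exact (Subgroup.mem_normalizer_iff''.mp hd c').mp hc'
    · rw [pow_succ, h, pow_succ]; group

/-- If `D ≤ N(C)` is a `p`-group modulo `C`, so is `D ⊔ C`. -/
theorem exists_pow_mem_of_mem_sup' {p : ℕ} {D C : Subgroup G}
    (hDC : D ≤ Subgroup.normalizer (C : Set G)) (hDp : ∀ d ∈ D, ∃ k : ℕ, d ^ p ^ k ∈ C)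
    {x : G} (hx : x ∈ D ⊔ C) : ∃ k : ℕ, x ^ p ^ k ∈ C := by
  have hx' : x ∈ ((D ⊔ C : Subgroup G) : Set G) := hx
  rw [Subgroup.coe_mul_of_left_le_normalizer_right D C hDC] at hx'
  obtain ⟨d, hd, c, hc, rfl⟩ := hx'
  obtain ⟨k, hk⟩ := hDp d hd
  obtain ⟨c', hc', h⟩ := exists_mul_pow_eq (hDC hd) hc (p ^ k)
  exact ⟨k, by rw [h]; exact C.mul_mem hk hc'⟩

end Cfsg.Agent.Lib.Helper47
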