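import Mathlib
import Cfsg.Prelude.Def_LocalStructure
import Cfsg.Agent.Lib.Helper47.PReducedAmb
import Cfsg.Agent.Lib.Helper47.PReduced4
import Cfsg.Agent.Lib.Helper47.SylowCenter
import Cfsg.Agent.Lib.Helper47.Large

/-!
# Ambient form of `p`-reduced normal subgroups (helper47)

`PRedIn p L V`: `V` is a `p`-reduced normal subgroup of the subgroup `L`, everything stated inside the
ambient group. `maxPActing p K V`: the largest subgroup of `K` normalized by `K` acting on `V` as a
`p`-group.
-/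

set_option autoImplicit false

namespace Cfsg.Agent.Lib.Helper47

open Cfsg

variable {G : Type*} [Group G]

/-- `D` acts on `V` as a `p`-group: a `p`-power of every element of `D` centralizes `V`. -/
def PActs (p : ℕ) (D V : Subgroup G) : Prop :=
  ∀ d ∈ D, ∃ k : ℕ, d ^ p ^ k ∈ Subgroup.centralizer (V : Set G)

theorem PActs.mono_left {p : ℕ} {D D' V : Subgroup G} (h : PActs p D V) (hD : D' ≤ D) :
    PActs p D' V := fun d hd => h d (hD hd)

theorem PActs.mono_right {p : ℕ} {D V V' : Subgroup G} (h : PActs p D V) (hV : V' ≤ V) :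
    PActs p D V' := fun d hd => by
  obtain ⟨k, hk⟩ := h d hd
  exact ⟨k, Subgroup.centralizer_le hV hk⟩

theorem pActs_of_le_centralizer {p : ℕ} {D V : Subgroup G}
    (h : D ≤ Subgroup.centralizer (V : Set G)) : PActs p D V := fun d hd =>
  ⟨0, by simpa using h hd⟩

/-- Some `p`-power of an element of a finite group has order prime to `p`. -/
theorem exists_pow_coprime' [Finite G] (p : ℕ) [hp : Fact p.Prime] (d : G) :
    ∃ k : ℕ, Nat.Coprime (orderOf (d ^ p ^ k)) p := by
  have hpos : 0 < orderOf d := orderOf_pos d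
  obtain ⟨k, m, hm, hkm⟩ := Nat.exists_eq_pow_mul_and_not_dvd hpos.ne' p hp.out.ne_one
  refine ⟨k, ?_⟩
  have hpk : p ^ k ≠ 0 := pow_ne_zero _ hp.out.ne_zero
  rw [orderOf_pow' d hpk, hkm, Nat.gcd_mul_right_left,
    Nat.mul_div_cancel_left _ (Nat.pos_of_ne_zero hpk)]
  exact (Nat.Coprime.symm ((Nat.Prime.coprime_iff_not_dvd hp.out).mpr hm))

/-- If the `p'`-elements of `D` centralize `V` then `D` acts on `V` as a `p`-group. -/
theorem pActs_of_coprime [Finite G] {p : ℕ} [Fact p.Prime] {D V : Subgroup G}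
    (h : ∀ y ∈ D, Nat.Coprime (orderOf y) p → y ∈ Subgroup.centralizer (V : Set G)) :
    PActs p D V := by
  intro d hd
  obtain ⟨k, hk⟩ := exists_pow_coprime' p d
  exact ⟨k, h _ (Subgroup.pow_mem _ hd _) hk⟩

/-- A `p'`-element of a subgroup acting as a `p`-group centralizes. -/
theorem PActs.mem_centralizer_of_coprime [Finite G] {p : ℕ} [Fact p.Prime] {D V : Subgroup G}
    (h : PActs p D V) {y : G} (hy : y ∈ D) (hco : Nat.Coprime (orderOf y) p) :
    y ∈ Subgroup.centralizer (V : Set G) := by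
  obtain ⟨k, hk⟩ := h y hy
  obtain ⟨m, hm⟩ := exists_pow_eq_self_of_coprime (Nat.Coprime.pow_right k hco).symm
  rw [← hm]
  exact Subgroup.pow_mem _ hk m

/-- `K ≤ N(D₁)` and `K ≤ N(D₂)` give `K ≤ N(D₁ ⊔ D₂)`. -/
theorem le_normalizer_sup' {K D₁ D₂ : Subgroup G} (h1 : K ≤ Subgroup.normalizer (D₁ : Set G))
    (h2 : K ≤ Subgroup.normalizer (D₂ : Set G)) :
    K ≤ Subgroup.normalizer ((D₁ ⊔ D₂ : Subgroup G) : Set G) := by
  rw [Subgroup.sup_eq_closure, Subgroup.le_normalizer_closure_iff]
  rintro k hk x (hx | hx)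
  · exact Subgroup.subset_closure (Or.inl (conj_mem_of_le_normalizer h1 hk hx))
  · exact Subgroup.subset_closure (Or.inr (conj_mem_of_le_normalizer h2 hk hx))

/-- Joins of `K`-invariant subgroups of `K` acting as `p`-groups act as `p`-groups. -/
theorem PActs.sup {p : ℕ} {K D₁ D₂ V : Subgroup G} (hKV : K ≤ Subgroup.normalizer (V : Set G))
    (hD₁K : D₁ ≤ K) (hD₂K : D₂ ≤ K) (hKD₂ : K ≤ Subgroup.normalizer (D₂ : Set G))
    (h1 : PActs p D₁ V) (h2 : PActs p D₂ V) : PActs p (D₁ ⊔ D₂) V := by
  have hKC : K ≤ Subgroup.normalizer ((Subgroup.centralizer (V : Set G) : Subgroup G) : Set G) :=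
    hKV.trans (normalizer_le_normalizer_centralizer V)
  intro x hx
  have hx' : x ∈ D₁ ⊔ (D₂ ⊔ Subgroup.centralizer (V : Set G)) := by
    rw [← sup_assoc]
    exact Subgroup.mem_sup_left hx
  have hn1 : D₁ ≤ Subgroup.normalizer ((D₂ ⊔ Subgroup.centralizer (V : Set G) : Subgroup G) : Set G) :=
    hD₁K.trans (le_normalizer_sup' hKD₂ hKC)
  have hp1 : ∀ d ∈ D₁, ∃ k : ℕ, d ^ p ^ k ∈ D₂ ⊔ Subgroup.centralizer (V : Set G) := by
    intro d hd
    obtain ⟨k, hk⟩ := h1 d hd
    exact ⟨k, Subgroup.mem_sup_right hk⟩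
  obtain ⟨k, hk⟩ := exists_pow_mem_of_mem_sup' hn1 hp1 hx'
  obtain ⟨j, hj⟩ := exists_pow_mem_of_mem_sup' (hD₂K.trans hKC) h2 hk
  refine ⟨k + j, ?_⟩
  rw [pow_add, pow_mul]
  exact hj

/-- The largest subgroup of `K`, normalized by `K`, acting on `V` as a `p`-group. -/
def maxPActing (p : ℕ) (K V : Subgroup G) : Subgroup G :=
  sSup {D : Subgroup G | D ≤ K ∧ K ≤ Subgroup.normalizer (D : Set G) ∧ PActs p D V}

theorem maxPActing_le (p : ℕ) (K V : Subgroup G) : maxPActing p K V ≤ K :=
  sSup_le fun _ hD => hD.1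

theorem le_maxPActing {p : ℕ} {K V D : Subgroup G} (hDK : D ≤ K)
    (hKD : K ≤ Subgroup.normalizer (D : Set G)) (h : PActs p D V) : D ≤ maxPActing p K V :=
  le_sSup ⟨hDK, hKD, h⟩

theorem maxPActing_mem [Finite G] {p : ℕ} {K V : Subgroup G}
    (hKV : K ≤ Subgroup.normalizer (V : Set G)) :
    maxPActing p K V ∈ {D : Subgroup G | D ≤ K ∧ K ≤ Subgroup.normalizer (D : Set G) ∧ PActs p D V} := by
  apply SupClosed.sSup_mem _ (Set.toFinite _) _ subset_rfl
  · rintro D₁ ⟨h1, h2, h3⟩ D₂ ⟨h4, h5, h6⟩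
    exact ⟨sup_le h1 h4, le_normalizer_sup' h2 h5, PActs.sup hKV h1 h4 h5 h3 h6⟩
  · refine ⟨bot_le, ?_, ?_⟩
    · intro k _
      rw [Subgroup.mem_normalizer_iff]
      intro x
      simp [Subgroup.mem_bot]
    · intro d hd
      rw [Subgroup.mem_bot] at hd
      subst hd
      exact ⟨0, by simp⟩

theorem le_normalizer_maxPActing [Finite G] {p : ℕ} {K V : Subgroup G}
    (hKV : K ≤ Subgroup.normalizer (V : Set G)) :
    K ≤ Subgroup.normalizer ((maxPActing p K V : Subgroup G) : Set G) := (maxPActing_mem hKV).2.1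

theorem pActs_maxPActing [Finite G] {p : ℕ} {K V : Subgroup G}
    (hKV : K ≤ Subgroup.normalizer (V : Set G)) : PActs p (maxPActing p K V) V :=
  (maxPActing_mem hKV).2.2

/-- `PActs` is invariant under conjugation. -/
theorem PActs.map_conj {p : ℕ} {D V : Subgroup G} (h : PActs p D V) (g : G) :
    PActs p (D.map (MulAut.conj g).toMonoidHom) (V.map (MulAut.conj g).toMonoidHom) := by
  rintro _ ⟨d, hd, rfl⟩
  obtain ⟨k, hk⟩ := h d hd
  refine ⟨k, ?_⟩
  rw [centralizer_map_conj, ← map_pow]
  exact Subgroup.mem_map_of_mem _ hk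

/-- Elements normalizing `K` and `V` normalize `maxPActing p K V`. -/
theorem normalizer_inf_le_normalizer_maxPActing (p : ℕ) (K V : Subgroup G) :
    Subgroup.normalizer (K : Set G) ⊓ Subgroup.normalizer (V : Set G) ≤
      Subgroup.normalizer ((maxPActing p K V : Subgroup G) : Set G) := by
  have key : ∀ g : G, g ∈ Subgroup.normalizer (K : Set G) ⊓ Subgroup.normalizer (V : Set G) →
      (maxPActing p K V).map (MulAut.conj g).toMonoidHom ≤ maxPActing p K V := by
    rintro g ⟨hgK, hgV⟩
    rw [Subgroup.map_le_iff_le_comap]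
    apply sSup_le
    rintro D ⟨h1, h2, h3⟩
    rw [← Subgroup.map_le_iff_le_comap]
    apply le_maxPActing
    · have := Subgroup.map_mono (f := (MulAut.conj g).toMonoidHom) h1
      rwa [map_conj_eq_of_mem_normalizer hgK] at this
    · have := Subgroup.map_mono (f := (MulAut.conj g).toMonoidHom) h2
      rwa [map_conj_eq_of_mem_normalizer hgK, ← normalizer_map_conj] at this
    · have := h3.map_conj g
      rwa [map_conj_eq_of_mem_normalizer hgV] at this
  intro g hg
  rw [Subgroup.mem_normalizer_iff_map_conj_eq]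
  apply le_antisymm (key g hg)
  have hg' : g⁻¹ ∈ Subgroup.normalizer (K : Set G) ⊓ Subgroup.normalizer (V : Set G) :=
    Subgroup.inv_mem _ hg
  have := Subgroup.map_mono (f := (MulAut.conj g).toMonoidHom) (key g⁻¹ hg')
  rwa [map_conj_map_conj, mul_inv_cancel, map_conj_one] at this

/-- Ambient form of "`V` is a `p`-reduced normal subgroup of `L`". -/
structure PRedIn (p : ℕ) (L V : Subgroup G) : Prop where
  le : V ≤ L
  norm : L ≤ Subgroup.normalizer (V : Set G)
  el : IsElementaryAbelian p V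
  red : ∀ D : Subgroup G, D ≤ L → L ≤ Subgroup.normalizer (D : Set G) → PActs p D V →
    D ≤ Subgroup.centralizer (V : Set G)

theorem PRedIn.le_largestPReducedOf {p : ℕ} {L V : Subgroup G} (h : PRedIn p L V) :
    V ≤ largestPReducedOf p L :=
  Cfsg.Agent.Lib.Helper47.le_largestPReducedOf h.le h.norm h.el h.red

theorem pRedIn_largestPReducedOf (p : ℕ) (L : Subgroup G) :
    PRedIn p L (largestPReducedOf p L) :=
  ⟨largestPReducedOf_le p L, le_normalizer_largestPReducedOf p L,
    isElementaryAbelian_largestPReducedOf p L, fun _ h1 h2 h3 => pRed_largestPReducedOf p L h1 h2 h3⟩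

theorem PRedIn.isPReducedNormal {p : ℕ} {L V : Subgroup G} (h : PRedIn p L V) :
    IsPReducedNormal p (V.subgroupOf L) :=
  isPReducedNormal_subgroupOf_of_ambient h.le h.norm h.el h.red

theorem pRedIn_top_iff {p : ℕ} {V : Subgroup G} :
    PRedIn p ⊤ V ↔ IsPReducedNormal p V := by
  rw [isPReducedNormal_iff]
  constructor
  · intro h
    refine ⟨?_, h.el, ?_⟩
    · rw [← Subgroup.normalizer_eq_top_iff, eq_top_iff]; exact h.norm
    · intro D hD hDp
      apply h.red D le_top _ hDp
      rw [Subgroup.normalizer_eq_top_iff.mpr hD]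
  · rintro ⟨hn, hel, hred⟩
    refine ⟨le_top, ?_, hel, ?_⟩
    · rw [Subgroup.normalizer_eq_top_iff.mpr hn]
    · intro D _ hLD hDp
      apply hred D _ hDp
      rw [← Subgroup.normalizer_eq_top_iff, eq_top_iff]; exact hLD

theorem largestPReducedOf_top (p : ℕ) (G : Type*) [Group G] :
    largestPReducedOf p (⊤ : Subgroup G) = largestPReduced p G := by
  apply le_antisymm
  · exact le_largestPReduced (pRedIn_top_iff.mp (pRedIn_largestPReducedOf p ⊤))
  · exact (pRedIn_top_iff.mpr (isPReducedNormal_largestPReduced p G)).le_largestPReducedOf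

/-- Conjugation by an element normalizing `L` preserves `PRedIn p L`. -/
theorem PRedIn.map_conj {p : ℕ} {L V : Subgroup G} (h : PRedIn p L V) {g : G}
    (hg : g ∈ Subgroup.normalizer (L : Set G)) :
    PRedIn p L (V.map (MulAut.conj g).toMonoidHom) := by
  have hg' : g⁻¹ ∈ Subgroup.normalizer (L : Set G) := Subgroup.inv_mem _ hg
  refine ⟨?_, ?_, ?_, ?_⟩
  · have := Subgroup.map_mono (f := (MulAut.conj g).toMonoidHom) h.le
    rwa [map_conj_eq_of_mem_normalizer hg] at this
  · have := Subgroup.map_mono (f := (MulAut.conj g).toMonoidHom) h.norm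
    rwa [map_conj_eq_of_mem_normalizer hg, ← normalizer_map_conj] at this
  · constructor
    · have hc := h.el.1
      rw [← Subgroup.le_centralizer_iff_isMulCommutative] at hc ⊢
      rw [centralizer_map_conj]
      exact Subgroup.map_mono hc
    · rintro _ ⟨a, ha, rfl⟩
      rw [← map_pow, h.el.2 a ha, map_one]
  · intro D hDL hLD hDp
    have h1 : D.map (MulAut.conj g⁻¹).toMonoidHom ≤ Subgroup.centralizer (V : Set G) := by
      apply h.red
      · have := Subgroup.map_mono (f := (MulAut.conj g⁻¹).toMonoidHom) hDL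
        rwa [map_conj_eq_of_mem_normalizer hg'] at this
      · have := Subgroup.map_mono (f := (MulAut.conj g⁻¹).toMonoidHom) hLD
        rwa [map_conj_eq_of_mem_normalizer hg', ← normalizer_map_conj] at this
      · have := hDp.map_conj g⁻¹
        rwa [map_conj_map_conj, inv_mul_cancel, map_conj_one] at this
    have := Subgroup.map_mono (f := (MulAut.conj g).toMonoidHom) h1
    rwa [map_conj_map_conj, mul_inv_cancel, map_conj_one, ← centralizer_map_conj] at this

/-- `Y_L` is normalized by `N(L)`. -/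
theorem normalizer_le_normalizer_largestPReducedOf (p : ℕ) (L : Subgroup G) :
    Subgroup.normalizer (L : Set G) ≤
      Subgroup.normalizer ((largestPReducedOf p L : Subgroup G) : Set G) := by
  intro g hg
  rw [Subgroup.mem_normalizer_iff_map_conj_eq]
  apply le_antisymm
  · exact ((pRedIn_largestPReducedOf p L).map_conj hg).le_largestPReducedOf
  · have hg' : g⁻¹ ∈ Subgroup.normalizer (L : Set G) := Subgroup.inv_mem _ hg
    have h1 := ((pRedIn_largestPReducedOf p L).map_conj hg').le_largestPReducedOf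
    have := Subgroup.map_mono (f := (MulAut.conj g).toMonoidHom) h1
    rwa [map_conj_map_conj, mul_inv_cancel, map_conj_one] at this

end Cfsg.Agent.Lib.Helper47
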