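import Mathlib
import Cfsg.Agent.Lib.Helper47.Commutator

/-!
# A generalized Thompson `P × Q` lemma (helper47)

`P` a `p`-group and `Q` a `p'`-group normalizing the `p`-group `U`, with `[P, Q]` centralizing `U`
(instead of `[P, Q] = 1`). If `Q` centralizes `C_U(P)` then `Q` centralizes `U`.
The proof follows helper54's proof of the `P × Q` lemma (S0028).
-/

set_option autoImplicit false

namespace Cfsg.Agent.Lib.Helper47

open scoped commutatorElement

variable {G : Type*} [Group G]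

/-- If `H` and `A` normalize `U` and `[H, A]` centralizes `U`, then `H` normalizes `[U, A]`. -/
theorem le_normalizer_commutator_of_commutator_le {H A U : Subgroup G}
    (hH : H ≤ Subgroup.normalizer (U : Set G)) (hA : A ≤ Subgroup.normalizer (U : Set G))
    (hc : ⁅H, A⁆ ≤ Subgroup.centralizer (U : Set G)) :
    H ≤ Subgroup.normalizer ((⁅U, A⁆ : Subgroup G) : Set G) := by
  apply Subgroup.le_normalizer_closure_iff.mpr
  rintro h hh _ ⟨u, hu, a, ha, rfl⟩
  have hv : h * u * h⁻¹ ∈ U := conj_mem_of_le_normalizer hH hh hu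
  have hcc : ⁅h, a⁆ ∈ Subgroup.centralizer (U : Set G) :=
    hc (Subgroup.commutator_mem_commutator hh ha)
  have hw : ⁅h * u * h⁻¹, a⁆ ∈ U := by
    have : ⁅h * u * h⁻¹, a⁆ = (h * u * h⁻¹) * (a * (h * u * h⁻¹)⁻¹ * a⁻¹) := by
      simp only [commutatorElement_def]; group
    rw [this]
    exact U.mul_mem hv (conj_mem_of_le_normalizer hA ha (U.inv_mem hv))
  have e1 := (Subgroup.mem_centralizer_iff.mp hcc) _ hv
  have e2 := (Subgroup.mem_centralizer_iff.mp hcc) _ hw
  have key : h * ⁅u, a⁆ * h⁻¹ = ⁅h * u * h⁻¹, a⁆ := by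
    have e3 : h * ⁅u, a⁆ * h⁻¹ = ⁅h, a⁆ * ⁅h * u * h⁻¹, a⁆ * ⁅h, a⁆⁻¹ := by
      have e4 : h * ⁅u, a⁆ * h⁻¹ =
          (h * u * h⁻¹) * ⁅h, a⁆ * a * (h * u * h⁻¹)⁻¹ * a⁻¹ * ⁅h, a⁆⁻¹ := by
        simp only [commutatorElement_def]; group
      rw [e4, e1]
      simp only [commutatorElement_def]; group
    rw [e3, ← e2]
    group
  rw [key]
  exact Subgroup.subset_closure ⟨h * u * h⁻¹, hv, a, ha, rfl⟩

/-- Coprime action on a `p`-group: if `Q` is a `p'`-group normalizing the `p`-group `U` and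
`[U, Q, Q] = 1` then `[U, Q] = 1`. -/
theorem commutator_eq_bot_of_coprime' [Finite G] {p : ℕ} [Fact p.Prime] {U Q : Subgroup G}
    (hU : IsPGroup p U) (hQ : (Nat.card Q).Coprime p)
    (hQU : Q ≤ Subgroup.normalizer (U : Set G))
    (h : ⁅⁅U, Q⁆, Q⁆ = ⊥) : ⁅U, Q⁆ = ⊥ := by
  rw [eq_bot_iff, Subgroup.commutator_le]
  intro u hu q hq
  rw [Subgroup.mem_bot]
  have hwUQ : ⁅u, q⁆ ∈ ⁅U, Q⁆ := Subgroup.commutator_mem_commutator hu hq
  have hwU : ⁅u, q⁆ ∈ U := by
    have h1 : q * u⁻¹ * q⁻¹ ∈ U := Subgroup.le_normalizer_iff.mp hQU q hq u⁻¹ (U.inv_mem hu)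
    have h2 : ⁅u, q⁆ = u * (q * u⁻¹ * q⁻¹) := by
      simp only [commutatorElement_def]; group
    rw [h2]
    exact U.mul_mem hu h1
  have hcomm : Commute ⁅u, q⁆ q := by
    have hc := Subgroup.commutator_eq_bot_iff_le_centralizer.mp h hwUQ
    exact (Subgroup.mem_centralizer_iff.mp hc q hq).symm
  have h1 : u * q * u⁻¹ = ⁅u, q⁆ * q := by
    simp only [commutatorElement_def]; group
  have h2 : ∀ n : ℕ, u * q ^ n * u⁻¹ = ⁅u, q⁆ ^ n * q ^ n := by
    intro n
    rw [← hcomm.mul_pow, ← h1, conj_pow]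
  have h3 := h2 (orderOf q)
  rw [pow_orderOf_eq_one, mul_one, mul_inv_cancel, mul_one] at h3
  obtain ⟨k, hk⟩ := hU ⟨⁅u, q⁆, hwU⟩
  have hk' : ⁅u, q⁆ ^ p ^ k = 1 := by
    have := congrArg Subtype.val hk
    simpa using this
  have hd1 : orderOf ⁅u, q⁆ ∣ orderOf q := orderOf_dvd_of_pow_eq_one h3.symm
  have hd2 : orderOf ⁅u, q⁆ ∣ p ^ k := orderOf_dvd_of_pow_eq_one hk'
  have hd3 : orderOf q ∣ Nat.card Q := by
    have := orderOf_dvd_natCard (⟨q, hq⟩ : Q)
    rwa [Subgroup.orderOf_mk] at this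
  have hcop : (orderOf q).Coprime (p ^ k) :=
    (Nat.Coprime.coprime_dvd_left hd3 hQ).pow_right k
  have : orderOf ⁅u, q⁆ = 1 := Nat.eq_one_of_dvd_coprimes hcop hd1 hd2
  exact orderOf_eq_one_iff.mp this

/-- A `p`-group `P` acting on a nontrivial `p`-group `U` satisfies `[U, P] ≠ U`. -/
theorem eq_bot_of_commutator_eq' [Finite G] {p : ℕ} [Fact p.Prime] {U P : Subgroup G}
    (hU : IsPGroup p U) (hP : IsPGroup p P) (hPU : P ≤ Subgroup.normalizer (U : Set G))
    (h : ⁅U, P⁆ = U) : U = ⊥ := by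
  have hT : IsPGroup p (U ⊔ P : Subgroup G) := hU.to_sup_of_normal_left' hP hPU
  have hnil : Group.IsNilpotent (U ⊔ P : Subgroup G) := hT.isNilpotent
  obtain ⟨n, hn⟩ := (Subgroup.isNilpotent_iff_lowerCentralSeries (U ⊔ P)).mp hnil
  have key : ∀ m : ℕ, U ≤ (U ⊔ P).lowerCentralSeries m := by
    intro m
    induction m with
    | zero => simp
    | succ m ih =>
      rw [Subgroup.lowerCentralSeries_succ]
      calc U = ⁅U, P⁆ := h.symm
        _ ≤ ⁅(U ⊔ P).lowerCentralSeries m, U ⊔ P⁆ := Subgroup.commutator_mono ih le_sup_right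
  exact le_bot_iff.mp (hn ▸ key n)

/-- Generalized Thompson `P × Q` lemma, auxiliary form by induction on the order of `U`. -/
theorem pq_general_aux [Finite G] (p : ℕ) [Fact p.Prime] (P Q Cc : Subgroup G) (hP : IsPGroup p P)
    (hQ : (Nat.card Q).Coprime p) (hPQ : ⁅P, Q⁆ ≤ Cc) :
    ∀ (n : ℕ) (U : Subgroup G), Nat.card U = n → IsPGroup p U →
      Cc ≤ Subgroup.centralizer (U : Set G) →
      P ≤ Subgroup.normalizer (U : Set G) → Q ≤ Subgroup.normalizer (U : Set G) →
      U ⊓ Subgroup.centralizer (P : Set G) ≤ Subgroup.centralizer (Q : Set G) →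
      Q ≤ Subgroup.centralizer (U : Set G) := by
  intro n
  induction n using Nat.strong_induction_on with
  | _ n ih =>
    intro U hcard hU hCU hPU hQU hC
    have hprop : ∀ V : Subgroup G, V ≤ U → V ≠ U → P ≤ Subgroup.normalizer (V : Set G) →
        Q ≤ Subgroup.normalizer (V : Set G) → Q ≤ Subgroup.centralizer (V : Set G) := by
      intro V hVU hne hPV hQV
      have hlt : Nat.card V < n := by
        rw [← hcard]
        exact Set.Finite.card_lt_card (Set.toFinite _)
          (SetLike.coe_ssubset_coe.mpr (lt_of_le_of_ne hVU hne))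
      exact ih (Nat.card V) hlt V rfl (hU.to_le hVU) (hCU.trans (Subgroup.centralizer_le hVU))
        hPV hQV (le_trans (inf_le_inf_right _ hVU) hC)
    have hPQU : ⁅P, Q⁆ ≤ Subgroup.centralizer (U : Set G) := hPQ.trans hCU
    have hQPU : ⁅Q, P⁆ ≤ Subgroup.centralizer (U : Set G) := by
      rw [Subgroup.commutator_comm]; exact hPQU
    by_cases hW : ⁅U, Q⁆ = U
    · have hV_le : ⁅U, P⁆ ≤ U := Subgroup.le_normalizer_iff_commutator_le_left.mp hPU
      by_cases hUbot : U = ⊥
      · rw [hUbot]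
        intro q _
        rw [Subgroup.mem_centralizer_iff]
        intro h hh
        have : h = 1 := by simpa using hh
        rw [this, one_mul, mul_one]
      have hVne : ⁅U, P⁆ ≠ U := fun h => hUbot (eq_bot_of_commutator_eq' hU hP hPU h)
      have hPV : P ≤ Subgroup.normalizer ((⁅U, P⁆ : Subgroup G) : Set G) :=
        Subgroup.normalizer_commutator_ge_right U P
      have hQV : Q ≤ Subgroup.normalizer ((⁅U, P⁆ : Subgroup G) : Set G) :=
        le_normalizer_commutator_of_commutator_le hQU hPU hQPU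
      have hQcV := hprop ⁅U, P⁆ hV_le hVne hPV hQV
      have e1 : ⁅⁅U, P⁆, Q⁆ = ⊥ := by
        rw [Subgroup.commutator_eq_bot_iff_le_centralizer]
        exact Subgroup.le_centralizer_iff.mp hQcV
      have e2 : ⁅⁅P, Q⁆, U⁆ = ⊥ := by
        rw [Subgroup.commutator_eq_bot_iff_le_centralizer]
        exact hPQU
      have e3 : ⁅⁅Q, U⁆, P⁆ = ⊥ := Subgroup.commutator_commutator_eq_bot_of_rotate e1 e2
      rw [Subgroup.commutator_comm Q U, hW] at e3
      have hUP : U ≤ Subgroup.centralizer (P : Set G) :=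
        Subgroup.commutator_eq_bot_iff_le_centralizer.mp e3
      have : U ≤ Subgroup.centralizer (Q : Set G) := le_trans (le_inf le_rfl hUP) hC
      exact Subgroup.le_centralizer_iff.mp this
    · have hW_le : ⁅U, Q⁆ ≤ U := Subgroup.le_normalizer_iff_commutator_le_left.mp hQU
      have hPW : P ≤ Subgroup.normalizer ((⁅U, Q⁆ : Subgroup G) : Set G) :=
        le_normalizer_commutator_of_commutator_le hPU hQU hPQU
      have hQW : Q ≤ Subgroup.normalizer ((⁅U, Q⁆ : Subgroup G) : Set G) :=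
        Subgroup.normalizer_commutator_ge_right U Q
      have hQcW := hprop ⁅U, Q⁆ hW_le hW hPW hQW
      have e1 : ⁅⁅U, Q⁆, Q⁆ = ⊥ := by
        rw [Subgroup.commutator_eq_bot_iff_le_centralizer]
        exact Subgroup.le_centralizer_iff.mp hQcW
      have e2 := commutator_eq_bot_of_coprime' hU hQ hQU e1
      exact Subgroup.le_centralizer_iff.mp (Subgroup.commutator_eq_bot_iff_le_centralizer.mp e2)

/-- Generalized Thompson `P × Q` lemma: `P` a `p`-group, `Q` a `p'`-group, both normalizing the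
`p`-group `U`, with `[P, Q]` centralizing `U`. If `C_U(P)` is centralized by `Q`, so is `U`. -/
theorem pq_general [Finite G] (p : ℕ) [Fact p.Prime] (P Q U : Subgroup G) (hP : IsPGroup p P)
    (hQ : (Nat.card Q).Coprime p) (hU : IsPGroup p U)
    (hPQ : ⁅P, Q⁆ ≤ Subgroup.centralizer (U : Set G))
    (hPU : P ≤ Subgroup.normalizer (U : Set G)) (hQU : Q ≤ Subgroup.normalizer (U : Set G))
    (hC : U ⊓ Subgroup.centralizer (P : Set G) ≤ Subgroup.centralizer (Q : Set G)) :
    Q ≤ Subgroup.centralizer (U : Set G) :=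
  pq_general_aux p P Q _ hP hQ hPQ (Nat.card U) U rfl hU le_rfl hPU hQU hC

end Cfsg.Agent.Lib.Helper47
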