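import Mathlib
import Cfsg.Agent.Lib.Helper47.ThompsonATwoAux
import Cfsg.Agent.Lib.Helper47.ThompsonPQ
import Cfsg.Agent.Lib.Helper47.PRedIn
import Cfsg.Agent.Lib.Helper54.Hyperplane

/-!
Helper47 library: the hyperplane step for a minimal offender (prime `2`): a minimal offender `B` on `V`
modulo `U = C_Y(V)` with `|B : B ∩ U| ≠ 2` centralizes every normal subgroup of odd order of `Y / U`.
-/

set_option autoImplicit false

namespace Cfsg.Agent.Lib.Helper47

open Cfsg
open scoped commutatorElement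

theorem hyperplane_step {Y : Type*} [Group Y] [Finite Y] (U V : Subgroup Y) [hUn : U.Normal]
    [hVn : V.Normal] (hV2 : IsPGroup 2 V)
    (hUCV : U ≤ Subgroup.centralizer (V : Set Y)) (hCVU : Subgroup.centralizer (V : Set Y) ≤ U)
    (Nb : Subgroup (Y ⧸ U)) [hNbn : Nb.Normal] (hNodd : (Nat.card Nb).Coprime 2)
    (B B₀ : Subgroup Y) (hB₀ : B₀ = B ⊓ U) (hB2 : IsPGroup 2 B)
    (hBc : ∀ x ∈ B, ∀ y ∈ B, x * y = y * x) (hBsq : ∀ b ∈ B, b ^ 2 ∈ U)
    (hmin : ∀ B₁ : Subgroup Y, B₀ < B₁ → B₁ < B →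
      Nat.card B₁ * Nat.card (V ⊓ Subgroup.centralizer (B₁ : Set Y) : Subgroup Y) <
        Nat.card B₀ * Nat.card V)
    (hoff : Nat.card B₀ * Nat.card V ≤
      Nat.card B * Nat.card (V ⊓ Subgroup.centralizer (B : Set Y) : Subgroup Y))
    (hne2 : Nat.card B ≠ 2 * Nat.card B₀) :
    Nb ≤ Subgroup.centralizer ((B.map (QuotientGroup.mk' U) : Subgroup (Y ⧸ U)) : Set (Y ⧸ U)) := by
  classical
  have h2 : Fact (Nat.Prime 2) := ⟨Nat.prime_two⟩
  set π := QuotientGroup.mk' U with hπdef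
  have hπ : ∀ x, π x = 1 ↔ x ∈ U := fun x => QuotientGroup.eq_one_iff x
  have hker : π.ker = U := QuotientGroup.ker_mk' U
  set Bb := B.map π with hBb
  have hBbc : ∀ x ∈ Bb, ∀ y ∈ Bb, x * y = y * x := by
    rintro _ ⟨x, hx, rfl⟩ _ ⟨y, hy, rfl⟩
    rw [← map_mul, ← map_mul, hBc x hx y hy]
  have hBbexp : ∀ x ∈ Bb, x ^ 2 = 1 := by
    rintro _ ⟨x, hx, rfl⟩
    rw [← map_pow, hπ]
    exact hBsq x hx
  have hcardB : Nat.card B = Nat.card Bb * Nat.card B₀ := by
    have h1 := card_eq_card_map_mul_card_inf_ker π B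
    rw [hker] at h1
    rw [hB₀]
    exact h1
  by_contra hnot
  have hR : ¬ 2 ∣ Nat.card Nb := by
    intro h
    have := Nat.Coprime.eq_one_of_dvd hNodd.symm h
    omega
  have hBbN : Bb ≤ Subgroup.normalizer (Nb : Set (Y ⧸ U)) := by
    rw [Subgroup.normalizer_eq_top]; exact le_top
  obtain ⟨B', hB'le, hB'card, hB'not⟩ := Cfsg.Agent.Lib.Helper54.exists_hyperplane_centralizer
    (p := 2) Bb Nb (Subgroup.centralizer (Bb : Set (Y ⧸ U))) hBbc hBbexp hR hBbN hnot
  have hB'ne : B' ≠ Bb := by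
    intro h
    apply hB'not
    rw [h]
    exact inf_le_right
  set B₁ := B ⊓ B'.comap π with hB₁
  have hB₁B : B₁ ≤ B := inf_le_left
  have hB₁map : B₁.map π = B' := by
    apply le_antisymm
    · rintro _ ⟨x, hx, rfl⟩
      exact hx.2
    · intro y hy
      obtain ⟨b, hb, rfl⟩ := hB'le hy
      exact ⟨b, ⟨hb, hy⟩, rfl⟩
  have hB₀B₁ : B₀ ≤ B₁ := by
    rw [hB₀]
    intro x hx
    refine ⟨hx.1, ?_⟩
    show π x ∈ B'
    rw [(hπ x).mpr hx.2]
    exact B'.one_mem
  have hB₁U : B₁ ⊓ U = B₀ := by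
    apply le_antisymm
    · rw [hB₀]
      exact inf_le_inf_right U hB₁B
    · exact le_inf hB₀B₁ (by rw [hB₀]; exact inf_le_right)
  have hcardB₁ : Nat.card B₁ = Nat.card B' * Nat.card B₀ := by
    have h1 := card_eq_card_map_mul_card_inf_ker π B₁
    rw [hker, hB₁U, hB₁map] at h1
    exact h1
  have hB₀pos : 0 < Nat.card B₀ := Nat.card_pos
  have hB₁ne : B₁ ≠ B := by
    intro h
    apply hB'ne
    rw [← hB₁map, h]
  have hB₁lt : B₁ < B := lt_of_le_of_ne hB₁B hB₁ne
  have hB₁ne₀ : B₁ ≠ B₀ := by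
    intro h
    have h1 : Nat.card B' = 1 := by
      have := hcardB₁
      rw [h] at this
      have h3 : Nat.card B' * Nat.card B₀ = 1 * Nat.card B₀ := by rw [one_mul]; exact this.symm
      exact Nat.eq_of_mul_eq_mul_right hB₀pos h3
    rw [h1, mul_one] at hB'card
    have h4 : Nat.card Bb ≠ 2 := by
      intro h5
      apply hne2
      rw [hcardB, h5]
    have h5 : 0 < Nat.card Bb := Nat.card_pos
    have h6 : Nat.card Bb = 1 := by omega
    apply hB'ne
    rw [Subgroup.card_eq_one] at h1 h6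
    rw [h1, h6]
  have hB₀lt : B₀ < B₁ := lt_of_le_of_ne hB₀B₁ (Ne.symm hB₁ne₀)
  -- `C_V(B₁) = C_V(B)`
  have hcv : V ⊓ Subgroup.centralizer (B₁ : Set Y) = V ⊓ Subgroup.centralizer (B : Set Y) := by
    have hle : V ⊓ Subgroup.centralizer (B : Set Y) ≤ V ⊓ Subgroup.centralizer (B₁ : Set Y) :=
      inf_le_inf_left V (Subgroup.centralizer_le hB₁B)
    symm
    apply Subgroup.eq_of_le_of_card_ge hle
    have h1 := hmin B₁ hB₀lt hB₁lt
    have h3 : Nat.card B ≤ 2 * Nat.card B₁ := by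
      rw [hcardB, hcardB₁]
      calc Nat.card Bb * Nat.card B₀ ≤ (2 * Nat.card B') * Nat.card B₀ :=
            Nat.mul_le_mul_right _ hB'card
        _ = 2 * (Nat.card B' * Nat.card B₀) := by ring
    set c₁ := Nat.card (V ⊓ Subgroup.centralizer (B₁ : Set Y) : Subgroup Y) with hc₁
    set c := Nat.card (V ⊓ Subgroup.centralizer (B : Set Y) : Subgroup Y) with hc
    have hdvd : c ∣ c₁ := Subgroup.card_dvd_of_le hle
    have hB₁pos : 0 < Nat.card B₁ := Nat.card_pos
    have hcpos : 0 < c := Nat.card_pos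
    have h4 : Nat.card B₁ * c₁ < Nat.card B₁ * (2 * c) := by
      calc Nat.card B₁ * c₁ < Nat.card B₀ * Nat.card V := h1
        _ ≤ Nat.card B * c := hoff
        _ ≤ (2 * Nat.card B₁) * c := Nat.mul_le_mul_right _ h3
        _ = Nat.card B₁ * (2 * c) := by ring
    have h5 : c₁ < 2 * c := Nat.lt_of_mul_lt_mul_left h4
    obtain ⟨e, he⟩ := hdvd
    rcases e with _ | _ | e
    · rw [he] at hc₁
      have : 0 < c₁ := Nat.card_pos
      omega
    · omega
    · rw [he] at h5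
      nlinarith
  -- an element of `Nb ∩ C(B')` not centralizing `Bb`
  obtain ⟨xb, hxb, hxbnot⟩ := SetLike.not_le_iff_exists.mp hB'not
  have hxbN : xb ∈ Nb := hxb.1
  have hxbB' : ∀ y ∈ B', y * xb = xb * y := fun y hy => Subgroup.mem_centralizer_iff.mp hxb.2 y hy
  rw [Subgroup.mem_centralizer_iff] at hxbnot
  push Not at hxbnot
  obtain ⟨yb, hyb, hne⟩ := hxbnot
  obtain ⟨b, hb, rfl⟩ := hyb
  obtain ⟨x, rfl⟩ := QuotientGroup.mk'_surjective U xb
  set q₀ := x * b * x⁻¹ * b⁻¹ with hq₀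
  have hπq₀ : π q₀ = π x * π b * (π x)⁻¹ * (π b)⁻¹ := by
    rw [hq₀]; simp only [map_mul, map_inv]
  have hπq₀ne : π q₀ ≠ 1 := by
    intro h
    apply hne
    rw [hπq₀] at h
    have : π x * π b = π b * π x := by
      calc π x * π b = (π x * π b * (π x)⁻¹ * (π b)⁻¹) * (π b * π x) := by group
        _ = π b * π x := by rw [h, one_mul]
    exact this.symm
  have hπq₀N : π q₀ ∈ Nb := by
    rw [hπq₀]
    have h1 : π b * (π x)⁻¹ * (π b)⁻¹ ∈ Nb := hNbn.conj_mem _ (Nb.inv_mem hxbN) _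
    have h3 : π x * π b * (π x)⁻¹ * (π b)⁻¹ = π x * (π b * (π x)⁻¹ * (π b)⁻¹) := by group
    rw [h3]
    exact Nb.mul_mem hxbN h1
  have hπq₀B' : ∀ y ∈ B', y * π q₀ = π q₀ * y := by
    intro y hy
    have h1 : Commute y (π x) := hxbB' y hy
    have h3 : Commute y (π b) := hBbc y (hB'le hy) (π b) ⟨b, hb, rfl⟩
    rw [hπq₀]
    exact (((h1.mul_right h3).mul_right h1.inv_right).mul_right h3.inv_right).eq
  -- the odd part of `q₀`
  obtain ⟨j, hj⟩ := exists_pow_coprime' 2 q₀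
  have hπq₀_dvd : orderOf (π q₀) ∣ Nat.card Nb := by
    have h1 : orderOf (⟨π q₀, hπq₀N⟩ : ↥Nb) ∣ Nat.card Nb := orderOf_dvd_natCard _
    rwa [Subgroup.orderOf_mk] at h1
  have hcop : (2 ^ j).Coprime (orderOf (π q₀)) := by
    apply Nat.Coprime.pow_left
    exact Nat.Coprime.coprime_dvd_right hπq₀_dvd hNodd.symm
  obtain ⟨s, hs⟩ := exists_pow_eq_self_of_coprime hcop
  set q := (q₀ ^ 2 ^ j) ^ s with hqdef
  have hπq : π q = π q₀ := by
    rw [hqdef, map_pow, map_pow]; exact hs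
  have hqodd : (orderOf q).Coprime 2 := Nat.Coprime.coprime_dvd_left (orderOf_pow_dvd s) hj
  -- apply the `P × Q` lemma
  have hQle : Subgroup.zpowers q ≤ Subgroup.centralizer (V : Set Y) := by
    apply pq_general 2 B₁ (Subgroup.zpowers q) V (hB2.to_le hB₁B)
      (by rw [Nat.card_zpowers]; exact hqodd) hV2
    · rw [Subgroup.commutator_le]
      intro b₁ hb₁ z hz
      obtain ⟨i, rfl⟩ := Subgroup.mem_zpowers_iff.mp hz
      apply hUCV
      rw [← hπ, commutatorElement_def]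
      simp only [map_mul, map_inv, map_zpow, hπq]
      have h1 : Commute (π b₁) (π q₀) := hπq₀B' (π b₁) (hB₁map ▸ ⟨b₁, hb₁, rfl⟩)
      have h3 : Commute (π b₁) (π q₀ ^ i) := h1.zpow_right i
      calc π b₁ * π q₀ ^ i * (π b₁)⁻¹ * (π q₀ ^ i)⁻¹ = π q₀ ^ i * π b₁ * (π b₁)⁻¹ * (π q₀ ^ i)⁻¹ := by
            rw [h3.eq]
        _ = 1 := by group
    · rw [Subgroup.normalizer_eq_top]; exact le_top
    · rw [Subgroup.normalizer_eq_top]; exact le_top
    · intro v hv
      have hvV : v ∈ V := hv.1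
      have hvB₁ : ∀ b₁ ∈ B₁, b₁ * v = v * b₁ := fun b₁ hb₁ =>
        (Subgroup.mem_centralizer_iff.mp hv.2 b₁ hb₁)
      have hvB : v ∈ V ⊓ Subgroup.centralizer (B : Set Y) := by rw [← hcv]; exact hv
      have hvb : b * v = v * b := Subgroup.mem_centralizer_iff.mp hvB.2 b hb
      set v' := x⁻¹ * v * x with hv'
      have hv'V : v' ∈ V := by
        have := hVn.conj_mem v hvV x⁻¹
        simpa using this
      have hv'B₁ : v' ∈ V ⊓ Subgroup.centralizer (B₁ : Set Y) := by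
        refine ⟨hv'V, ?_⟩
        show v' ∈ Subgroup.centralizer (B₁ : Set Y)
        rw [Subgroup.mem_centralizer_iff]
        intro b₁ hb₁
        set u := b₁⁻¹ * (x * b₁ * x⁻¹) with hu
        have huU : u ∈ U := by
          rw [← hπ, hu]
          simp only [map_mul, map_inv]
          have h1 : Commute (π b₁) (π x) := hxbB' (π b₁) (hB₁map ▸ ⟨b₁, hb₁, rfl⟩)
          calc (π b₁)⁻¹ * (π x * π b₁ * (π x)⁻¹) = (π b₁)⁻¹ * (π b₁ * π x * (π x)⁻¹) := by
                rw [h1.eq]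
            _ = 1 := by group
        have huv : u * v = v * u := (Subgroup.mem_centralizer_iff.mp (hUCV huU) v hvV).symm
        have h1 : x * b₁ * x⁻¹ = b₁ * u := by rw [hu]; group
        have h3 : (x * b₁ * x⁻¹) * v = v * (x * b₁ * x⁻¹) := by
          rw [h1]
          calc b₁ * u * v = b₁ * (u * v) := by group
            _ = b₁ * (v * u) := by rw [huv]
            _ = (b₁ * v) * u := by group
            _ = (v * b₁) * u := by rw [hvB₁ b₁ hb₁]
            _ = v * (b₁ * u) := by group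
        calc b₁ * v' = x⁻¹ * ((x * b₁ * x⁻¹) * v) * x := by rw [hv']; group
          _ = x⁻¹ * (v * (x * b₁ * x⁻¹)) * x := by rw [h3]
          _ = v' * b₁ := by rw [hv']; group
      have hv'B : v' ∈ V ⊓ Subgroup.centralizer (B : Set Y) := by rw [← hcv]; exact hv'B₁
      have hv'b : b * v' = v' * b := Subgroup.mem_centralizer_iff.mp hv'B.2 b hb
      have hq₀v : q₀ * v = v * q₀ := by
        have e1 : b⁻¹ * v = v * b⁻¹ := by
          have : Commute b v := hvb
          exact this.inv_left.eq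
        have e2 : b * v' * b⁻¹ = v' := by
          calc b * v' * b⁻¹ = v' * b * b⁻¹ := by rw [hv'b]
            _ = v' := by group
        calc q₀ * v = x * b * x⁻¹ * (b⁻¹ * v) := by rw [hq₀]; group
          _ = x * b * x⁻¹ * (v * b⁻¹) := by rw [e1]
          _ = x * (b * v' * b⁻¹) * b * x⁻¹ * b⁻¹ := by rw [hv']; group
          _ = x * v' * b * x⁻¹ * b⁻¹ := by rw [e2]
          _ = v * q₀ := by rw [hv', hq₀]; group
      show v ∈ Subgroup.centralizer ((Subgroup.zpowers q : Subgroup Y) : Set Y)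
      rw [Subgroup.mem_centralizer_iff]
      intro z hz
      obtain ⟨i, rfl⟩ := Subgroup.mem_zpowers_iff.mp hz
      have h1 : Commute q₀ v := hq₀v
      have h3 : Commute q v := by
        rw [hqdef]
        exact (h1.pow_left _).pow_left _
      exact (h3.zpow_left i).eq
  have hqU : q ∈ U := hCVU (hQle (Subgroup.mem_zpowers q))
  apply hπq₀ne
  rw [← hπq, hπ]
  exact hqU

end Cfsg.Agent.Lib.Helper47
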