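import Mathlib
import Cfsg.Prelude.Def_LocalEven
import Cfsg.Agent.Lib.Helper88.Involves

/-!
Helper47 library: a criterion for the symmetric group of degree `4` to be involved in a group:
a four-group `W` normalized by a subgroup `N` meeting it trivially and containing an element `q` of
order `3` not centralizing `W` that is inverted by an element `t` of `N`.
-/

set_option autoImplicit false

namespace Cfsg.Agent.Lib.Helper47

open Cfsg
open scoped Pointwise commutatorElement

/-- Internal form: a finite group `H = W N` with `W` normal of order `4`, `W ∩ N = 1`, and elements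
`q, t ∈ N` with `q ^ 3 = 1`, `t q t⁻¹ = q⁻¹`, `q ∉ C(W)` maps onto `S₄`. -/
theorem exists_surjective_perm_four {H : Type*} [Group H] [Finite H] (W N : Subgroup H)
    [hWn : W.Normal] (hdisj : W ⊓ N = ⊥) (hmul : (W : Set H) * (N : Set H) = Set.univ)
    (hW : Nat.card W = 4) (q t : H) (hq : q ∈ N) (ht : t ∈ N) (htq : t * q * t⁻¹ = q⁻¹)
    (hq3 : q ^ 3 = 1) (hqW : q ∉ Subgroup.centralizer (W : Set H)) :
    ∃ f : H →* Equiv.Perm (Fin 4), Function.Surjective f := by
  classical
  have hcompl : W.IsComplement' N :=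
    Subgroup.isComplement'_of_disjoint_and_mul_eq_univ (disjoint_iff.mpr hdisj) hmul
  have hidx : N.index = 4 := by rw [hcompl.index_eq_card, hW]
  set φ := MulAction.toPermHom H (H ⧸ N) with hφ
  set K := φ.ker with hK
  have hKcore : K = N.normalCore := (Subgroup.normalCore_eq_ker N).symm
  have hKN : K ≤ N := by rw [hKcore]; exact Subgroup.normalCore_le N
  have hKn : K.Normal := MonoidHom.normal_ker φ
  -- `K` centralizes `W`
  have hKW : K ≤ Subgroup.centralizer (W : Set H) := by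
    intro k hk
    rw [Subgroup.mem_centralizer_iff]
    intro w hw
    have h1 : w⁻¹ * k * w * k⁻¹ ∈ N := by
      have h2 : w⁻¹ * k * w ∈ K := by
        have := hKn.conj_mem k hk w⁻¹
        simpa using this
      exact N.mul_mem (hKN h2) (N.inv_mem (hKN hk))
    have h3 : w⁻¹ * k * w * k⁻¹ ∈ W := by
      have : w⁻¹ * k * w * k⁻¹ = w⁻¹ * (k * w * k⁻¹) := by group
      rw [this]
      exact W.mul_mem (W.inv_mem hw) (hWn.conj_mem w hw k)
    have h4 : w⁻¹ * k * w * k⁻¹ ∈ W ⊓ N := ⟨h3, h1⟩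
    rw [hdisj, Subgroup.mem_bot] at h4
    calc w * k = w * (w⁻¹ * k * w * k⁻¹) * k := by rw [h4, mul_one]
      _ = k * w := by group
  have hqK : q ∉ K := fun h => hqW (hKW h)
  -- the index of `K`
  have hidxK : K.index = Nat.card φ.range := Subgroup.index_ker φ
  have hcardX : Nat.card (H ⧸ N) = 4 := hidx
  have hperm : Nat.card (Equiv.Perm (H ⧸ N)) = 24 := by
    rw [Nat.card_perm, hcardX]; rfl
  have hdvd24 : K.index ∣ 24 := by
    rw [hidxK, ← hperm]
    exact Subgroup.card_subgroup_dvd_card _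
  have h4dvd : 4 ∣ K.index := by
    rw [← hidx]; exact Subgroup.index_dvd_of_le hKN
  have h3dvd : 3 ∣ K.index := by
    have ho : orderOf (QuotientGroup.mk' K q) = 3 := by
      have h1 : (QuotientGroup.mk' K q) ^ 3 = 1 := by rw [← map_pow, hq3, map_one]
      have h2 : QuotientGroup.mk' K q ≠ 1 := by
        intro h
        rw [QuotientGroup.mk'_apply, QuotientGroup.eq_one_iff] at h
        exact hqK h
      have h3 : orderOf (QuotientGroup.mk' K q) ∣ 3 := orderOf_dvd_of_pow_eq_one h1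
      rcases (Nat.dvd_prime Nat.prime_three).mp h3 with h | h
      · exact absurd (orderOf_eq_one_iff.mp h) h2
      · exact h
    rw [← ho]
    exact orderOf_dvd_natCard _
  have hne0 : K.index ≠ 0 := Subgroup.index_ne_zero_of_finite
  have h12 : K.index ≠ 12 := by
    intro h12
    have h1 := Subgroup.relIndex_mul_index hKN
    rw [hidx, h12] at h1
    have hrel : K.relIndex N = 3 := by omega
    have hcard3 : Nat.card (↥N ⧸ K.subgroupOf N) = 3 := hrel
    have : Fact (Nat.Prime 3) := ⟨Nat.prime_three⟩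
    have hcyc : IsCyclic (↥N ⧸ K.subgroupOf N) := isCyclic_of_prime_card hcard3
    let _ : CommGroup (↥N ⧸ K.subgroupOf N) := IsCyclic.commGroup
    have h2 := Abelianization.commutator_subset_ker (QuotientGroup.mk' (K.subgroupOf N))
    rw [QuotientGroup.ker_mk'] at h2
    have h3 : ⁅(⟨t, ht⟩ : ↥N), (⟨q, hq⟩ : ↥N)⁆ ∈ K.subgroupOf N :=
      h2 (Subgroup.commutator_mem_commutator (Subgroup.mem_top _) (Subgroup.mem_top _))
    rw [Subgroup.mem_subgroupOf] at h3
    have h4 : ((⁅(⟨t, ht⟩ : ↥N), (⟨q, hq⟩ : ↥N)⁆ : ↥N) : H) = q := by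
      rw [commutatorElement_def]
      show t * q * t⁻¹ * q⁻¹ = q
      rw [htq]
      have : q⁻¹ * q⁻¹ * (q ^ 3) = q := by group
      rw [hq3, mul_one] at this
      exact this
    rw [h4] at h3
    exact hqK h3
  have h24 : K.index = 24 := by
    obtain ⟨a, ha⟩ := h4dvd
    obtain ⟨b, hb⟩ := h3dvd
    obtain ⟨c, hc⟩ := hdvd24
    have hle : K.index ≤ 24 := Nat.le_of_dvd (by norm_num) ⟨c, hc⟩
    interval_cases hi : K.index <;> omega
  have hsurj : Function.Surjective φ := by
    rw [← MonoidHom.range_eq_top]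
    apply Subgroup.eq_top_of_card_eq
    rw [← hidxK, h24, hperm]
  let e : (H ⧸ N) ≃ Fin 4 := Finite.equivFinOfCardEq hcardX
  refine ⟨(Equiv.permCongrHom e).toMonoidHom.comp φ, ?_⟩
  exact (Equiv.permCongrHom e).surjective.comp hsurj

/-- Ambient form: subgroups `W`, `N` of a finite group `Y` with `N ≤ N_Y(W)`, `W ∩ N = 1`, `|W| = 4`
and elements `q, t ∈ N` with `q ^ 3 = 1`, `t q t⁻¹ = q⁻¹`, `q ∉ C(W)`: then `S₄` is involved in `Y`. -/
theorem involves_perm_four_of_data {Y : Type*} [Group Y] [Finite Y] (W N : Subgroup Y)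
    (hNW : N ≤ Subgroup.normalizer (W : Set Y)) (hdisj : W ⊓ N = ⊥) (hW : Nat.card W = 4)
    (q t : Y) (hq : q ∈ N) (ht : t ∈ N) (htq : t * q * t⁻¹ = q⁻¹) (hq3 : q ^ 3 = 1)
    (hqW : q ∉ Subgroup.centralizer (W : Set Y)) : Involves (Equiv.Perm (Fin 4)) Y := by
  set H := W ⊔ N with hH
  have hWH : W ≤ H := le_sup_left
  have hNH : N ≤ H := le_sup_right
  have hHn : H ≤ Subgroup.normalizer (W : Set Y) := sup_le Subgroup.le_normalizer hNW
  have hWn : (W.subgroupOf H).Normal := Subgroup.normal_subgroupOf_of_le_normalizer hHn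
  have hd : W.subgroupOf H ⊓ N.subgroupOf H = ⊥ := by
    rw [eq_bot_iff]
    intro x hx
    have h1 : (x : Y) ∈ W ⊓ N := ⟨Subgroup.mem_subgroupOf.mp hx.1, Subgroup.mem_subgroupOf.mp hx.2⟩
    rw [hdisj, Subgroup.mem_bot] at h1
    rw [Subgroup.mem_bot]
    exact Subtype.ext h1
  have hmul : ((W.subgroupOf H : Subgroup ↥H) : Set ↥H) * ((N.subgroupOf H : Subgroup ↥H) : Set ↥H) =
      Set.univ := by
    rw [Set.eq_univ_iff_forall]
    rintro ⟨h, hh⟩
    have h1 : h ∈ ((W ⊔ N : Subgroup Y) : Set Y) := hh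
    rw [Subgroup.coe_mul_of_right_le_normalizer_left W N hNW] at h1
    obtain ⟨w, hw, n, hn, hwn⟩ := h1
    refine ⟨⟨w, hWH hw⟩, Subgroup.mem_subgroupOf.mpr hw, ⟨n, hNH hn⟩, Subgroup.mem_subgroupOf.mpr hn,
      Subtype.ext hwn⟩
  have hcard : Nat.card (W.subgroupOf H) = 4 := by
    rw [← hW]
    exact Nat.card_congr (Subgroup.subgroupOfEquivOfLe hWH).toEquiv
  have hqW' : (⟨q, hNH hq⟩ : ↥H) ∉ Subgroup.centralizer ((W.subgroupOf H : Subgroup ↥H) : Set ↥H) := by
    intro h
    apply hqW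
    rw [Subgroup.mem_centralizer_iff] at h ⊢
    intro w hw
    have := h ⟨w, hWH hw⟩ (Subgroup.mem_subgroupOf.mpr hw)
    exact congrArg Subtype.val this
  obtain ⟨f, hf⟩ := exists_surjective_perm_four (W.subgroupOf H) (N.subgroupOf H) hd hmul hcard
    ⟨q, hNH hq⟩ ⟨t, hNH ht⟩ (Subgroup.mem_subgroupOf.mpr hq) (Subgroup.mem_subgroupOf.mpr ht)
    (Subtype.ext htq) (Subtype.ext (by simpa using hq3)) hqW'
  rw [Cfsg.Agent.Lib.Helper88.involves_iff_exists_surj]
  exact ⟨H, f, hf⟩

end Cfsg.Agent.Lib.Helper47
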