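import Mathlib
import Cfsg.Agent.Lib.Helper47.S4Involved
import Cfsg.Agent.Lib.Helper47.FourGroup
import Cfsg.Agent.Lib.Helper47.PRedIn
import Cfsg.Agent.Lib.Helper97.Thompson2
import Cfsg.Agent.S0055
import Cfsg.Agent.S2836

/-!
Helper47 library: an element acting on an elementary abelian normal `2`-subgroup `V` (with
`C_Y(V) = U` a `2`-group) with a centralizer of index at most `2`, and inverting modulo `U` an element
of odd order outside `U`, forces the symmetric group of degree `4` to be involved.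
-/

set_option autoImplicit false

namespace Cfsg.Agent.Lib.Helper47

open Cfsg
open scoped Pointwise commutatorElement

/-- In a group of order `2` two non-identity elements are equal. -/
theorem eq_of_card_two {Y : Type*} [Group Y] [Finite Y] (W : Subgroup Y) (hW : Nat.card W = 2)
    {x y : Y} (hx : x ∈ W) (hy : y ∈ W) (hx1 : x ≠ 1) (hy1 : y ≠ 1) : x = y := by
  classical
  by_contra hxy
  let s : Finset Y := {1, x, y}
  have hs : s.card = 3 := by
    have e1 : x ∉ ({y} : Finset Y) := by simp [hxy]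
    have e2 : (1 : Y) ∉ ({x, y} : Finset Y) := by simp [Ne.symm hx1, Ne.symm hy1]
    show (insert 1 (insert x ({y} : Finset Y))).card = 3
    rw [Finset.card_insert_of_notMem e2, Finset.card_insert_of_notMem e1, Finset.card_singleton]
  have hsub : (s : Set Y) ⊆ (W : Set Y) := by
    intro z hz
    simp only [s, Finset.coe_insert, Finset.coe_singleton, Set.mem_insert_iff,
      Set.mem_singleton_iff] at hz
    rcases hz with rfl | rfl | rfl
    · exact W.one_mem
    · exact hx
    · exact hy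
  have h5 : (s : Set Y).ncard ≤ (W : Set Y).ncard := Set.ncard_le_ncard hsub (Set.toFinite _)
  rw [Set.ncard_coe_finset, hs] at h5
  have h6 : (W : Set Y).ncard = 2 := by
    rw [← hW]
    rfl
  omega

theorem involves_perm_four_of_transvection {Y : Type*} [Group Y] [Finite Y] (U V : Subgroup Y)
    [hUn : U.Normal] [hVn : V.Normal] (hU2 : IsPGroup 2 U) (hVel : IsElementaryAbelian 2 V)
    (hUCV : U ≤ Subgroup.centralizer (V : Set Y)) (hCVU : Subgroup.centralizer (V : Set Y) ≤ U)
    (b k : Y) (hb2 : b ^ 2 ∈ U)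
    (hbV : Nat.card V ≤ 2 * Nat.card ↥(V ⊓ Subgroup.centralizer ({b} : Set Y)))
    (m : ℕ) (hm : Odd m) (hcm : (k * b * k⁻¹ * b⁻¹) ^ m ∈ U) (hcU : k * b * k⁻¹ * b⁻¹ ∉ U) :
    Involves (Equiv.Perm (Fin 4)) Y := by
  classical
  have h2 : Fact (Nat.Prime 2) := ⟨Nat.prime_two⟩
  have h3 : Fact (Nat.Prime 3) := ⟨Nat.prime_three⟩
  have hVc : IsMulCommutative V := hVel.1
  have hV2 : IsPGroup 2 V := by
    intro ⟨v, hv⟩
    refine ⟨1, Subtype.ext ?_⟩
    simpa using hVel.2 v hv
  set c := k * b * k⁻¹ * b⁻¹ with hc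
  set π := QuotientGroup.mk' U with hπdef
  have hπ : ∀ x, π x = 1 ↔ x ∈ U := fun x => QuotientGroup.eq_one_iff x
  -- Step 1: the element `q`
  obtain ⟨j, hj⟩ := exists_pow_coprime' 2 c
  have hπc_dvd : orderOf (π c) ∣ m := by
    apply orderOf_dvd_of_pow_eq_one
    rw [← map_pow]
    exact (hπ _).mpr hcm
  have hcop : (2 ^ j).Coprime (orderOf (π c)) := by
    apply Nat.Coprime.pow_left
    exact Nat.Coprime.coprime_dvd_right hπc_dvd (Nat.coprime_two_left.mpr hm)
  obtain ⟨s, hs⟩ := exists_pow_eq_self_of_coprime hcop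
  set q := (c ^ 2 ^ j) ^ s with hqdef
  have hπq : π q = π c := by
    rw [hqdef, map_pow, map_pow]; exact hs
  have hqodd : Nat.Coprime 2 (orderOf q) :=
    (Nat.Coprime.coprime_dvd_left (orderOf_pow_dvd s) hj).symm
  have hqU : q ∉ U := by
    intro h
    apply hcU
    rw [← hπ, ← hπq, hπ]
    exact h
  have hqc : c⁻¹ * q ∈ U := by
    rw [← hπ, map_mul, map_inv, hπq, inv_mul_cancel]
  -- Step 2: `b` inverts `q` modulo `U`
  have hBB : π b * π b = 1 := by
    rw [← map_mul, hπ, ← pow_two]; exact hb2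
  have hinv : π (b * q * b⁻¹) = (π q)⁻¹ := by
    rw [map_mul, map_mul, map_inv, hπq, hc]
    simp only [map_mul, map_inv]
    set B := π b
    set Kk := π k
    have e1 : B * (Kk * B * Kk⁻¹ * B⁻¹) * B⁻¹ = B * Kk * B * Kk⁻¹ * (B * B)⁻¹ := by group
    have e2 : (Kk * B * Kk⁻¹ * B⁻¹)⁻¹ = B * Kk * (B * (B * B)⁻¹) * Kk⁻¹ := by group
    rw [e1, e2, hBB, inv_one, mul_one, mul_one]
  -- Step 3: coprime action of `Q = ⟨q⟩` on `V`
  set Q := Subgroup.zpowers q with hQdef
  have hQV : Q ≤ Subgroup.normalizer (V : Set Y) := by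
    rw [Subgroup.normalizer_eq_top]; exact le_top
  obtain ⟨a, ha⟩ := hV2.exists_card_eq
  have hcopQV : (Nat.card Q).Coprime (Nat.card V) := by
    rw [Nat.card_zpowers, ha]
    exact Nat.Coprime.pow_right a hqodd.symm
  obtain ⟨hdis, hsup⟩ := Cfsg.Agent.S0055.result Q V hQV hcopQV
  set C := V ⊓ Subgroup.centralizer (Q : Set Y) with hCdef
  set W := ⁅V, Q⁆ with hWdef
  have hWV : W ≤ V := Subgroup.commutator_le_left V Q
  set b₂ := k * b * k⁻¹ with hb₂
  have hcb : c = b₂ * b⁻¹ := by rw [hc, hb₂]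
  set D₁ := V ⊓ Subgroup.centralizer ({b} : Set Y) with hD₁
  set D₂ := V ⊓ Subgroup.centralizer ({b₂} : Set Y) with hD₂
  have hDC : D₁ ⊓ D₂ ≤ C := by
    intro v hv
    have hvV : v ∈ V := hv.1.1
    have hvb : b * v = v * b := (Subgroup.mem_centralizer_singleton_iff.mp hv.1.2).symm
    have hvb₂ : b₂ * v = v * b₂ := (Subgroup.mem_centralizer_singleton_iff.mp hv.2.2).symm
    have hvu : (c⁻¹ * q) * v = v * (c⁻¹ * q) :=
      (Subgroup.mem_centralizer_iff.mp (hUCV hqc) v hvV).symm
    have hvc : c * v = v * c := by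
      have h1 : Commute b₂ v := hvb₂
      have h2 : Commute b v := hvb
      rw [hcb]
      exact (h1.mul_left h2.inv_left)
    have hvq : q * v = v * q := by
      have h1 : Commute c v := hvc
      have h2 : Commute (c⁻¹ * q) v := hvu
      have h3 : q = c * (c⁻¹ * q) := by group
      rw [h3]
      exact (h1.mul_left h2)
    refine ⟨hvV, ?_⟩
    show v ∈ Subgroup.centralizer ((Subgroup.zpowers q : Subgroup Y) : Set Y)
    rw [Subgroup.mem_centralizer_iff]
    intro x hx
    obtain ⟨i, rfl⟩ := Subgroup.mem_zpowers_iff.mp hx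
    have h1 : Commute q v := hvq
    exact (h1.zpow_left i).eq
  have hD₂card : Nat.card D₂ = Nat.card D₁ := by
    have hmap : D₁.map (MulAut.conj k).toMonoidHom = D₂ := by
      ext x
      constructor
      · rintro ⟨v, hv, rfl⟩
        refine ⟨hVn.conj_mem v hv.1 k, ?_⟩
        show (k * v * k⁻¹) ∈ Subgroup.centralizer ({b₂} : Set Y)
        rw [Subgroup.mem_centralizer_singleton_iff]
        have hvb : b * v = v * b := (Subgroup.mem_centralizer_singleton_iff.mp hv.2).symm
        symm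
        rw [hb₂]
        calc k * b * k⁻¹ * (k * v * k⁻¹) = k * (b * v) * k⁻¹ := by group
          _ = k * (v * b) * k⁻¹ := by rw [hvb]
          _ = k * v * k⁻¹ * (k * b * k⁻¹) := by group
      · intro hx
        refine ⟨k⁻¹ * x * k, ⟨?_, ?_⟩, ?_⟩
        · have := hVn.conj_mem x hx.1 k⁻¹
          simpa using this
        · show k⁻¹ * x * k ∈ Subgroup.centralizer ({b} : Set Y)
          rw [Subgroup.mem_centralizer_singleton_iff]
          have hxb : b₂ * x = x * b₂ := (Subgroup.mem_centralizer_singleton_iff.mp hx.2).symm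
          rw [hb₂] at hxb
          symm
          calc b * (k⁻¹ * x * k) = k⁻¹ * (k * b * k⁻¹ * x) * k := by group
            _ = k⁻¹ * (x * (k * b * k⁻¹)) * k := by rw [hxb]
            _ = k⁻¹ * x * k * b := by group
        · show k * (k⁻¹ * x * k) * k⁻¹ = x
          group
    rw [← hmap]
    exact Subgroup.card_map_of_injective (MulAut.conj k).injective
  have hcardW : Nat.card W ≤ 4 := by
    have e1 := Cfsg.Agent.Lib.Helper97.card_mul_card_le_sup_mul_inf D₁ D₂
    have e2 : Nat.card (D₁ ⊔ D₂ : Subgroup Y) ≤ Nat.card V :=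
      Subgroup.card_le_of_le (sup_le inf_le_left inf_le_left)
    have e3 : Nat.card (D₁ ⊓ D₂ : Subgroup Y) ≤ Nat.card C := Subgroup.card_le_of_le hDC
    have e4 := Cfsg.Agent.Lib.Helper97.card_mul_card_le_sup_mul_inf C W
    rw [hsup, hdis, Subgroup.card_bot, mul_one] at e4
    rw [hD₂card] at e1
    have hVpos : 0 < Nat.card V := Nat.card_pos
    have hCpos : 0 < Nat.card C := Nat.card_pos
    -- |V|^2 ≤ 4 |D₁|^2 ≤ 4 |V| |C|
    have e5 : Nat.card V * Nat.card V ≤ 4 * (Nat.card D₁ * Nat.card D₁) := by nlinarith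
    have e6 : Nat.card D₁ * Nat.card D₁ ≤ Nat.card V * Nat.card C :=
      e1.trans (Nat.mul_le_mul e2 e3)
    have e7 : Nat.card V * Nat.card V ≤ Nat.card V * (4 * Nat.card C) := by nlinarith
    have e8 : Nat.card V ≤ 4 * Nat.card C := Nat.le_of_mul_le_mul_left e7 hVpos
    have e9 : Nat.card C * Nat.card W ≤ Nat.card C * 4 := by nlinarith
    exact Nat.le_of_mul_le_mul_left e9 hCpos
  -- fixed points of `q` on `W`
  have hfix : ∀ w ∈ W, q * w = w * q → w = 1 := by
    intro w hw hqw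
    have h1 : w ∈ C ⊓ W := by
      refine ⟨⟨hWV hw, ?_⟩, hw⟩
      show w ∈ Subgroup.centralizer ((Subgroup.zpowers q : Subgroup Y) : Set Y)
      rw [Subgroup.mem_centralizer_iff]
      intro x hx
      obtain ⟨i, rfl⟩ := Subgroup.mem_zpowers_iff.mp hx
      have h1 : Commute q w := hqw
      exact (h1.zpow_left i).eq
    rw [hdis, Subgroup.mem_bot] at h1
    exact h1
  have hQNW : Q ≤ Subgroup.normalizer (W : Set Y) := Subgroup.normalizer_commutator_ge_right V Q
  have hqNW : q ∈ Subgroup.normalizer (W : Set Y) := hQNW (Subgroup.mem_zpowers q)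
  have hWne : W ≠ ⊥ := by
    intro hbot
    rw [hbot, sup_bot_eq] at hsup
    apply hqU
    apply hCVU
    rw [Subgroup.mem_centralizer_iff]
    intro v hv
    have hvC : v ∈ C := by rw [hsup]; exact hv
    exact (Subgroup.mem_centralizer_iff.mp hvC.2 q (Subgroup.mem_zpowers q)).symm
  have hW4 : Nat.card W = 4 := by
    have hW2 : IsPGroup 2 W := hV2.to_le hWV
    obtain ⟨e, he⟩ := hW2.exists_card_eq
    have hne1 : Nat.card W ≠ 1 := by
      intro h
      exact hWne (Subgroup.card_eq_one.mp h)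
    have hne2 : Nat.card W ≠ 2 := by
      intro h
      obtain ⟨w, hw, hw1⟩ : ∃ w, w ∈ W ∧ w ≠ 1 := by
        by_contra hcon
        apply hWne
        rw [eq_bot_iff]
        intro w hw
        rw [Subgroup.mem_bot]
        by_contra hw1
        exact hcon ⟨w, hw, hw1⟩
      have hw' : q * w * q⁻¹ ∈ W := (Subgroup.mem_normalizer_iff.mp hqNW w).mp hw
      have hw'1 : q * w * q⁻¹ ≠ 1 := by
        intro h1
        apply hw1
        calc w = q⁻¹ * (q * w * q⁻¹) * q := by group
          _ = 1 := by rw [h1]; group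
      have heq := eq_of_card_two W h hw' hw hw'1 hw1
      apply hw1
      apply hfix w hw
      calc q * w = q * w * q⁻¹ * q := by group
        _ = w * q := by rw [heq]
    rw [he] at hcardW hne1 hne2 ⊢
    rcases e with _ | _ | _ | e
    · simp at hne1
    · simp at hne2
    · norm_num
    · exfalso
      have h8 : 2 ^ (e + 1 + 1 + 1) = 8 * 2 ^ e := by ring
      have h1 : 1 ≤ 2 ^ e := Nat.one_le_two_pow
      rw [h8] at hcardW
      omega
  -- Step 5: `q ^ 3 = 1`
  have hq3W : q ^ 3 ∈ Subgroup.centralizer (W : Set Y) :=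
    cube_mem_centralizer_of_card_four W hW4 q hqNW hqodd hfix
  have hq3 : q ^ 3 = 1 := by
    have h1 : q ^ 3 ∈ Subgroup.centralizer (V : Set Y) := by
      have hCle : C ≤ Subgroup.centralizer ({q ^ 3} : Set Y) := by
        intro v hv
        rw [Subgroup.mem_centralizer_singleton_iff]
        have : Commute q v := (Subgroup.mem_centralizer_iff.mp hv.2 q (Subgroup.mem_zpowers q))
        exact (this.pow_left 3).eq.symm
      have hWle : W ≤ Subgroup.centralizer ({q ^ 3} : Set Y) := by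
        intro w hw
        rw [Subgroup.mem_centralizer_singleton_iff]
        exact (Subgroup.mem_centralizer_iff.mp hq3W w hw)
      have hVle : V ≤ Subgroup.centralizer ({q ^ 3} : Set Y) := by
        rw [← hsup]; exact sup_le hCle hWle
      rw [Subgroup.mem_centralizer_iff]
      intro v hv
      exact (Subgroup.mem_centralizer_singleton_iff.mp (hVle hv))
    have h2 : q ^ 3 ∈ U := hCVU h1
    obtain ⟨n, hn⟩ := (IsPGroup.iff_orderOf.mp hU2) ⟨q ^ 3, h2⟩
    rw [Subgroup.orderOf_mk] at hn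
    have h4 : (orderOf (q ^ 3)).Coprime 2 :=
      Nat.Coprime.coprime_dvd_left (orderOf_pow_dvd 3) hqodd.symm
    have h5 : orderOf (q ^ 3) = 1 := by
      have h6 : (orderOf (q ^ 3)).Coprime (orderOf (q ^ 3)) := by
        conv_rhs => rw [hn]
        exact Nat.Coprime.pow_right n h4
      exact (Nat.coprime_self _).mp h6
    exact orderOf_eq_one_iff.mp h5
  have hq1 : q ≠ 1 := fun h => hqU (h ▸ U.one_mem)
  have hoq : orderOf q = 3 := orderOf_eq_prime hq3 hq1
  -- `U ∩ Q = 1`
  have hUQ : U ⊓ Q = ⊥ := by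
    apply (Subgroup.disjoint_of_coprime_natCard ?_).eq_bot
    obtain ⟨n, hn⟩ := hU2.exists_card_eq
    rw [hn, Nat.card_zpowers, hoq]
    exact Nat.Coprime.pow_left n (by norm_num)
  -- Step 6: an element `t` inverting `q`
  have ht : ∃ t : Y, t * q * t⁻¹ = q⁻¹ := by
    set E := U ⊔ Q with hEdef
    have hUE : U ≤ E := le_sup_left
    have hQE : Q ≤ E := le_sup_right
    have hcompl : (U.subgroupOf E).IsComplement' (Q.subgroupOf E) := by
      apply Subgroup.isComplement'_of_disjoint_and_mul_eq_univ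
      · rw [disjoint_iff, eq_bot_iff]
        intro x hx
        have h1 : (x : Y) ∈ U ⊓ Q :=
          ⟨Subgroup.mem_subgroupOf.mp hx.1, Subgroup.mem_subgroupOf.mp hx.2⟩
        rw [hUQ, Subgroup.mem_bot] at h1
        rw [Subgroup.mem_bot]
        exact Subtype.ext h1
      · rw [Set.eq_univ_iff_forall]
        rintro ⟨x, hx⟩
        have h1 : x ∈ ((U ⊔ Q : Subgroup Y) : Set Y) := hx
        rw [Subgroup.normal_mul U Q] at h1
        obtain ⟨u, hu, y, hy, huy⟩ := h1
        exact ⟨⟨u, hUE hu⟩, Subgroup.mem_subgroupOf.mpr hu, ⟨y, hQE hy⟩,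
          Subgroup.mem_subgroupOf.mpr hy, Subtype.ext huy⟩
    have hidx : ¬ 3 ∣ (Q.subgroupOf E).index := by
      rw [hcompl.index_eq_card]
      have hUE2 : IsPGroup 2 (U.subgroupOf E) := hU2.comap_subtype
      obtain ⟨n, hn⟩ := hUE2.exists_card_eq
      rw [hn]
      intro hdvd
      have := Nat.Prime.dvd_of_dvd_pow Nat.prime_three hdvd
      omega
    -- `b q b⁻¹ ∈ E`
    have hbqE : b * q * b⁻¹ ∈ E := by
      have h1 : q * (b * q * b⁻¹) ∈ U := by
        rw [← hπ, map_mul, hinv, mul_inv_cancel]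
      have h2 : b * q * b⁻¹ = q⁻¹ * (q * (b * q * b⁻¹)) := by group
      rw [h2]
      exact E.mul_mem (E.inv_mem (hQE (Subgroup.mem_zpowers q))) (hUE h1)
    set r : ↥E := ⟨b * q * b⁻¹, hbqE⟩ with hr
    have hr3 : r ^ 3 = 1 := by
      apply Subtype.ext
      show (b * q * b⁻¹) ^ 3 = 1
      rw [conj_pow, hq3, mul_one, mul_inv_cancel]
    have hRp : IsPGroup 3 (Subgroup.zpowers r) := by
      apply IsPGroup.of_card (n := 1)
      rw [Nat.card_zpowers, pow_one]
      apply orderOf_eq_prime hr3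
      intro h1
      have h2 : b * q * b⁻¹ = 1 := congrArg Subtype.val h1
      apply hq1
      calc q = b⁻¹ * (b * q * b⁻¹) * b := by group
        _ = 1 := by rw [h2]; group
    obtain ⟨e, he⟩ := Cfsg.Agent.S2836.exists_conj_le_of_not_dvd_index hRp (Q.subgroupOf E) hidx
    have he1 : e * r * e⁻¹ ∈ Q.subgroupOf E := he ⟨r, Subgroup.mem_zpowers r, rfl⟩
    rw [Subgroup.mem_subgroupOf] at he1
    have he2 : (e : Y) * (b * q * b⁻¹) * (e : Y)⁻¹ ∈ Q := he1
    obtain ⟨i, hi⟩ := Subgroup.mem_zpowers_iff.mp he2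
    -- `π e` commutes with `π q`
    have hπe : π (e : Y) * π q = π q * π (e : Y) := by
      have h1 : (e : Y) ∈ ((U ⊔ Q : Subgroup Y) : Set Y) := e.2
      rw [Subgroup.normal_mul U Q] at h1
      obtain ⟨u, hu, y, hy, huy⟩ := h1
      obtain ⟨n, rfl⟩ := Subgroup.mem_zpowers_iff.mp hy
      have hu1 : π u = 1 := (hπ u).mpr hu
      have : π (e : Y) = π q ^ n := by
        rw [← huy]
        simp only [map_mul, map_zpow, hu1, one_mul]
      rw [this]
      exact ((Commute.refl (π q)).zpow_left n).eq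
    have hπi : π (q ^ i) = (π q)⁻¹ := by
      rw [hi, map_mul, map_mul, map_inv, hinv]
      have h1 : Commute (π (e : Y)) (π q) := hπe
      have h2 : Commute (π (e : Y)) (π q)⁻¹ := h1.inv_right
      calc π (e : Y) * (π q)⁻¹ * (π (e : Y))⁻¹ = (π q)⁻¹ * π (e : Y) * (π (e : Y))⁻¹ := by
            rw [h2.eq]
        _ = (π q)⁻¹ := by group
    have hqi : q ^ i = q⁻¹ := by
      have h1 : q ^ i * q ∈ U := by
        rw [← hπ, map_mul, hπi, inv_mul_cancel]
      have h2 : q ^ i * q ∈ Q := Q.mul_mem (Subgroup.zpow_mem_zpowers q i) (Subgroup.mem_zpowers q)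
      have h3 : q ^ i * q ∈ U ⊓ Q := ⟨h1, h2⟩
      rw [hUQ, Subgroup.mem_bot] at h3
      exact eq_inv_of_mul_eq_one_left h3
    refine ⟨(e : Y) * b, ?_⟩
    calc (e : Y) * b * q * ((e : Y) * b)⁻¹ = (e : Y) * (b * q * b⁻¹) * (e : Y)⁻¹ := by group
      _ = q ^ i := hi.symm
      _ = q⁻¹ := hqi
  obtain ⟨t, htq⟩ := ht
  -- Step 7: the data
  set N := Subgroup.normalizer (Q : Set Y) with hNdef
  have hqN : q ∈ N := Subgroup.le_normalizer (Subgroup.mem_zpowers q)
  have htN : t ∈ N := by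
    rw [hNdef, Subgroup.mem_normalizer_iff_map_conj_eq, hQdef, MonoidHom.map_zpowers]
    show Subgroup.zpowers (t * q * t⁻¹) = Subgroup.zpowers q
    rw [htq, Subgroup.zpowers_inv]
  have hNW : N ≤ Subgroup.normalizer (W : Set Y) := by
    intro n hn
    rw [Subgroup.mem_normalizer_iff_map_conj_eq] at hn ⊢
    rw [hWdef, Subgroup.map_commutator, hn]
    congr 1
    exact Subgroup.mem_normalizer_iff_map_conj_eq.mp
      (by rw [Subgroup.normalizer_eq_top]; exact Subgroup.mem_top n)
  have hWQ : W ⊓ Q = ⊥ := by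
    apply (Subgroup.disjoint_of_coprime_natCard ?_).eq_bot
    rw [hW4, Nat.card_zpowers, hoq]
    norm_num
  have hWN : W ⊓ N = ⊥ := by
    rw [eq_bot_iff]
    intro w hw
    rw [Subgroup.mem_bot]
    apply hfix w hw.1
    have h1 : w * q * w⁻¹ ∈ Q :=
      (Subgroup.mem_normalizer_iff.mp hw.2 q).mp (Subgroup.mem_zpowers q)
    have h2 : w * q * w⁻¹ * q⁻¹ ∈ Q := Q.mul_mem h1 (Q.inv_mem (Subgroup.mem_zpowers q))
    have h3 : w * q * w⁻¹ * q⁻¹ ∈ W := by
      have h4 : q * w⁻¹ * q⁻¹ ∈ W :=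
        (Subgroup.mem_normalizer_iff.mp hqNW w⁻¹).mp (W.inv_mem hw.1)
      have h5 : w * q * w⁻¹ * q⁻¹ = w * (q * w⁻¹ * q⁻¹) := by group
      rw [h5]
      exact W.mul_mem hw.1 h4
    have h6 : w * q * w⁻¹ * q⁻¹ ∈ W ⊓ Q := ⟨h3, h2⟩
    rw [hWQ, Subgroup.mem_bot] at h6
    calc q * w = (w * q * w⁻¹ * q⁻¹)⁻¹ * (w * q) := by group
      _ = w * q := by rw [h6, inv_one, one_mul]
  have hqW : q ∉ Subgroup.centralizer (W : Set Y) := by
    intro h
    apply hWne
    rw [eq_bot_iff]
    intro w hw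
    rw [Subgroup.mem_bot]
    exact hfix w hw (Subgroup.mem_centralizer_iff.mp h w hw).symm
  exact involves_perm_four_of_data W N hNW hWN hW4 q t hqN htN htq hq3 hqW

end Cfsg.Agent.Lib.Helper47
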