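import Mathlib
import Cfsg.Agent.Lib.Helper47.ThompsonALocal
import Cfsg.Agent.Lib.Helper47.ThompsonATwoStep
import Cfsg.Agent.Lib.Helper47.Transvection

/-!
Helper47 library: the local step of Thompson's normal `p`-complement theorem for the abelian-version
Thompson subgroup, prime `2`, in groups not involving the symmetric group of degree `4`.
-/

set_option autoImplicit false

namespace Cfsg.Agent.Lib.Helper47

open Cfsg Cfsg.Agent.Lib.Lead.Thompson
open scoped commutatorElement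

universe u

theorem thompsonA_local_two {Y : Type u} [Group Y] [Finite Y]
    (hS4 : ¬ Involves (Equiv.Perm (Fin 4)) Y)
    (hC : Subgroup.centralizer ((pCore 2 Y : Subgroup Y) : Set Y) ≤ pCore 2 Y)
    (hQ : HasNormalPComplement 2 (Y ⧸ pCore 2 Y)) (T : Sylow 2 Y)
    (hZ : HasNormalPComplement 2 ↥(Subgroup.centralizer
      (((T : Subgroup Y) ⊓ Subgroup.centralizer ((T : Subgroup Y) : Set Y) : Subgroup Y) : Set Y))) :
    (thompsonSubgroupAOf (T : Subgroup Y)).Normal := by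
  classical
  set U := pCore 2 Y with hUdef
  have hUn : U.Normal := Cfsg.pCore_normal 2 Y
  have hUp : IsPGroup 2 U := Cfsg.Agent.Lib.Helper97.isPGroup_pCore 2 Y
  have hUT : U ≤ (T : Subgroup Y) := Cfsg.Agent.Lib.Helper97.pCore_le_sylow' T
  set V := omegaZ 2 U with hVdef
  have hVn : V.Normal := omegaZ_normal 2 U
  have hVel : IsElementaryAbelian 2 V := omegaZ_isElementaryAbelian 2 U
  have hCV : Subgroup.centralizer (V : Set Y) ≤ U := centralizer_omegaZ_le' hC T hZ
  have hUCV : U ≤ Subgroup.centralizer (V : Set Y) := le_centralizer_omegaZ 2 U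
  have hVU : V ≤ U := omegaZ_le 2 U
  have hVT : V ≤ (T : Subgroup Y) := hVU.trans hUT
  have hV2 : IsPGroup 2 V := hUp.to_le hVU
  apply thompsonA_normal_of_forall_le T
  by_contra hnot
  have hex : ∃ A' ∈ maxAbIn (T : Subgroup Y), ¬ A' ≤ U := by
    by_contra h2
    exact hnot (fun A hA => by
      by_contra h3
      exact h2 ⟨A, hA, h3⟩)
  obtain ⟨A', hA', hA'U⟩ := hex
  obtain ⟨A, hA, hAV, -, hquadA⟩ := exists_quadratic_maxAbIn T V hVel.1 hVT
    ⟨A', hA', fun hle => hA'U (hle.trans hCV)⟩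
  have hAT : A ≤ (T : Subgroup Y) := hA.1
  have hAc : ∀ x ∈ A, ∀ y ∈ A, x * y = y * x := by
    intro x hx y hy
    have h1 : A ≤ Subgroup.centralizer (A : Set Y) :=
      (Cfsg.Agent.Lib.Helper50.isMulCommutative_iff_le_centralizer A).mp hA.2.1
    exact (Subgroup.mem_centralizer_iff.mp (h1 hx) y hy).symm
  have hAsq : ∀ b ∈ A, b ^ 2 ∈ U := fun b hb =>
    hCV (sq_mem_centralizer_of_quadratic (fun v hv => hVel.2 v hv) hquadA hb)
  -- the normal `2`-complement of `Y / U`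
  obtain ⟨Nb, hNbn, hNbcop, n, hNbidx⟩ := Cfsg.Agent.Lib.Helper34.hasNPC_iff_exists_normal.mp hQ
  set π := QuotientGroup.mk' U with hπdef
  have hπ : ∀ x, π x = 1 ↔ x ∈ U := fun x => QuotientGroup.eq_one_iff x
  set K := Nb.comap π with hKdef
  have hKn : K.Normal := hNbn.comap π
  have hKidx : K.index = 2 ^ n := by
    rw [hKdef, Subgroup.index_comap_of_surjective _ (QuotientGroup.mk'_surjective U)]
    exact hNbidx
  have hTK : (T : Subgroup Y) ⊔ K = ⊤ := sylow_sup_eq_top_of_index_pow T K hKidx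
  -- the minimal offender
  set B₀ := A ⊓ U with hB₀def
  have hB₀V : V ⊓ Subgroup.centralizer (B₀ : Set Y) = V := by
    apply inf_of_le_left
    rw [← Subgroup.le_centralizer_iff]
    exact inf_le_right.trans hUCV
  let 𝓕 : Set (Subgroup Y) := {B | B₀ < B ∧ B ≤ A ∧ Nat.card B₀ * Nat.card V ≤
    Nat.card B * Nat.card (V ⊓ Subgroup.centralizer (B : Set Y) : Subgroup Y)}
  have hA𝓕 : A ∈ 𝓕 := by
    refine ⟨lt_of_le_of_ne inf_le_left ?_, le_rfl, ?_⟩
    · intro h
      apply hAV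
      have : A ≤ U := by rw [← h]; exact inf_le_right
      exact this.trans hUCV
    · have := card_mul_card_cv_le_of_mem_maxAbIn (X := B₀) hA hVT hVel.1 inf_le_left
      rw [hB₀V] at this
      exact this
  obtain ⟨B, hB𝓕, hBmin⟩ := Set.exists_min_image 𝓕 (fun B => Nat.card B) (Set.toFinite _) ⟨A, hA𝓕⟩
  obtain ⟨hB₀B, hBA, hoff⟩ := hB𝓕
  have hBeq : B₀ = B ⊓ U := by
    apply le_antisymm
    · exact le_inf hB₀B.le inf_le_right
    · exact inf_le_inf_right U hBA
  have hB2 : IsPGroup 2 B := T.isPGroup'.to_le (hBA.trans hAT)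
  have hmin : ∀ B₁ : Subgroup Y, B₀ < B₁ → B₁ < B →
      Nat.card B₁ * Nat.card (V ⊓ Subgroup.centralizer (B₁ : Set Y) : Subgroup Y) <
        Nat.card B₀ * Nat.card V := by
    intro B₁ h1 h2
    by_contra h3
    have h4 : B₁ ∈ 𝓕 := ⟨h1, h2.le.trans hBA, not_lt.mp h3⟩
    have h5 := hBmin B₁ h4
    have h6 : Nat.card B₁ < Nat.card B :=
      Set.Finite.card_lt_card (Set.toFinite _) (SetLike.coe_ssubset_coe.mpr h2)
    omega
  have hBU : ¬ B ≤ U := by
    intro h
    have : B ≤ B₀ := le_inf hBA h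
    exact (lt_of_lt_of_le hB₀B this).false
  have hidx2 : Nat.card B = 2 * Nat.card B₀ := by
    by_contra hne2
    have hstep := hyperplane_step U V hV2 hUCV hCV Nb hNbcop B B₀ hBeq hB2
      (fun x hx y hy => hAc x (hBA hx) y (hBA hy)) (fun b hb => hAsq b (hBA hb)) hmin hoff hne2
    apply hBU
    intro b hb
    apply mem_pCore_of_forall_commutator_mem T K hTK (hAT (hBA hb))
    intro k hk
    rw [← hπ]
    simp only [map_mul, map_inv]
    have h1 : π k ∈ Nb := hk
    have h2 := Subgroup.mem_centralizer_iff.mp (hstep h1) (π b) ⟨b, hb, rfl⟩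
    calc π k * π b * (π k)⁻¹ * (π b)⁻¹ = π b * π k * (π k)⁻¹ * (π b)⁻¹ := by rw [h2]
      _ = 1 := by group
  -- the transvection
  obtain ⟨b, hbB, hbB₀⟩ := SetLike.exists_of_lt hB₀B
  have hbA : b ∈ A := hBA hbB
  have hbU : b ∉ U := fun h => hbB₀ ⟨hbA, h⟩
  have hbT : b ∈ (T : Subgroup Y) := hAT hbA
  have hbV : Nat.card V ≤ 2 * Nat.card ↥(V ⊓ Subgroup.centralizer ({b} : Set Y)) := by
    have h1 : V ⊓ Subgroup.centralizer (B : Set Y) ≤ V ⊓ Subgroup.centralizer ({b} : Set Y) :=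
      inf_le_inf_left V (Subgroup.centralizer_le (Set.singleton_subset_iff.mpr hbB))
    have h2 : Nat.card (V ⊓ Subgroup.centralizer (B : Set Y) : Subgroup Y) ≤
        Nat.card ↥(V ⊓ Subgroup.centralizer ({b} : Set Y)) := Subgroup.card_le_of_le h1
    rw [hidx2] at hoff
    have hB₀pos : 0 < Nat.card B₀ := Nat.card_pos
    have h3 : Nat.card B₀ * Nat.card V ≤
        Nat.card B₀ * (2 * Nat.card (V ⊓ Subgroup.centralizer (B : Set Y) : Subgroup Y)) := by
      calc Nat.card B₀ * Nat.card V ≤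
            2 * Nat.card B₀ * Nat.card (V ⊓ Subgroup.centralizer (B : Set Y) : Subgroup Y) := hoff
        _ = Nat.card B₀ * (2 * Nat.card (V ⊓ Subgroup.centralizer (B : Set Y) : Subgroup Y)) := by
          ring
    have h4 := Nat.le_of_mul_le_mul_left h3 hB₀pos
    omega
  have hexk : ∃ k ∈ K, k * b * k⁻¹ * b⁻¹ ∉ U := by
    by_contra hcon
    apply hbU
    apply mem_pCore_of_forall_commutator_mem T K hTK hbT
    intro k hk
    by_contra h
    exact hcon ⟨k, hk, h⟩
  obtain ⟨k, hkK, hcU⟩ := hexk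
  have hm : Odd (Nat.card Nb) := Nat.Coprime.odd_of_right hNbcop
  have hcm : (k * b * k⁻¹ * b⁻¹) ^ Nat.card Nb ∈ U := by
    rw [← hπ, map_pow]
    have h1 : π (k * b * k⁻¹ * b⁻¹) ∈ Nb := by
      simp only [map_mul, map_inv]
      have h2 : π k ∈ Nb := hkK
      have h3 : π b * (π k)⁻¹ * (π b)⁻¹ ∈ Nb := hNbn.conj_mem _ (Nb.inv_mem h2) _
      have h4 : π k * π b * (π k)⁻¹ * (π b)⁻¹ = π k * (π b * (π k)⁻¹ * (π b)⁻¹) := by group
      rw [h4]
      exact Nb.mul_mem h2 h3
    have h5 : (⟨π (k * b * k⁻¹ * b⁻¹), h1⟩ : ↥Nb) ^ Nat.card Nb = 1 := pow_card_eq_one'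
    exact congrArg Subtype.val h5
  exact hS4 (involves_perm_four_of_transvection U V hUp hVel hUCV hCV b k (hAsq b hbA) hbV
    (Nat.card Nb) hm hcm hcU)

end Cfsg.Agent.Lib.Helper47
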