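import Mathlib
import Cfsg.Agent.Lib.Helper12.ZassDefs
import Cfsg.Agent.S0016
import Cfsg.Agent.S0106
import Cfsg.Agent.Lib.Helper35.FpfCyclic

/-!
# S0690 (Zassenhaus), MODULE AT1 for helper12 (helper47)

A nontrivial perfect group with the `Free3` properties has elements of order `3`, and each of them
normalizes nontrivially a subgroup of order `8`.
-/

set_option autoImplicit false

namespace Cfsg.Agent.Lib.Helper47

open Cfsg.Agent.Lib.Helper12.Zass

section zass

variable {G : Type*} [Group G]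

/-- elements of a subgroup of prime order commute -/
theorem zass_comm_of_card_prime {p : ℕ} (hp : p.Prime) {H : Subgroup G} (h : Nat.card H = p) :
    ∀ a ∈ H, ∀ b ∈ H, a * b = b * a := by
  have : Fact p.Prime := ⟨hp⟩
  have hc : IsCyclic H := isCyclic_of_prime_card h
  intro a ha b hb
  have hcm : ∀ u v : ↥H, u * v = v * u := fun u v => by
    let _ := IsCyclic.commGroup (α := ↥H)
    exact mul_comm u v
  exact congrArg Subtype.val (hcm ⟨a, ha⟩ ⟨b, hb⟩)

/-- two commuting commutative subgroups generate a commutative subgroup -/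
theorem zass_sup_comm {H K : Subgroup G} (hH : ∀ a ∈ H, ∀ b ∈ H, a * b = b * a)
    (hK : ∀ a ∈ K, ∀ b ∈ K, a * b = b * a) (hHK : ∀ a ∈ H, ∀ b ∈ K, a * b = b * a) :
    ∀ a ∈ H ⊔ K, ∀ b ∈ H ⊔ K, a * b = b * a := by
  have h1 : H ≤ Subgroup.centralizer ((H ⊔ K : Subgroup G) : Set G) := by
    rw [Subgroup.le_centralizer_iff]
    refine sup_le ?_ ?_
    · intro a ha
      rw [Subgroup.mem_centralizer_iff]
      intro b hb
      exact hH b hb a ha
    · intro a ha
      rw [Subgroup.mem_centralizer_iff]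
      intro b hb
      exact hHK b hb a ha
  have h2 : K ≤ Subgroup.centralizer ((H ⊔ K : Subgroup G) : Set G) := by
    rw [Subgroup.le_centralizer_iff]
    refine sup_le ?_ ?_
    · intro a ha
      rw [Subgroup.mem_centralizer_iff]
      intro b hb
      exact (hHK a ha b hb).symm
    · intro a ha
      rw [Subgroup.mem_centralizer_iff]
      intro b hb
      exact hK b hb a ha
  have h3 : H ⊔ K ≤ Subgroup.centralizer ((H ⊔ K : Subgroup G) : Set G) := sup_le h1 h2
  intro a ha b hb
  exact ((Subgroup.mem_centralizer_iff.mp (h3 hb)) a ha)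

variable [Finite G]

/-- in a group whose abelian subgroups are cyclic, a `p`-subgroup has at most one subgroup of
order `p` -/
theorem zass_unique_order_p (hcyc : ∀ A : Subgroup G, (∀ a ∈ A, ∀ b ∈ A, a * b = b * a) → IsCyclic A)
    {p : ℕ} (hp : p.Prime) (P : Subgroup G) (hP : IsPGroup p P) (H K : Subgroup G)
    (hHP : H ≤ P) (hKP : K ≤ P) (hH : Nat.card H = p) (hK : Nat.card K = p) : H = K := by
  have : Fact p.Prime := ⟨hp⟩
  have hPnt : Nontrivial ↥P := by
    rw [Subgroup.nontrivial_iff_ne_bot]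
    intro h
    rw [h, le_bot_iff] at hHP
    rw [hHP, Subgroup.card_bot] at hH
    exact hp.one_lt.ne hH
  have hcn : Nontrivial (Subgroup.center ↥P) := hP.center_nontrivial
  have hdvd : p ∣ Nat.card (Subgroup.center ↥P) := by
    obtain ⟨n, hn⟩ := (hP.to_subgroup (Subgroup.center ↥P)).exists_card_eq
    rw [hn]
    rcases n with _ | n
    · exfalso
      rw [pow_zero] at hn
      have := (Subgroup.card_eq_one.mp hn)
      exact (Subgroup.nontrivial_iff_ne_bot _).mp hcn this
    · exact dvd_pow_self p (Nat.succ_ne_zero n)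
  obtain ⟨z, hz⟩ := exists_prime_orderOf_dvd_card' p hdvd
  have hzc : ∀ u : ↥P, u * (z : ↥P) = (z : ↥P) * u := fun u =>
    (Subgroup.mem_center_iff.mp z.2 u)
  set z0 : G := ((z : ↥P) : G) with hz0
  have hz0ord : orderOf z0 = p := by
    rw [hz0, Subgroup.orderOf_coe, Subgroup.orderOf_coe, hz]
  set Z0 : Subgroup G := Subgroup.zpowers z0 with hZ0
  have hZ0card : Nat.card Z0 = p := by rw [hZ0, Nat.card_zpowers, hz0ord]
  have hz0c : ∀ u ∈ P, u * z0 = z0 * u := fun u hu =>
    congrArg Subtype.val (hzc ⟨u, hu⟩)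
  have key : ∀ H : Subgroup G, H ≤ P → Nat.card H = p → H = Z0 := by
    intro H hHP hH
    have hcomm : ∀ a ∈ H ⊔ Z0, ∀ b ∈ H ⊔ Z0, a * b = b * a := by
      apply zass_sup_comm (zass_comm_of_card_prime hp hH) (zass_comm_of_card_prime hp hZ0card)
      intro a ha b hb
      obtain ⟨k, rfl⟩ := Subgroup.mem_zpowers_iff.mp hb
      exact ((Commute.zpow_right (show Commute a z0 from hz0c a (hHP ha)) k)).eq
    have hc := hcyc (H ⊔ Z0) hcomm
    exact Cfsg.Agent.Lib.Helper35.eq_of_card_eq_of_le_isCyclic hc le_sup_left le_sup_right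
      (by rw [hH, hZ0card])
  rw [key H hHP hH, key K hKP hK]

/-- every Sylow subgroup is cyclic or generalized quaternion -/
theorem zass_sylow_cyclic_or_quaternion
    (hcyc : ∀ A : Subgroup G, (∀ a ∈ A, ∀ b ∈ A, a * b = b * a) → IsCyclic A)
    {p : ℕ} [hp : Fact p.Prime] (P : Sylow p G) :
    IsCyclic ↥(P : Subgroup G) ∨
      (p = 2 ∧ ∃ n : ℕ, Nonempty (↥(P : Subgroup G) ≃* QuaternionGroup (2 ^ n))) := by
  apply Cfsg.Agent.S0016.result p P.isPGroup'
  intro H K hH hK
  have h1 : Nat.card (H.map (P : Subgroup G).subtype) = p := by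
    rw [Subgroup.card_map_of_injective (Subgroup.subtype_injective _), hH]
  have h2 : Nat.card (K.map (P : Subgroup G).subtype) = p := by
    rw [Subgroup.card_map_of_injective (Subgroup.subtype_injective _), hK]
  have h3 := zass_unique_order_p hcyc hp.out (P : Subgroup G) P.isPGroup' _ _
    (Subgroup.map_subtype_le H) (Subgroup.map_subtype_le K) h1 h2
  exact Subgroup.map_injective (Subgroup.subtype_injective _) h3

omit [Finite G] in
/-- a perfect group has no nontrivial solvable quotient -/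
theorem zass_quotient_trivial_of_perfect (hperf : commutator G = ⊤) (N : Subgroup G) [N.Normal]
    (hsol : Group.IsSolvable (G ⧸ N)) : N = ⊤ := by
  by_contra hN
  have hnt : Nontrivial (G ⧸ N) := by
    obtain ⟨g, -, hg⟩ := SetLike.exists_of_lt (lt_top_iff_ne_top.mpr hN)
    refine ⟨⟨(g : G ⧸ N), 1, ?_⟩⟩
    intro h
    exact hg ((QuotientGroup.eq_one_iff g).mp h)
  have hlt := Group.IsSolvable.commutator_lt_top_of_nontrivial (G ⧸ N)
  have hq : commutator (G ⧸ N) = ⊤ := by
    rw [commutator_def, ← Subgroup.map_top_of_surjective (QuotientGroup.mk' N)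
      (QuotientGroup.mk'_surjective N), ← Subgroup.map_commutator, ← commutator_def, hperf]
  exact hlt.ne hq

open scoped commutatorElement in
omit [Finite G] in
/-- elements normalizing a cyclic subgroup `K` have commuting conjugation actions on `K`. -/
theorem zass_commutator_mem_centralizer_of_isCyclic (K : Subgroup G)
    (hK : IsCyclic ↥K) {g g' : G} (hg : g ∈ Subgroup.normalizer (K : Set G))
    (hg' : g' ∈ Subgroup.normalizer (K : Set G)) :
    ⁅g, g'⁆ ∈ Subgroup.centralizer (K : Set G) := by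
  have key : ∀ g : G, g ∈ Subgroup.normalizer (K : Set G) →
      ∃ m : ℤ, ∀ y ∈ K, g * y * g⁻¹ = y ^ m := by
    intro g hg
    let σ : ↥K →* ↥K :=
      { toFun := fun y => ⟨g * y * g⁻¹, (Subgroup.mem_normalizer_iff.mp hg y).mp y.2⟩
        map_one' := by ext; simp
        map_mul' := by
          intro a b
          ext
          simp only [Subgroup.coe_mul]
          group }
    obtain ⟨m, hm⟩ := MonoidHom.map_cyclic σ
    refine ⟨m, fun y hy => ?_⟩
    have := congrArg Subtype.val (hm ⟨y, hy⟩)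
    simpa [σ] using this
  obtain ⟨m, hm⟩ := key g hg
  obtain ⟨m', hm'⟩ := key g' hg'
  have h1 : ∀ y ∈ K, g * g' * y * (g * g')⁻¹ = g' * g * y * (g' * g)⁻¹ := by
    intro y hy
    have a1 : g' * y * g'⁻¹ = y ^ m' := hm' y hy
    have a2 : g * y * g⁻¹ = y ^ m := hm y hy
    have b1 : g * (y ^ m') * g⁻¹ = (y ^ m') ^ m := hm (y ^ m') (K.zpow_mem hy m')
    have b2 : g' * (y ^ m) * g'⁻¹ = (y ^ m) ^ m' := hm' (y ^ m) (K.zpow_mem hy m)
    calc g * g' * y * (g * g')⁻¹ = g * (g' * y * g'⁻¹) * g⁻¹ := by group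
      _ = (y ^ m') ^ m := by rw [a1, b1]
      _ = (y ^ m) ^ m' := by rw [← zpow_mul, ← zpow_mul, mul_comm]
      _ = g' * (g * y * g⁻¹) * g'⁻¹ := by rw [a2, b2]
      _ = g' * g * y * (g' * g)⁻¹ := by group
  rw [Subgroup.mem_centralizer_iff]
  intro y hy
  have hgg : g' * g ∈ Subgroup.normalizer (K : Set G) := Subgroup.mul_mem _ hg' hg
  have hz : (g' * g)⁻¹ * y * (g' * g) ∈ K := by
    have := (Subgroup.mem_normalizer_iff.mp (Subgroup.inv_mem _ hgg) y).mp hy
    simpa using this
  have e : ⁅g, g'⁆ * y * ⁅g, g'⁆⁻¹ = y := by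
    have := h1 _ hz
    calc ⁅g, g'⁆ * y * ⁅g, g'⁆⁻¹
        = g * g' * ((g' * g)⁻¹ * y * (g' * g)) * (g * g')⁻¹ := by
          rw [commutatorElement_def]; group
      _ = g' * g * ((g' * g)⁻¹ * y * (g' * g)) * (g' * g)⁻¹ := this
      _ = y := by group
  calc y * ⁅g, g'⁆ = (⁅g, g'⁆ * y * ⁅g, g'⁆⁻¹) * ⁅g, g'⁆ := by rw [e]
    _ = ⁅g, g'⁆ * y := by group

open scoped IsMulCommutative in
/-- a perfect group has no central element of order `p` when its Sylow `p`-subgroups are
abelian (transfer). -/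
theorem zass_not_central_of_perfect (hperf : commutator G = ⊤) {p : ℕ} [Fact p.Prime]
    (P : Sylow p G) (hP : IsMulCommutative ↥(P : Subgroup G)) (x : G) (hx : orderOf x = p)
    (hc : ∀ g : G, g * x = x * g) : False := by
  have key : ∀ (k : ℕ) (g₀ : G), g₀⁻¹ * x ^ k * g₀ ∈ (P : Subgroup G) →
      g₀⁻¹ * x ^ k * g₀ = x ^ k := by
    intro k g₀ _
    have hcm : Commute g₀ (x ^ k) := (show Commute g₀ x from hc g₀).pow_right k
    rw [mul_assoc, ← hcm.eq, inv_mul_cancel_left]
  have h1 := MonoidHom.transfer_eq_pow (MonoidHom.id ↥(P : Subgroup G)) x key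
  have h2 : MonoidHom.transfer (MonoidHom.id ↥(P : Subgroup G)) x = 1 := by
    have hk : commutator G ≤ (MonoidHom.transfer (MonoidHom.id ↥(P : Subgroup G))).ker :=
      Abelianization.commutator_subset_ker _
    rw [hperf] at hk
    exact MonoidHom.mem_ker.mp (hk (Subgroup.mem_top x))
  rw [h2] at h1
  have h3 : x ^ (P : Subgroup G).index = 1 := by
    have := congrArg Subtype.val h1
    simpa using this.symm
  have h4 : p ∣ (P : Subgroup G).index := by
    have := orderOf_dvd_of_pow_eq_one h3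
    rwa [hx] at this
  exact P.not_dvd_index h4

/-- `SL(2,3)` has an element of order `3`. -/
theorem zass_sl23_order3 : ∃ s : Matrix.SpecialLinearGroup (Fin 2) (ZMod 3), orderOf s = 3 := by
  refine ⟨⟨!![1, 1; 0, 1], by simp [Matrix.det_fin_two]⟩, ?_⟩
  have : Fact (Nat.Prime 3) := ⟨Nat.prime_three⟩
  apply orderOf_eq_prime
  · decide
  · intro h
    have := congrArg (fun m : Matrix.SpecialLinearGroup (Fin 2) (ZMod 3) =>
      (m : Matrix (Fin 2) (Fin 2) (ZMod 3)) 0 1) h
    simp at this

end zass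

/-- MODULE AT1 of S0690. -/
theorem at1 {G : Type*} [Group G] [Finite G] (h : Free3 G) (hperf : commutator G = ⊤)
    (hne : Nontrivial G) :
    (∃ x : G, orderOf x = 3) ∧ ∀ x : G, orderOf x = 3 → ∃ Q : Subgroup G, QSub x Q := by
  have hp3 : Fact (Nat.Prime 3) := ⟨Nat.prime_three⟩
  have h3 : ∃ x : G, orderOf x = 3 := by
    have hex : ∃ (p : ℕ) (_ : p.Prime) (P : Sylow p G), ¬ IsCyclic ↥(P : Subgroup G) := by
      by_contra hcon
      have hZ : IsZGroup G := ⟨fun p hp P => by
        by_contra hc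
        exact hcon ⟨p, hp, P, hc⟩⟩
      have hlt := Group.IsSolvable.commutator_lt_top_of_nontrivial G
      exact hlt.ne hperf
    obtain ⟨p, hp, P, hPc⟩ := hex
    have : Fact p.Prime := ⟨hp⟩
    rcases zass_sylow_cyclic_or_quaternion h.cyc P with hc | ⟨hp2, n, ⟨e⟩⟩
    · exact absurd hc hPc
    subst hp2
    have hn : 1 ≤ n := by
      rcases n with _ | n
      · exfalso
        apply hPc
        rw [pow_zero] at e
        exact e.isCyclic.mpr QuaternionGroup.quaternionGroup_one_isCyclic
      · omega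
    have hdvd3 : 3 ∣ Nat.card G := by
      rcases Cfsg.Agent.S0106.result P n hn ⟨e⟩ with hnc | ⟨H, K, hK, ⟨f⟩⟩
      · exfalso
        obtain ⟨P', N, hN, hcompl⟩ := hnc
        have hidx : N.index = Nat.card (P' : Subgroup G) := hcompl.symm.index_eq_card
        have hcardq : Nat.card (G ⧸ N) = Nat.card (P' : Subgroup G) := by
          rw [← hidx]; rfl
        obtain ⟨k, hk⟩ := P'.isPGroup'.exists_card_eq
        have hq2 : IsPGroup 2 (G ⧸ N) := IsPGroup.of_card (n := k) (by rw [hcardq, hk])
        have hqn : Group.IsNilpotent (G ⧸ N) := hq2.isNilpotent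
        have hNtop : N = ⊤ := zass_quotient_trivial_of_perfect hperf N inferInstance
        rw [hNtop, Subgroup.index_top] at hidx
        have hcardP : Nat.card (P : Subgroup G) = 1 := by
          rw [Sylow.card_eq_multiplicity, ← Sylow.card_eq_multiplicity P', ← hidx]
        apply hPc
        have : Subsingleton ↥(P : Subgroup G) := (Nat.card_eq_one_iff_unique.mp hcardP).1
        exact isCyclic_of_subsingleton
      · obtain ⟨s, hs⟩ := zass_sl23_order3
        have h1 : orderOf (f.symm s) = 3 := by rw [MulEquiv.orderOf_eq, hs]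
        have h2 : 3 ∣ Nat.card (↥H ⧸ K.subgroupOf H) := h1 ▸ orderOf_dvd_natCard _
        exact h2.trans ((Subgroup.card_quotient_dvd_card _).trans (Subgroup.card_subgroup_dvd_card H))
    obtain ⟨x, hx⟩ := exists_prime_orderOf_dvd_card' 3 hdvd3
    exact ⟨x, hx⟩
  refine ⟨h3, fun x hx => ?_⟩
  by_contra hnoQ
  have hall : ∀ y : G, orderOf y = 3 → y ∈ Subgroup.zpowers x := by
    intro y hy
    by_contra hyx
    have hmem := h.e5 x y hx hy hyx
    have hset : ({x} ∪ {q | ∃ Q : Subgroup G, QSub x Q ∧ q ∈ Q} : Set G) = {x} := by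
      ext q
      constructor
      · rintro (hq | ⟨Q, hQ, -⟩)
        · exact hq
        · exact absurd ⟨Q, hQ⟩ hnoQ
      · intro hq
        exact Or.inl hq
    rw [hset, ← Subgroup.zpowers_eq_closure] at hmem
    exact hyx hmem
  -- `⟨x⟩` is normal
  set K : Subgroup G := Subgroup.zpowers x with hK
  have hconj : ∀ g : G, g * x * g⁻¹ ∈ K := by
    intro g
    apply hall
    have := (MulAut.conj g).orderOf_eq x
    rw [MulAut.conj_apply] at this
    rw [this, hx]
  have hnorm : ∀ g : G, g ∈ Subgroup.normalizer (K : Set G) := by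
    intro g
    have hle : ∀ g : G, ∀ y ∈ K, g * y * g⁻¹ ∈ K := by
      intro g y hy
      obtain ⟨k, rfl⟩ := Subgroup.mem_zpowers_iff.mp hy
      have : g * x ^ k * g⁻¹ = (g * x * g⁻¹) ^ k := by
        rw [conj_zpow]
      rw [this]
      exact K.zpow_mem (hconj g) k
    rw [Subgroup.mem_normalizer_iff]
    intro y
    constructor
    · exact hle g y
    · intro hy
      have := hle g⁻¹ _ hy
      have e : g⁻¹ * (g * y * g⁻¹) * g⁻¹⁻¹ = y := by group
      rwa [e] at this
  have hKcyc : IsCyclic ↥K := by rw [hK]; infer_instance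
  have hcentral : ∀ g : G, g * x = x * g := by
    have hle : commutator G ≤ Subgroup.centralizer (K : Set G) := by
      rw [commutator_def, Subgroup.commutator_le]
      intro a _ b _
      exact zass_commutator_mem_centralizer_of_isCyclic K hKcyc (hnorm a) (hnorm b)
    rw [hperf] at hle
    intro g
    have := Subgroup.mem_centralizer_iff.mp (hle (Subgroup.mem_top g)) x (Subgroup.mem_zpowers x)
    exact this.symm
  -- transfer into a Sylow 3-subgroup
  obtain ⟨P3⟩ : Nonempty (Sylow 3 G) := inferInstance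
  have hP3 : IsMulCommutative ↥(P3 : Subgroup G) := by
    rcases zass_sylow_cyclic_or_quaternion h.cyc P3 with hc | ⟨h32, -⟩
    · exact ⟨⟨fun a b => by
        let _ := IsCyclic.commGroup (α := ↥(P3 : Subgroup G))
        exact mul_comm a b⟩⟩
    · omega
  exact zass_not_central_of_perfect hperf P3 hP3 x hx hcentral

end Cfsg.Agent.Lib.Helper47
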