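import Mathlib
import Cfsg.Agent.Lib.Helper12.ZassLin3
import Cfsg.Agent.Lib.Helper67.ZassG

/-!
# S0690 (Zassenhaus), MODULE L3: `lin_app3` (helper47, for helper12)

No element of order 3 of a free linear group centralises `i` and is centralised or inverted by `j`
when `⟨i, j⟩` is a quaternion group normalised nontrivially by an element of order 3.
-/

set_option autoImplicit false

namespace Cfsg.Agent.Lib.Helper47

open Cfsg.Agent.Lib.Helper12.Zass Cfsg.Agent.Lib.Helper12.ZassLin

variable {p : ℕ} [Fact p.Prime] {V : Type*} [AddCommGroup V] [Module (ZMod p) V] [Finite V]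
  [Nontrivial V] {X : Subgroup (V ≃ₗ[ZMod p] V)}

theorem zl3_ne_one_of_orderOf {G : Type*} [Group G] {g : G} (h : orderOf g = 3) :
    g ^ 3 = 1 ∧ g ≠ 1 := by
  refine ⟨by rw [← h]; exact pow_orderOf_eq_one g, ?_⟩
  rintro rfl
  rw [orderOf_one] at h
  omega

theorem zl3_orderOf_eq_three {G : Type*} [Group G] {g : G} (h3 : g ^ 3 = 1) (h1 : g ≠ 1) :
    orderOf g = 3 := by
  have : Fact (Nat.Prime 3) := ⟨Nat.prime_three⟩
  exact orderOf_eq_prime h3 h1

/-- the core: once `en y` lies in the algebra `𝔣 + 𝔣 I + 𝔣 J + 𝔣 J I`. -/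
theorem zl3_core (hX : IsFree X) {x y i j : V ≃ₗ[ZMod p] V} (hx : x ∈ X) (hy : y ∈ X)
    {Q : Subgroup (V ≃ₗ[ZMod p] V)} (hQX : Q ≤ X) (hx3 : x ^ 3 = 1) (hx1 : x ≠ 1)
    (hQ : QSub x Q) (hi : i ∈ Q) (hj : j ∈ Q) (hij : i * j ≠ j * i) (hy3 : y ^ 3 = 1)
    (hy1 : y ≠ 1) (hyi : y * i = i * y) (hync : y * j ≠ j * y ∨ y * x ≠ x * y)
    (Zs : List (Module.End (ZMod p) V)) (h0 : (0 : Module.End (ZMod p) V) ∈ Zs)
    (hm1 : (-1 : Module.End (ZMod p) V) ∈ Zs)
    (hcomm : ∀ c ∈ Zs, ∀ d ∈ Zs, Commute c d) (hca : ∀ c ∈ Zs, Commute (en i) c)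
    (hcb : ∀ c ∈ Zs, Commute (en j) c)
    (hY : en y ∈ Algebra.adjoin (ZMod p)
      (({en i, en j} : Set (Module.End (ZMod p) V)) ∪ {c | c ∈ Zs})) : False := by
  classical
  obtain ⟨hzQ, hz1⟩ := zz_mem_of_qsub hX hQX hQ
  have h20 := two_ne_zero_of_zz (p := p) (V := V) hz1
  obtain ⟨hII, hJJ, hJI, hmem⟩ := mem_of_noncomm hX hx3 hQX hQ hi hj hij
  obtain ⟨i₀, j₀, hqd⟩ := exists_qdata hX hx3 hQX hQ
  have h2x := two_x_eq hX hx hx3 hx1 hQX hqd
  set A := Algebra.adjoin (ZMod p)
    (({en i, en j} : Set (Module.End (ZMod p) V)) ∪ {c | c ∈ Zs}) with hA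
  have hIA : en i ∈ A := Algebra.subset_adjoin (Or.inl (Or.inl rfl))
  have hJA : en j ∈ A := Algebra.subset_adjoin (Or.inl (Or.inr rfl))
  have hQA : ∀ q ∈ Q, en q ∈ A := by
    intro q hq
    rcases hmem q hq with h | h | h | h | h | h | h | h <;> rw [h]
    · rw [en_one]; exact A.one_mem
    · rw [en_zz]; exact A.neg_mem A.one_mem
    · exact hIA
    · rw [en_mul, en_zz]; exact A.mul_mem (A.neg_mem A.one_mem) hIA
    · exact hJA
    · rw [en_mul, en_zz]; exact A.mul_mem (A.neg_mem A.one_mem) hJA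
    · rw [en_mul]; exact A.mul_mem hIA hJA
    · rw [en_mul, en_zz, en_mul]; exact A.mul_mem (A.neg_mem A.one_mem) (A.mul_mem hIA hJA)
  have hxA : en x ∈ A := by
    have e1 : en x + en x = -(1 + en i₀ + en j₀ + en i₀ * en j₀) := by
      rw [eq_neg_iff_add_eq_zero, ← h2x]; abel
    have e2 : en x + en x ∈ A := by
      rw [e1]
      exact A.neg_mem (A.add_mem (A.add_mem (A.add_mem A.one_mem (hQA _ hqd.hi)) (hQA _ hqd.hj))
        (A.mul_mem (hQA _ hqd.hi) (hQA _ hqd.hj)))
    have e3 : en x = (2 : ZMod p)⁻¹ • (en x + en x) := by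
      rw [← two_smul (ZMod p) (en x), smul_smul, inv_mul_cancel₀ h20, one_smul]
    rw [e3]
    exact A.smul_mem e2 _
  -- the elements i, j are neither 1 nor zz
  have hi1 : i ≠ 1 := fun h => hij (by rw [h]; simp)
  have hiz : i ≠ zz := fun h => hij (by rw [h, zz_comm])
  have hj1 : j ≠ 1 := fun h => hij (by rw [h]; simp)
  have hjz : j ≠ zz := fun h => hij (by rw [h, zz_comm])
  have hiizz : i * i = zz := eq_zz_of_en (by rw [en_mul]; exact hII)
  -- the generating set
  set S : Set (V ≃ₗ[ZMod p] V) := {x, y} ∪ {q | q ∈ Q ∧ q ≠ 1 ∧ q ≠ zz} with hS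
  have hxS : x ∈ S := Or.inl (Or.inl rfl)
  have hyS : y ∈ S := Or.inl (Or.inr rfl)
  have hiS : i ∈ S := Or.inr ⟨hi, hi1, hiz⟩
  have hjS : j ∈ S := Or.inr ⟨hj, hj1, hjz⟩
  set X' : Subgroup (V ≃ₗ[ZMod p] V) := Subgroup.closure S with hX'
  have hle : X' ≤ X := by
    rw [hX', Subgroup.closure_le]
    rintro s (hs | hs)
    · rcases hs with rfl | hs
      · exact hx
      · rw [Set.mem_singleton_iff] at hs
        rw [hs]; exact hy
    · exact hQX hs.1
  have hxX' : x ∈ X' := Subgroup.subset_closure hxS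
  have hyX' : y ∈ X' := Subgroup.subset_closure hyS
  have hiX' : i ∈ X' := Subgroup.subset_closure hiS
  have hjX' : j ∈ X' := Subgroup.subset_closure hjS
  have hzX' : (zz : V ≃ₗ[ZMod p] V) ∈ X' := hiizz ▸ X'.mul_mem hiX' hiX'
  have hQX' : Q ≤ X' := by
    intro q hq
    rcases hmem q hq with h | h | h | h | h | h | h | h <;> rw [h]
    · exact X'.one_mem
    · exact hzX'
    · exact hiX'
    · exact X'.mul_mem hzX' hiX'
    · exact hjX'
    · exact X'.mul_mem hzX' hjX'
    · exact X'.mul_mem hiX' hjX'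
    · exact X'.mul_mem hzX' (X'.mul_mem hiX' hjX')
  have hX'free : IsFree X' := hX.mono hle
  have hsq := qsub_sq hX hx3 hQX hQ
  -- hypotheses of quad_dickson
  have hSadj : ∀ s ∈ S, ((s : V ≃ₗ[ZMod p] V) : Module.End (ZMod p) V) ∈ A := by
    rintro s (hs | hs)
    · rcases hs with rfl | hs
      · exact hxA
      · rw [Set.mem_singleton_iff] at hs
        rw [hs]; exact hY
    · exact hQA s hs.1
  have hSquad : ∀ s ∈ S,
      ((s : V ≃ₗ[ZMod p] V) : Module.End (ZMod p) V) * (s : Module.End (ZMod p) V) +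
        (s : Module.End (ZMod p) V) + 1 = 0 ∨
      ((s : V ≃ₗ[ZMod p] V) : Module.End (ZMod p) V) * (s : Module.End (ZMod p) V) + 1 = 0 := by
    rintro s (hs | hs)
    · rcases hs with rfl | hs
      · exact Or.inl (hX.quad3 hx hx1 hx3)
      · rw [Set.mem_singleton_iff] at hs
        rw [hs]; exact Or.inl (hX.quad3 hy hy1 hy3)
    · right
      rcases hsq s hs.1 with h | h | h
      · exact absurd h hs.2.1
      · exact absurd h hs.2.2
      · show en s * en s + 1 = 0
        rw [h]; simp
  have hSnc : ∀ s ∈ S, ∃ t ∈ X', s * t ≠ t * s := by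
    rintro s (hs | hs)
    · rcases hs with rfl | hs
      · obtain ⟨q, hq, hqx⟩ := hQ.2.2
        refine ⟨q, hQX' hq, fun h => hqx ?_⟩
        rw [h, mul_assoc, mul_inv_cancel, mul_one]
      · rw [Set.mem_singleton_iff] at hs
        rw [hs]
        rcases hync with h | h
        · exact ⟨j, hjX', h⟩
        · exact ⟨x, hxX', h⟩
    · obtain ⟨hsQ, hs1, hsz⟩ := hs
      have hzl : ∀ a b : V ≃ₗ[ZMod p] V, b * (zz * a) = zz * (b * a) := by
        intro a b
        rw [← mul_assoc, ← zz_comm b, mul_assoc]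
      rcases hmem s hsQ with h | h | h | h | h | h | h | h
      · exact absurd h hs1
      · exact absurd h hsz
      · exact ⟨j, hjX', h ▸ hij⟩
      · refine ⟨j, hjX', fun h' => hij ?_⟩
        rw [h, hzl, mul_assoc] at h'
        exact mul_left_cancel h'
      · exact ⟨i, hiX', h ▸ fun h' => hij h'.symm⟩
      · refine ⟨i, hiX', fun h' => hij ?_⟩
        rw [h, hzl, mul_assoc] at h'
        exact (mul_left_cancel h').symm
      · refine ⟨i, hiX', fun h' => hij ?_⟩
        rw [h, ← mul_assoc] at h'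
        have h'' : i * (j * i) = i * (i * j) := by rw [← mul_assoc, h', mul_assoc]
        exact (mul_left_cancel h'').symm
      · refine ⟨i, hiX', fun h' => hij ?_⟩
        rw [h, hzl, mul_assoc] at h'
        have h2 := mul_left_cancel h'
        have h'' : i * (j * i) = i * (i * j) := by rw [← mul_assoc, h2]
        exact (mul_left_cancel h'').symm
  have hab : en i * en j = 0 + 0 * en i + 0 * en j + (-1) * (en j * en i) := by
    rw [hJI]; simp
  have hbb : en j * en j = -1 + 0 * en j := by rw [hJJ]; simp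
  have hqaa : Polynomial.aeval (en i) (Polynomial.X ^ 2 + 1 : Polynomial (ZMod p)) = 0 := by
    simp only [map_add, map_pow, Polynomial.aeval_X, map_one]
    rw [sq, hII]; simp
  have hqa0 : (Polynomial.X ^ 2 + 1 : Polynomial (ZMod p)) ≠ 0 := by
    intro h
    have := congrArg (fun q : Polynomial (ZMod p) => q.coeff 2) h
    simp [Polynomial.coeff_one] at this
  obtain ⟨Γ, hΓ, π, hπsurj, hπker, hDL⟩ :=
    Cfsg.Agent.Lib.Helper12.TwoDim.quad_dickson X' hX'free hX'free.not_dvd_card (en i) (en j) Zs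
      hcomm hca hcb (Polynomial.X ^ 2 + 1) hqa0 hqaa 0 0 0 (-1) (-1) 0 h0 h0 h0 hm1 hm1 h0 hab hbb S
      ⟨x, hxS⟩ rfl hSadj hSquad hSnc
  have hker' : ∀ g : X', π g = 1 ↔ (g = 1 ∨ en (g : V ≃ₗ[ZMod p] V) = -1) := hπker
  have hV := vsub_map hX'free π hker' hxX' hx3 hQX' hQ
  -- orders
  have hord : ∀ (g : V ≃ₗ[ZMod p] V) (hg : g ∈ X'), g ^ 3 = 1 → g ≠ 1 →
      orderOf (π ⟨g, hg⟩) = 3 := by
    intro g hg hg3 hg1
    apply zl3_orderOf_eq_three
    · rw [← map_pow]
      have : (⟨g, hg⟩ : X') ^ 3 = 1 := Subtype.ext (by simpa using hg3)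
      rw [this, map_one]
    · intro h
      rcases (hker' _).1 h with h' | h'
      · exact hg1 (congrArg Subtype.val h')
      · have hgz : g = zz := eq_zz_of_en h'
        apply hg1
        have h2 : g * g = 1 := by rw [hgz, zz_sq]
        calc g = g ^ 3 * (g * g)⁻¹ := by
              simp only [pow_succ, pow_zero, one_mul]; group
          _ = 1 := by rw [hg3, h2]; simp
  have hσ := hord x hxX' hx3 hx1
  have hτ := hord y hyX' hy3 hy1
  have hι : π ⟨i, hiX'⟩ ∈ (Q.subgroupOf X').map π :=
    ⟨⟨i, hiX'⟩, by rw [SetLike.mem_coe, Subgroup.mem_subgroupOf]; exact hi, rfl⟩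
  have hι1 : π ⟨i, hiX'⟩ ≠ 1 := by
    intro h
    rcases (hker' _).1 h with h' | h'
    · exact hi1 (congrArg Subtype.val h')
    · exact hiz (eq_zz_of_en h')
  have hc : π ⟨y, hyX'⟩ * π ⟨i, hiX'⟩ = π ⟨i, hiX'⟩ * π ⟨y, hyX'⟩ := by
    rw [← map_mul, ← map_mul]
    congr 1
    exact Subtype.ext hyi
  exact Cfsg.Agent.Lib.Helper67.Zass.gamma_no_comm hDL (π ⟨x, hxX'⟩) hσ _ hV _ hι hι1 _ hτ hc

theorem lin_app3 (hX : IsFree X) {x y i j : V ≃ₗ[ZMod p] V} (hx : x ∈ X) (hy : y ∈ X) {Q : Subgroup (V ≃ₗ[ZMod p] V)} (hQX : Q ≤ X) (hx3 : orderOf x = 3) (hQ : QSub x Q) (hi : i ∈ Q) (hj : j ∈ Q) (hij : i * j ≠ j * i) (hy3 : orderOf y = 3) (hyi : y * i = i * y) (hjy : j * y * j⁻¹ = y ∨ j * y * j⁻¹ = y⁻¹) : False := by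
  obtain ⟨hx3', hx1⟩ := zl3_ne_one_of_orderOf hx3
  obtain ⟨hy3', hy1⟩ := zl3_ne_one_of_orderOf hy3
  obtain ⟨hzQ, hz1⟩ := zz_mem_of_qsub hX hQX hQ
  have h20 := two_ne_zero_of_zz (p := p) (V := V) hz1
  obtain ⟨hII, hJJ, hJI, hmem⟩ := mem_of_noncomm hX hx3' hQX hQ hi hj hij
  have hYI : en y * en i = en i * en y := by rw [← en_mul, ← en_mul, hyi]
  have hYY := hX.quad3 hy hy1 hy3'
  rcases hjy with hjy | hjy
  · -- centralised case
    have hyj : y * j = j * y := by
      have := congrArg (· * j) hjy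
      simp only [inv_mul_cancel_right] at this
      exact this.symm
    have hYJ : en y * en j = en j * en y := by rw [← en_mul, ← en_mul, hyj]
    refine zl3_core hX hx hy hQX hx3' hx1 hQ hi hj hij hy3' hy1 hyi (Or.inr ?_)
      [0, -1, en y] (by simp) (by simp) ?_ ?_ ?_ ?_
    · -- y does not commute with x
      intro hyx
      -- y commutes with Q
      have hyQ : ∀ q ∈ Q, y * q = q * y := by
        intro q hq
        rcases hmem q hq with h | h | h | h | h | h | h | h <;> rw [h]
        · simp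
        · rw [zz_comm]
        · exact hyi
        · rw [← mul_assoc, ← zz_comm y, mul_assoc, hyi, mul_assoc]
        · exact hyj
        · rw [← mul_assoc, ← zz_comm y, mul_assoc, hyj, mul_assoc]
        · rw [← mul_assoc, hyi, mul_assoc, hyj, mul_assoc]
        · rw [← mul_assoc, ← zz_comm y, mul_assoc, ← mul_assoc y, hyi, mul_assoc i, hyj]
          simp only [mul_assoc]
      obtain ⟨q, hq, hqx⟩ := hQ.2.2
      rcases eq_or_eq_sq_of_comm hX hx hy hx3' hx1 hy3' hy1 hyx.symm with h | h
      · apply hqx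
        rw [← h, hyQ q hq, mul_assoc, mul_inv_cancel, mul_one]
      · apply hqx
        have h1 := hyQ q hq
        rw [h] at h1
        have hx4 : x = x * x * (x * x) := by
          have : x * x * (x * x) = x ^ 3 * x := by
            simp only [pow_succ, pow_zero, one_mul, mul_assoc]
          rw [this, hx3', one_mul]
        have h2 : x * q = q * x := by
          calc x * q = x * x * (x * x) * q := by rw [← hx4]
            _ = x * x * (x * x * q) := by rw [mul_assoc]
            _ = x * x * (q * (x * x)) := by rw [h1]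
            _ = (x * x * q) * (x * x) := by simp only [mul_assoc]
            _ = q * (x * x) * (x * x) := by rw [h1]
            _ = q * (x * x * (x * x)) := by rw [mul_assoc]
            _ = q * x := by rw [← hx4]
        rw [h2, mul_assoc, mul_inv_cancel, mul_one]
    · intro c hc d hd
      simp only [List.mem_cons, List.not_mem_nil, or_false] at hc hd
      rcases hc with rfl | rfl | rfl <;> rcases hd with rfl | rfl | rfl <;>
        simp [Commute, SemiconjBy]
    · intro c hc
      simp only [List.mem_cons, List.not_mem_nil, or_false] at hc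
      rcases hc with rfl | rfl | rfl
      · simp [Commute, SemiconjBy]
      · simp [Commute, SemiconjBy]
      · exact hYI.symm
    · intro c hc
      simp only [List.mem_cons, List.not_mem_nil, or_false] at hc
      rcases hc with rfl | rfl | rfl
      · simp [Commute, SemiconjBy]
      · simp [Commute, SemiconjBy]
      · exact hYJ.symm
    · exact Algebra.subset_adjoin (Or.inr (by simp))
  · -- inverted case
    have hyinv : en y⁻¹ = en y * en y := by
      rw [← en_mul]
      congr 1
      rw [inv_eq_iff_mul_eq_one]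
      simpa only [pow_succ, pow_zero, one_mul, mul_assoc] using hy3'
    have hJY : en j * en y = en y * en y * en j := by
      have := en_conj hjy
      rwa [hyinv] at this
    have hJYY : en j * (en y * en y) = en y * en j := by
      have hY3 : en y * en y * en y = 1 := by
        have : y * y * y = 1 := by simpa only [pow_succ, pow_zero, one_mul] using hy3'
        rw [← en_mul, ← en_mul, this, en_one]
      calc en j * (en y * en y) = (en j * en y) * en y := by rw [mul_assoc]
        _ = (en y * en y * en j) * en y := by rw [hJY]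
        _ = en y * en y * (en j * en y) := by simp only [mul_assoc]
        _ = en y * en y * (en y * en y * en j) := by rw [hJY]
        _ = en y * (en y * en y * en y) * en j := by simp only [mul_assoc]
        _ = en y * en j := by rw [hY3, mul_one]
    obtain ⟨W, hW⟩ : ∃ W : Module.End (ZMod p) V, W = en y - en y * en y := ⟨_, rfl⟩
    have hIW : en i * W = W * en i := by
      have e : en i * (en y * en y) = en y * en y * en i := by
        rw [← mul_assoc, ← hYI, mul_assoc, ← hYI, mul_assoc]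
      rw [hW, mul_sub, sub_mul, ← hYI, e]
    have hJW : en j * W = -(W * en j) := by
      rw [hW, mul_sub, sub_mul, hJY, hJYY]; abel
    obtain ⟨D, hD⟩ : ∃ D : Module.End (ZMod p) V, D = en i * W := ⟨_, rfl⟩
    have hID : en i * D = D * en i := by
      rw [hD, mul_assoc, hIW]
    have hJD : en j * D = D * en j := by
      calc en j * D = (en j * en i) * W := by rw [hD, mul_assoc]
        _ = -(en i * (en j * W)) := by rw [hJI]; noncomm_ring
        _ = en i * W * en j := by rw [hJW]; noncomm_ring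
        _ = D * en j := by rw [hD]
    have hYeq : en y = (2 : ZMod p)⁻¹ • (-1 - en i * D) := by
      have e1 : en i * D = -W := by
        rw [hD, ← mul_assoc, hII]; simp
      have e2 : -1 - en i * D = en y + en y := by
        rw [e1, hW]
        have : en y * en y = -en y - 1 := by
          rw [← sub_eq_zero, ← hYY]; abel
        rw [this]; abel
      rw [e2, ← two_smul (ZMod p) (en y), smul_smul, inv_mul_cancel₀ h20, one_smul]
    refine zl3_core hX hx hy hQX hx3' hx1 hQ hi hj hij hy3' hy1 hyi (Or.inl ?_)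
      [0, -1, D] (by simp) (by simp) ?_ ?_ ?_ ?_
    · intro hyj
      apply hy1
      have h1 : j * y * j⁻¹ = y := by rw [← hyj, mul_assoc, mul_inv_cancel, mul_one]
      have h2 : y = y⁻¹ := h1.symm.trans hjy
      have h3 : y * y = 1 := by
        nth_rewrite 2 [h2]
        exact mul_inv_cancel y
      calc y = y ^ 3 * (y * y)⁻¹ := by
            simp only [pow_succ, pow_zero, one_mul]; group
        _ = 1 := by rw [hy3', h3]; simp
    · intro c hc d hd
      simp only [List.mem_cons, List.not_mem_nil, or_false] at hc hd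
      rcases hc with rfl | rfl | rfl <;> rcases hd with rfl | rfl | rfl <;>
        simp [Commute, SemiconjBy]
    · intro c hc
      simp only [List.mem_cons, List.not_mem_nil, or_false] at hc
      rcases hc with rfl | rfl | rfl
      · simp [Commute, SemiconjBy]
      · simp [Commute, SemiconjBy]
      · exact hID
    · intro c hc
      simp only [List.mem_cons, List.not_mem_nil, or_false] at hc
      rcases hc with rfl | rfl | rfl
      · simp [Commute, SemiconjBy]
      · simp [Commute, SemiconjBy]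
      · exact hJD
    · rw [hYeq]
      set A := Algebra.adjoin (ZMod p)
        (({en i, en j} : Set (Module.End (ZMod p) V)) ∪ {c | c ∈ [0, -1, D]})
      have hIA : en i ∈ A := Algebra.subset_adjoin (Or.inl (Or.inl rfl))
      have hDA : D ∈ A := Algebra.subset_adjoin (Or.inr (by simp))
      exact A.smul_mem (A.sub_mem (A.neg_mem A.one_mem) (A.mul_mem hIA hDA)) _

end Cfsg.Agent.Lib.Helper47
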