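/-
helper47: project ASCH (helper99, S5630), module ASCH-[DET4]:
a group of Kronecker products `a ⊗ b` of `2 × 2` matrices preserves, up to scalars, the form
`ω ⊗ ω` (the determinant form on `2 × 2` matrices), hence lies in a class-8 group of `GL_4`.
-/
import Mathlib
import Cfsg.Prelude.Def_GeometricClasses
import Cfsg.Agent.Lib.Helper99.AschDefs

set_option autoImplicit false

namespace Cfsg.Agent.Lib.Helper47.AschDet4

open Cfsg Cfsg.Geo Cfsg.Agent.Lib.Helper99.Asch
open scoped MatrixGroups Matrix Kronecker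

variable {n : ℕ} {F : Type*} [Field F]

/-- the standard alternating `2 × 2` matrix -/
def om (F : Type*) [Field F] : Matrix (Fin 2) (Fin 2) F := !![0, 1; -1, 0]

/-- `ω ⊗ ω` -/
def J0 (F : Type*) [Field F] : Matrix (Fin 2 × Fin 2) (Fin 2 × Fin 2) F := om F ⊗ₖ om F

theorem om_transpose : (om F)ᵀ = -om F := by
  ext i j
  fin_cases i <;> fin_cases j <;> simp [om]

theorem om_mul_om : om F * om F = -1 := by
  ext i j
  fin_cases i <;> fin_cases j <;> simp [om, Matrix.mul_apply, Fin.sum_univ_two]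

theorem transpose_om_mul (a : Matrix (Fin 2) (Fin 2) F) : aᵀ * om F * a = a.det • om F := by
  ext i j
  fin_cases i <;> fin_cases j <;>
    simp [om, Matrix.mul_apply, Fin.sum_univ_two, Matrix.det_fin_two] <;> ring

theorem J0_transpose : (J0 F)ᵀ = J0 F := by
  unfold J0
  rw [← Matrix.kroneckerMap_transpose, om_transpose]
  ext ⟨i, j⟩ ⟨k, l⟩
  simp [Matrix.kroneckerMap_apply]

theorem J0_mul_J0 : J0 F * J0 F = 1 := by
  unfold J0
  rw [← Matrix.mul_kronecker_mul, om_mul_om]
  ext ⟨i, j⟩ ⟨k, l⟩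
  simp [Matrix.kroneckerMap_apply, Matrix.one_apply, Prod.ext_iff]
  split_ifs <;> simp_all

theorem kron_J0 (a b : Matrix (Fin 2) (Fin 2) F) :
    (a ⊗ₖ b)ᵀ * J0 F * (a ⊗ₖ b) = (a.det * b.det) • J0 F := by
  unfold J0
  rw [← Matrix.kroneckerMap_transpose, ← Matrix.mul_kronecker_mul, ← Matrix.mul_kronecker_mul,
    transpose_om_mul, transpose_om_mul, Matrix.smul_kronecker, Matrix.kronecker_smul, smul_smul]

/-- the quadratic form of `J0` is twice the determinant -/
theorem J0_quad (w : Fin 2 × Fin 2 → F) :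
    w ⬝ᵥ (J0 F *ᵥ w) = 2 * (w (0, 0) * w (1, 1) - w (0, 1) * w (1, 0)) := by
  simp [J0, om, dotProduct, Matrix.mulVec, Fintype.sum_prod_type, Fin.sum_univ_two,
    Matrix.kroneckerMap_apply]
  ring

theorem J0_symm (y z : Fin 2 × Fin 2 → F) : y ⬝ᵥ (J0 F *ᵥ z) = z ⬝ᵥ (J0 F *ᵥ y) := by
  rw [Matrix.dotProduct_mulVec, ← Matrix.mulVec_transpose, J0_transpose, dotProduct_comm]

/-- coordinates adapted to the tensor decomposition -/
def phi (idx : Fin n ≃ Fin 2 × Fin 2) (B : GL (Fin n) F) (u : Fin n → F) : Fin 2 × Fin 2 → F :=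
  fun p => ((B : Matrix (Fin n) (Fin n) F) *ᵥ u) (idx.symm p)

theorem phi_add (idx : Fin n ≃ Fin 2 × Fin 2) (B : GL (Fin n) F) (u v : Fin n → F) :
    phi idx B (u + v) = phi idx B u + phi idx B v := by
  funext p
  simp [phi, Matrix.mulVec_add]

theorem phi_smul (idx : Fin n ≃ Fin 2 × Fin 2) (B : GL (Fin n) F) (c : F) (u : Fin n → F) :
    phi idx B (c • u) = c • phi idx B u := by
  funext p
  simp [phi, Matrix.mulVec_smul]

/-- a right inverse of `phi` -/
def psi (idx : Fin n ≃ Fin 2 × Fin 2) (B : GL (Fin n) F) (x : Fin 2 × Fin 2 → F) : Fin n → F :=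
  ((B⁻¹ : GL (Fin n) F) : Matrix (Fin n) (Fin n) F) *ᵥ (fun i => x (idx i))

theorem phi_psi (idx : Fin n ≃ Fin 2 × Fin 2) (B : GL (Fin n) F) (x : Fin 2 × Fin 2 → F) :
    phi idx B (psi idx B x) = x := by
  funext p
  simp only [phi, psi]
  rw [Matrix.mulVec_mulVec, ← Units.val_mul, mul_inv_cancel, Units.val_one, Matrix.one_mulVec,
    Equiv.apply_symm_apply]

theorem phi_eq_zero (idx : Fin n ≃ Fin 2 × Fin 2) (B : GL (Fin n) F) (u : Fin n → F)
    (h : phi idx B u = 0) : u = 0 := by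
  have h1 : (B : Matrix (Fin n) (Fin n) F) *ᵥ u = 0 := by
    funext i
    have := congrFun h (idx i)
    simpa [phi] using this
  have h2 : ((B⁻¹ : GL (Fin n) F) : Matrix (Fin n) (Fin n) F) *ᵥ
      ((B : Matrix (Fin n) (Fin n) F) *ᵥ u) = 0 := by rw [h1, Matrix.mulVec_zero]
  rwa [Matrix.mulVec_mulVec, ← Units.val_mul, inv_mul_cancel, Units.val_one,
    Matrix.one_mulVec] at h2

/-- action of an element which is a Kronecker product in the adapted coordinates -/
theorem phi_mulVec (idx : Fin n ≃ Fin 2 × Fin 2) (B h : GL (Fin n) F)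
    (M : Matrix (Fin 2 × Fin 2) (Fin 2 × Fin 2) F)
    (hM : ((B * h * B⁻¹ : GL (Fin n) F) : Matrix (Fin n) (Fin n) F) =
      Matrix.reindex idx.symm idx.symm M) (u : Fin n → F) :
    phi idx B ((h : Matrix (Fin n) (Fin n) F) *ᵥ u) = M *ᵥ phi idx B u := by
  have h1 : (B : Matrix (Fin n) (Fin n) F) *ᵥ ((h : Matrix (Fin n) (Fin n) F) *ᵥ u) =
      (Matrix.reindex idx.symm idx.symm M) *ᵥ ((B : Matrix (Fin n) (Fin n) F) *ᵥ u) := by
    rw [← hM, Matrix.mulVec_mulVec, Matrix.mulVec_mulVec, ← Units.val_mul, ← Units.val_mul]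
    congr 2
    group
  funext p
  simp only [phi]
  rw [h1]
  show ∑ j, (Matrix.reindex idx.symm idx.symm M) (idx.symm p) j *
      ((B : Matrix (Fin n) (Fin n) F) *ᵥ u) j =
    ∑ q, M p q * ((B : Matrix (Fin n) (Fin n) F) *ᵥ u) (idx.symm q)
  rw [← Equiv.sum_comp idx.symm]
  refine Finset.sum_congr rfl (fun q _ => ?_)
  simp [Matrix.reindex_apply]

/-- the invariant form -/
def form (idx : Fin n ≃ Fin 2 × Fin 2) (B : GL (Fin n) F) (u v : Fin n → F) : F :=
  phi idx B u ⬝ᵥ (J0 F *ᵥ phi idx B v)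

theorem form_symm (idx : Fin n ≃ Fin 2 × Fin 2) (B : GL (Fin n) F) (u v : Fin n → F) :
    form idx B u v = form idx B v u := J0_symm _ _

theorem form_bilinear (idx : Fin n ≃ Fin 2 × Fin 2) (B : GL (Fin n) F) :
    IsBilinearForm (form idx B) where
  add_left x y v := by simp only [form, phi_add, add_dotProduct]
  smul_left c x v := by simp only [form, phi_smul, smul_dotProduct, smul_eq_mul]
  add_right v x y := by simp only [form, phi_add, Matrix.mulVec_add, dotProduct_add]
  smul_right c v x := by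
    simp only [form, phi_smul, Matrix.mulVec_smul, dotProduct_smul, smul_eq_mul]

theorem form_nondeg (idx : Fin n ≃ Fin 2 × Fin 2) (B : GL (Fin n) F) :
    IsNondegenerateForm (form idx B) := by
  intro v hv
  have hy : phi idx B v ≠ 0 := fun h => hv (phi_eq_zero idx B v h)
  have hJy : J0 F *ᵥ phi idx B v ≠ 0 := by
    intro h
    apply hy
    have h2 : J0 F *ᵥ (J0 F *ᵥ phi idx B v) = 0 := by rw [h, Matrix.mulVec_zero]
    rwa [Matrix.mulVec_mulVec, J0_mul_J0, Matrix.one_mulVec] at h2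
  obtain ⟨p, hp⟩ : ∃ p, (J0 F *ᵥ phi idx B v) p ≠ 0 := by
    by_contra hcon
    push Not at hcon
    exact hJy (funext hcon)
  have hx : form idx B (psi idx B (Pi.single p 1)) v ≠ 0 := by
    simp only [form, phi_psi]
    rw [single_one_dotProduct]
    exact hp
  exact ⟨⟨_, hx⟩, ⟨_, by rw [form_symm]; exact hx⟩⟩

theorem form_similar (idx : Fin n ≃ Fin 2 × Fin 2) (B h : GL (Fin n) F)
    (a b : GL (Fin 2) F)
    (hM : ((B * h * B⁻¹ : GL (Fin n) F) : Matrix (Fin n) (Fin n) F) =
      Matrix.reindex idx.symm idx.symm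
        ((a : Matrix (Fin 2) (Fin 2) F) ⊗ₖ (b : Matrix (Fin 2) (Fin 2) F))) (u v : Fin n → F) :
    form idx B ((h : Matrix (Fin n) (Fin n) F) *ᵥ u) ((h : Matrix (Fin n) (Fin n) F) *ᵥ v) =
      ((a : Matrix (Fin 2) (Fin 2) F).det * (b : Matrix (Fin 2) (Fin 2) F).det) *
        form idx B u v := by
  simp only [form]
  rw [phi_mulVec idx B h _ hM u, phi_mulVec idx B h _ hM v, Matrix.mulVec_mulVec,
    Matrix.dotProduct_mulVec, Matrix.vecMul_mulVec, ← Matrix.dotProduct_mulVec,
    ← Matrix.mul_assoc, kron_J0, Matrix.smul_mulVec, dotProduct_smul, smul_eq_mul]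

theorem form_self (idx : Fin n ≃ Fin 2 × Fin 2) (B : GL (Fin n) F) (v : Fin n → F) :
    form idx B v v = 2 * (phi idx B v (0, 0) * phi idx B v (1, 1) -
      phi idx B v (0, 1) * phi idx B v (1, 0)) := J0_quad _

theorem geo_main [Fintype F] (H : Subgroup (GL (Fin n) F)) (idx : Fin n ≃ Fin 2 × Fin 2)
    (B : GL (Fin n) F)
    (hH : ∀ h ∈ H, ∃ (a b : GL (Fin 2) F),
      ((B * h * B⁻¹ : GL (Fin n) F) : Matrix (Fin n) (Fin n) F) =
      Matrix.reindex idx.symm idx.symm
        ((a : Matrix (Fin 2) (Fin 2) F) ⊗ₖ (b : Matrix (Fin 2) (Fin 2) F))) :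
    Geo H := by
  have hn4 : n = 4 := by
    have h := Fintype.card_congr idx
    simpa using h
  have bil := form_bilinear idx B
  by_cases hodd : Odd (Fintype.card F)
  · have hchar : ringChar F ≠ 2 := by
      intro h
      have h1 := FiniteField.even_card_iff_char_two.1 h
      rcases hodd with ⟨k, hk⟩
      omega
    have h2 : (2 : F) ≠ 0 := Ring.two_ne_zero hchar
    have hpolar : ∀ v w, QuadraticMap.polar (fun v => form idx B v v) v w =
        2 * form idx B v w := by
      intro v w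
      simp only [QuadraticMap.polar]
      rw [bil.add_left, bil.add_right, bil.add_right, form_symm idx B w v]
      ring
    refine ⟨quadSimilarityGroup (fun v => form idx B v v), ?_, ?_⟩
    · refine Or.inr (Or.inr (Or.inr (Or.inr (Or.inr (Or.inr (Or.inr (Or.inr (Or.inr (Or.inr
        (Or.inr ⟨fun v => form idx B v v, ⟨?_, ?_, ?_⟩, hodd, by omega, rfl⟩))))))))))
      · intro c v
        rw [bil.smul_left, bil.smul_right]
        ring
      · refine ⟨?_, ?_, ?_, ?_⟩
        · intro x y v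
          rw [hpolar, hpolar, hpolar, bil.add_left]; ring
        · intro c x v
          rw [hpolar, hpolar, bil.smul_left]; ring
        · intro v x y
          rw [hpolar, hpolar, hpolar, bil.add_right]; ring
        · intro c v x
          rw [hpolar, hpolar, bil.smul_right]; ring
      · intro v hv
        obtain ⟨⟨x, hx⟩, ⟨y, hy⟩⟩ := form_nondeg idx B v hv
        exact ⟨⟨x, by rw [hpolar]; exact mul_ne_zero h2 hx⟩,
          ⟨y, by rw [hpolar]; exact mul_ne_zero h2 hy⟩⟩
    · intro h hh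
      obtain ⟨a, b, hab⟩ := hH h hh
      exact ⟨Matrix.GeneralLinearGroup.det a * Matrix.GeneralLinearGroup.det b,
        fun v => form_similar idx B h a b hab v v⟩
  · have hchar : ringChar F = 2 := by
      apply FiniteField.even_card_iff_char_two.2
      rcases Nat.even_or_odd (Fintype.card F) with h | h
      · exact Nat.even_iff.1 h
      · exact absurd h hodd
    have hcp : CharP F 2 := ringChar.of_eq hchar
    have h20 : (2 : F) = 0 := CharTwo.two_eq_zero
    refine ⟨similarityGroup (form idx B), ?_, ?_⟩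
    · refine Or.inr (Or.inr (Or.inr (Or.inr (Or.inr (Or.inr (Or.inr (Or.inr (Or.inr (Or.inl
        ⟨form idx B, ⟨bil, ?_, ?_, form_nondeg idx B⟩, ⟨2, by omega⟩, by omega, rfl⟩)))))))))
      · intro v w
        rw [form_symm idx B v w, CharTwo.neg_eq]
      · intro v
        rw [form_self, h20, zero_mul]
    · intro h hh
      obtain ⟨a, b, hab⟩ := hH h hh
      exact ⟨Matrix.GeneralLinearGroup.det a * Matrix.GeneralLinearGroup.det b,
        fun u v => form_similar idx B h a b hab u v⟩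

end Cfsg.Agent.Lib.Helper47.AschDet4

namespace Cfsg.Agent.Lib.Helper99.Asch

open Cfsg Cfsg.Geo
open scoped MatrixGroups Matrix Kronecker

variable {n : ℕ} {F : Type*} [Field F] [Fintype F]

/-- ASCH-[DET4] (exact sheet statement) -/
theorem geo_of_kronecker_two_two (H : Subgroup (GL (Fin n) F)) (idx : Fin n ≃ Fin 2 × Fin 2)
    (B : GL (Fin n) F)
    (hH : ∀ h ∈ H, ∃ (a b : GL (Fin 2) F), ((B * h * B⁻¹ : GL (Fin n) F) : Matrix (Fin n) (Fin n) F) =
      Matrix.reindex idx.symm idx.symm ((a : Matrix (Fin 2) (Fin 2) F) ⊗ₖ (b : Matrix (Fin 2) (Fin 2) F))) :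
    Geo H :=
  Cfsg.Agent.Lib.Helper47.AschDet4.geo_main H idx B hH

end Cfsg.Agent.Lib.Helper99.Asch
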