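/-
helper47: project ASCH (helper99, S5630), module ASCH-[BASIS]:
inequivalent elements of an absolutely irreducible group with scalar commutators are linearly
independent, and such a group has order `|S ∩ Z| n²` (given Burnside's theorem as a hypothesis:
`card_eq_of_commScalar_of_span`).  Both statements need `0 < n` (they are false for `n = 0`).
-/
import Mathlib
import Cfsg.Prelude.Def_GeometricClasses
import Cfsg.Agent.Lib.Helper99.AschDefs

set_option autoImplicit false

namespace Cfsg.Agent.Lib.Helper47.AschBasis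

open Cfsg Cfsg.Geo Cfsg.Agent.Lib.Helper99.Asch
open scoped MatrixGroups Matrix

variable {n : ℕ} {F : Type*} [Field F]

/-- an invertible matrix of positive size is not zero -/
theorem val_ne_zero (hn : 0 < n) (x : GL (Fin n) F) :
    ((x : GL (Fin n) F) : Matrix (Fin n) (Fin n) F) ≠ 0 := by
  intro h
  have h1 : ((x * x⁻¹ : GL (Fin n) F) : Matrix (Fin n) (Fin n) F) = 1 := by simp
  rw [Units.val_mul, h, zero_mul] at h1
  have h2 := congrFun (congrFun h1 ⟨0, hn⟩) ⟨0, hn⟩
  simp at h2

/-- a non-scalar element fails to commute with some element of an absolutely irreducible group -/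
theorem exists_not_commute (hn : 0 < n) (S : Subgroup (GL (Fin n) F))
    (hS : ActsAbsolutelyIrreducibly (matrixSet S)) (u : GL (Fin n) F)
    (hu : u ∉ scalars (Fin n) F) : ∃ g ∈ S, g * u ≠ u * g := by
  by_contra hcon
  push Not at hcon
  apply hu
  obtain ⟨c, hc⟩ := hS.2 (u : Matrix (Fin n) (Fin n) F) (by
    rintro s ⟨g, hg, rfl⟩
    have h1 := hcon g hg
    have h2 := congrArg (fun x : GL (Fin n) F => (x : Matrix (Fin n) (Fin n) F)) h1
    simp only [Units.val_mul] at h2
    exact h2.symm)
  rw [mem_scalars_iff]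
  have hc0 : c ≠ 0 := by
    rintro rfl
    rw [zero_smul] at hc
    exact val_ne_zero hn u hc
  exact ⟨Units.mk0 c hc0, hc⟩

/-- ASCH-[BASIS], first part, with the (necessary) hypothesis `0 < n` -/
theorem linearIndependent_of_inequivalent_pos (hn : 0 < n) (S : Subgroup (GL (Fin n) F))
    (hS : ActsAbsolutelyIrreducibly (matrixSet S)) (hc : CommScalar S)
    {κ : Type*} (t : κ → GL (Fin n) F) (htS : ∀ i, t i ∈ S)
    (ht : ∀ i j, i ≠ j → (t i)⁻¹ * t j ∉ scalars (Fin n) F) :
    LinearIndependent F (fun i => ((t i : GL (Fin n) F) : Matrix (Fin n) (Fin n) F)) := by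
  classical
  rw [linearIndependent_iff']
  intro s
  induction s using Finset.induction_on with
  | empty =>
    intro c _ i hi
    exact absurd hi (Finset.notMem_empty i)
  | insert a s' ha ih =>
    intro c hrel
    have hs' : ∀ j ∈ s', c j = 0 := by
      intro j hj
      have haj : a ≠ j := fun h => ha (h ▸ hj)
      obtain ⟨g, hgS, hgu⟩ := exists_not_commute hn S hS ((t a)⁻¹ * t j) (ht a j haj)
      have hz : ∀ i, ∃ l : Fˣ,
          ((g * t i * g⁻¹ * (t i)⁻¹ : GL (Fin n) F) : Matrix (Fin n) (Fin n) F) =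
            (l : F) • (1 : Matrix (Fin n) (Fin n) F) := by
        intro i
        have h1 := hc g hgS (t i) (htS i)
        rw [mem_scalars_iff] at h1
        exact h1
      choose l hl using hz
      have hl' : ∀ i, ((g * t i * g⁻¹ : GL (Fin n) F) : Matrix (Fin n) (Fin n) F) =
          (l i : F) • ((t i : GL (Fin n) F) : Matrix (Fin n) (Fin n) F) := by
        intro i
        have h2 : (g * t i * g⁻¹ : GL (Fin n) F) = (g * t i * g⁻¹ * (t i)⁻¹) * t i := by group
        rw [h2, Units.val_mul, hl i, Matrix.smul_mul, Matrix.one_mul]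
      have hla : l a ≠ l j := by
        intro h
        apply hgu
        have h3 : g * t a * g⁻¹ * (t a)⁻¹ = g * t j * g⁻¹ * (t j)⁻¹ := by
          apply Units.ext
          rw [hl a, hl j, h]
        have h4 : g⁻¹ * ((t a)⁻¹ * t j) = ((t a)⁻¹ * t j) * g⁻¹ := by
          have h5 := congrArg (fun x => (t a)⁻¹ * (g⁻¹ * x) * t j) h3
          calc g⁻¹ * ((t a)⁻¹ * t j)
              = (t a)⁻¹ * (g⁻¹ * (g * t a * g⁻¹ * (t a)⁻¹)) * t j := by group
            _ = (t a)⁻¹ * (g⁻¹ * (g * t j * g⁻¹ * (t j)⁻¹)) * t j := h5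
            _ = ((t a)⁻¹ * t j) * g⁻¹ := by group
        calc g * ((t a)⁻¹ * t j) = g * (((t a)⁻¹ * t j) * g⁻¹) * g := by group
          _ = g * (g⁻¹ * ((t a)⁻¹ * t j)) * g := by rw [h4]
          _ = ((t a)⁻¹ * t j) * g := by group
      have hrel2 : ∑ i ∈ insert a s', (c i * (l i : F)) •
          ((t i : GL (Fin n) F) : Matrix (Fin n) (Fin n) F) = 0 := by
        have h6 := congrArg (fun M : Matrix (Fin n) (Fin n) F =>
          (g : Matrix (Fin n) (Fin n) F) * M * ((g⁻¹ : GL (Fin n) F) : Matrix (Fin n) (Fin n) F)) hrel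
        simp only [Matrix.mul_sum, Matrix.sum_mul, Matrix.mul_zero, Matrix.zero_mul] at h6
        rw [← h6]
        refine Finset.sum_congr rfl (fun i _ => ?_)
        rw [Matrix.mul_smul, Matrix.smul_mul, ← Units.val_mul, ← Units.val_mul, hl' i, smul_smul]
      have hrel3 : ∑ i ∈ s', (c i * ((l i : F) - (l a : F))) •
          ((t i : GL (Fin n) F) : Matrix (Fin n) (Fin n) F) = 0 := by
        have h7 : ∑ i ∈ insert a s', (c i * ((l i : F) - (l a : F))) •
            ((t i : GL (Fin n) F) : Matrix (Fin n) (Fin n) F) = 0 := by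
          have h8 : ∀ i, (c i * ((l i : F) - (l a : F))) •
              ((t i : GL (Fin n) F) : Matrix (Fin n) (Fin n) F) =
              (c i * (l i : F)) • ((t i : GL (Fin n) F) : Matrix (Fin n) (Fin n) F) -
                (l a : F) • (c i • ((t i : GL (Fin n) F) : Matrix (Fin n) (Fin n) F)) := by
            intro i
            rw [smul_smul, ← sub_smul]
            congr 1
            ring
          simp only [h8, Finset.sum_sub_distrib, ← Finset.smul_sum, hrel, hrel2, smul_zero,
            sub_zero]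
        rw [Finset.sum_insert ha] at h7
        simpa using h7
      have h9 := ih _ hrel3 j hj
      rcases mul_eq_zero.1 h9 with h | h
      · exact h
      · exfalso
        exact hla (Units.ext (sub_eq_zero.1 h).symm)
    intro i hi
    rcases Finset.mem_insert.1 hi with rfl | hi'
    · rw [Finset.sum_insert ha] at hrel
      have h0 : ∑ j ∈ s', c j • ((t j : GL (Fin n) F) : Matrix (Fin n) (Fin n) F) = 0 :=
        Finset.sum_eq_zero (fun j hj => by rw [hs' j hj, zero_smul])
      rw [h0, add_zero] at hrel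
      by_contra hci
      exact val_ne_zero hn (t i) ((smul_eq_zero.1 hrel).resolve_left hci)
    · exact hs' i hi'

/-- ASCH-[BASIS], second part, with `0 < n` and Burnside's theorem (`Submodule.span F (matrixSet S) = ⊤`,
module ASCH-[BURNSIDE]) as hypotheses -/
theorem card_eq_of_commScalar_of_span (hn : 0 < n) [Fintype F] (S : Subgroup (GL (Fin n) F))
    (hS : ActsAbsolutelyIrreducibly (matrixSet S)) (hc : CommScalar S)
    (hspan : Submodule.span F (matrixSet S) = ⊤) :
    Nat.card S = Nat.card (S ⊓ scalars (Fin n) F : Subgroup (GL (Fin n) F)) * n ^ 2 := by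
  classical
  let ZS : Subgroup S := (scalars (Fin n) F).subgroupOf S
  let t : S ⧸ ZS → GL (Fin n) F := fun q => ((Quotient.out q : S) : GL (Fin n) F)
  have htS : ∀ q, t q ∈ S := fun q => (Quotient.out q).2
  have ht : ∀ q q', q ≠ q' → (t q)⁻¹ * t q' ∉ scalars (Fin n) F := by
    intro q q' hne hmem
    apply hne
    rw [← QuotientGroup.out_eq' q, ← QuotientGroup.out_eq' q']
    exact QuotientGroup.eq.2 (Subgroup.mem_subgroupOf.2 hmem)
  have hli := linearIndependent_of_inequivalent_pos hn S hS hc t htS ht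
  have hsp : ⊤ ≤ Submodule.span F
      (Set.range (fun q => ((t q : GL (Fin n) F) : Matrix (Fin n) (Fin n) F))) := by
    rw [← hspan]
    apply Submodule.span_le.2
    rintro _ ⟨s, hs, rfl⟩
    have h1 : (Quotient.out (QuotientGroup.mk (⟨s, hs⟩ : S) : S ⧸ ZS))⁻¹ * (⟨s, hs⟩ : S) ∈ ZS :=
      QuotientGroup.eq.1 (QuotientGroup.out_eq' _)
    rw [Subgroup.mem_subgroupOf, mem_scalars_iff] at h1
    obtain ⟨c, hc'⟩ := h1
    have h2 : s = t (QuotientGroup.mk (⟨s, hs⟩ : S)) *
        ((t (QuotientGroup.mk (⟨s, hs⟩ : S)))⁻¹ * s) := by group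
    have h3 : ((s : GL (Fin n) F) : Matrix (Fin n) (Fin n) F) = (c : F) •
        ((t (QuotientGroup.mk (⟨s, hs⟩ : S)) : GL (Fin n) F) : Matrix (Fin n) (Fin n) F) := by
      conv_lhs => rw [h2]
      rw [Units.val_mul]
      have h4 : (((t (QuotientGroup.mk (⟨s, hs⟩ : S)))⁻¹ * s : GL (Fin n) F) :
          Matrix (Fin n) (Fin n) F) = (c : F) • (1 : Matrix (Fin n) (Fin n) F) := hc'
      rw [h4, Matrix.mul_smul, Matrix.mul_one]
    show ((s : GL (Fin n) F) : Matrix (Fin n) (Fin n) F) ∈ _
    rw [h3]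
    exact Submodule.smul_mem _ _ (Submodule.subset_span ⟨_, rfl⟩)
  have hQ : Nat.card (S ⧸ ZS) = n ^ 2 := by
    have h5 := Module.finrank_eq_nat_card_basis (Module.Basis.mk hli hsp)
    rw [Module.finrank_matrix] at h5
    simp only [Fintype.card_fin, Module.finrank_self, mul_one] at h5
    rw [← h5, sq]
  have hlag := Subgroup.card_eq_card_quotient_mul_card_subgroup ZS
  have hZS : Nat.card ZS = Nat.card (S ⊓ scalars (Fin n) F : Subgroup (GL (Fin n) F)) := by
    refine Nat.card_congr
      { toFun := fun x => ⟨x.1.1, ⟨x.1.2, x.2⟩⟩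
        invFun := fun y => ⟨⟨y.1, y.2.1⟩, y.2.2⟩
        left_inv := fun x => rfl
        right_inv := fun y => rfl }
  rw [hlag, hQ, hZS, mul_comm]

end Cfsg.Agent.Lib.Helper47.AschBasis

namespace Cfsg.Agent.Lib.Helper99.Asch

open Cfsg Cfsg.Geo
open scoped MatrixGroups Matrix

variable {n : ℕ} {F : Type*} [Field F] [Fintype F]

/-- ASCH-[BASIS] (sheet statement plus the necessary hypothesis `0 < n`) -/
theorem linearIndependent_of_inequivalent (hn : 0 < n) (S : Subgroup (GL (Fin n) F))
    (hS : ActsAbsolutelyIrreducibly (matrixSet S)) (hc : CommScalar S)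
    {κ : Type*} (t : κ → GL (Fin n) F) (htS : ∀ i, t i ∈ S)
    (ht : ∀ i j, i ≠ j → (t i)⁻¹ * t j ∉ scalars (Fin n) F) :
    LinearIndependent F (fun i => ((t i : GL (Fin n) F) : Matrix (Fin n) (Fin n) F)) :=
  Cfsg.Agent.Lib.Helper47.AschBasis.linearIndependent_of_inequivalent_pos hn S hS hc t htS ht

end Cfsg.Agent.Lib.Helper99.Asch
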