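/-
helper47: project ASCH (helper99, S5630): the sheet statements of ASCH-[KRONNORM]
(`kronecker_of_normalizes`, exact) and of the second half of ASCH-[BASIS]
(`card_eq_of_commScalar`, sheet statement plus the necessary hypothesis `0 < n`),
obtained from the hypothesis forms and helper39's ASCH-[BURNSIDE].
-/
import Mathlib
import Cfsg.Prelude.Def_GeometricClasses
import Cfsg.Agent.Lib.Helper99.AschDefs
import Cfsg.Agent.Lib.Helper39.AschBurnside
import Cfsg.Agent.Lib.Helper47.AschBasis
import Cfsg.Agent.Lib.Helper47.AschKronNorm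

set_option autoImplicit false

namespace Cfsg.Agent.Lib.Helper99.Asch

open Cfsg Cfsg.Geo
open scoped MatrixGroups Matrix Kronecker

variable {n : ℕ} {F : Type*} [Field F] [Fintype F]

/-- ASCH-[BASIS], second part (sheet statement plus the necessary hypothesis `0 < n`) -/
theorem card_eq_of_commScalar (hn : 0 < n) (S : Subgroup (GL (Fin n) F))
    (hS : ActsAbsolutelyIrreducibly (matrixSet S)) (hc : CommScalar S) :
    Nat.card S = Nat.card (S ⊓ scalars (Fin n) F : Subgroup (GL (Fin n) F)) * n ^ 2 :=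
  Cfsg.Agent.Lib.Helper47.AschBasis.card_eq_of_commScalar_of_span hn S hS hc
    (span_eq_top_of_absIrred S hS)

/-- ASCH-[KRONNORM] (exact sheet statement) -/
theorem kronecker_of_normalizes (N : Subgroup (GL (Fin n) F)) (d e : ℕ)
    (idx : Fin n ≃ Fin d × Fin e) (B : GL (Fin n) F) (hNF : TensorNF N d e idx B)
    (g : GL (Fin n) F) (hg : ∀ x ∈ N, g * x * g⁻¹ ∈ N) :
    ∃ (a : GL (Fin d) F) (b : GL (Fin e) F),
      ((B * g * B⁻¹ : GL (Fin n) F) : Matrix (Fin n) (Fin n) F) =
      Matrix.reindex idx.symm idx.symm ((a : Matrix (Fin d) (Fin d) F) ⊗ₖ (b : Matrix (Fin e) (Fin e) F)) :=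
  Cfsg.Agent.Lib.Helper47.AschKronNorm.kronecker_of_normalizes_of N d e
    (fun S hS => span_eq_top_of_absIrred' S hS) idx B hNF g hg

end Cfsg.Agent.Lib.Helper99.Asch
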