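/-
helper47: module PIM-[BASIC] of helper41's project PIM (S4427): finite-sum identities for
`classTr`, `sumOn`, `aug` on group rings.  Exact statements of notes/helper41_PIM_modules.lean.txt.
-/
import Mathlib
import Cfsg.Agent.Lib.Helper41.PIM.Defs

set_option autoImplicit false

namespace Cfsg.Agent.Lib.Helper47.PIM

open Cfsg Cfsg.Agent.Lib.Helper16 Cfsg.Agent.Lib.Helper41.PIM

universe u

variable {G : Type u} [Group G] [Fintype G]

/-! ### PIM-[BASIC] -/

theorem coeff_mul_sum {R : Type*} [Semiring R] (x y : MonoidAlgebra R G) (g : G) :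
    (x * y).coeff g = ∑ h : G, x.coeff h * y.coeff (h⁻¹ * g) := by
  rw [MonoidAlgebra.coeff_mul_apply_left, Finsupp.sum_fintype]
  intro h
  simp

/-- `∑_{g ∈ S} (xy)(g) = ∑_{h,k} [hk ∈ S] x(h) y(k)` -/
theorem sumOn_mul_eq {R : Type*} [Semiring R] (S : Set G) (x y : MonoidAlgebra R G) :
    sumOn S (x * y) =
      ∑ h : G, ∑ k : G, (open Classical in if h * k ∈ S then x.coeff h * y.coeff k else 0) := by
  classical
  unfold sumOn
  have h1 : ∀ g : G, (if g ∈ S then (x * y).coeff g else 0) =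
      ∑ h : G, if g ∈ S then x.coeff h * y.coeff (h⁻¹ * g) else 0 := by
    intro g
    by_cases hg : g ∈ S
    · simp only [if_pos hg]
      exact coeff_mul_sum x y g
    · simp only [if_neg hg]
      simp
  rw [Finset.sum_congr rfl (fun g _ => h1 g), Finset.sum_comm]
  apply Finset.sum_congr rfl
  intro h _
  apply Fintype.sum_equiv (Equiv.mulLeft h⁻¹)
  intro g
  simp only [Equiv.coe_mulLeft, mul_inv_cancel_left]

theorem sumOn_mul_comm {R : Type*} [CommSemiring R] (S : Set G)
    (hS : ∀ g h : G, g ∈ S → h * g * h⁻¹ ∈ S) (x y : MonoidAlgebra R G) :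
    sumOn S (x * y) = sumOn S (y * x) := by
  classical
  rw [sumOn_mul_eq, sumOn_mul_eq, Finset.sum_comm]
  apply Finset.sum_congr rfl
  intro k _
  apply Finset.sum_congr rfl
  intro h _
  have hiff : h * k ∈ S ↔ k * h ∈ S := by
    constructor
    · intro hh
      have := hS (h * k) h⁻¹ hh
      simpa [mul_assoc] using this
    · intro hh
      have := hS (k * h) k⁻¹ hh
      simpa [mul_assoc] using this
  by_cases hc : h * k ∈ S
  · rw [if_pos hc, if_pos (hiff.1 hc), mul_comm]
  · rw [if_neg hc, if_neg (fun h' => hc (hiff.2 h'))]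

theorem classTr_mul_comm {R : Type*} [CommSemiring R] (x y : MonoidAlgebra R G) (g : G) :
    classTr (x * y) g = classTr (y * x) g := by
  unfold classTr
  simp only [coeff_mul_sum]
  -- LHS = ∑ h, ∑ u, x u * y (u⁻¹ * (h⁻¹ g⁻¹ h)); RHS = ∑ h, ∑ v, y v * x (v⁻¹ * (h⁻¹ g⁻¹ h))
  have hR : ∀ h : G, ∑ v : G, y.coeff v * x.coeff (v⁻¹ * (h⁻¹ * g⁻¹ * h)) =
      ∑ u : G, y.coeff (h⁻¹ * g⁻¹ * h * u⁻¹) * x.coeff u := by
    intro h
    apply Fintype.sum_equiv ((Equiv.inv G).trans (Equiv.mulRight (h⁻¹ * g⁻¹ * h)))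
    intro v
    simp only [Equiv.trans_apply, Equiv.inv_apply, Equiv.coe_mulRight]
    congr 2
    group
  have hL : ∑ h : G, ∑ u : G, x.coeff u * y.coeff (u⁻¹ * (h⁻¹ * g⁻¹ * h)) =
      ∑ u : G, ∑ h : G, x.coeff u * y.coeff (u⁻¹ * (h⁻¹ * g⁻¹ * h)) := Finset.sum_comm
  have hR' : ∑ h : G, ∑ u : G, y.coeff (h⁻¹ * g⁻¹ * h * u⁻¹) * x.coeff u =
      ∑ u : G, ∑ h : G, y.coeff (h⁻¹ * g⁻¹ * h * u⁻¹) * x.coeff u := Finset.sum_comm
  rw [Finset.sum_congr rfl (fun h _ => hR h), hL, hR']
  apply Finset.sum_congr rfl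
  intro u _
  apply Fintype.sum_equiv (Equiv.mulRight u)
  intro h
  simp only [Equiv.coe_mulRight]
  rw [mul_comm]
  congr 2
  group

theorem classTr_add {R : Type*} [Semiring R] (x y : MonoidAlgebra R G) (g : G) :
    classTr (x + y) g = classTr x g + classTr y g := by
  unfold classTr
  simp only [MonoidAlgebra.coeff_add, Finsupp.add_apply]
  rw [Finset.sum_add_distrib]

theorem classTr_sub {R : Type*} [Ring R] (x y : MonoidAlgebra R G) (g : G) :
    classTr (x - y) g = classTr x g - classTr y g := by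
  unfold classTr
  simp only [MonoidAlgebra.coeff_sub, Finsupp.sub_apply]
  rw [Finset.sum_sub_distrib]

theorem aug_mul {R : Type*} [Semiring R] (x y : MonoidAlgebra R G) : aug (x * y) = aug x * aug y := by
  unfold aug
  simp only [coeff_mul_sum]
  rw [Finset.sum_comm, Finset.sum_mul]
  apply Finset.sum_congr rfl
  intro h _
  rw [← Finset.mul_sum]
  congr 1
  apply Fintype.sum_equiv (Equiv.mulLeft h⁻¹)
  intro g
  rfl

theorem aug_one {R : Type*} [Semiring R] : aug (1 : MonoidAlgebra R G) = 1 := by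
  classical
  unfold aug
  rw [MonoidAlgebra.one_def]
  simp only [MonoidAlgebra.coeff_single, Finsupp.single_apply]
  simp

theorem aug_add {R : Type*} [Semiring R] (x y : MonoidAlgebra R G) : aug (x + y) = aug x + aug y := by
  unfold aug
  simp only [MonoidAlgebra.coeff_add, Finsupp.add_apply]
  rw [Finset.sum_add_distrib]

theorem aug_eq_reg_add_sing {R : Type*} [Semiring R] (p : ℕ) (x : MonoidAlgebra R G) :
    aug x = sumOn (regSet p G) x + sumOn (singSet p G) x := by
  classical
  unfold aug sumOn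
  rw [← Finset.sum_add_distrib]
  apply Finset.sum_congr rfl
  intro g _
  have hr : g ∈ regSet p G ↔ ¬ p ∣ orderOf g := Iff.rfl
  have hs : g ∈ singSet p G ↔ p ∣ orderOf g := Iff.rfl
  by_cases hg : p ∣ orderOf g
  · rw [if_neg (fun h' => (hr.1 h') hg), if_pos (hs.2 hg), zero_add]
  · rw [if_pos (hr.2 hg), if_neg (fun h' => hg (hs.1 h')), add_zero]

theorem aug_zero {R : Type*} [Semiring R] : aug (0 : MonoidAlgebra R G) = 0 := by
  unfold aug
  simp

theorem exists_augAlgHom {k : Type*} [CommSemiring k] :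
    ∃ φ : MonoidAlgebra k G →ₐ[k] k, ∀ x, φ x = aug x := by
  classical
  refine ⟨{ toFun := aug
            map_one' := aug_one
            map_mul' := aug_mul
            map_zero' := aug_zero
            map_add' := aug_add
            commutes' := ?_ }, fun x => rfl⟩
  intro r
  show aug (algebraMap k (MonoidAlgebra k G) r) = algebraMap k k r
  rw [MonoidAlgebra.coe_algebraMap]
  unfold aug
  simp only [Function.comp_apply, MonoidAlgebra.coeff_single, Finsupp.single_apply]
  simp

theorem sumOn_map {R S : Type*} [Semiring R] [Semiring S] (f : R →+* S) (T : Set G)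
    (x : MonoidAlgebra R G) : sumOn T (MonoidAlgebra.mapRingHom G f x) = f (sumOn T x) := by
  classical
  unfold sumOn
  rw [map_sum]
  apply Finset.sum_congr rfl
  intro g _
  rw [MonoidAlgebra.coeff_mapRingHom]
  by_cases hg : g ∈ T
  · rw [if_pos hg, if_pos hg]
  · rw [if_neg hg, if_neg hg, map_zero]

theorem aug_map {R S : Type*} [Semiring R] [Semiring S] (f : R →+* S)
    (x : MonoidAlgebra R G) : aug (MonoidAlgebra.mapRingHom G f x) = f (aug x) := by
  unfold aug
  rw [map_sum]
  apply Finset.sum_congr rfl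
  intro g _
  rw [MonoidAlgebra.coeff_mapRingHom]

theorem classTr_map {R S : Type*} [Semiring R] [Semiring S] (f : R →+* S)
    (x : MonoidAlgebra R G) (g : G) :
    classTr (MonoidAlgebra.mapRingHom G f x) g = f (classTr x g) := by
  unfold classTr
  rw [map_sum]
  apply Finset.sum_congr rfl
  intro h _
  rw [MonoidAlgebra.coeff_mapRingHom]

end Cfsg.Agent.Lib.Helper47.PIM
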