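/-
helper47: module PF13-[ORTH] of helper16's PF sec.13 project (S1547 path).
`orth_of_coherent_of`: the statement of the sheet (`Cfsg/Agent/Lib/Helper16/PF13_MODULES.md`, section
`### PF13-[ORTH]`) with the conclusions of the sibling modules [ZFACTS] [MUSUB] [IRRORTH] [TAU1MU] taken as
hypotheses (exact types of the sheet).
-/
import Mathlib
import Cfsg.Agent.Lib.Helper16.PF13Defs
import Cfsg.Agent.Lib.Helper23.PFCycTau1Mu
import Cfsg.Agent.Lib.Helper24.PFCycDadeInd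
import Cfsg.Agent.Lib.Helper24.PFCycTau
import Cfsg.Agent.Lib.Helper9.PFCycMuConst
import Cfsg.Agent.Lib.Helper50.PFCycMuRes
import Cfsg.Agent.Lib.Helper26.IrrFactsInst
import Cfsg.Agent.Lib.Helper75.Clifford

set_option autoImplicit false
set_option linter.unusedSectionVars false
set_option linter.unusedVariables false

namespace Cfsg.Agent.Lib.Helper47.PF13

open Cfsg Cfsg.Agent.Lib.Helper24.PFCyc Cfsg.Agent.Lib.Helper4.PF Cfsg.Agent.Lib.Helper16.PF13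
open Cfsg.Agent.Lib.Helper26
open scoped ComplexConjugate

universe u

section generic

variable {L : Type u}

/-- members of `zspan X` are class functions if the members of `X` are -/
theorem isClassFunction_of_mem_zspan [Group L] {X : Set (L → ℂ)}
    (hX : ∀ χ ∈ X, IsClassFunction L χ) {β : L → ℂ} (hβ : β ∈ zspan X) : IsClassFunction L β := by
  have hβ' : β ∈ Submodule.span ℤ X := hβ
  refine Submodule.span_induction (p := fun β _ => IsClassFunction L β) ?_ ?_ ?_ ?_ hβ'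
  · intro χ hχ
    exact hX χ hχ
  · intro g x
    rfl
  · intro x y _ _ hx hy g k
    simp only [Pi.add_apply]
    rw [hx g k, hy g k]
  · intro a x _ hx g k
    simp only [Pi.smul_apply]
    rw [hx g k]

/-- members of `zspan X` vanish where all members of `X` vanish -/
theorem zspan_apply_eq_zero {X : Set (L → ℂ)} {x : L}
    (hX : ∀ χ ∈ X, χ x = 0) {β : L → ℂ} (hβ : β ∈ zspan X) : β x = 0 := by
  have hβ' : β ∈ Submodule.span ℤ X := hβ
  refine Submodule.span_induction (p := fun β _ => β x = 0) ?_ ?_ ?_ ?_ hβ'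
  · intro χ hχ
    exact hX χ hχ
  · rfl
  · intro y z _ _ hy hz
    simp only [Pi.add_apply]
    rw [hy, hz, add_zero]
  · intro a y _ hy
    simp only [Pi.smul_apply]
    rw [hy, smul_zero]

end generic

variable {G : Type u} [Group G] [Fintype G] {S W₁ U W₂ : Subgroup G} [Fintype S]
  {mu : WChar W₁ W₂ → (↥S → ℂ)} {dl : WChar W₁ W₂ → ℂ} {η : WChar W₁ W₂ → (G → ℂ)}

/-- `a⁻¹ = b ↔ a = b⁻¹` for linear characters of `W` -/
theorem wchar_inv_eq_iff {a b : WChar W₁ W₂} : a⁻¹ = b ↔ a = b⁻¹ := by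
  constructor
  · intro h
    apply MonoidHom.ext
    intro w
    have h2 := DFunLike.congr_fun h w
    rw [MonoidHom.inv_apply] at h2
    rw [MonoidHom.inv_apply, ← h2, inv_inv]
  · intro h
    apply MonoidHom.ext
    intro w
    have h2 := DFunLike.congr_fun h w
    rw [MonoidHom.inv_apply] at h2
    rw [MonoidHom.inv_apply, h2, inv_inv]

/-- `a ≠ 1 → a⁻¹ ≠ 1` for linear characters of `W` -/
theorem wchar_inv_ne_one {a : WChar W₁ W₂} (h : a ≠ 1) : a⁻¹ ≠ 1 := by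
  intro hinv
  apply h
  apply MonoidHom.ext
  intro w
  have h2 := DFunLike.congr_fun hinv w
  rw [MonoidHom.inv_apply, MonoidHom.one_apply, inv_eq_one] at h2
  rw [h2, MonoidHom.one_apply]

/-- `η ω` is a class function -/
theorem eta_isClassFunction (hη : IsCyclicTIFamily W₁ W₂ η) (ω : WChar W₁ W₂) :
    IsClassFunction G (η ω) := by
  rcases hη.irr_or_neg ω with h | h
  · exact Cfsg.Agent.Lib.Helper3.IsCharacter.isClassFunction
      (Cfsg.Agent.Lib.Helper3.IsIrrCharacter.isCharacter h)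
  · have h1 := Cfsg.Agent.Lib.Helper3.IsCharacter.isClassFunction
      (Cfsg.Agent.Lib.Helper3.IsIrrCharacter.isCharacter h)
    intro g x
    have h2 := h1 g x
    simpa using h2

open Classical in
/-- `⟨η_{φψ}, ∑_φ' η_{φ'ψ₀}⟩ = [ψ = ψ₀]` -/
theorem eta_inner_etaSum (hη : IsCyclicTIFamily W₁ W₂ η) {φ ψ ψ₀ : WChar W₁ W₂}
    (hφ : TrivOn W₂ φ) (hψ : TrivOn W₁ ψ) (hψ₀ : TrivOn W₁ ψ₀) :
    classInner (η (φ * ψ)) (etaSum η ψ₀) = if ψ = ψ₀ then 1 else 0 := by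
  rw [← classInner_conj_symm,
    Cfsg.Agent.Lib.Helper23.PFCycTau1Mu.etaSum_inner_eta hη hφ hψ hψ₀]
  split_ifs <;> simp

open Classical in
/-- `⟨μ_ψ, ∑_φ' μ_{φ'ψ₀}⟩ = [ψ = ψ₀]` -/
theorem mu_inner_muSum (md : MuData S W₁ W₂ mu dl) {ψ ψ₀ : WChar W₁ W₂}
    (hψ : TrivOn W₁ ψ) (hψ₀ : TrivOn W₁ ψ₀) :
    classInner (mu ψ) (muSum mu ψ₀) = if ψ = ψ₀ then 1 else 0 := by
  classical
  have F := irrFacts ↥S
  unfold muSum
  rw [classInner_sum_right]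
  have hterm : ∀ φ' ∈ trivSet W₁ W₂ W₂, classInner (mu ψ) (mu (φ' * ψ₀)) =
      if φ' = 1 ∧ ψ = ψ₀ then 1 else 0 := by
    intro φ' hφ'
    rw [F.orthonormal _ _ (md.irr _) (md.irr _)]
    have hiff : mu ψ = mu (φ' * ψ₀) ↔ (φ' = 1 ∧ ψ = ψ₀) := by
      constructor
      · intro heq
        have h1 := md.inj heq
        have h2 : (1 : WChar W₁ W₂) * ψ = φ' * ψ₀ := (one_mul ψ).trans h1
        have h3 := (Cfsg.Agent.Lib.Helper23.PFCycTau1Mu.mul_eq_mul_iff (trivOn_one W₂)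
          (mem_trivSet.1 hφ') hψ hψ₀).1 h2
        exact ⟨h3.1.symm, h3.2⟩
      · rintro ⟨h1, h2⟩
        rw [h1, h2]
        exact congrArg mu (one_mul ψ₀).symm
    by_cases hc : φ' = 1 ∧ ψ = ψ₀
    · rw [if_pos hc, if_pos (hiff.2 hc)]
    · rw [if_neg hc, if_neg (fun hh => hc (hiff.1 hh))]
  rw [Finset.sum_congr rfl hterm]
  by_cases hψψ : ψ = ψ₀
  · rw [if_pos hψψ, Finset.sum_eq_single (1 : WChar W₁ W₂)]
    · rw [if_pos ⟨rfl, hψψ⟩]
    · intro φ' _ hne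
      rw [if_neg (fun hh => hne hh.1)]
    · intro hnot
      exact absurd (mem_trivSet.2 (trivOn_one W₂)) hnot
  · rw [if_neg hψψ]
    apply Finset.sum_eq_zero
    intro φ' _
    rw [if_neg (fun hh => hψψ hh.2)]

/-- all `μ_j` (`j ≠ 0`) have the same degree -/
theorem muSum_apply_one_eq (h : PSide S W₁ U W₂ mu dl η) {ψ ψ' : WChar W₁ W₂}
    (hψ : TrivOn W₁ ψ) (hψ' : TrivOn W₁ ψ') (hψ1 : ψ ≠ 1) (hψ'1 : ψ' ≠ 1) :
    muSum mu ψ 1 = muSum mu ψ' 1 := by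
  have hoddS : Odd (Nat.card S) := Odd.of_dvd_nat h.hodd (Subgroup.card_subgroup_dvd_card S)
  unfold muSum
  rw [Finset.sum_apply, Finset.sum_apply]
  apply Finset.sum_congr rfl
  intro φ hφ
  have hφ' := mem_trivSet.1 hφ
  have h1 : (((1 : ↥S) : G)) ∈ ⁅S, S⁆ := by
    rw [Subgroup.coe_one]; exact Subgroup.one_mem _
  have e1 : mu (φ * ψ) 1 = mu ψ 1 :=
    Cfsg.Agent.Lib.Helper50.PFCyc.mu_res_eq h.hP h.md (φ * ψ) ψ
      (fun w hw => by rw [MonoidHom.mul_apply, hφ' w hw, one_mul]) 1 h1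
  have e2 : mu (φ * ψ') 1 = mu ψ' 1 :=
    Cfsg.Agent.Lib.Helper50.PFCyc.mu_res_eq h.hP h.md (φ * ψ') ψ'
      (fun w hw => by rw [MonoidHom.mul_apply, hφ' w hw, one_mul]) 1 h1
  rw [e1, e2]
  exact (Cfsg.Agent.Lib.Helper9.PFCyc.mu_const h.hP hoddS h.md h.hp ψ ψ' hψ hψ' hψ1 hψ'1).2

/-- the degree of `μ_j` is not zero -/
theorem muSum_apply_one_ne_zero (md : MuData S W₁ W₂ mu dl) (ψ : WChar W₁ W₂) :
    muSum mu ψ 1 ≠ 0 := by
  classical
  have F := irrFacts ↥S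
  have hdeg : ∀ ω : WChar W₁ W₂, ∃ n : ℕ, 0 < n ∧ mu ω 1 = n := fun ω => F.deg_pos _ (md.irr ω)
  choose n hn0 hn using hdeg
  have hsum : muSum mu ψ 1 = ((∑ φ ∈ trivSet W₁ W₂ W₂, n (φ * ψ) : ℕ) : ℂ) := by
    unfold muSum
    rw [Finset.sum_apply, Nat.cast_sum]
    apply Finset.sum_congr rfl
    intro φ _
    exact hn _
  rw [hsum]
  have hpos : 0 < ∑ φ ∈ trivSet W₁ W₂ W₂, n (φ * ψ) :=
    Finset.sum_pos (fun φ _ => hn0 _) ⟨1, mem_trivSet.2 (trivOn_one W₂)⟩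
  exact_mod_cast hpos.ne'

/-- On the integer combinations of `calZ S` vanishing at `1` the Dade map is ordinary induction. -/
theorem tauM_eq_indFun (h : PSide S W₁ U W₂ mu dl η)
    (hZchar : ∀ χ ∈ calZ S, IsCharacter ↥S χ)
    (hZvan : ∀ χ ∈ calZ S, ∀ x : ↥S, x ≠ 1 → (x : G) ∉ litA S → χ x = 0)
    {α : ↥S → ℂ} (hα : α ∈ zspanOn (calZ S) ({1}ᶜ : Set ↥S)) :
    tauM S α = indFun S α := by
  have hcf : IsClassFunction ↥S α :=
    isClassFunction_of_mem_zspan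
      (fun χ hχ => Cfsg.Agent.Lib.Helper3.IsCharacter.isClassFunction (hZchar χ hχ)) hα.1
  have hvan : ∀ x : ↥S, (x : G) ∉ litA0 S → α x = 0 := by
    intro x hx
    by_cases hx1 : x = 1
    · rw [hx1]
      exact hα.2 1 (by simp)
    · exact zspan_apply_eq_zero
        (fun χ hχ => hZvan χ hχ x hx1 (fun hxA => hx (Set.mem_union_left _ hxA))) hα.1
  exact dade_eq_indFun_of_support h.hD α hcf hvan
    (fun x hx => h.hR x (by
      by_contra hn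
      exact hx (hvan x hn)))

/-- **PF13-[ORTH]** with the conclusions of [ZFACTS] (`hZ`), [MUSUB] (`hM`), [IRRORTH] (`hI`) and
[TAU1MU] (`hT`) as hypotheses (exact types of the sheet). -/
theorem orth_of_coherent_of (h : PSide S W₁ U W₂ mu dl η)
    (hZ : calZ S ⊆ calS S ∧
      (∀ χ ∈ calZ S, IsCharacter ↥S χ ∧ conjFun χ ∈ calZ S ∧ conjFun χ ≠ χ) ∧
      (∀ χ ∈ calZ S, ∀ χ' ∈ calZ S, χ ≠ χ' → classInner χ χ' = 0) ∧
      (∀ χ ∈ calZ S, ∀ x : ↥S, x ≠ 1 → (x : G) ∉ litA S → χ x = 0) ∧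
      (∀ ψ : WChar W₁ W₂, TrivOn W₁ ψ → ψ ≠ 1 → muSum mu ψ ∈ calZ S) ∧
      (∀ ζ ∈ calZ S, (IsIrrCharacter ↥S ζ ∧ ∀ ω, ζ ≠ mu ω) ∨
        ∃ ψ : WChar W₁ W₂, TrivOn W₁ ψ ∧ ψ ≠ 1 ∧ ζ = muSum mu ψ))
    (hM : ∃ δ : ℂ, (δ = 1 ∨ δ = -1) ∧ (∀ ψ : WChar W₁ W₂, TrivOn W₁ ψ → ψ ≠ 1 → dl ψ = δ) ∧
      ∀ ψ ψ' : WChar W₁ W₂, TrivOn W₁ ψ → TrivOn W₁ ψ' → ψ ≠ 1 → ψ' ≠ 1 → ψ ≠ ψ' →
        tauM S (muSum mu ψ - muSum mu ψ') = δ • (etaSum η ψ - etaSum η ψ'))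
    (hI : ∀ {τ₁ : (↥S → ℂ) → (G → ℂ)}, IsLinearIsometryOn (zspan (calZ S)) τ₁ →
      (∀ α ∈ zspanOn (calZ S) ({1}ᶜ : Set ↥S), τ₁ α = tauM S α) →
      ∀ (ζ : ↥S → ℂ), ζ ∈ calZ S → IsIrrCharacter ↥S ζ → ∀ ω : WChar W₁ W₂,
        classInner (τ₁ ζ) (η ω) = 0)
    (hT : ∀ {τ₁ : (↥S → ℂ) → (G → ℂ)}, IsLinearIsometryOn (zspan (calZ S)) τ₁ →
      (∀ α ∈ zspanOn (calZ S) ({1}ᶜ : Set ↥S), τ₁ α = tauM S α) →
      ∀ (ζ : ↥S → ℂ), ζ ∈ calZ S → IsIrrCharacter ↥S ζ →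
      ∀ (δ : ℂ), (∀ ψ : WChar W₁ W₂, TrivOn W₁ ψ → ψ ≠ 1 → dl ψ = δ) →
        (∀ ψ : WChar W₁ W₂, TrivOn W₁ ψ → ψ ≠ 1 → τ₁ (muSum mu ψ) = δ • etaSum η ψ) ∨
          (Nat.card W₂ = 3 ∧ ∀ ψ : WChar W₁ W₂, TrivOn W₁ ψ → ψ ≠ 1 →
            τ₁ (muSum mu ψ) = -(δ • etaSum η ψ⁻¹)))
    (hcoh : IsCoherent (calZ S) ({1}ᶜ : Set ↥S) (tauM S))
    (φ ψ : WChar W₁ W₂) (hφ : TrivOn W₂ φ) (hψ : TrivOn W₁ ψ) (hφ1 : φ ≠ 1) (hψ1 : ψ ≠ 1) :
    ∃ (ε : ℤ) (ψ' : WChar W₁ W₂), (ε = 1 ∨ ε = -1) ∧ TrivOn W₁ ψ' ∧ ψ' ≠ 1 ∧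
      ∀ α ∈ zspanOn (calZ S) ({1}ᶜ : Set ↥S),
        classInner (fun s : ↥S => η (φ * ψ) (s : G) - (ε : ℂ) * mu ψ' s) α = 0 := by
  classical
  obtain ⟨hZsub, hZchar, hZorth, hZvan, hZmu, hZcases⟩ := hZ
  obtain ⟨δ, hδ, hdl, hsub⟩ := hM
  have F := irrFacts ↥S
  have hδc : conj δ = δ := by
    rcases hδ with h1 | h1 <;> rw [h1] <;> simp
  obtain ⟨εZ, hεZ, hεδ⟩ : ∃ εZ : ℤ, (εZ = 1 ∨ εZ = -1) ∧ (εZ : ℂ) = δ := by
    rcases hδ with h1 | h1
    · exact ⟨1, Or.inl rfl, by rw [h1]; simp⟩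
    · exact ⟨-1, Or.inr rfl, by rw [h1]; simp⟩
  -- reduction to the Dade map, by Frobenius reciprocity
  have red : ∀ (ε : ℤ) (ψ' : WChar W₁ W₂), (∀ α ∈ zspanOn (calZ S) ({1}ᶜ : Set ↥S),
      classInner (η (φ * ψ)) (tauM S α) = (ε : ℂ) * classInner (mu ψ') α) →
      ∀ α ∈ zspanOn (calZ S) ({1}ᶜ : Set ↥S),
        classInner (fun s : ↥S => η (φ * ψ) (s : G) - (ε : ℂ) * mu ψ' s) α = 0 := by
    intro ε ψ' hkey α hα
    have e1 : (fun s : ↥S => η (φ * ψ) (s : G) - (ε : ℂ) * mu ψ' s) =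
        (fun s : ↥S => η (φ * ψ) (s : G)) - (ε : ℂ) • mu ψ' := by
      funext s
      simp
    rw [e1, classInner_sub_left, classInner_smul_left,
      ← Cfsg.Agent.Lib.Helper75.frobenius_reciprocity' S α (eta_isClassFunction h.hη _),
      ← tauM_eq_indFun h (fun χ hχ => (hZchar χ hχ).1) hZvan hα, hkey α hα, sub_self]
  by_cases hirr : ∃ ζ ∈ calZ S, IsIrrCharacter ↥S ζ
  · -- CASE B: `calZ S` has an irreducible member
    obtain ⟨ζ, hζ, hζi⟩ := hirr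
    obtain ⟨-, τ₁, hτ₁, hext⟩ := hcoh
    have hτ0 : τ₁ 0 = 0 := by
      have h0 := hτ₁.2.1 0 (Submodule.zero_mem _) 0
      simpa using h0
    have ind : ∀ (ε : ℂ) (ψ' : WChar W₁ W₂),
        (∀ ζ' ∈ calZ S, classInner (η (φ * ψ)) (τ₁ ζ') = ε * classInner (mu ψ') ζ') →
        ∀ β ∈ zspan (calZ S), classInner (η (φ * ψ)) (τ₁ β) = ε * classInner (mu ψ') β := by
      intro ε ψ' hgen β hβ
      have hβ' : β ∈ Submodule.span ℤ (calZ S) := hβ
      refine Submodule.span_induction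
        (p := fun β _ => classInner (η (φ * ψ)) (τ₁ β) = ε * classInner (mu ψ') β) ?_ ?_ ?_ ?_ hβ'
      · intro x hx
        exact hgen x hx
      · rw [hτ0, classInner_zero_right, classInner_zero_right, mul_zero]
      · intro x y hx hy ihx ihy
        rw [hτ₁.1 x hx y hy, classInner_add_right, classInner_add_right, ihx, ihy]
        ring
      · intro a x hx ihx
        rw [hτ₁.2.1 x hx a, classInner_zsmul_right, classInner_zsmul_right, ihx]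
        ring
    have hirr0 : ∀ (ψ' : WChar W₁ W₂) (ε : ℂ) (ζ' : ↥S → ℂ), ζ' ∈ calZ S → IsIrrCharacter ↥S ζ' →
        (∀ ω, ζ' ≠ mu ω) →
        classInner (η (φ * ψ)) (τ₁ ζ') = ε * classInner (mu ψ') ζ' := by
      intro ψ' ε ζ' hζ' hζ'i hζ'ne
      have h0 : classInner (τ₁ ζ') (η (φ * ψ)) = 0 := hI hτ₁ hext ζ' hζ' hζ'i _
      rw [← classInner_conj_symm, h0, F.orthonormal _ _ (h.md.irr ψ') hζ'i,
        if_neg (fun e => hζ'ne ψ' e.symm)]
      simp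
    rcases hT hτ₁ hext ζ hζ hζi δ hdl with halt | ⟨-, halt⟩
    · -- `ε = δ`, `ψ' = ψ`
      refine ⟨εZ, ψ, hεZ, hψ, hψ1, red εZ ψ ?_⟩
      intro α hα
      rw [← hext α hα, hεδ]
      apply ind δ ψ _ α hα.1
      intro ζ' hζ'
      rcases hZcases ζ' hζ' with ⟨hζ'i, hζ'ne⟩ | ⟨ψ'', hψ'', hψ''1, rfl⟩
      · exact hirr0 ψ δ ζ' hζ' hζ'i hζ'ne
      · rw [halt ψ'' hψ'' hψ''1, classInner_smul_right, eta_inner_etaSum h.hη hφ hψ hψ'',
          mu_inner_muSum h.md hψ hψ'', hδc]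
    · -- `ε = -δ`, `ψ' = ψ⁻¹`
      have hεZ' : (-εZ = 1 ∨ -εZ = -1) := by
        rcases hεZ with h1 | h1
        · right; rw [h1]
        · left; rw [h1]; rfl
      have hψinv1 : ψ⁻¹ ≠ 1 := wchar_inv_ne_one hψ1
      refine ⟨-εZ, ψ⁻¹, hεZ', hψ.inv, hψinv1, red (-εZ) ψ⁻¹ ?_⟩
      intro α hα
      have hcast : ((-εZ : ℤ) : ℂ) = -δ := by
        rw [Int.cast_neg, hεδ]
      rw [← hext α hα, hcast]
      apply ind (-δ) ψ⁻¹ _ α hα.1
      intro ζ' hζ'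
      rcases hZcases ζ' hζ' with ⟨hζ'i, hζ'ne⟩ | ⟨ψ'', hψ'', hψ''1, rfl⟩
      · exact hirr0 ψ⁻¹ (-δ) ζ' hζ' hζ'i hζ'ne
      · rw [halt ψ'' hψ'' hψ''1, classInner_neg_right, classInner_smul_right,
          eta_inner_etaSum h.hη hφ hψ hψ''.inv, mu_inner_muSum h.md hψ.inv hψ'', hδc]
        by_cases e : ψ = ψ''⁻¹
        · rw [if_pos e, if_pos (wchar_inv_eq_iff.2 e)]
          ring
        · rw [if_neg e, if_neg (fun e' => e (wchar_inv_eq_iff.1 e'))]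
          ring
  · -- CASE A: every member of `calZ S` is a `μ_j`
    have hall : ∀ ζ' ∈ calZ S, ∃ ψ'' : WChar W₁ W₂, TrivOn W₁ ψ'' ∧ ψ'' ≠ 1 ∧
        ζ' = muSum mu ψ'' := by
      intro ζ' hζ'
      rcases hZcases ζ' hζ' with ⟨hi, -⟩ | hex
      · exact absurd ⟨ζ', hζ', hi⟩ hirr
      · exact hex
    have hD0 : muSum mu ψ 1 ≠ 0 := muSum_apply_one_ne_zero h.md ψ
    have htau0 : tauM S (0 : ↥S → ℂ) = 0 := by
      have h0 := tauM_smul S (0 : ℂ) (0 : ↥S → ℂ)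
      simpa using h0
    -- the defect functional
    let Lf : (↥S → ℂ) → ℂ := fun β =>
      classInner (η (φ * ψ)) (tauM S β) - δ * classInner (mu ψ) β
    have L_def : ∀ β, Lf β = classInner (η (φ * ψ)) (tauM S β) - δ * classInner (mu ψ) β :=
      fun _ => rfl
    have L_add : ∀ x y, Lf (x + y) = Lf x + Lf y := by
      intro x y
      rw [L_def, L_def, L_def, tauM_add, classInner_add_right, classInner_add_right]
      ring
    have L_sub : ∀ x y, Lf (x - y) = Lf x - Lf y := by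
      intro x y
      rw [L_def, L_def, L_def, tauM_sub, classInner_sub_right, classInner_sub_right]
      ring
    have L_zsmul : ∀ (a : ℤ) x, Lf (a • x) = (a : ℂ) * Lf x := by
      intro a x
      rw [L_def, L_def, tauM_zsmul, classInner_zsmul_right, classInner_zsmul_right]
      ring
    have L_zero : Lf 0 = 0 := by
      rw [L_def, htau0, classInner_zero_right, classInner_zero_right, mul_zero, sub_zero]
    have L_gen : ∀ ψ'' : WChar W₁ W₂, TrivOn W₁ ψ'' → ψ'' ≠ 1 →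
        Lf (muSum mu ψ'') = Lf (muSum mu ψ) := by
      intro ψ'' hψ'' hψ''1
      by_cases e : ψ'' = ψ
      · rw [e]
      · have hs := hsub ψ'' ψ hψ'' hψ hψ''1 hψ1 e
        have h0 : Lf (muSum mu ψ'' - muSum mu ψ) = 0 := by
          rw [L_def, hs, classInner_smul_right, classInner_sub_right, classInner_sub_right,
            eta_inner_etaSum h.hη hφ hψ hψ'', eta_inner_etaSum h.hη hφ hψ hψ,
            mu_inner_muSum h.md hψ hψ'', mu_inner_muSum h.md hψ hψ, hδc,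
            if_neg (Ne.symm e), if_pos rfl]
          ring
        rw [L_sub] at h0
        exact sub_eq_zero.1 h0
    have main : ∀ β ∈ zspan (calZ S), ∃ n : ℤ, β 1 = (n : ℂ) * muSum mu ψ 1 ∧
        Lf β = (n : ℂ) * Lf (muSum mu ψ) := by
      intro β hβ
      have hβ' : β ∈ Submodule.span ℤ (calZ S) := hβ
      refine Submodule.span_induction
        (p := fun β _ => ∃ n : ℤ, β 1 = (n : ℂ) * muSum mu ψ 1 ∧
          Lf β = (n : ℂ) * Lf (muSum mu ψ)) ?_ ?_ ?_ ?_ hβ'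
      · intro x hx
        obtain ⟨ψ'', hψ'', hψ''1, rfl⟩ := hall x hx
        refine ⟨1, ?_, ?_⟩
        · rw [muSum_apply_one_eq h hψ'' hψ hψ''1 hψ1]
          simp
        · rw [L_gen ψ'' hψ'' hψ''1]
          simp
      · refine ⟨0, ?_, ?_⟩
        · simp
        · rw [L_zero]
          simp
      · rintro x y _ _ ⟨n₁, hx1, hx2⟩ ⟨n₂, hy1, hy2⟩
        refine ⟨n₁ + n₂, ?_, ?_⟩
        · rw [Pi.add_apply, hx1, hy1]
          push_cast
          ring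
        · rw [L_add, hx2, hy2]
          push_cast
          ring
      · rintro a x _ ⟨n₁, hx1, hx2⟩
        refine ⟨a * n₁, ?_, ?_⟩
        · rw [Pi.smul_apply, hx1, zsmul_eq_mul]
          push_cast
          ring
        · rw [L_zsmul, hx2]
          push_cast
          ring
    refine ⟨εZ, ψ, hεZ, hψ, hψ1, red εZ ψ ?_⟩
    intro α hα
    obtain ⟨n, hn1, hn2⟩ := main α hα.1
    have hα1 : α 1 = 0 := hα.2 1 (by simp)
    rw [hα1] at hn1
    have hn0 : (n : ℂ) = 0 := by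
      rcases mul_eq_zero.1 hn1.symm with h0 | h0
      · exact h0
      · exact absurd h0 hD0
    rw [hn0, zero_mul, L_def] at hn2
    rw [hεδ]
    exact sub_eq_zero.1 hn2

end Cfsg.Agent.Lib.Helper47.PF13
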