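/-
helper47: module PF13-[ORTH] of helper16's PF sec.13 project (S1547 path): the EXACT statement of the
sheet, obtained from `orth_of_coherent_of` and the landed sibling modules
[ZFACTS] (helper51), [MUSUB] (helper49), [IRRORTH] (helper51), [TAU1MU] (helper23).
-/
import Mathlib
import Cfsg.Agent.Lib.Helper47.PF13Orth
import Cfsg.Agent.Lib.Helper51.PF13ZFacts
import Cfsg.Agent.Lib.Helper51.PF13IrrOrth
import Cfsg.Agent.Lib.Helper49.PF13MuSub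
import Cfsg.Agent.Lib.Helper23.PF13Tau1MuMain

set_option autoImplicit false

namespace Cfsg.Agent.Lib.Helper47.PF13

open Cfsg Cfsg.Agent.Lib.Helper24.PFCyc Cfsg.Agent.Lib.Helper4.PF Cfsg.Agent.Lib.Helper16.PF13

universe u

variable {G : Type u} [Group G] [Fintype G] {S W₁ U W₂ : Subgroup G} [Fintype S]
  {mu : WChar W₁ W₂ → (↥S → ℂ)} {dl : WChar W₁ W₂ → ℂ} {η : WChar W₁ W₂ → (G → ℂ)}

/-- **MODULE PF13-[ORTH]** (helper16's sheet PF13_MODULES.md), exact statement. -/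
theorem orth_of_coherent (h : PSide S W₁ U W₂ mu dl η)
    (hcoh : IsCoherent (calZ S) ({1}ᶜ : Set ↥S) (tauM S))
    (φ ψ : WChar W₁ W₂) (hφ : TrivOn W₂ φ) (hψ : TrivOn W₁ ψ) (hφ1 : φ ≠ 1) (hψ1 : ψ ≠ 1) :
    ∃ (ε : ℤ) (ψ' : WChar W₁ W₂), (ε = 1 ∨ ε = -1) ∧ TrivOn W₁ ψ' ∧ ψ' ≠ 1 ∧
      ∀ α ∈ zspanOn (calZ S) ({1}ᶜ : Set ↥S),
        classInner (fun s : ↥S => η (φ * ψ) (s : G) - (ε : ℂ) * mu ψ' s) α = 0 :=
  orth_of_coherent_of h (Cfsg.Agent.Lib.Helper51.PF13.calZ_facts h)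
    (Cfsg.Agent.Lib.Helper49.PF13.musub_pair h)
    (fun hτ₁ hext ζ hζ hζi ω => Cfsg.Agent.Lib.Helper51.PF13.tau1_irr_orth h hτ₁ hext ζ hζ hζi ω)
    (fun hτ₁ hext ζ hζ hζi δ hδ =>
      Cfsg.Agent.Lib.Helper23.PF13.tau1_muSum_pair h hτ₁ hext ζ hζ hζi δ hδ)
    hcoh φ ψ hφ hψ hφ1 hψ1

end Cfsg.Agent.Lib.Helper47.PF13
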