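import Mathlib
import Cfsg.Agent.S0055
import Cfsg.Agent.Lib.Helper48.Coprime
import Cfsg.Agent.Lib.Helper9.FrobFix

/-!
# BG Theorem 3.6, MODULE C (`Q_abelian`) for helper9's S1444 (helper47)

A `p`-group `P` and an element `x` of prime order `r` (acting fixed point freely on `P`) act on a
`q`-group `Q`, which acts faithfully on an abelian `p`-group `V` with `|C_V(x)| = p`, `C_Q(x)`
cyclic, and every proper `P⟨x⟩`-invariant subgroup of `Q` centralized by `P`, `P` not centralizing
`Q`.  Then `Q` is abelian.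
-/

set_option autoImplicit false

namespace Cfsg.Agent.Lib.Helper47

open scoped commutatorElement

section general

variable {G : Type*} [Group G]

theorem bgq_mem_normalizer_inf {g : G} {X Y : Subgroup G}
    (h1 : g ∈ Subgroup.normalizer (X : Set G)) (h2 : g ∈ Subgroup.normalizer (Y : Set G)) :
    g ∈ Subgroup.normalizer ((X ⊓ Y : Subgroup G) : Set G) := by
  rw [Subgroup.mem_normalizer_iff]
  intro h
  rw [Subgroup.mem_inf, Subgroup.mem_inf, ← Subgroup.mem_normalizer_iff.mp h1 h,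
    ← Subgroup.mem_normalizer_iff.mp h2 h]

theorem bgq_mem_normalizer_commutator {g : G} {X Y : Subgroup G}
    (h1 : g ∈ Subgroup.normalizer (X : Set G)) (h2 : g ∈ Subgroup.normalizer (Y : Set G)) :
    g ∈ Subgroup.normalizer ((⁅X, Y⁆ : Subgroup G) : Set G) :=
  Cfsg.Agent.Lib.Helper48.normalizer_inf_le_normalizer_commutator X Y ⟨h1, h2⟩

theorem bgq_mem_normalizer_centralizer {g : G} {X : Subgroup G}
    (h1 : g ∈ Subgroup.normalizer (X : Set G)) :
    g ∈ Subgroup.normalizer ((Subgroup.centralizer (X : Set G) : Subgroup G) : Set G) := by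
  have key : ∀ m : G, m ∈ Subgroup.normalizer (X : Set G) →
      ∀ c ∈ Subgroup.centralizer (X : Set G), m * c * m⁻¹ ∈ Subgroup.centralizer (X : Set G) := by
    intro m hm c hc
    rw [Subgroup.mem_centralizer_iff] at hc ⊢
    intro h hh
    have h1 : m⁻¹ * h * m ∈ X := by
      have := (Subgroup.mem_normalizer_iff.mp (Subgroup.inv_mem _ hm) h).mp hh
      simpa using this
    have h2 := hc _ h1
    calc h * (m * c * m⁻¹) = m * ((m⁻¹ * h * m) * c) * m⁻¹ := by group
      _ = m * (c * (m⁻¹ * h * m)) * m⁻¹ := by rw [h2]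
      _ = m * c * m⁻¹ * h := by group
  rw [Subgroup.mem_normalizer_iff]
  intro c
  constructor
  · exact key g h1 c
  · intro hc
    have := key g⁻¹ (Subgroup.inv_mem _ h1) _ hc
    have e : g⁻¹ * (g * c * g⁻¹) * g⁻¹⁻¹ = c := by group
    rwa [e] at this

theorem bgq_card_coprime {p q : ℕ} (hp : p.Prime) (hq : q.Prime) (hpq : p ≠ q)
    {H K : Subgroup G} [Finite G] (hH : IsPGroup p H) (hK : IsPGroup q K) :
    (Nat.card H).Coprime (Nat.card K) := by
  have : Fact p.Prime := ⟨hp⟩
  have : Fact q.Prime := ⟨hq⟩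
  obtain ⟨m, hm⟩ := hH.exists_card_eq
  obtain ⟨n, hn⟩ := hK.exists_card_eq
  rw [hm, hn]
  exact Nat.Coprime.pow m n ((Nat.coprime_primes hp hq).mpr hpq)

theorem bgq_card_coprime_prime {p r : ℕ} (hp : p.Prime) (hr : r.Prime) (hpr : p ≠ r)
    {H : Subgroup G} [Finite G] (hH : IsPGroup p H) :
    (Nat.card H).Coprime r := by
  have : Fact p.Prime := ⟨hp⟩
  obtain ⟨m, hm⟩ := hH.exists_card_eq
  rw [hm]
  exact Nat.Coprime.pow_left m ((Nat.coprime_primes hp hr).mpr hpr)

theorem bgq_isSolvable {p : ℕ} (hp : p.Prime) [Finite G] {H : Subgroup G} (hH : IsPGroup p H) :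
    Group.IsSolvable H := by
  have : Fact p.Prime := ⟨hp⟩
  have := hH.isNilpotent
  infer_instance

theorem bgq_commutator_self_ne {p : ℕ} (hp : p.Prime) [Finite G] {H : Subgroup G}
    (hH : IsPGroup p H) (h1 : H ≠ ⊥) : ⁅H, H⁆ ≠ H := by
  have := bgq_isSolvable hp hH
  have : Nontrivial H := (Subgroup.nontrivial_iff_ne_bot H).mpr h1
  have hlt := Group.IsSolvable.commutator_lt_top_of_nontrivial H
  intro h
  rw [← Subgroup.map_subtype_commutator] at h
  have h2 : (commutator H).map H.subtype = (⊤ : Subgroup H).map H.subtype := by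
    rw [h, ← MonoidHom.range_eq_map, Subgroup.range_subtype]
  have h3 := Subgroup.map_injective H.subtype_injective h2
  exact hlt.ne h3

/-- a `p`-group normalizing a nontrivial `p`-group has nontrivial fixed points on it. -/
theorem bgq_fixed_ne_bot {p : ℕ} (hp : p.Prime) [Finite G] {P W : Subgroup G}
    (hP : IsPGroup p P) (hW : IsPGroup p W) (hPW : P ≤ Subgroup.normalizer (W : Set G))
    (hW1 : W ≠ ⊥) : W ⊓ Subgroup.centralizer (P : Set G) ≠ ⊥ := by
  have : Fact p.Prime := ⟨hp⟩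
  classical
  set S : Set G := (W : Set G) \ {1} with hS
  have hSst : ∀ b ∈ P, ∀ y ∈ S, b * y * b⁻¹ ∈ S := by
    intro b hb y hy
    refine ⟨(Subgroup.mem_normalizer_iff.mp (hPW hb) y).mp hy.1, ?_⟩
    intro h
    rw [Set.mem_singleton_iff] at h
    apply hy.2
    rw [Set.mem_singleton_iff]
    have : y = b⁻¹ * (b * y * b⁻¹) * b := by group
    rw [this, h]; group
  have hcard : ¬ p ∣ Nat.card S := by
    have h1 : Nat.card S + 1 = Nat.card W := by
      have hsub : ({1} : Set G) ⊆ (W : Set G) := by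
        intro z hz
        rw [Set.mem_singleton_iff] at hz
        rw [hz]; exact W.one_mem
      have := Set.ncard_sdiff_add_ncard_of_subset hsub (Set.toFinite _)
      rw [Set.ncard_singleton] at this
      rw [Nat.card_coe_set_eq, hS, this]
      exact (Nat.card_coe_set_eq (W : Set G)).symm
    have h2 : p ∣ Nat.card W := by
      obtain ⟨n, hn⟩ := hW.exists_card_eq
      rw [hn]
      rcases n with _ | n
      · exfalso
        rw [pow_zero] at hn
        exact hW1 (Subgroup.card_eq_one.mp hn)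
      · exact dvd_pow_self p (Nat.succ_ne_zero n)
    intro h3
    rw [← h1] at h2
    have h4 : p ∣ 1 := (Nat.dvd_add_right h3).mp h2
    exact hp.one_lt.ne' (Nat.dvd_one.mp h4)
  obtain ⟨y, hy, hfix⟩ := Cfsg.Agent.Lib.Helper48.exists_fixed_of_conj_stable P hP S hSst hcard
  intro hbot
  have : y ∈ W ⊓ Subgroup.centralizer (P : Set G) := by
    refine Subgroup.mem_inf.mpr ⟨hy.1, ?_⟩
    rw [Subgroup.mem_centralizer_iff]
    intro b hb
    have := hfix b hb
    calc b * y = b * y * b⁻¹ * b := by group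
      _ = y * b := by rw [this]
  rw [hbot, Subgroup.mem_bot] at this
  exact hy.2 (by rw [Set.mem_singleton_iff]; exact this)

theorem bgq_not_dvd {p q : ℕ} (hp : p.Prime) (hq : q.Prime) (hpq : p ≠ q)
    {H : Subgroup G} [Finite G] (hH : IsPGroup q H) : ¬ p ∣ Nat.card H := by
  have h := bgq_card_coprime_prime hq hp hpq.symm hH
  exact (Nat.Prime.coprime_iff_not_dvd hp).mp h.symm

/-- the repeated Wielandt step: a nontrivial `A0⟨x⟩`-invariant subgroup `W` of `V` with
`C_W(A0) = 1` has order `p ^ r`. -/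
theorem bgq_card_eq_pow [Finite G] {p q r : ℕ} (hp : p.Prime) (hq : q.Prime) (hr : r.Prime)
    (hpq : p ≠ q) (hpr : p ≠ r) (hqr : q ≠ r) (x : G) (hx : orderOf x = r)
    (V W A0 : Subgroup G) (hVp : IsPGroup p V) (hA0q : IsPGroup q A0) (hWV : W ≤ V) (hW1 : W ≠ ⊥)
    (hA01 : A0 ≠ ⊥) (hxA0 : x ∈ Subgroup.normalizer (A0 : Set G))
    (hfpf : A0 ⊓ Subgroup.centralizer ({x} : Set G) = ⊥)
    (hA0W : A0 ≤ Subgroup.normalizer (W : Set G)) (hxW : x ∈ Subgroup.normalizer (W : Set G))
    (hCW : W ⊓ Subgroup.centralizer (A0 : Set G) = ⊥)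
    (hCVx : Nat.card ↥(V ⊓ Subgroup.centralizer ({x} : Set G)) = p) :
    Nat.card W = p ^ r := by
  have hWp : IsPGroup p W := hVp.to_le hWV
  have h := Cfsg.Agent.Lib.Helper9.frob_card_eq hr x hx A0 W hA01 hxA0 hfpf hA0W hxW
    (bgq_card_coprime hp hq hpq hWp hA0q) (bgq_card_coprime_prime hp hr hpr hWp)
    (bgq_card_coprime_prime hq hr hqr hA0q) (bgq_isSolvable hp hWp) hCW
  have hle : W ⊓ Subgroup.centralizer ({x} : Set G) ≤ V ⊓ Subgroup.centralizer ({x} : Set G) :=
    inf_le_inf_right _ hWV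
  have hdvd : Nat.card ↥(W ⊓ Subgroup.centralizer ({x} : Set G)) ∣ p := by
    rw [← hCVx]; exact Subgroup.card_dvd_of_le hle
  rcases (Nat.dvd_prime hp).mp hdvd with h1 | h1
  · exfalso
    rw [h1, one_pow] at h
    exact hW1 (Subgroup.card_eq_one.mp h)
  · rw [h, h1]

end general

/-- **MODULE C of S1444** (helper9's statement, BG Theorem 3.6 reduction): `Q` is abelian. -/
theorem Q_abelian {G : Type*} [Group G] [Finite G] {p q r : ℕ} (hp : p.Prime) (hq : q.Prime) (hr : r.Prime) (hpq : p ≠ q) (hpr : p ≠ r) (hqr : q ≠ r)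
    (V Q P : Subgroup G) (x : G) (hx : orderOf x = r)
    (hVab : ∀ a ∈ V, ∀ b ∈ V, a * b = b * a) (hVp : IsPGroup p V) (hQq : IsPGroup q Q) (hP : IsPGroup p P)
    (hQV : Q ≤ Subgroup.normalizer (V : Set G)) (hPV : P ≤ Subgroup.normalizer (V : Set G)) (hxV : x ∈ Subgroup.normalizer (V : Set G))
    (hPQ : P ≤ Subgroup.normalizer (Q : Set G)) (hxQ : x ∈ Subgroup.normalizer (Q : Set G)) (hxP : x ∈ Subgroup.normalizer (P : Set G))
    (hfaith : ∀ g ∈ Q, (∀ v ∈ V, g * v = v * g) → g = 1)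
    (hPncQ : ¬ P ≤ Subgroup.centralizer (Q : Set G))
    (hCVx : Nat.card ↥(V ⊓ Subgroup.centralizer ({x} : Set G)) = p)
    (hCQx : IsCyclic ↥(Q ⊓ Subgroup.centralizer ({x} : Set G)))
    (hCPx : P ⊓ Subgroup.centralizer ({x} : Set G) = ⊥)
    (hmin : ∀ Q' : Subgroup G, Q' ≤ Q → Q' ≠ Q → P ≤ Subgroup.normalizer (Q' : Set G) → x ∈ Subgroup.normalizer (Q' : Set G) → Q' ≤ Subgroup.centralizer (P : Set G)) :
    ∀ a ∈ Q, ∀ b ∈ Q, a * b = b * a := by
  by_contra hnab
  have : Fact p.Prime := ⟨hp⟩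
  have : Fact q.Prime := ⟨hq⟩
  have : Fact r.Prime := ⟨hr⟩
  have hQ1 : Q ≠ ⊥ := by
    intro h
    apply hnab
    intro a ha b hb
    rw [h, Subgroup.mem_bot] at ha hb
    rw [ha, hb]
  -- the group `E = ⟨x⟩`
  set E : Subgroup G := Subgroup.zpowers x with hE
  have hEr : IsPGroup r E :=
    IsPGroup.of_card (n := 1) (by rw [hE, Nat.card_zpowers, hx, pow_one])
  have hEQ : E ≤ Subgroup.normalizer (Q : Set G) := by
    rw [hE, Subgroup.zpowers_le]; exact hxQ
  have hCE : Subgroup.centralizer ((E : Subgroup G) : Set G) =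
      Subgroup.centralizer ({x} : Set G) := Cfsg.Agent.Lib.Helper9.centralizer_zpowers_eq x
  have hxE : x ∈ Subgroup.normalizer ((E : Subgroup G) : Set G) :=
    Subgroup.le_normalizer (Subgroup.mem_zpowers x)
  -- the center `Z` and the derived group `D` of `Q`
  set Z : Subgroup G := Q ⊓ Subgroup.centralizer (Q : Set G) with hZ
  set D : Subgroup G := ⁅Q, Q⁆ with hD
  have hZQ : Z ≤ Q := inf_le_left
  have hDQ : D ≤ Q := Subgroup.le_normalizer_iff_commutator_le_left.mp Subgroup.le_normalizer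
  have hZne : Z ≠ Q := by
    intro h
    apply hnab
    intro a ha b hb
    have haZ : a ∈ Z := by rw [h]; exact ha
    exact ((Subgroup.mem_centralizer_iff.mp haZ.2) b hb).symm
  have hDne : D ≠ Q := bgq_commutator_self_ne hq hQq hQ1
  have hNQZ : ∀ g, g ∈ Subgroup.normalizer (Q : Set G) →
      g ∈ Subgroup.normalizer ((Z : Subgroup G) : Set G) :=
    fun g hg => bgq_mem_normalizer_inf hg (bgq_mem_normalizer_centralizer hg)
  have hNQD : ∀ g, g ∈ Subgroup.normalizer (Q : Set G) →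
      g ∈ Subgroup.normalizer ((D : Subgroup G) : Set G) :=
    fun g hg => bgq_mem_normalizer_commutator hg hg
  have hZP : Z ≤ Subgroup.centralizer (P : Set G) :=
    hmin Z hZQ hZne (fun g hg => hNQZ g (hPQ hg)) (hNQZ x hxQ)
  have hDP : D ≤ Subgroup.centralizer (P : Set G) :=
    hmin D hDQ hDne (fun g hg => hNQD g (hPQ hg)) (hNQD x hxQ)
  -- Step 2: `[Q, P] = Q`
  have hQP : ⁅Q, P⁆ = Q := by
    by_contra hne
    have hle : ⁅Q, P⁆ ≤ Q := Subgroup.le_normalizer_iff_commutator_le_left.mp hPQ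
    have hcent : ⁅Q, P⁆ ≤ Subgroup.centralizer (P : Set G) :=
      hmin _ hle hne (Subgroup.normalizer_commutator_ge_right Q P)
        (bgq_mem_normalizer_commutator hxQ hxP)
    have h1 : ⁅⁅Q, P⁆, P⁆ = ⁅Q, P⁆ :=
      Cfsg.Agent.Lib.Helper48.commutator_commutator_eq hP (bgq_not_dvd hp hq hpq hQq) hPQ
    have h2 : ⁅⁅Q, P⁆, P⁆ = ⊥ := Subgroup.commutator_eq_bot_iff_le_centralizer.mpr hcent
    rw [h2] at h1
    have h3 : Q ≤ Subgroup.centralizer (P : Set G) :=
      Subgroup.commutator_eq_bot_iff_le_centralizer.mp h1.symm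
    exact hPncQ (Subgroup.le_centralizer_iff.mp h3)
  -- Step 3: `D ≤ Z`
  have hDZ : D ≤ Z := by
    have h1 : ⁅⁅P, D⁆, Q⁆ = ⊥ := by
      have h0 : ⁅P, D⁆ = ⊥ := by
        rw [Subgroup.commutator_comm]
        exact Subgroup.commutator_eq_bot_iff_le_centralizer.mpr hDP
      rw [h0]; exact Subgroup.commutator_bot_left Q
    have h2 : ⁅⁅D, Q⁆, P⁆ = ⊥ := by
      have hle : ⁅D, Q⁆ ≤ D :=
        Subgroup.le_normalizer_iff_commutator_le_left.mp
          (fun g hg => hNQD g (Subgroup.le_normalizer hg))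
      rw [Subgroup.commutator_eq_bot_iff_le_centralizer]
      exact hle.trans hDP
    have h3 : ⁅⁅Q, P⁆, D⁆ = ⊥ := Subgroup.commutator_commutator_eq_bot_of_rotate h1 h2
    rw [hQP] at h3
    have h4 : Q ≤ Subgroup.centralizer ((D : Subgroup G) : Set G) :=
      Subgroup.commutator_eq_bot_iff_le_centralizer.mp h3
    exact le_inf hDQ (Subgroup.le_centralizer_iff.mp h4)
  -- Step 4: `x` centralizes `Z`
  have hZq : IsPGroup q Z := hQq.to_le hZQ
  have hZx : Z ≤ Subgroup.centralizer ({x} : Set G) := by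
    by_contra hcon
    have hEZ : E ≤ Subgroup.normalizer ((Z : Subgroup G) : Set G) := by
      rw [hE, Subgroup.zpowers_le]; exact hNQZ x hxQ
    set A0 : Subgroup G := ⁅Z, E⁆ with hA0
    have hA0Z : A0 ≤ Z := Subgroup.le_normalizer_iff_commutator_le_left.mp hEZ
    have hA0Q : A0 ≤ Q := hA0Z.trans hZQ
    have hA0q : IsPGroup q A0 := hQq.to_le hA0Q
    have hZab : IsMulCommutative Z :=
      ⟨⟨fun a b => Subtype.ext ((Subgroup.mem_centralizer_iff.mp b.2.2) a a.2.1)⟩⟩
    have hsplit := Cfsg.Agent.S0055.result E Z hEZ (bgq_card_coprime hr hq hqr.symm hEr hZq)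
    have hA01 : A0 ≠ ⊥ := by
      intro h
      apply hcon
      have h1 : Z ≤ Subgroup.centralizer ((E : Subgroup G) : Set G) :=
        Subgroup.commutator_eq_bot_iff_le_centralizer.mp h
      rwa [hCE] at h1
    have hfpf : A0 ⊓ Subgroup.centralizer ({x} : Set G) = ⊥ := by
      rw [eq_bot_iff, ← hsplit.1, ← hCE]
      exact le_inf (le_inf (inf_le_left.trans hA0Z) inf_le_right) inf_le_left
    have hxA0 : x ∈ Subgroup.normalizer ((A0 : Subgroup G) : Set G) :=
      bgq_mem_normalizer_commutator (hNQZ x hxQ) hxE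
    have hQA0 : Q ≤ Subgroup.centralizer ((A0 : Subgroup G) : Set G) :=
      Subgroup.le_centralizer_iff.mp (hA0Z.trans inf_le_right)
    have hA0CP : A0 ≤ Subgroup.centralizer (P : Set G) := hA0Z.trans hZP
    have hPA0 : P ≤ Subgroup.centralizer ((A0 : Subgroup G) : Set G) :=
      Subgroup.le_centralizer_iff.mp hA0CP
    -- `V2 = [V, A0]`
    set V2 : Subgroup G := ⁅V, A0⁆ with hV2
    have hA0V : A0 ≤ Subgroup.normalizer (V : Set G) := hA0Q.trans hQV
    have hV2V : V2 ≤ V := Subgroup.le_normalizer_iff_commutator_le_left.mp hA0V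
    have hVab' : IsMulCommutative V :=
      ⟨⟨fun a b => Subtype.ext (hVab a a.2 b b.2)⟩⟩
    have hsplitV := Cfsg.Agent.S0055.result A0 V hA0V (bgq_card_coprime hq hp hpq.symm hA0q hVp)
    have hV2C : V2 ⊓ Subgroup.centralizer ((A0 : Subgroup G) : Set G) = ⊥ := by
      rw [eq_bot_iff, ← hsplitV.1]
      exact le_inf (le_inf (inf_le_left.trans hV2V) inf_le_right) inf_le_left
    have hV21 : V2 ≠ ⊥ := by
      intro h
      have hVC : V ≤ Subgroup.centralizer ((A0 : Subgroup G) : Set G) :=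
        Subgroup.commutator_eq_bot_iff_le_centralizer.mp h
      apply hA01
      rw [eq_bot_iff]
      intro g hg
      rw [Subgroup.mem_bot]
      apply hfaith g (hA0Q hg)
      intro v hv
      exact (Subgroup.mem_centralizer_iff.mp (hVC hv)) g hg
    have hA0V2 : A0 ≤ Subgroup.normalizer ((V2 : Subgroup G) : Set G) :=
      Subgroup.normalizer_commutator_ge_right V A0
    have hxV2 : x ∈ Subgroup.normalizer ((V2 : Subgroup G) : Set G) :=
      bgq_mem_normalizer_commutator hxV hxA0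
    have hcard2 : Nat.card V2 = p ^ r :=
      bgq_card_eq_pow hp hq hr hpq hpr hqr x hx V V2 A0 hVp hA0q hV2V hV21 hA01 hxA0 hfpf
        hA0V2 hxV2 hV2C hCVx
    -- `V4 = C_{V2}(P)`
    have hPV2 : P ≤ Subgroup.normalizer ((V2 : Subgroup G) : Set G) := fun g hg =>
      bgq_mem_normalizer_commutator (hPV hg) (Subgroup.centralizer_le_normalizer _ (hPA0 hg))
    set V4 : Subgroup G := V2 ⊓ Subgroup.centralizer (P : Set G) with hV4
    have hV2p : IsPGroup p V2 := hVp.to_le hV2V
    have hV41 : V4 ≠ ⊥ := bgq_fixed_ne_bot hp hP hV2p hPV2 hV21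
    have hV4V : V4 ≤ V := inf_le_left.trans hV2V
    have hA0V4 : A0 ≤ Subgroup.normalizer ((V4 : Subgroup G) : Set G) := fun g hg =>
      bgq_mem_normalizer_inf (hA0V2 hg)
        (bgq_mem_normalizer_centralizer (Subgroup.centralizer_le_normalizer _ (hA0CP hg)))
    have hxV4 : x ∈ Subgroup.normalizer ((V4 : Subgroup G) : Set G) :=
      bgq_mem_normalizer_inf hxV2 (bgq_mem_normalizer_centralizer hxP)
    have hV4C : V4 ⊓ Subgroup.centralizer ((A0 : Subgroup G) : Set G) = ⊥ := by
      rw [eq_bot_iff, ← hV2C]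
      exact inf_le_inf_right _ inf_le_left
    have hcard4 : Nat.card V4 = p ^ r :=
      bgq_card_eq_pow hp hq hr hpq hpr hqr x hx V V4 A0 hVp hA0q hV4V hV41 hA01 hxA0 hfpf
        hA0V4 hxV4 hV4C hCVx
    have hV42 : V4 = V2 :=
      Subgroup.eq_of_le_of_card_ge inf_le_left (by rw [hcard2, hcard4])
    have hV2P : V2 ≤ Subgroup.centralizer (P : Set G) := by
      rw [← hV42]; exact inf_le_right
    -- `Q = [Q, P]` centralizes `V2`
    have hQV2 : Q ≤ Subgroup.normalizer ((V2 : Subgroup G) : Set G) := fun g hg =>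
      bgq_mem_normalizer_commutator (hQV hg) (Subgroup.centralizer_le_normalizer _ (hQA0 hg))
    have hPCV2 : P ≤ Subgroup.centralizer ((V2 : Subgroup G) : Set G) :=
      Subgroup.le_centralizer_iff.mp hV2P
    have hQPC : ⁅Q, P⁆ ≤ Subgroup.centralizer ((V2 : Subgroup G) : Set G) := by
      rw [Subgroup.commutator_le]
      intro a ha g hg
      have haN := bgq_mem_normalizer_centralizer (hQV2 ha)
      have h1 : a * g * a⁻¹ ∈ Subgroup.centralizer ((V2 : Subgroup G) : Set G) :=
        (Subgroup.mem_normalizer_iff.mp haN g).mp (hPCV2 hg)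
      rw [commutatorElement_def]
      exact Subgroup.mul_mem _ h1 (Subgroup.inv_mem _ (hPCV2 hg))
    rw [hQP] at hQPC
    have hV2A0 : V2 ≤ Subgroup.centralizer ((A0 : Subgroup G) : Set G) :=
      Subgroup.le_centralizer_iff.mp (hA0Q.trans hQPC)
    apply hV21
    rw [eq_bot_iff, ← hV2C]
    exact le_inf le_rfl hV2A0
  -- Step 5: Wielandt's formula for `P⟨x⟩` on `Q`
  have hP1 : P ≠ ⊥ := by
    intro h
    apply hPncQ
    rw [h]; exact bot_le
  have hform := Cfsg.Agent.Lib.Helper9.frob_formula hr x hx P Q hP1 hxP hCPx hPQ hxQ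
    (bgq_card_coprime hq hp hpq.symm hQq hP) (bgq_card_coprime_prime hq hr hqr hQq)
    (bgq_card_coprime_prime hp hr hpr hP) (bgq_isSolvable hq hQq)
  rw [← hE] at hform
  set C : Subgroup G := Q ⊓ Subgroup.centralizer ({x} : Set G) with hC
  by_cases hCZ : C ≤ Z
  · have h1 : Q ⊓ Subgroup.centralizer ((P ⊔ E : Subgroup G) : Set G) = C := by
      apply le_antisymm
      · refine le_inf inf_le_left ?_
        rw [← hCE]
        exact inf_le_right.trans (Subgroup.centralizer_le (by
          exact_mod_cast (le_sup_right : E ≤ P ⊔ E)))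
      · refine le_inf inf_le_left ?_
        rw [Subgroup.le_centralizer_iff]
        refine sup_le ?_ ?_
        · exact Subgroup.le_centralizer_iff.mp (hCZ.trans hZP)
        · rw [Subgroup.le_centralizer_iff, hCE]; exact inf_le_right
    rw [h1] at hform
    have hpos : 0 < Nat.card C ^ r := pow_pos Nat.card_pos r
    have h2 : Nat.card Q = Nat.card ↥(Q ⊓ Subgroup.centralizer (P : Set G)) :=
      Nat.eq_of_mul_eq_mul_left hpos hform
    have h3 : Q ⊓ Subgroup.centralizer (P : Set G) = Q :=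
      Subgroup.eq_of_le_of_card_ge inf_le_left h2.le
    apply hPncQ
    rw [Subgroup.le_centralizer_iff, ← h3]
    exact inf_le_right
  · obtain ⟨c, hcC, hcZ⟩ := SetLike.not_le_iff_exists.mp hCZ
    apply hcZ
    refine Subgroup.mem_inf.mpr ⟨hcC.1, ?_⟩
    rw [Subgroup.mem_centralizer_iff]
    have hcE : c ∈ Subgroup.centralizer ((E : Subgroup G) : Set G) := by
      rw [hCE]; exact hcC.2
    have hCcomm : ∀ d ∈ C, d * c = c * d := by
      intro d hd
      have hcm : ∀ a b : ↥C, a * b = b * a := fun a b => by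
        let _ := IsCyclic.commGroup (α := ↥C)
        exact mul_comm a b
      exact congrArg Subtype.val (hcm ⟨d, hd⟩ ⟨c, hcC⟩)
    set Cc : Subgroup G := Subgroup.zpowers c with hCc
    have hCcQ : Cc ≤ Q := by
      rw [hCc, Subgroup.zpowers_le]; exact hcC.1
    have hCCc : Subgroup.centralizer ((Cc : Subgroup G) : Set G) =
        Subgroup.centralizer ({c} : Set G) := Cfsg.Agent.Lib.Helper9.centralizer_zpowers_eq c
    have h1 : ⁅⁅E, Cc⁆, Q⁆ = ⊥ := by
      have h0 : ⁅E, Cc⁆ = ⊥ := by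
        rw [Subgroup.commutator_comm, Subgroup.commutator_eq_bot_iff_le_centralizer, hCc,
          Subgroup.zpowers_le]
        exact hcE
      rw [h0]; exact Subgroup.commutator_bot_left Q
    have h2 : ⁅⁅Cc, Q⁆, E⁆ = ⊥ := by
      rw [Subgroup.commutator_eq_bot_iff_le_centralizer, hCE]
      exact (Subgroup.commutator_mono hCcQ le_rfl).trans (hDZ.trans hZx)
    have h3 : ⁅⁅Q, E⁆, Cc⁆ = ⊥ := Subgroup.commutator_commutator_eq_bot_of_rotate h1 h2
    have h4 : ⁅Q, E⁆ ≤ Subgroup.centralizer ({c} : Set G) := by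
      rw [← hCCc]; exact Subgroup.commutator_eq_bot_iff_le_centralizer.mp h3
    intro a ha
    obtain ⟨c', hc', w, hw, rfl⟩ := Cfsg.Agent.Lib.Helper48.exists_centralizer_mul_commutator hEr
      (bgq_not_dvd hr hq hqr.symm hQq) hEQ ha
    have hc'C : c' ∈ C := by
      rw [hC, ← hCE]; exact hc'
    have e1 : c' * c = c * c' := hCcomm c' hc'C
    have e2 : w * c = c * w := by
      have := Subgroup.mem_centralizer_iff.mp (h4 hw) c (Set.mem_singleton c)
      exact this.symm
    calc c' * w * c = c' * (w * c) := by group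
      _ = c' * (c * w) := by rw [e2]
      _ = (c' * c) * w := by group
      _ = (c * c') * w := by rw [e1]
      _ = c * (c' * w) := by group

end Cfsg.Agent.Lib.Helper47
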