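import Mathlib
import Cfsg.Prelude.Def_Solvable
import Cfsg.Agent.Lib.Helper47.BGQAbelian
import Cfsg.Agent.Lib.Helper1.Fitting
import Cfsg.Agent.Lib.Helper22.SolvableLocal
import Cfsg.Agent.Lib.Helper35.FpfCyclic

/-!
# Small standalone lemmas for helper9's S1444 (BG Theorem 3.6): MODULES D, E, F1, F2, G (helper47)
-/

set_option autoImplicit false

namespace Cfsg.Agent.Lib.Helper47

open scoped commutatorElement

/-- MODULE F1: for a coprime action on an abelian group, `C_V(A) ∩ [V, A] = 1`. -/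
theorem centralizer_inf_commutator_eq_bot {G : Type*} [Group G] [Finite G] (V A : Subgroup G)
    (hVab : ∀ a ∈ V, ∀ b ∈ V, a * b = b * a) (hAV : A ≤ Subgroup.normalizer (V : Set G))
    (hcop : (Nat.card V).Coprime (Nat.card A)) :
    V ⊓ Subgroup.centralizer (A : Set G) ⊓ ⁅V, A⁆ = ⊥ := by
  have hVab' : IsMulCommutative V := ⟨⟨fun a b => Subtype.ext (hVab a a.2 b b.2)⟩⟩
  exact (Cfsg.Agent.S0055.result A V hAV hcop.symm).1

/-- MODULE F2: a `p`-group normalizing a nontrivial `p`-group has nontrivial fixed points. -/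
theorem inf_centralizer_ne_bot {G : Type*} [Group G] [Finite G] {p : ℕ} [Fact p.Prime]
    (V T : Subgroup G) (hV : IsPGroup p V) (hT : IsPGroup p T)
    (hTV : T ≤ Subgroup.normalizer (V : Set G)) (hV1 : V ≠ ⊥) :
    V ⊓ Subgroup.centralizer (T : Set G) ≠ ⊥ :=
  bgq_fixed_ne_bot Fact.out hT hV hTV hV1

/-- a nontrivial `p`-subgroup contains an element of order `p`. -/
theorem bgs_exists_orderOf_eq {G : Type*} [Group G] [Finite G] {p : ℕ} [Fact p.Prime]
    (V : Subgroup G) (hV : IsPGroup p V) (hV1 : V ≠ ⊥) : ∃ v ∈ V, orderOf v = p := by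
  have hdvd : p ∣ Nat.card V := by
    obtain ⟨n, hn⟩ := hV.exists_card_eq
    rw [hn]
    rcases n with _ | n
    · exfalso
      rw [pow_zero] at hn
      exact hV1 (Subgroup.card_eq_one.mp hn)
    · exact dvd_pow_self p (Nat.succ_ne_zero n)
  obtain ⟨v, hv⟩ := exists_prime_orderOf_dvd_card' p hdvd
  exact ⟨v.1, v.2, by rw [← hv, Subgroup.orderOf_coe]⟩

/-- MODULE G: the cyclic Sylow trick. -/
theorem cyc_trick {G : Type*} [Group G] [Finite G] {p : ℕ} [Fact p.Prime] (Z V P : Subgroup G)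
    (hZ : IsZGroup ↥Z) (hV : IsPGroup p V) (hP : IsPGroup p P) (hVZ : V ≤ Z) (hPZ : P ≤ Z)
    (hPV : P ≤ Subgroup.normalizer (V : Set G)) (hVP : V ⊓ P = ⊥) : V = ⊥ ∨ P = ⊥ := by
  by_contra hcon
  rw [not_or] at hcon
  obtain ⟨hV1, hP1⟩ := hcon
  have hW : IsPGroup p (P ⊔ V : Subgroup G) := IsPGroup.to_sup_of_normal_right' hP hV hPV
  have hWZ : P ⊔ V ≤ Z := sup_le hPZ hVZ
  have hWZg : IsZGroup ↥(P ⊔ V : Subgroup G) :=
    IsZGroup.of_injective (f := Subgroup.inclusion hWZ) (Subgroup.inclusion_injective hWZ)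
  have hWnil : Group.IsNilpotent ↥(P ⊔ V : Subgroup G) := hW.isNilpotent
  have hWcyc : IsCyclic ↥(P ⊔ V : Subgroup G) := inferInstance
  obtain ⟨v, hvV, hv⟩ := bgs_exists_orderOf_eq V hV hV1
  obtain ⟨u, huP, hu⟩ := bgs_exists_orderOf_eq P hP hP1
  have h1 : Subgroup.zpowers v ≤ P ⊔ V := by
    rw [Subgroup.zpowers_le]; exact Subgroup.mem_sup_right hvV
  have h2 : Subgroup.zpowers u ≤ P ⊔ V := by
    rw [Subgroup.zpowers_le]; exact Subgroup.mem_sup_left huP
  have heq : Subgroup.zpowers v = Subgroup.zpowers u :=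
    Cfsg.Agent.Lib.Helper35.eq_of_card_eq_of_le_isCyclic hWcyc h1 h2
      (by rw [Nat.card_zpowers, Nat.card_zpowers, hv, hu])
  have hvP : v ∈ P := by
    have : v ∈ Subgroup.zpowers u := heq ▸ Subgroup.mem_zpowers v
    exact (Subgroup.zpowers_le.mpr huP) this
  have hv1 : v ∈ V ⊓ P := Subgroup.mem_inf.mpr ⟨hvV, hvP⟩
  rw [hVP, Subgroup.mem_bot] at hv1
  rw [hv1, orderOf_one] at hv
  exact (Fact.out : p.Prime).one_lt.ne hv

/-- MODULE E: in a solvable group with `O_p(X) = 1`, a nontrivial `p`-subgroup does not centralize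
every `O_q(X)`, `q ≠ p`. -/
theorem exists_pCore_not_centralized {X : Type*} [Group X] [Finite X] [Group.IsSolvable X] {p : ℕ}
    [Fact p.Prime] (hOp : Cfsg.pCore p X = ⊥) (P : Subgroup X) (hP : IsPGroup p P) (hP1 : P ≠ ⊥) :
    ∃ q : ℕ, q.Prime ∧ q ≠ p ∧ ¬ P ≤ Subgroup.centralizer ((Cfsg.pCore q X : Subgroup X) : Set X) := by
  by_contra hcon
  have hall : ∀ q : ℕ, q.Prime → q ≠ p →
      P ≤ Subgroup.centralizer ((Cfsg.pCore q X : Subgroup X) : Set X) := by
    intro q hq hqp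
    by_contra h
    exact hcon ⟨q, hq, hqp, h⟩
  have hF : Cfsg.fittingSubgroup X = ⨆ q : Nat.Primes, Cfsg.pCore (q : ℕ) X :=
    Cfsg.Agent.Lib.Helper1.fittingSubgroup_eq_iSup_pCore
  have hPF : P ≤ Subgroup.centralizer ((Cfsg.fittingSubgroup X : Subgroup X) : Set X) := by
    rw [Subgroup.le_centralizer_iff, hF]
    refine iSup_le fun q => ?_
    by_cases hq : (q : ℕ) = p
    · rw [hq, hOp]; exact bot_le
    · exact Subgroup.le_centralizer_iff.mp (hall q q.2 hq)
  have hCF : Subgroup.centralizer ((Cfsg.fittingSubgroup X : Subgroup X) : Set X) ≤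
      Cfsg.fittingSubgroup X :=
    Cfsg.Agent.Lib.Helper22.centralizer_fittingSubgroup_le_iff_layer_eq_bot.mpr
      (Cfsg.Agent.Lib.Helper22.layer_eq_bot_of_isSolvable inferInstance)
  have hPle : P ≤ Cfsg.fittingSubgroup X := hPF.trans hCF
  have hcop : (Nat.card (Cfsg.fittingSubgroup X)).Coprime p := by
    rw [hF]
    have h := Cfsg.Agent.Lib.Helper1.normal_and_coprime_card_sSup p
      (Set.range fun q : Nat.Primes => Cfsg.pCore (q : ℕ) X) (by
        rintro N ⟨q, rfl⟩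
        refine ⟨Cfsg.Agent.Lib.Helper1.pCore_normal _, ?_⟩
        by_cases hq : (q : ℕ) = p
        · simp only [hq, hOp, Subgroup.card_bot, Nat.coprime_one_left_eq_true]
        · have : Fact (q : ℕ).Prime := ⟨q.2⟩
          obtain ⟨n, hn⟩ := IsPGroup.iff_card.mp
            (Cfsg.Agent.Lib.Helper1.pCore_isPGroup (q : ℕ) (G := X))
          rw [hn]
          exact Nat.Coprime.pow_left n ((Nat.coprime_primes q.2 Fact.out).mpr hq))
    exact h.2
  apply hP1
  have hdvd : Nat.card P ∣ Nat.card (Cfsg.fittingSubgroup X) := Subgroup.card_dvd_of_le hPle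
  obtain ⟨n, hn⟩ := hP.exists_card_eq
  have h1 : (Nat.card P).Coprime p := Nat.Coprime.coprime_dvd_left hdvd hcop
  rcases n with _ | n
  · rw [pow_zero] at hn; exact Subgroup.card_eq_one.mp hn
  · exfalso
    rw [hn] at h1
    exact (Nat.Prime.coprime_iff_not_dvd Fact.out).mp h1.symm
      (dvd_pow_self p (Nat.succ_ne_zero n))

/-- elements normalizing a cyclic subgroup `K` have commuting conjugation actions on `K`. -/
theorem bgs_commutator_mem_centralizer_of_isCyclic {G : Type*} [Group G] (K : Subgroup G)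
    (hK : IsCyclic ↥K) {g g' : G} (hg : g ∈ Subgroup.normalizer (K : Set G))
    (hg' : g' ∈ Subgroup.normalizer (K : Set G)) :
    ⁅g, g'⁆ ∈ Subgroup.centralizer (K : Set G) := by
  have key : ∀ g : G, g ∈ Subgroup.normalizer (K : Set G) →
      ∃ m : ℤ, ∀ y ∈ K, g * y * g⁻¹ = y ^ m := by
    intro g hg
    let σ : ↥K →* ↥K :=
      { toFun := fun y => ⟨g * y * g⁻¹, (Subgroup.mem_normalizer_iff.mp hg y).mp y.2⟩
        map_one' := by ext; simp
        map_mul' := by
          intro a b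
          ext
          simp only [Subgroup.coe_mul]
          group }
    obtain ⟨m, hm⟩ := MonoidHom.map_cyclic σ
    refine ⟨m, fun y hy => ?_⟩
    have := congrArg Subtype.val (hm ⟨y, hy⟩)
    simpa [σ] using this
  obtain ⟨m, hm⟩ := key g hg
  obtain ⟨m', hm'⟩ := key g' hg'
  have h1 : ∀ y ∈ K, g * g' * y * (g * g')⁻¹ = g' * g * y * (g' * g)⁻¹ := by
    intro y hy
    have a1 : g' * y * g'⁻¹ = y ^ m' := hm' y hy
    have a2 : g * y * g⁻¹ = y ^ m := hm y hy
    have b1 : g * (y ^ m') * g⁻¹ = (y ^ m') ^ m := hm (y ^ m') (K.zpow_mem hy m')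
    have b2 : g' * (y ^ m) * g'⁻¹ = (y ^ m) ^ m' := hm' (y ^ m) (K.zpow_mem hy m)
    calc g * g' * y * (g * g')⁻¹ = g * (g' * y * g'⁻¹) * g⁻¹ := by group
      _ = (y ^ m') ^ m := by rw [a1, b1]
      _ = (y ^ m) ^ m' := by rw [← zpow_mul, ← zpow_mul, mul_comm]
      _ = g' * (g * y * g⁻¹) * g'⁻¹ := by rw [a2, b2]
      _ = g' * g * y * (g' * g)⁻¹ := by group
  rw [Subgroup.mem_centralizer_iff]
  intro y hy
  have hgg : g' * g ∈ Subgroup.normalizer (K : Set G) := Subgroup.mul_mem _ hg' hg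
  have hz : (g' * g)⁻¹ * y * (g' * g) ∈ K := by
    have := (Subgroup.mem_normalizer_iff.mp (Subgroup.inv_mem _ hgg) y).mp hy
    simpa using this
  have e : ⁅g, g'⁆ * y * ⁅g, g'⁆⁻¹ = y := by
    have := h1 _ hz
    calc ⁅g, g'⁆ * y * ⁅g, g'⁆⁻¹
        = g * g' * ((g' * g)⁻¹ * y * (g' * g)) * (g * g')⁻¹ := by
          rw [commutatorElement_def]; group
      _ = g' * g * ((g' * g)⁻¹ * y * (g' * g)) * (g' * g)⁻¹ := this
      _ = y := by group
  calc y * ⁅g, g'⁆ = (⁅g, g'⁆ * y * ⁅g, g'⁆⁻¹) * ⁅g, g'⁆ := by rw [e]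
    _ = ⁅g, g'⁆ * y := by group

/-- MODULE D: a Z-group `H₁ = ⁅H₁, R⁆` without nontrivial `R`-invariant normal `p`-subgroups is a
`p'`-group. -/
theorem zgroup_case {G : Type*} [Group G] [Finite G] {p : ℕ} [Fact p.Prime] (H₁ R : Subgroup G)
    (hRH : R ≤ Subgroup.normalizer (H₁ : Set G)) (hZ : IsZGroup ↥H₁) (hcomm : ⁅H₁, R⁆ = H₁)
    (hcop : (Nat.card H₁).Coprime (Nat.card R))
    (hOp : ∀ T : Subgroup G, T ≤ H₁ → IsPGroup p T → H₁ ≤ Subgroup.normalizer (T : Set G) →
      R ≤ Subgroup.normalizer (T : Set G) → T = ⊥) :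
    (Nat.card H₁).Coprime p := by
  set K : Subgroup G := ⁅H₁, H₁⁆ with hK
  have hKmap : K = (commutator ↥H₁).map H₁.subtype := (Subgroup.map_subtype_commutator H₁).symm
  have hKcyc : IsCyclic ↥K := by
    have h1 : IsCyclic (commutator ↥H₁) := IsZGroup.isCyclic_commutator ↥H₁
    rw [hKmap]
    exact (Subgroup.equivMapOfInjective _ _ H₁.subtype_injective).isCyclic.mp h1
  have hH1K : H₁ ≤ Subgroup.normalizer ((K : Subgroup G) : Set G) :=
    Subgroup.normalizer_commutator_ge_left H₁ H₁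
  have hRK : R ≤ Subgroup.normalizer ((K : Subgroup G) : Set G) := fun g hg =>
    bgq_mem_normalizer_commutator (hRH hg) (hRH hg)
  have hH1C : H₁ ≤ Subgroup.centralizer ((K : Subgroup G) : Set G) := by
    have h1 : ⁅H₁, R⁆ ≤ Subgroup.centralizer ((K : Subgroup G) : Set G) := by
      rw [Subgroup.commutator_le]
      intro a ha b hb
      exact bgs_commutator_mem_centralizer_of_isCyclic K hKcyc (hH1K ha) (hRK hb)
    rwa [hcomm] at h1
  have hnil : Group.IsNilpotent ↥H₁ := by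
    apply Subgroup.isNilpotent_of_ker_le_center (Abelianization.of : ↥H₁ →* Abelianization ↥H₁)
    rw [Abelianization.ker_of]
    intro y hy
    rw [Subgroup.mem_center_iff]
    intro z
    have hyK : (y : G) ∈ K := by
      rw [hKmap]; exact Subgroup.mem_map_of_mem _ hy
    have := (Subgroup.mem_centralizer_iff.mp (hH1C z.2)) y hyK
    exact Subtype.ext this.symm
  have hcyc : IsCyclic ↥H₁ := inferInstance
  rw [Nat.coprime_comm, Nat.Prime.coprime_iff_not_dvd Fact.out]
  intro hdvd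
  obtain ⟨h, hh⟩ := exists_prime_orderOf_dvd_card' p hdvd
  set T : Subgroup G := Subgroup.zpowers (h : G) with hT
  have hTcard : Nat.card T = p := by rw [hT, Nat.card_zpowers, Subgroup.orderOf_coe, hh]
  have hTH : T ≤ H₁ := by rw [hT, Subgroup.zpowers_le]; exact h.2
  have hTp : IsPGroup p T := IsPGroup.of_card (n := 1) (by rw [hTcard, pow_one])
  have hnorm : ∀ g, g ∈ Subgroup.normalizer (H₁ : Set G) →
      g ∈ Subgroup.normalizer ((T : Subgroup G) : Set G) := by
    intro g hg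
    rw [Subgroup.mem_normalizer_iff_map_conj_eq]
    apply Cfsg.Agent.Lib.Helper35.eq_of_card_eq_of_le_isCyclic hcyc _ hTH _
    · rw [← Subgroup.mem_normalizer_iff_map_conj_eq.mp hg]
      exact Subgroup.map_mono hTH
    · exact Subgroup.card_map_of_injective (MulAut.conj g).injective
  have hbot := hOp T hTH hTp (fun g hg => hnorm g (Subgroup.le_normalizer hg))
    (fun g hg => hnorm g (hRH hg))
  rw [hbot, Subgroup.card_bot] at hTcard
  exact (Fact.out : p.Prime).one_lt.ne hTcard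

end Cfsg.Agent.Lib.Helper47
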