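import Mathlib
import Cfsg.Agent.S1445
import Cfsg.Agent.S0026
import Cfsg.Agent.Lib.Helper21.PrimeAction2
import Cfsg.Agent.Lib.Helper54.BGUnique
import Cfsg.Agent.Lib.Helper54.Coprime
import Cfsg.Agent.Lib.Helper1.Fitting

/-!
# Bender–Glauberman Theorem 15.2, abstract part A

`T = H A` solvable of odd order, `H ⊴ T`, `A` abelian acting coprimely on `H` with prime action
and `C_H(A)` of prime order `q`; `H ≤ T'` and `H` not nilpotent.  Then `C_H(A) ≤ O_q(H)`.
-/

set_option autoImplicit false

namespace Cfsg.Agent.Lib.Helper47.BG152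

open Cfsg
open scoped Pointwise commutatorElement
open Cfsg.Agent.Lib.Helper54 (pcOf pcOf_le pcOf_le_fittingOf pcOf_isPGroup le_normalizer_pcOf
  le_pcOf_of_isPGroup le_pcOf_of_normal fittingOf_le)

variable {T : Type*} [Group T]

/-- A subgroup of `H` containing `H` in its Fitting subgroup is nilpotent. -/
theorem isNilpotent_of_le_fittingOf [Finite T] (H : Subgroup T) (h : H ≤ fittingOf H) :
    Group.IsNilpotent H := by
  have htop : fittingSubgroup ↥H = ⊤ := by
    rw [eq_top_iff]
    intro x _
    obtain ⟨y, hy, hyx⟩ := h x.2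
    have : y = x := Subtype.ext hyx
    rw [← this]; exact hy
  have h1 : Group.IsNilpotent (fittingSubgroup ↥H) :=
    Cfsg.Agent.Lib.Helper1.fittingSubgroup_isNilpotent
  rw [htop] at h1
  exact Group.nilpotent_of_mulEquiv (Subgroup.topEquiv (G := ↥H))

/-- The join of two commutative subgroups centralizing each other is commutative. -/
theorem isMulCommutative_sup {C A : Subgroup T} (hC : IsMulCommutative C) (hA : IsMulCommutative A)
    (hCA : C ≤ Subgroup.centralizer (A : Set T)) : IsMulCommutative ↥(C ⊔ A) := by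
  rw [← Subgroup.le_centralizer_iff_isMulCommutative]
  have hAC : A ≤ Subgroup.centralizer (C : Set T) := Subgroup.le_centralizer_iff.mp hCA
  have hCC : C ≤ Subgroup.centralizer (C : Set T) :=
    Subgroup.le_centralizer_iff_isMulCommutative.mpr hC
  have hAA : A ≤ Subgroup.centralizer (A : Set T) :=
    Subgroup.le_centralizer_iff_isMulCommutative.mpr hA
  apply sup_le
  · rw [Subgroup.le_centralizer_iff]
    exact sup_le hCC hAC
  · rw [Subgroup.le_centralizer_iff]
    exact sup_le hCA hAA

/-- **Step 3 of B&G 15.2.**  The fixed points of `A` lie in the Fitting subgroup of `H`. -/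
theorem fix_le_fittingOf [Finite T] [Group.IsSolvable T] (hodd : Odd (Nat.card T))
    (H A : Subgroup T) [H.Normal]
    (hsup : H ⊔ A = ⊤) (hcop : (Nat.card H).Coprime (Nat.card A)) (hA : IsMulCommutative A)
    (hprime : ∀ x ∈ A, x ≠ 1 →
      H ⊓ Subgroup.centralizer ({x} : Set T) = H ⊓ Subgroup.centralizer (A : Set T))
    (hq : (Nat.card ↥(H ⊓ Subgroup.centralizer (A : Set T))).Prime)
    (hder : H ≤ commutator T) (hnil : ¬ Group.IsNilpotent H) :
    H ⊓ Subgroup.centralizer (A : Set T) ≤ fittingOf H := by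
  by_contra hnot
  have hF : fittingOf H ⊓ Subgroup.centralizer (A : Set T) = ⊥ := by
    by_contra hne
    apply hnot
    have hXC : fittingOf H ⊓ Subgroup.centralizer (A : Set T) ≤
        H ⊓ Subgroup.centralizer (A : Set T) := inf_le_inf_right _ (fittingOf_le H)
    rcases (Nat.dvd_prime hq).mp (Subgroup.card_dvd_of_le hXC) with h1 | h1
    · exact absurd (Subgroup.card_eq_one.mp h1) hne
    · have h2 := Subgroup.eq_of_le_of_card_ge hXC h1.ge
      rw [← h2]; exact inf_le_left
  have h1 := Cfsg.Agent.S1445.result hodd H A hsup hcop hprime hF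
  have hAH : A ≤ Subgroup.normalizer (H : Set T) := by
    rw [Subgroup.normalizer_eq_top_iff.mpr inferInstance]; exact le_top
  have hHsolv : Group.IsSolvable H := inferInstance
  have h2 := Cfsg.Agent.S0026.result A H hAH hcop.symm (Or.inr hHsolv)
  have hFn : (fittingOf H).Normal := Cfsg.Agent.Lib.Helper21.fittingOf_normal_of_normal H
  have hCc : IsMulCommutative ↥(H ⊓ Subgroup.centralizer (A : Set T)) := by
    have : Fact (Nat.card ↥(H ⊓ Subgroup.centralizer (A : Set T))).Prime := ⟨hq⟩
    have hc : IsCyclic ↥(H ⊓ Subgroup.centralizer (A : Set T)) := isCyclic_of_prime_card rfl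
    exact IsCyclic.isMulCommutative
  have hB : IsMulCommutative ↥((H ⊓ Subgroup.centralizer (A : Set T)) ⊔ A) :=
    isMulCommutative_sup hCc hA inf_le_right
  have htop : fittingOf H ⊔ ((H ⊓ Subgroup.centralizer (A : Set T)) ⊔ A) = ⊤ := by
    rw [eq_top_iff, ← hsup]
    apply sup_le
    · refine h2.ge.trans ?_
      apply sup_le
      · exact h1.trans le_sup_left
      · exact le_sup_left.trans le_sup_right
    · exact le_sup_right.trans le_sup_right
  have h3 : commutator T ≤ fittingOf H :=
    hFn.commutator_le_of_self_sup_commutative_eq_top htop hB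
  exact hnil (isNilpotent_of_le_fittingOf H (hder.trans h3))

/-- Hence `C_H(A) ≤ O_q(H)`. -/
theorem fix_le_pcOf [Finite T] [Group.IsSolvable T] (hodd : Odd (Nat.card T))
    (H A : Subgroup T) [H.Normal]
    (hsup : H ⊔ A = ⊤) (hcop : (Nat.card H).Coprime (Nat.card A)) (hA : IsMulCommutative A)
    (hprime : ∀ x ∈ A, x ≠ 1 →
      H ⊓ Subgroup.centralizer ({x} : Set T) = H ⊓ Subgroup.centralizer (A : Set T))
    (q : ℕ) [Fact q.Prime] (hq : Nat.card ↥(H ⊓ Subgroup.centralizer (A : Set T)) = q)
    (hder : H ≤ commutator T) (hnil : ¬ Group.IsNilpotent H) :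
    H ⊓ Subgroup.centralizer (A : Set T) ≤ pcOf q H := by
  have hq' : (Nat.card ↥(H ⊓ Subgroup.centralizer (A : Set T))).Prime := by
    rw [hq]; exact Fact.out
  have h1 := fix_le_fittingOf hodd H A hsup hcop hA hprime hq' hder hnil
  refine le_pcOf_of_isPGroup q ?_ h1
  exact IsPGroup.of_card (n := 1) (by rw [hq, pow_one])

end Cfsg.Agent.Lib.Helper47.BG152
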