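import Mathlib
import Cfsg.Agent.Lib.Helper47.BGFifteenTwoA
import Cfsg.Agent.Lib.Helper87.ThompsonSub
import Cfsg.Agent.Lib.Helper54.Glauberman

/-!
# Bender–Glauberman Theorem 15.2, abstract part B

`O_q(H)` is a Sylow `q`-subgroup of `H`, its complements are nilpotent, and there is an
`A`-invariant complement.
-/

set_option autoImplicit false

namespace Cfsg.Agent.Lib.Helper47.BG152

open Cfsg
open scoped Pointwise commutatorElement
open Cfsg.Agent.Lib.Helper54 (pcOf pcOf_le pcOf_le_fittingOf pcOf_isPGroup le_normalizer_pcOf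
  le_pcOf_of_isPGroup le_pcOf_of_normal fittingOf_le)

/-- A subgroup containing a Sylow `r`-subgroup for every prime `r` is everything. -/
theorem eq_top_of_forall_sylow_le {D : Type*} [Group D] [Finite D] (N : Subgroup D)
    (h : ∀ (r : ℕ) [Fact r.Prime], ∃ P : Sylow r D, (P : Subgroup D) ≤ N) : N = ⊤ := by
  by_contra hne
  have h1 : N.index ≠ 1 := fun h1 => hne (Subgroup.index_eq_one.mp h1)
  obtain ⟨r, hr, hrd⟩ := Nat.exists_prime_and_dvd h1
  have : Fact r.Prime := ⟨hr⟩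
  obtain ⟨P, hP⟩ := h r
  exact P.not_dvd_index (hrd.trans (Subgroup.index_dvd_of_le hP))

/-- A finite group in which elements of coprime orders commute is nilpotent. -/
theorem isNilpotent_of_coprime_commute {D : Type*} [Group D] [Finite D]
    (h : ∀ x y : D, (orderOf x).Coprime (orderOf y) → x * y = y * x) : Group.IsNilpotent D := by
  apply ((Group.isNilpotent_of_finite_tfae (G := D)).out 0 3).mpr
  intro p hp P
  rw [← Subgroup.normalizer_eq_top_iff]
  apply eq_top_of_forall_sylow_le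
  intro r hr
  by_cases hrp : r = p
  · subst hrp
    exact ⟨P, Subgroup.le_normalizer⟩
  · obtain ⟨S⟩ : Nonempty (Sylow r D) := inferInstance
    refine ⟨S, fun x hx => ?_⟩
    apply Subgroup.centralizer_le_normalizer
    rw [Subgroup.mem_centralizer_iff]
    intro y hy
    obtain ⟨k, hk⟩ := (IsPGroup.iff_orderOf.mp S.isPGroup') ⟨x, hx⟩
    obtain ⟨j, hj⟩ := (IsPGroup.iff_orderOf.mp P.isPGroup') ⟨y, hy⟩
    rw [Subgroup.orderOf_mk] at hk hj
    apply h
    rw [hk, hj]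
    exact Nat.Coprime.pow _ _ ((Nat.coprime_primes hp.out hr.out).mpr (Ne.symm hrp))

variable {T : Type*} [Group T]

/-- Elements of `H` of coprime orders commute modulo `O_q(H)`. -/
theorem comm_mem_pcOf [Finite T] (H A : Subgroup T) [H.Normal] (hA1 : A ≠ ⊥)
    (hcop : (Nat.card H).Coprime (Nat.card A))
    (hprime : ∀ x ∈ A, x ≠ 1 →
      H ⊓ Subgroup.centralizer ({x} : Set T) = H ⊓ Subgroup.centralizer (A : Set T))
    (q : ℕ) [Fact q.Prime] (hC : H ⊓ Subgroup.centralizer (A : Set T) ≤ pcOf q H) :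
    ∀ x ∈ H, ∀ y ∈ H, (orderOf x).Coprime (orderOf y) → ⁅x, y⁆ ∈ pcOf q H := by
  have hcard : Nat.card A ≠ 1 := fun h => hA1 (Subgroup.card_eq_one.mp h)
  obtain ⟨r, hr, hrA⟩ := Nat.exists_prime_and_dvd hcard
  have : Fact r.Prime := ⟨hr⟩
  obtain ⟨a, ha⟩ := exists_prime_orderOf_dvd_card' (G := A) r hrA
  have hao : orderOf (a : T) = r := by rw [Subgroup.orderOf_coe]; exact ha
  have ha1 : (a : T) ≠ 1 := by
    intro h
    rw [h, orderOf_one] at hao
    exact hr.one_lt.ne hao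
  have hQn : (pcOf q H).Normal := Cfsg.Agent.Lib.Helper21.pcOf_normal_of_normal q H
  refine Cfsg.Agent.Lib.Helper87.thompson_sub hr (a : T) ?_ H (pcOf q H) (pcOf_le q H)
    (le_normalizer_pcOf q H) ?_ ?_ ?_ ?_
  · rw [← hao]; exact pow_orderOf_eq_one _
  · rw [Subgroup.normalizer_eq_top_iff.mpr inferInstance]; exact Subgroup.mem_top _
  · rw [Subgroup.normalizer_eq_top_iff.mpr hQn]; exact Subgroup.mem_top _
  · intro hrH
    have := Nat.Coprime.eq_one_of_dvd (Nat.Coprime.coprime_dvd_left hrH hcop) hrA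
    exact hr.one_lt.ne' this
  · intro x hx hxa
    apply hC
    rw [← hprime (a : T) a.2 ha1]
    refine ⟨hx, ?_⟩
    show x ∈ Subgroup.centralizer ({(a : T)} : Set T)
    rw [Subgroup.mem_centralizer_iff]
    intro y hy
    rw [Set.mem_singleton_iff] at hy
    rw [hy]
    exact hxa.symm

/-- An element of `H` of order prime to `q` normalizes every `q`-subgroup of `H` containing
`O_q(H)`. -/
theorem mem_normalizer_of_coprime [Finite T] (H : Subgroup T) (q : ℕ) [Fact q.Prime]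
    (hcomm : ∀ x ∈ H, ∀ y ∈ H, (orderOf x).Coprime (orderOf y) → ⁅x, y⁆ ∈ pcOf q H)
    (Q₁ : Subgroup T) (hQ₁H : Q₁ ≤ H) (hQQ₁ : pcOf q H ≤ Q₁) (hQ₁ : IsPGroup q Q₁)
    (x : T) (hx : x ∈ H) (hxq : (orderOf x).Coprime q) :
    x ∈ Subgroup.normalizer (Q₁ : Set T) := by
  have key : ∀ z ∈ H, (orderOf z).Coprime q → ∀ y ∈ Q₁, z * y * z⁻¹ ∈ Q₁ := by
    intro z hz hzq y hy
    obtain ⟨j, hj⟩ := (IsPGroup.iff_orderOf.mp hQ₁) ⟨y, hy⟩
    rw [Subgroup.orderOf_mk] at hj
    have h1 := hcomm z hz y (hQ₁H hy) (by rw [hj]; exact Nat.Coprime.pow_right _ hzq)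
    have h2 : z * y * z⁻¹ = ⁅z, y⁆ * y := by
      rw [commutatorElement_def]; group
    rw [h2]
    exact Q₁.mul_mem (hQQ₁ h1) hy
  rw [Subgroup.mem_normalizer_iff]
  intro y
  constructor
  · exact key x hx hxq y
  · intro hy
    have h1 := key x⁻¹ (H.inv_mem hx) (by rwa [orderOf_inv]) _ hy
    have h2 : x⁻¹ * (x * y * x⁻¹) * x⁻¹⁻¹ = y := by group
    rwa [h2] at h1

/-- `O_q(H)` is a Sylow `q`-subgroup of `H`. -/
theorem not_dvd_relIndex_pcOf [Finite T] (H : Subgroup T) (q : ℕ) [Fact q.Prime]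
    (hcomm : ∀ x ∈ H, ∀ y ∈ H, (orderOf x).Coprime (orderOf y) → ⁅x, y⁆ ∈ pcOf q H) :
    ¬ q ∣ (pcOf q H).relIndex H := by
  have hq : q.Prime := Fact.out
  have hQp : IsPGroup q ((pcOf q H).subgroupOf H) := (pcOf_isPGroup q H).comap_subtype
  obtain ⟨P₁, hP₁⟩ := hQp.exists_le_sylow
  set Q₁ : Subgroup T := (P₁ : Subgroup H).map H.subtype with hQ₁def
  have hQ₁H : Q₁ ≤ H := Subgroup.map_subtype_le _
  have hQ₁p : IsPGroup q Q₁ := P₁.isPGroup'.map _
  have hQQ₁ : pcOf q H ≤ Q₁ := by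
    intro x hx
    have hxH : x ∈ H := pcOf_le q H hx
    exact ⟨⟨x, hxH⟩, hP₁ (Subgroup.mem_subgroupOf.mpr hx), rfl⟩
  have hnorm : H ≤ Subgroup.normalizer (Q₁ : Set T) := by
    have htop : (Subgroup.normalizer (Q₁ : Set T)).subgroupOf H = ⊤ := by
      apply eq_top_of_forall_sylow_le
      intro r hr
      by_cases hrq : r = q
      · subst hrq
        refine ⟨P₁, fun x hx => ?_⟩
        rw [Subgroup.mem_subgroupOf]
        exact Subgroup.le_normalizer (Subgroup.mem_map_of_mem _ hx)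
      · obtain ⟨S⟩ : Nonempty (Sylow r H) := inferInstance
        refine ⟨S, fun x hx => ?_⟩
        rw [Subgroup.mem_subgroupOf]
        obtain ⟨k, hk⟩ := (IsPGroup.iff_orderOf.mp S.isPGroup') ⟨x, hx⟩
        rw [Subgroup.orderOf_mk] at hk
        apply mem_normalizer_of_coprime H q hcomm Q₁ hQ₁H hQQ₁ hQ₁p (x : T) x.2
        rw [Subgroup.orderOf_coe, hk]
        exact Nat.Coprime.pow_left _ ((Nat.coprime_primes hr.out hq).mpr hrq)
    intro x hx
    have : (⟨x, hx⟩ : H) ∈ (Subgroup.normalizer (Q₁ : Set T)).subgroupOf H := by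
      rw [htop]; exact Subgroup.mem_top _
    exact Subgroup.mem_subgroupOf.mp this
  have hQ₁Q : Q₁ ≤ pcOf q H := le_pcOf_of_normal q hQ₁p hQ₁H hnorm
  have heq : (pcOf q H).subgroupOf H = (P₁ : Subgroup H) := by
    apply le_antisymm hP₁
    intro x hx
    rw [Subgroup.mem_subgroupOf]
    exact hQ₁Q (Subgroup.mem_map_of_mem _ hx)
  rw [Subgroup.relIndex, heq]
  exact P₁.not_dvd_index

/-- A subgroup of `H` meeting `O_q(H)` trivially is nilpotent. -/
theorem isNilpotent_of_inf_pcOf_eq_bot [Finite T] (H : Subgroup T) (q : ℕ) [Fact q.Prime]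
    (hcomm : ∀ x ∈ H, ∀ y ∈ H, (orderOf x).Coprime (orderOf y) → ⁅x, y⁆ ∈ pcOf q H)
    (D : Subgroup T) (hDH : D ≤ H) (hD : pcOf q H ⊓ D = ⊥) : Group.IsNilpotent D := by
  apply isNilpotent_of_coprime_commute
  intro x y hxy
  have h1 := hcomm (x : T) (hDH x.2) (y : T) (hDH y.2)
    (by rwa [Subgroup.orderOf_coe, Subgroup.orderOf_coe])
  have h2 : ⁅(x : T), (y : T)⁆ ∈ D := by
    rw [commutatorElement_def]
    exact D.mul_mem (D.mul_mem (D.mul_mem x.2 y.2) (D.inv_mem x.2)) (D.inv_mem y.2)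
  have h3 : ⁅(x : T), (y : T)⁆ ∈ pcOf q H ⊓ D := ⟨h1, h2⟩
  rw [hD, Subgroup.mem_bot, commutatorElement_eq_one_iff_mul_comm] at h3
  exact Subtype.ext h3

end Cfsg.Agent.Lib.Helper47.BG152
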