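import Mathlib
import Cfsg.Prelude.Def_Transfer
import Cfsg.Agent.Lib.Helper47.BGFifteenTwoB

/-!
# Bender–Glauberman Theorem 15.2, part C: transport between `↥M` and `G`, and a nilpotency
criterion from a normal `q`-complement
-/

set_option autoImplicit false

namespace Cfsg.Agent.Lib.Helper47.BG152

open Cfsg
open scoped Pointwise commutatorElement

/-- If elements of coprime orders commute modulo a `q`-subgroup and there is a normal
`q`-complement, the group is nilpotent. -/
theorem isNilpotent_of_hasNormalPComplement {X : Type*} [Group X] [Finite X] (q : ℕ)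
    [Fact q.Prime] (Q' : Subgroup X) (hQ' : IsPGroup q Q')
    (hcomm : ∀ x y : X, (orderOf x).Coprime (orderOf y) → ⁅x, y⁆ ∈ Q')
    (hnpc : HasNormalPComplement q X) : Group.IsNilpotent X := by
  have hq : q.Prime := Fact.out
  obtain ⟨P, N, hN, hc⟩ := hnpc
  have hqN : ¬ q ∣ Nat.card N := by
    rw [← hc.index_eq_card]
    exact P.not_dvd_index
  have hcopNQ : (Nat.card N).Coprime (Nat.card Q') := by
    obtain ⟨n, hn⟩ := IsPGroup.iff_card.mp hQ'
    rw [hn]
    exact Nat.Coprime.pow_right _ ((Nat.Prime.coprime_iff_not_dvd hq).mpr hqN).symm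
  have hdisj : N ⊓ Q' = ⊥ := (Subgroup.disjoint_of_coprime_natCard hcopNQ).eq_bot
  have hmemN : ∀ x : X, (orderOf x).Coprime q → x ∈ N := by
    intro x hx
    rw [← QuotientGroup.eq_one_iff]
    have h1 : orderOf ((x : X) : X ⧸ N) ∣ orderOf x := by
      apply orderOf_dvd_of_pow_eq_one
      rw [← QuotientGroup.mk_pow, pow_orderOf_eq_one]
      rfl
    have h2 : orderOf ((x : X) : X ⧸ N) ∣ Nat.card (X ⧸ N) := orderOf_dvd_natCard _
    have h3 : Nat.card (X ⧸ N) = Nat.card (P : Subgroup X) := by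
      rw [← Subgroup.index_eq_card, hc.symm.index_eq_card]
    obtain ⟨n, hn⟩ := IsPGroup.iff_card.mp P.isPGroup'
    rw [h3, hn] at h2
    have h4 : (orderOf ((x : X) : X ⧸ N)).Coprime (q ^ n) :=
      Nat.Coprime.pow_right _ (hx.coprime_dvd_left h1)
    have h5 : orderOf ((x : X) : X ⧸ N) = 1 := Nat.Coprime.eq_one_of_dvd h4 h2
    exact orderOf_eq_one_iff.mp h5
  apply isNilpotent_of_coprime_commute
  intro x y hxy
  have h1 := hcomm x y hxy
  have h2 : ⁅x, y⁆ ∈ N := by
    rw [commutatorElement_def]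
    by_cases hx : q ∣ orderOf x
    · have hy : (orderOf y).Coprime q := by
        rw [Nat.coprime_comm, Nat.Prime.coprime_iff_not_dvd hq]
        intro hy
        have := Nat.dvd_gcd hx hy
        rw [hxy] at this
        exact hq.one_lt.ne' (Nat.dvd_one.mp this)
      have hyN := hmemN y hy
      exact N.mul_mem (hN.conj_mem y hyN x) (N.inv_mem hyN)
    · have hx' : (orderOf x).Coprime q :=
        ((Nat.Prime.coprime_iff_not_dvd hq).mpr hx).symm
      have hxN := hmemN x hx'
      have h3 : x * y * x⁻¹ * y⁻¹ = x * (y * x⁻¹ * y⁻¹) := by group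
      rw [h3]
      exact N.mul_mem hxN (hN.conj_mem x⁻¹ (N.inv_mem hxN) y)
  have h3 : ⁅x, y⁆ ∈ N ⊓ Q' := ⟨h2, h1⟩
  rw [hdisj, Subgroup.mem_bot, commutatorElement_eq_one_iff_mul_comm] at h3
  exact h3

variable {G : Type*} [Group G]

/-- Membership in the centralizer of a singleton transports along `M.subtype`. -/
theorem mem_centralizer_singleton_coe (M : Subgroup G) (t x : ↥M) :
    t ∈ Subgroup.centralizer ({x} : Set ↥M) ↔ (t : G) ∈ Subgroup.centralizer ({(x : G)} : Set G) := by
  rw [Subgroup.mem_centralizer_singleton_iff, Subgroup.mem_centralizer_singleton_iff]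
  constructor
  · intro h
    exact congrArg Subtype.val h
  · intro h
    exact Subtype.ext h

/-- Membership in the centralizer of `K.subgroupOf M` transports along `M.subtype`. -/
theorem mem_centralizer_subgroupOf_coe (M K : Subgroup G) (hKM : K ≤ M) (t : ↥M) :
    t ∈ Subgroup.centralizer ((K.subgroupOf M : Subgroup ↥M) : Set ↥M) ↔
      (t : G) ∈ Subgroup.centralizer (K : Set G) := by
  rw [Subgroup.mem_centralizer_iff, Subgroup.mem_centralizer_iff]
  constructor
  · intro h k hk
    have := h ⟨k, hKM hk⟩ (by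
      show (⟨k, hKM hk⟩ : ↥M) ∈ K.subgroupOf M
      rw [Subgroup.mem_subgroupOf]; exact hk)
    exact congrArg Subtype.val this
  · intro h k hk
    have hk' : (k : G) ∈ K := by
      have : k ∈ K.subgroupOf M := hk
      rwa [Subgroup.mem_subgroupOf] at this
    exact Subtype.ext (h (k : G) hk')

/-- The image of `H ⊓ C(K.subgroupOf M)` under `M.subtype`. -/
theorem map_inf_centralizer_subgroupOf (M K : Subgroup G) (hKM : K ≤ M) (H : Subgroup ↥M) :
    (H ⊓ Subgroup.centralizer ((K.subgroupOf M : Subgroup ↥M) : Set ↥M)).map M.subtype =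
      H.map M.subtype ⊓ Subgroup.centralizer (K : Set G) := by
  ext x
  constructor
  · rintro ⟨t, ⟨htH, htC⟩, rfl⟩
    exact ⟨⟨t, htH, rfl⟩, (mem_centralizer_subgroupOf_coe M K hKM t).mp htC⟩
  · rintro ⟨⟨t, htH, rfl⟩, hC⟩
    exact ⟨t, ⟨htH, (mem_centralizer_subgroupOf_coe M K hKM t).mpr hC⟩, rfl⟩

end Cfsg.Agent.Lib.Helper47.BG152
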