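import Mathlib
import Cfsg.Agent.S1350
import Cfsg.Agent.S1411
import Cfsg.Agent.S1414
import Cfsg.Agent.S1429
import Cfsg.Agent.S1430
import Cfsg.Agent.Lib.Helper1.SZConj
import Cfsg.Agent.Lib.Helper23.TypeP
import Cfsg.Agent.Lib.Helper23.BGFifteenA
import Cfsg.Agent.Lib.Helper54.PLocal
import Cfsg.Agent.Lib.Helper68.BG108
import Cfsg.Agent.Lib.Helper47.BGFifteenTwoC

/-!
# Bender–Glauberman Theorem 15.2, steps 1–5

`G` minimal simple of odd order, `M` maximal with standard factorisation `M = K U M_σ` and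
`M_F ≠ M_σ`.  Then `U = 1`, `M_σ = M'`, `K ≠ 1`, `M_σ` is not nilpotent, and for `q = |K*|`
(a prime by BG 14.7, here a hypothesis) `Q = O_q(M_σ)` is a normal Sylow `q`-subgroup of `M_σ`
containing `K*` and contained in `M_F`, with `q ∈ β(M)`.
-/

set_option autoImplicit false

namespace Cfsg.Agent.Lib.Helper47.BG152

open Cfsg
open scoped Pointwise commutatorElement
open Cfsg.Agent.Lib.Helper54 (pcOf pcOf_le pcOf_isPGroup)

variable {G : Type*} [Group G] [Finite G]

/-- Step 1: `M_σ` is not nilpotent. -/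
theorem not_isNilpotent_sigmaCore (hG : IsMinSimpleOddOrder G) (M : Subgroup G) (hM : IsCoatom M)
    (hne : fittingHallOf M ≠ sigmaCore M) : ¬ Group.IsNilpotent (sigmaCore M) := by
  intro hnil
  apply hne
  have hHall : IsPiHallOf (sigma M) (sigmaCore M) M := (Cfsg.Agent.S1350.result hG M hM).1
  unfold fittingHallOf sigmaCore
  rw [Cfsg.Agent.Lib.Helper23.fittingHall_eq_piCore_of_isNilpotent hG.2.1 hM hHall hnil]

/-- Step 1: every prime divisor of `|M|` outside `σ(M)` lies in `κ(M)`. -/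
theorem forall_mem_kappa (hG : IsMinSimpleOddOrder G) (M : Subgroup G) (hM : IsCoatom M)
    (hnn : ¬ Group.IsNilpotent (sigmaCore M)) :
    ∀ r : ℕ, r.Prime → r ∣ Nat.card M → r ∉ sigma M → r ∈ kappa M := by
  by_contra hP1
  obtain ⟨r, hr⟩ := not_forall.mp hP1
  obtain ⟨hrp, hr⟩ := Classical.not_imp.mp hr
  obtain ⟨hrM, hr⟩ := Classical.not_imp.mp hr
  obtain ⟨hrσ, hrκ⟩ := Classical.not_imp.mp hr
  have : Fact r.Prime := ⟨hrp⟩
  obtain ⟨S⟩ : Nonempty (Sylow r M) := inferInstance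
  exact hnn (Cfsg.Agent.S1429.result hG M hM hP1 r hrM (fun h => h.elim hrσ hrκ) S).2.2

/-- Step 1: `U = 1`. -/
theorem U_eq_bot (M K U : Subgroup G) (hKU : IsSigmaDecomposition M K U)
    (hHall : IsPiHallOf (sigma M) (sigmaCore M) M)
    (hall : ∀ r : ℕ, r.Prime → r ∣ Nat.card M → r ∉ sigma M → r ∈ kappa M) : U = ⊥ := by
  have hσM : sigmaCore M ≤ M := Subgroup.map_subtype_le _
  have hKM : K ≤ M := hKU.hall.1
  have hcardU := Cfsg.Agent.Lib.Helper23.card_of_isComplIn hKU.compl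
  by_contra hU1
  have hcU : Nat.card U ≠ 1 := fun h => hU1 (Subgroup.card_eq_one.mp h)
  obtain ⟨r, hrp, hrU⟩ := Nat.exists_prime_and_dvd hcU
  have hrM : r ∣ Nat.card M := hrU.trans (Subgroup.card_dvd_of_le hKU.compl.1)
  have hKσM : K ⊔ sigmaCore M ≤ M := sup_le hKM hσM
  have hrel : Nat.card U = (K ⊔ sigmaCore M).relIndex M := by
    have h1 := Cfsg.Agent.Lib.Helper23.card_mul_relIndex_of_le hKσM
    rw [hcardU, mul_comm (Nat.card U)] at h1
    exact (Nat.eq_of_mul_eq_mul_left Nat.card_pos h1).symm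
  rw [hrel] at hrU
  by_cases hrσ : r ∈ sigma M
  · exact hHall.2.2 r hrp hrσ (hrU.trans (Subgroup.relIndex_dvd_of_le_left M le_sup_right))
  · exact hKU.hall.2.2 r hrp (hall r hrp hrM hrσ)
      (hrU.trans (Subgroup.relIndex_dvd_of_le_left M le_sup_left))

/-- Steps 1–5 with the prime `q = |K*|` named. -/
theorem steps15_aux (hG : IsMinSimpleOddOrder G) (M : Subgroup G) (hM : IsCoatom M)
    (K U : Subgroup G) (hKU : IsSigmaDecomposition M K U)
    (hne : fittingHallOf M ≠ sigmaCore M) (q : ℕ)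
    (hqdef : Nat.card ↥(sigmaCore M ⊓ Subgroup.centralizer (K : Set G)) = q)
    (h73 : K ≠ ⊥ → U = ⊥ → q.Prime) :
    U = ⊥ ∧ sigmaCore M = ⁅M, M⁆ ∧ M = sigmaCore M ⊔ K ∧ K ≠ ⊥ ∧
    ¬ Group.IsNilpotent (sigmaCore M) ∧
    (Nat.card K).Coprime (Nat.card (sigmaCore M)) ∧
    (∀ k ∈ K, k ≠ 1 → sigmaCore M ⊓ Subgroup.centralizer ({k} : Set G) =
      sigmaCore M ⊓ Subgroup.centralizer (K : Set G)) ∧
    q.Prime ∧ q ∣ Nat.card (fittingHallOf M) ∧ q ∈ beta M ∧
    ∃ Q : Subgroup G, sigmaCore M ⊓ Subgroup.centralizer (K : Set G) ≤ Q ∧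
      Q ≤ fittingHallOf M ∧ Q ≤ sigmaCore M ∧ M ≤ Subgroup.normalizer (Q : Set G) ∧
      IsPGroup q Q ∧ ¬ q ∣ Q.relIndex (sigmaCore M) := by
  classical
  have hs : IsSimpleGroup G := hG.2.1
  have hsolvM : Group.IsSolvable M := hG.2.2.2 M hM.1
  have hHall : IsPiHallOf (sigma M) (sigmaCore M) M := (Cfsg.Agent.S1350.result hG M hM).1
  have hσM : sigmaCore M ≤ M := Subgroup.map_subtype_le _
  have hKM : K ≤ M := hKU.hall.1
  have hnn := not_isNilpotent_sigmaCore hG M hM hne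
  have hall := forall_mem_kappa hG M hM hnn
  have hU : U = ⊥ := U_eq_bot M K U hKU hHall hall
  have hMsup : M = sigmaCore M ⊔ K := by
    apply le_antisymm
    · intro m hm
      obtain ⟨u, hu, b, hb, rfl⟩ := hKU.compl.2.2.2 m hm
      rw [hU, Subgroup.mem_bot] at hu
      rw [hu, one_mul, sup_comm]
      exact hb
    · exact sup_le hσM hKM
  have hder : sigmaCore M ≤ ⁅M, M⁆ :=
    Cfsg.Agent.Lib.Helper68.sigmaCore_le_commutator
      (fun p _ P V hV => (Cfsg.Agent.S1411.result hG p P V hV).2)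
  have hMbot : M ≠ ⊥ := by
    intro h
    apply hne
    have hF : fittingHallOf M ≤ M := Subgroup.map_subtype_le _
    rw [le_bot_iff.mp (hF.trans h.le), le_bot_iff.mp (hσM.trans h.le)]
  have hK1 : K ≠ ⊥ := by
    intro hK
    have h1 : M ≤ sigmaCore M := by
      have h2 := hMsup.le
      rwa [hK, sup_bot_eq] at h2
    have hlt := Cfsg.Agent.Lib.Helper1.commutator_lt_of_isSolvable hMbot
    exact absurd (h1.trans hder) (not_le_of_gt hlt)
  obtain ⟨hsemi, -, -⟩ := Cfsg.Agent.S1430.result hG M hM K hKU.hall hK1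
  have hqp : q.Prime := h73 hK1 hU
  have : Fact q.Prime := ⟨hqp⟩
  have hcopKσ : (Nat.card K).Coprime (Nat.card (sigmaCore M)) := by
    refine Nat.coprime_of_dvd (fun r hr h1 h2 => ?_)
    exact (hKU.hall.2.1 r hr h1).2.2.1 (hHall.2.1 r hr h2)
  -- pass to `T = ↥M`
  obtain ⟨H, hHdef⟩ : ∃ H : Subgroup ↥M, H = piCore (sigma M) ↥M := ⟨_, rfl⟩
  obtain ⟨A, hAdef⟩ : ∃ A : Subgroup ↥M, A = K.subgroupOf M := ⟨_, rfl⟩
  have hHn : H.Normal := by rw [hHdef]; infer_instance
  have hHmap : H.map M.subtype = sigmaCore M := by rw [hHdef]; rfl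
  have hAmap : A.map M.subtype = K := by rw [hAdef]; exact Subgroup.map_subgroupOf_eq_of_le hKM
  have hsupT : H ⊔ A = ⊤ := by
    apply Subgroup.map_injective M.subtype_injective
    rw [Subgroup.map_sup, hHmap, hAmap, ← hMsup, ← MonoidHom.range_eq_map, Subgroup.range_subtype]
  have hcardH : Nat.card H = Nat.card (sigmaCore M) := by
    rw [← hHmap]; exact (Subgroup.card_map_of_injective M.subtype_injective).symm
  have hcardA : Nat.card A = Nat.card K := by
    rw [← hAmap]; exact (Subgroup.card_map_of_injective M.subtype_injective).symm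
  have hcopT : (Nat.card H).Coprime (Nat.card A) := by
    rw [hcardH, hcardA]; exact hcopKσ.symm
  have hoddM : Odd (Nat.card ↥M) := hG.1.of_dvd_nat (Subgroup.card_subgroup_dvd_card M)
  have hAcomm : IsMulCommutative A := by
    have hKc : K ≤ Subgroup.centralizer (K : Set G) := by
      have := hKU.cyclic
      exact Subgroup.le_centralizer_iff_isMulCommutative.mpr inferInstance
    rw [← Subgroup.le_centralizer_iff_isMulCommutative]
    intro a ha
    rw [Subgroup.mem_centralizer_iff]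
    intro b hb
    rw [hAdef, Subgroup.mem_subgroupOf] at ha
    rw [SetLike.mem_coe, hAdef, Subgroup.mem_subgroupOf] at hb
    exact Subtype.ext ((Subgroup.mem_centralizer_iff.mp (hKc ha)) (b : G) hb)
  have hmemH : ∀ t : ↥M, t ∈ H ↔ (t : G) ∈ sigmaCore M := by
    intro t
    rw [← hHmap]
    exact (Subgroup.mem_map_iff_mem M.subtype_injective (K := H) (x := t)).symm
  have hprimeT : ∀ x ∈ A, x ≠ 1 →
      H ⊓ Subgroup.centralizer ({x} : Set ↥M) = H ⊓ Subgroup.centralizer (A : Set ↥M) := by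
    intro x hxA hx1
    have hxK : (x : G) ∈ K := by rw [hAdef, Subgroup.mem_subgroupOf] at hxA; exact hxA
    have hx1' : (x : G) ≠ 1 := fun h => hx1 (Subtype.ext h)
    have h := hsemi (x : G) hxK hx1'
    ext t
    rw [Subgroup.mem_inf, Subgroup.mem_inf, mem_centralizer_singleton_coe, hAdef,
      mem_centralizer_subgroupOf_coe M K hKM, hmemH]
    have h2 := SetLike.ext_iff.mp h (t : G)
    rw [Subgroup.mem_inf, Subgroup.mem_inf] at h2
    exact h2
  have hfixmap : (H ⊓ Subgroup.centralizer (A : Set ↥M)).map M.subtype =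
      sigmaCore M ⊓ Subgroup.centralizer (K : Set G) := by
    rw [hAdef, map_inf_centralizer_subgroupOf M K hKM H, hHmap]
  have hqT : Nat.card ↥(H ⊓ Subgroup.centralizer (A : Set ↥M)) = q := by
    rw [← hqdef, ← hfixmap]
    exact (Subgroup.card_map_of_injective M.subtype_injective).symm
  have hcm : (commutator ↥M).map M.subtype = ⁅M, M⁆ := by
    rw [commutator_def, Subgroup.map_commutator, ← MonoidHom.range_eq_map, Subgroup.range_subtype]
  have hderT : H ≤ commutator ↥M := by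
    rw [← Subgroup.map_subtype_le_map_subtype, hHmap, hcm]; exact hder
  have hder2 : ⁅M, M⁆ ≤ sigmaCore M := by
    rw [← hcm, ← hHmap]
    apply Subgroup.map_mono
    exact hHn.commutator_le_of_self_sup_commutative_eq_top hsupT hAcomm
  have hnnT : ¬ Group.IsNilpotent H := by
    intro h
    apply hnn
    have := h
    have e : ↥H ≃* ↥(H.map M.subtype) := Subgroup.equivMapOfInjective H M.subtype M.subtype_injective
    rw [← hHmap]
    exact Group.nilpotent_of_mulEquiv e
  have hfix : H ⊓ Subgroup.centralizer (A : Set ↥M) ≤ pcOf q H :=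
    fix_le_pcOf hoddM H A hsupT hcopT hAcomm hprimeT q hqT hderT hnnT
  have hA1 : A ≠ ⊥ := by
    intro h
    apply hK1
    rw [← hAmap, h, Subgroup.map_bot]
  have hcommT := comm_mem_pcOf H A hA1 hcopT hprimeT q hfix
  have hsylT := not_dvd_relIndex_pcOf H q hcommT
  have hQn : (pcOf q H).Normal := Cfsg.Agent.Lib.Helper21.pcOf_normal_of_normal q H
  -- the subgroup `Q`
  have hKsQ : sigmaCore M ⊓ Subgroup.centralizer (K : Set G) ≤ (pcOf q H).map M.subtype := by
    rw [← hfixmap]; exact Subgroup.map_mono hfix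
  have hQσ : (pcOf q H).map M.subtype ≤ sigmaCore M := by
    rw [← hHmap]; exact Subgroup.map_mono (pcOf_le q H)
  have hQp : IsPGroup q ((pcOf q H).map M.subtype : Subgroup G) := (pcOf_isPGroup q H).map _
  have hQsyl : ¬ q ∣ ((pcOf q H).map M.subtype).relIndex (sigmaCore M) := by
    rw [← hHmap, Subgroup.relIndex_map_map_of_injective _ _ M.subtype_injective]
    exact hsylT
  have hqσ : q ∣ Nat.card (sigmaCore M) := by
    rw [← hqdef]; exact Subgroup.card_dvd_of_le inf_le_left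
  have hqM : q ∣ Nat.card M := hqσ.trans (Subgroup.card_dvd_of_le hσM)
  have hidx : H.index = (sigmaCore M).relIndex M := by
    rw [hHdef, Subgroup.relIndex, sigmaCore, Subgroup.subgroupOf,
      Subgroup.comap_map_eq_self_of_injective M.subtype_injective]
  have hQF : (pcOf q H).map M.subtype ≤ fittingHallOf M := by
    unfold fittingHallOf
    apply Subgroup.map_mono
    apply le_sSup
    refine ⟨hQn, (pcOf_isPGroup q H).isNilpotent, ?_⟩
    obtain ⟨n, hn⟩ := IsPGroup.iff_card.mp (pcOf_isPGroup q H)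
    rw [hn]
    apply Nat.Coprime.pow_left
    rw [Nat.Prime.coprime_iff_not_dvd hqp, ← Subgroup.relIndex_mul_index (pcOf_le q H)]
    intro hdvd
    rcases (Nat.Prime.dvd_mul hqp).mp hdvd with h | h
    · exact hsylT h
    · rw [hidx] at h
      exact hHall.2.2 q hqp (hHall.2.1 q hqp hqσ) h
  have hqF : q ∣ Nat.card (fittingHallOf M) := by
    rw [← hqdef]; exact Subgroup.card_dvd_of_le (hKsQ.trans hQF)
  have hqβ : q ∈ beta M := by
    by_contra hqβ
    have hnpc := ((Cfsg.Agent.S1414.result hG M hM).2.2.2.2 q hqp hqM hqβ).2.1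
    apply hnn
    refine isNilpotent_of_hasNormalPComplement q
      (((pcOf q H).map M.subtype).subgroupOf (sigmaCore M)) hQp.comap_subtype ?_ hnpc
    intro x y hxy
    obtain ⟨t, htH, htx⟩ : ∃ t ∈ H, M.subtype t = (x : G) :=
      (SetLike.ext_iff.mp hHmap (x : G)).mpr x.2
    obtain ⟨s, hsH, hsy⟩ : ∃ s ∈ H, M.subtype s = (y : G) :=
      (SetLike.ext_iff.mp hHmap (y : G)).mpr y.2
    have hot : orderOf t = orderOf x := by
      rw [← Subgroup.orderOf_coe t, ← Subgroup.orderOf_coe x]; exact congrArg orderOf htx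
    have hos : orderOf s = orderOf y := by
      rw [← Subgroup.orderOf_coe s, ← Subgroup.orderOf_coe y]; exact congrArg orderOf hsy
    have h1 := hcommT t htH s hsH (by rw [hot, hos]; exact hxy)
    rw [Subgroup.mem_subgroupOf]
    refine ⟨⁅t, s⁆, h1, ?_⟩
    rw [map_commutatorElement, htx, hsy]
    rfl
  refine ⟨hU, le_antisymm hder hder2, hMsup, hK1, hnn, hcopKσ, hsemi, hqp, hqF, hqβ,
    (pcOf q H).map M.subtype, hKsQ, hQF, hQσ,
    Cfsg.Agent.Lib.Helper54.le_normalizer_map_subtype M (pcOf q H), hQp, hQsyl⟩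

/-- **Bender–Glauberman Theorem 15.2, steps 1–5.** -/
theorem steps15 (hG : IsMinSimpleOddOrder G) (M : Subgroup G) (hM : IsCoatom M)
    (K U : Subgroup G) (hKU : IsSigmaDecomposition M K U)
    (hne : fittingHallOf M ≠ sigmaCore M)
    (h73 : K ≠ ⊥ → U = ⊥ →
      (Nat.card ↥(sigmaCore M ⊓ Subgroup.centralizer (K : Set G))).Prime) :
    U = ⊥ ∧ sigmaCore M = ⁅M, M⁆ ∧ M = sigmaCore M ⊔ K ∧ K ≠ ⊥ ∧
    ¬ Group.IsNilpotent (sigmaCore M) ∧
    (Nat.card K).Coprime (Nat.card (sigmaCore M)) ∧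
    (∀ k ∈ K, k ≠ 1 → sigmaCore M ⊓ Subgroup.centralizer ({k} : Set G) =
      sigmaCore M ⊓ Subgroup.centralizer (K : Set G)) ∧
    (Nat.card ↥(sigmaCore M ⊓ Subgroup.centralizer (K : Set G))).Prime ∧
    Nat.card ↥(sigmaCore M ⊓ Subgroup.centralizer (K : Set G)) ∣ Nat.card (fittingHallOf M) ∧
    Nat.card ↥(sigmaCore M ⊓ Subgroup.centralizer (K : Set G)) ∈ beta M ∧
    ∃ Q : Subgroup G, sigmaCore M ⊓ Subgroup.centralizer (K : Set G) ≤ Q ∧
      Q ≤ fittingHallOf M ∧ Q ≤ sigmaCore M ∧ M ≤ Subgroup.normalizer (Q : Set G) ∧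
      IsPGroup (Nat.card ↥(sigmaCore M ⊓ Subgroup.centralizer (K : Set G))) Q ∧
      ¬ Nat.card ↥(sigmaCore M ⊓ Subgroup.centralizer (K : Set G)) ∣ Q.relIndex (sigmaCore M) :=
  steps15_aux hG M hM K U hKU hne _ rfl h73

end Cfsg.Agent.Lib.Helper47.BG152
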