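import Mathlib
import Cfsg.Agent.Lib.Helper76.GOut.QFDefs

/-!
# Project GOUT (S3066, helper76's sheet), block QF: module [QF-K]

Schur's lemma for the commuting ring `k = Comm ρ` of an irreducible `𝔽₂`-representation on a finite
space, and (little Wedderburn) commutativity of `k`.
-/

set_option autoImplicit false
set_option linter.unusedSectionVars false

namespace Cfsg.Agent.Lib.Helper76.GOut

variable {V : Type*} [AddCommGroup V] [Module (ZMod 2) V] [Finite V]
variable {R : Type*} [Group R]

namespace H47

/-- the kernel of a commuting endomorphism is invariant -/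
theorem ker_invariant {ρ : R →* (V ≃ₗ[ZMod 2] V)} {a : Module.End (ZMod 2) V}
    (ha : a ∈ Comm ρ) (g : R) (w : V) (hw : w ∈ LinearMap.ker a) : ρ g w ∈ LinearMap.ker a := by
  rw [LinearMap.mem_ker] at hw ⊢
  rw [ha g w, hw, map_zero]

/-- a nonzero commuting endomorphism is injective (only `Irr` is used) -/
theorem comm_injective {ρ : R →* (V ≃ₗ[ZMod 2] V)} (hirr : Irr ρ) {a : Module.End (ZMod 2) V}
    (ha : a ∈ Comm ρ) (ha0 : a ≠ 0) : Function.Injective a := by
  rcases hirr (LinearMap.ker a) (fun g w hw => ker_invariant ha g w hw) with h | h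
  · exact LinearMap.ker_eq_bot.1 h
  · exact absurd (LinearMap.ker_eq_top.1 h) ha0

/-- the commuting ring as a subring -/
def commSubring (ρ : R →* (V ≃ₗ[ZMod 2] V)) : Subring (Module.End (ZMod 2) V) where
  carrier := Comm ρ
  mul_mem' := fun ha hb => mul_mem_comm ha hb
  one_mem' := one_mem_comm ρ
  add_mem' := fun ha hb => add_mem_comm ha hb
  zero_mem' := zero_mem_comm ρ
  neg_mem' := by
    intro a ha g v
    simp only [LinearMap.neg_apply, map_neg]
    rw [ha g v]

theorem mem_commSubring {ρ : R →* (V ≃ₗ[ZMod 2] V)} {a : Module.End (ZMod 2) V} :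
    a ∈ commSubring ρ ↔ a ∈ Comm ρ := Iff.rfl

theorem finite_end : Finite (Module.End (ZMod 2) V) :=
  Finite.of_injective (fun f : Module.End (ZMod 2) V => (f : V → V)) DFunLike.coe_injective

end H47

/-- Schur: a nonzero commuting endomorphism is bijective. -/
theorem comm_bijective {ρ : R →* (V ≃ₗ[ZMod 2] V)} (h : Hyp ρ) {a : Module.End (ZMod 2) V}
    (ha : a ∈ Comm ρ) (ha0 : a ≠ 0) : Function.Bijective a :=
  Finite.injective_iff_bijective.1 (H47.comm_injective h.irr ha ha0)

/-- Schur + Wedderburn: the commuting ring is commutative. -/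
theorem comm_mul_comm {ρ : R →* (V ≃ₗ[ZMod 2] V)} (h : Hyp ρ) {a b : Module.End (ZMod 2) V}
    (ha : a ∈ Comm ρ) (hb : b ∈ Comm ρ) : a * b = b * a := by
  have hfinE : Finite (Module.End (ZMod 2) V) := H47.finite_end
  have hfin : Finite (H47.commSubring ρ) := Subtype.finite
  have hnt : Nontrivial V := by
    have : 1 < Nat.card V := by have := h.card; omega
    exact (Finite.one_lt_card_iff_nontrivial).1 this
  have hnt' : Nontrivial (H47.commSubring ρ) := by
    refine ⟨⟨0, 1, ?_⟩⟩
    intro h01
    have h1 : (0 : Module.End (ZMod 2) V) = 1 := congrArg Subtype.val h01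
    obtain ⟨v, hv⟩ := exists_ne (0 : V)
    apply hv
    have := congrArg (fun f : Module.End (ZMod 2) V => f v) h1
    simpa using this.symm
  have hnzd : NoZeroDivisors (H47.commSubring ρ) := by
    refine ⟨?_⟩
    intro x y hxy
    by_cases hx : x = 0
    · exact Or.inl hx
    · right
      have hx' : (x : Module.End (ZMod 2) V) ≠ 0 := fun hh => hx (Subtype.ext hh)
      have hinj := H47.comm_injective h.irr x.2 hx'
      apply Subtype.ext
      apply LinearMap.ext
      intro v
      have h1 : ((x * y : H47.commSubring ρ) : Module.End (ZMod 2) V) v = 0 := by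
        rw [hxy]; simp
      have h2 : (x : Module.End (ZMod 2) V) ((y : Module.End (ZMod 2) V) v) = 0 := by
        simpa using h1
      have h3 : (x : Module.End (ZMod 2) V) ((y : Module.End (ZMod 2) V) v)
          = (x : Module.End (ZMod 2) V) 0 := by rw [h2, map_zero]
      simpa using hinj h3
  have hdom : IsDomain (H47.commSubring ρ) := NoZeroDivisors.to_isDomain _
  have hfield := Finite.isDomain_to_isField (H47.commSubring ρ)
  have := hfield.mul_comm ⟨a, ha⟩ ⟨b, hb⟩
  exact congrArg Subtype.val this

end Cfsg.Agent.Lib.Helper76.GOut
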