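import Mathlib
import Cfsg.Agent.Lib.Helper76.GOut.QFDefs
import Cfsg.Agent.Lib.Helper47.GOutQFK

/-!
# Project GOUT (S3066, helper76's sheet), block QF: module [QF-T]

For a nonzero invariant quadratic form `q₀`, every invariant form `q` has `β_q = β_{q₀}(a ·, ·)` with
`a` in the commuting ring; hence there are at most `|k|` invariant forms.  (The two facts of [QF-RAD]
are proved here as well, under the names `H47.eq_zero_of_polar_eq_zero'`, `H47.polar_nondeg'`.)
-/

set_option autoImplicit false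
set_option linter.unusedSectionVars false

namespace Cfsg.Agent.Lib.Helper76.GOut

variable {V : Type*} [AddCommGroup V] [Module (ZMod 2) V] [Finite V]
variable {R : Type*} [Group R]

namespace H47

/-- `v ↦ β_q(u, v)` as a linear functional -/
def polarR (q : V → ZMod 2) (hq : IsQuad q) (u : V) : Module.Dual (ZMod 2) V :=
  (AddMonoidHom.mk' (polar q u) (fun v v' => hq.polar_add_right u v v')).toZModLinearMap 2

omit [Finite V] in
@[simp] theorem polarR_apply (q : V → ZMod 2) (hq : IsQuad q) (u v : V) :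
    polarR q hq u v = polar q u v := rfl

/-- `u ↦ β_q(u, ·)` as a linear map into the dual -/
def polarL (q : V → ZMod 2) (hq : IsQuad q) : V →ₗ[ZMod 2] Module.Dual (ZMod 2) V :=
  (AddMonoidHom.mk' (polarR q hq) (fun u u' => by
    apply LinearMap.ext
    intro v
    simp only [polarR_apply, LinearMap.add_apply]
    exact hq u u' v)).toZModLinearMap 2

omit [Finite V] in
@[simp] theorem polarL_apply (q : V → ZMod 2) (hq : IsQuad q) (u v : V) :
    polarL q hq u v = polar q u v := rfl

omit [Finite V] in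
/-- `β_q (g u, v) = β_q (u, g⁻¹ v)` -/
theorem polar_map_left {ρ : R →* (V ≃ₗ[ZMod 2] V)} {q : V → ZMod 2} (hq : IsInv ρ q) (g : R)
    (u v : V) : polar q (ρ g u) v = polar q u (ρ g⁻¹ v) := by
  have h := hq.polar_map g u (ρ g⁻¹ v)
  have e : ρ g (ρ g⁻¹ v) = v := by
    rw [← LinearEquiv.mul_apply, ← map_mul, mul_inv_cancel, map_one]
    rfl
  rw [e] at h
  exact h

/-- own copy of [QF-RAD] (1): an invariant quadratic form with zero polar form is zero -/
theorem eq_zero_of_polar_eq_zero' {ρ : R →* (V ≃ₗ[ZMod 2] V)} (h : Hyp ρ) {q : V → ZMod 2}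
    (hq : IsInv ρ q) (h0 : ∀ u v : V, polar q u v = 0) : ∀ v : V, q v = 0 := by
  have hadd : ∀ u v : V, q (u + v) = q u + q v := by
    intro u v
    rw [hq.1.map_add, h0, add_zero]
  let f : V →ₗ[ZMod 2] ZMod 2 := (AddMonoidHom.mk' q hadd).toZModLinearMap 2
  have hf : ∀ v, f v = q v := fun _ => rfl
  rcases h.irr (LinearMap.ker f) (by
    intro g w hw
    rw [LinearMap.mem_ker] at hw ⊢
    rw [hf, hq.2, ← hf, hw]) with hb | ht
  · exfalso
    have hinj : Function.Injective f := LinearMap.ker_eq_bot.1 hb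
    have hle := Nat.card_le_card_of_injective f hinj
    have h2 : Nat.card (ZMod 2) = 2 := by simp
    have := h.card
    omega
  · intro v
    have : v ∈ LinearMap.ker f := by rw [ht]; trivial
    rw [LinearMap.mem_ker] at this
    rw [← hf]; exact this

/-- own copy of [QF-RAD] (2): the polar form of a nonzero invariant quadratic form is
nondegenerate -/
theorem polar_nondeg' {ρ : R →* (V ≃ₗ[ZMod 2] V)} (h : Hyp ρ) {q : V → ZMod 2}
    (hq : IsInv ρ q) (hq0 : ∃ v : V, q v ≠ 0) (u : V) (hu : u ≠ 0) : ∃ v : V, polar q u v ≠ 0 := by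
  by_contra hcon
  push Not at hcon
  have hmem : u ∈ LinearMap.ker (polarL q hq.1) := by
    rw [LinearMap.mem_ker]
    apply LinearMap.ext
    intro v
    simpa using hcon v
  rcases h.irr (LinearMap.ker (polarL q hq.1)) (by
    intro g w hw
    rw [LinearMap.mem_ker] at hw ⊢
    apply LinearMap.ext
    intro v
    have := congrArg (fun φ : Module.Dual (ZMod 2) V => φ (ρ g⁻¹ v)) hw
    simp only [polarL_apply, LinearMap.zero_apply] at this ⊢
    rw [polar_map_left hq, this]) with hb | ht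
  · rw [hb, Submodule.mem_bot] at hmem
    exact hu hmem
  · obtain ⟨v, hv⟩ := hq0
    apply hv
    apply eq_zero_of_polar_eq_zero' h hq
    intro a b
    have : a ∈ LinearMap.ker (polarL q hq.1) := by rw [ht]; trivial
    rw [LinearMap.mem_ker] at this
    have := congrArg (fun φ : Module.Dual (ZMod 2) V => φ b) this
    simpa using this

/-- for a nonzero invariant form, `u ↦ β(u, ·)` is a linear equivalence onto the dual -/
theorem polarL_bijective {ρ : R →* (V ≃ₗ[ZMod 2] V)} (h : Hyp ρ) {q₀ : V → ZMod 2}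
    (hq₀ : IsInv ρ q₀) (hq₀0 : ∃ v : V, q₀ v ≠ 0) : Function.Bijective (polarL q₀ hq₀.1) := by
  have hinj : Function.Injective (polarL q₀ hq₀.1) := by
    rw [← LinearMap.ker_eq_bot, eq_bot_iff]
    intro u hu
    rw [Submodule.mem_bot]
    by_contra hu0
    obtain ⟨v, hv⟩ := polar_nondeg' h hq₀ hq₀0 u hu0
    apply hv
    rw [LinearMap.mem_ker] at hu
    have := congrArg (fun φ : Module.Dual (ZMod 2) V => φ v) hu
    simpa using this
  have hfd : FiniteDimensional (ZMod 2) V := Module.Finite.of_finite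
  have H : Module.finrank (ZMod 2) V = Module.finrank (ZMod 2) (Module.Dual (ZMod 2) V) :=
    Subspace.dual_finrank_eq.symm
  exact ⟨hinj, (LinearMap.injective_iff_surjective_of_finrank_eq_finrank H).1 hinj⟩

/-- the endomorphism `a` with `β_q = β_{q₀}(a ·, ·)` -/
noncomputable def commOf {ρ : R →* (V ≃ₗ[ZMod 2] V)} (h : Hyp ρ) {q₀ : V → ZMod 2}
    (hq₀ : IsInv ρ q₀) (hq₀0 : ∃ v : V, q₀ v ≠ 0) (q : V → ZMod 2) (hq : IsQuad q) :
    Module.End (ZMod 2) V :=
  ((LinearEquiv.ofBijective (polarL q₀ hq₀.1) (polarL_bijective h hq₀ hq₀0)).symm :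
    Module.Dual (ZMod 2) V →ₗ[ZMod 2] V) ∘ₗ polarL q hq

theorem polar_commOf {ρ : R →* (V ≃ₗ[ZMod 2] V)} (h : Hyp ρ) {q₀ : V → ZMod 2}
    (hq₀ : IsInv ρ q₀) (hq₀0 : ∃ v : V, q₀ v ≠ 0) (q : V → ZMod 2) (hq : IsQuad q) (u v : V) :
    polar q₀ (commOf h hq₀ hq₀0 q hq u) v = polar q u v := by
  have h1 : polarL q₀ hq₀.1 (commOf h hq₀ hq₀0 q hq u) = polarL q hq u := by
    unfold commOf
    rw [LinearMap.comp_apply]
    exact (LinearEquiv.ofBijective (polarL q₀ hq₀.1) (polarL_bijective h hq₀ hq₀0)).apply_symm_apply _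
  have := congrArg (fun φ : Module.Dual (ZMod 2) V => φ v) h1
  simpa using this

end H47

/-- For a nonzero invariant form `q₀`, every invariant form `q` has `β_q = β_{q₀}(a ·, ·)` for an
`a` in the commuting ring. -/
theorem exists_comm_polar {ρ : R →* (V ≃ₗ[ZMod 2] V)} (h : Hyp ρ) {q₀ q : V → ZMod 2}
    (hq₀ : IsInv ρ q₀) (hq₀0 : ∃ v : V, q₀ v ≠ 0) (hq : IsInv ρ q) :
    ∃ a ∈ Comm ρ, ∀ u v : V, polar q u v = polar q₀ (a u) v := by
  refine ⟨H47.commOf h hq₀ hq₀0 q hq.1, ?_, fun u v => (H47.polar_commOf h hq₀ hq₀0 q hq.1 u v).symm⟩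
  intro g u
  -- injectivity of `polarL q₀`
  apply (H47.polarL_bijective h hq₀ hq₀0).1
  apply LinearMap.ext
  intro v
  simp only [H47.polarL_apply]
  rw [H47.polar_commOf, H47.polar_map_left hq₀, H47.polar_commOf, H47.polar_map_left hq]

/-- Hence there are at most `|k|` invariant quadratic forms. -/
theorem card_inv_le {ρ : R →* (V ≃ₗ[ZMod 2] V)} (h : Hyp ρ) :
    Nat.card {q : V → ZMod 2 // IsInv ρ q} ≤ Nat.card (Comm ρ) := by
  have hfinE : Finite (Module.End (ZMod 2) V) := H47.finite_end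
  have hfinC : Finite (Comm ρ) := Subtype.finite
  by_cases hex : ∃ q₀ : V → ZMod 2, IsInv ρ q₀ ∧ ∃ v : V, q₀ v ≠ 0
  · obtain ⟨q₀, hq₀, hq₀0⟩ := hex
    let F : {q : V → ZMod 2 // IsInv ρ q} → Comm ρ := fun q =>
      ⟨H47.commOf h hq₀ hq₀0 q.1 q.2.1, by
        intro g u
        apply (H47.polarL_bijective h hq₀ hq₀0).1
        apply LinearMap.ext
        intro v
        simp only [H47.polarL_apply]
        rw [H47.polar_commOf, H47.polar_map_left hq₀, H47.polar_commOf, H47.polar_map_left q.2]⟩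
    apply Nat.card_le_card_of_injective F
    intro q q' hqq
    have hval : H47.commOf h hq₀ hq₀0 q.1 q.2.1 = H47.commOf h hq₀ hq₀0 q'.1 q'.2.1 :=
      congrArg Subtype.val hqq
    have hpol : ∀ u v : V, polar q.1 u v = polar q'.1 u v := by
      intro u v
      rw [← H47.polar_commOf h hq₀ hq₀0 q.1 q.2.1, hval, H47.polar_commOf]
    have hsum := H47.eq_zero_of_polar_eq_zero' h (q.2.add q'.2) (by
      intro u v
      have e : polar (fun v => q.1 v + q'.1 v) u v = polar q.1 u v + polar q'.1 u v := by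
        unfold polar; ring
      rw [e, hpol, zmod2_add_self])
    apply Subtype.ext
    funext v
    have := hsum v
    have h2 : ∀ x y : ZMod 2, x + y = 0 → x = y := by decide
    exact h2 _ _ this
  · push Not at hex
    have hsub : Subsingleton {q : V → ZMod 2 // IsInv ρ q} := by
      refine ⟨fun q q' => ?_⟩
      apply Subtype.ext
      funext v
      rw [hex q.1 q.2 v, hex q'.1 q'.2 v]
    have h1 : Nat.card {q : V → ZMod 2 // IsInv ρ q} ≤ 1 := Finite.card_le_one_iff_subsingleton.2 hsub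
    have h2 : 0 < Nat.card (Comm ρ) := by
      have : Nonempty (Comm ρ) := ⟨⟨0, zero_mem_comm ρ⟩⟩
      exact Nat.card_pos
    omega

end Cfsg.Agent.Lib.Helper76.GOut
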