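import Mathlib
import Cfsg.Agent.Lib.Helper76.GOut.QFDefs
import Cfsg.Agent.Lib.Helper98.GOutQFInv
import Cfsg.Agent.Lib.Helper47.GOutQFK
import Cfsg.Agent.Lib.Helper47.GOutQFT

/-!
# Project GOUT (S3066, helper76's sheet), block QF: module [QF-SURJ] (hedge, names primed in `H47`)
and module [QF-TW]

With an involution acting nontrivially, `|k| = |[V,g]| = |L|`; hence every `a ∈ k` comes from an
invariant form, every `a ∈ k` is self-adjoint for every invariant form, and `[V,g]` is a `k`-line.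
Then [QF-TW]: twisting an invariant form by `a ∈ k`, and the key identity.
-/

set_option autoImplicit false
set_option linter.unusedSectionVars false

namespace Cfsg.Agent.Lib.Helper76.GOut

variable {V : Type*} [AddCommGroup V] [Module (ZMod 2) V] [Finite V]
variable {R : Type*} [Group R]

namespace H47

/-- `a_q ∈ k` -/
theorem commOf_mem {ρ : R →* (V ≃ₗ[ZMod 2] V)} (h : Hyp ρ) {q₀ : V → ZMod 2}
    (hq₀ : IsInv ρ q₀) (hq₀0 : ∃ v : V, q₀ v ≠ 0) {q : V → ZMod 2} (hq : IsInv ρ q) :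
    commOf h hq₀ hq₀0 q hq.1 ∈ Comm ρ := by
  intro g u
  apply (polarL_bijective h hq₀ hq₀0).1
  apply LinearMap.ext
  intro v
  simp only [polarL_apply]
  rw [polar_commOf, polar_map_left hq₀, polar_commOf, polar_map_left hq]

/-- `q ↦ a_q` is injective on invariant forms -/
theorem commOf_injective {ρ : R →* (V ≃ₗ[ZMod 2] V)} (h : Hyp ρ) {q₀ : V → ZMod 2}
    (hq₀ : IsInv ρ q₀) (hq₀0 : ∃ v : V, q₀ v ≠ 0) {q q' : V → ZMod 2} (hq : IsInv ρ q)
    (hq' : IsInv ρ q') (he : commOf h hq₀ hq₀0 q hq.1 = commOf h hq₀ hq₀0 q' hq'.1) : q = q' := by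
  have hpol : ∀ u v : V, polar q u v = polar q' u v := by
    intro u v
    rw [← polar_commOf h hq₀ hq₀0 q hq.1, he, polar_commOf]
  have hsum := eq_zero_of_polar_eq_zero' h (hq.add hq') (by
    intro u v
    have e : polar (fun v => q v + q' v) u v = polar q u v + polar q' u v := by
      unfold polar; ring
    rw [e, hpol, zmod2_add_self])
  funext v
  have := hsum v
  have h2 : ∀ x y : ZMod 2, x + y = 0 → x = y := by decide
  exact h2 _ _ this

/-- with an involution acting nontrivially: `|L| = |k| = |[V,g]|` -/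
theorem card_eq_of_involution {ρ : R →* (V ≃ₗ[ZMod 2] V)} (h : Hyp ρ) (g : R) (hg : g * g = 1)
    (hg1 : ρ g ≠ 1) :
    Nat.card {q : V → ZMod 2 // IsInv ρ q} = Nat.card (Comm ρ) ∧
      Nat.card (Comm ρ) = Nat.card (commRange ρ g) := by
  have h1 := card_comm_le_card_commRange h g hg1
  have h2 := card_commRange_le_card_inv h g hg
  have h3 := card_inv_le h
  constructor <;> omega

/-- [QF-SURJ] (1), hedge copy: every `a ∈ k` comes from an invariant form -/
theorem exists_inv_of_comm' {ρ : R →* (V ≃ₗ[ZMod 2] V)} (h : Hyp ρ)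
    (hinv : ∃ g : R, g * g = 1 ∧ ρ g ≠ 1) {q₀ : V → ZMod 2}
    (hq₀ : IsInv ρ q₀) (hq₀0 : ∃ v : V, q₀ v ≠ 0) {a : Module.End (ZMod 2) V} (ha : a ∈ Comm ρ) :
    ∃ q : V → ZMod 2, IsInv ρ q ∧ ∀ u v : V, polar q u v = polar q₀ (a u) v := by
  obtain ⟨g, hg, hg1⟩ := hinv
  have hfinE : Finite (Module.End (ZMod 2) V) := finite_end
  have hfinC : Finite (Comm ρ) := Subtype.finite
  let F : {q : V → ZMod 2 // IsInv ρ q} → Comm ρ := fun q =>
    ⟨commOf h hq₀ hq₀0 q.1 q.2.1, commOf_mem h hq₀ hq₀0 q.2⟩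
  have hF : Function.Injective F := by
    intro q q' hqq
    apply Subtype.ext
    exact commOf_injective h hq₀ hq₀0 q.2 q'.2 (congrArg Subtype.val hqq)
  have hcard := (card_eq_of_involution h g hg hg1).1
  have hbij : Function.Bijective F :=
    (Nat.bijective_iff_injective_and_card F).2 ⟨hF, hcard⟩
  obtain ⟨q, hq⟩ := hbij.2 ⟨a, ha⟩
  refine ⟨q.1, q.2, fun u v => ?_⟩
  have : commOf h hq₀ hq₀0 q.1 q.2.1 = a := congrArg Subtype.val hq
  rw [← this, polar_commOf]

/-- [QF-SURJ] (2), hedge copy: every `a ∈ k` is self-adjoint for every invariant form -/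
theorem polar_comm_apply' {ρ : R →* (V ≃ₗ[ZMod 2] V)} (h : Hyp ρ)
    (hinv : ∃ g : R, g * g = 1 ∧ ρ g ≠ 1) {q : V → ZMod 2}
    (hq : IsInv ρ q) {a : Module.End (ZMod 2) V} (ha : a ∈ Comm ρ) (u v : V) :
    polar q (a u) v = polar q u (a v) := by
  by_cases hq0 : ∃ v : V, q v ≠ 0
  · obtain ⟨q', hq', hpol⟩ := exists_inv_of_comm' h hinv hq hq0 ha
    rw [← hpol u v, polar_comm q' u v, hpol v u, polar_comm]
  · push Not at hq0
    unfold polar
    rw [hq0, hq0, hq0, hq0, hq0, hq0]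

/-- [QF-SURJ] (3), hedge copy: `[V, g]` is a `k`-line -/
theorem commRange_eq_comm_smul' {ρ : R →* (V ≃ₗ[ZMod 2] V)} (h : Hyp ρ)
    (g : R) (hg : g * g = 1) (hg1 : ρ g ≠ 1) (v : V) (hv : v ∈ commRange ρ g) (hv0 : v ≠ 0)
    (w : V) (hw : w ∈ commRange ρ g) : ∃ a ∈ Comm ρ, w = a v := by
  have hfinE : Finite (Module.End (ZMod 2) V) := finite_end
  have hfinC : Finite (Comm ρ) := Subtype.finite
  let F : Comm ρ → commRange ρ g := fun a => ⟨a.1 v, comm_apply_mem_commRange_h98 a.2 g v hv⟩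
  have hF : Function.Injective F := by
    intro a b hab
    apply Subtype.ext
    exact comm_apply_injective_h98 h.irr hv0 a.2 b.2 (congrArg Subtype.val hab)
  have hcard := (card_eq_of_involution h g hg hg1).2
  have hbij : Function.Bijective F :=
    (Nat.bijective_iff_injective_and_card F).2 ⟨hF, hcard⟩
  obtain ⟨a, ha⟩ := hbij.2 ⟨w, hw⟩
  exact ⟨a.1, a.2, (congrArg Subtype.val ha).symm⟩

end H47

/-! ## GOUT-[QF-TW] -/

theorem isInv_comp_comm {ρ : R →* (V ≃ₗ[ZMod 2] V)} (h : Hyp ρ)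
    (hinv : ∃ g : R, g * g = 1 ∧ ρ g ≠ 1) {q : V → ZMod 2}
    (hq : IsInv ρ q) {a : Module.End (ZMod 2) V} (ha : a ∈ Comm ρ) :
    IsInv ρ (fun v => q (a v)) ∧
      ∀ u v : V, polar (fun v => q (a v)) u v = polar q u ((a * a) v) := by
  have hpol : ∀ u v : V, polar (fun v => q (a v)) u v = polar q (a u) (a v) := by
    intro u v
    unfold polar
    simp only [map_add]
  refine ⟨⟨?_, ?_⟩, ?_⟩
  · intro u u' v
    rw [hpol, hpol, hpol, map_add]
    exact hq.1 (a u) (a u') (a v)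
  · intro g v
    show q (a (ρ g v)) = q (a v)
    rw [ha g v, hq.2]
  · intro u v
    rw [hpol, H47.polar_comm_apply' h hinv hq ha u (a v)]
    rfl

/-- The key identity: for an involution `g`, `w = u + g u` and `a ∈ k`: `q (a w) = β_q (u, a² w)`. -/
theorem map_comm_apply_commRange {ρ : R →* (V ≃ₗ[ZMod 2] V)} (h : Hyp ρ) {q : V → ZMod 2}
    (hq : IsInv ρ q) {a : Module.End (ZMod 2) V} (ha : a ∈ Comm ρ) (g : R) (hg : g * g = 1)
    (hg1 : ρ g ≠ 1) (u : V) :
    q (a (u + ρ g u)) = polar q u ((a * a) (u + ρ g u)) := by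
  obtain ⟨hq', hpol⟩ := isInv_comp_comm h ⟨g, hg, hg1⟩ hq ha
  have h1 := hq'.map_add_apply g u
  have h2 : ρ g u = u + (u + ρ g u) := by
    rw [← add_assoc, add_self', zero_add]
  have h3 : polar (fun v => q (a v)) u (ρ g u) = polar (fun v => q (a v)) u (u + ρ g u) := by
    conv_lhs => rw [h2]
    rw [hq'.1.polar_add_right, hq'.1.polar_self, zero_add]
  rw [h1, h3, hpol]

end Cfsg.Agent.Lib.Helper76.GOut
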