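/-
helper47: project REEM (helper20, S2113), module REEM-[FPF]: the Singer element.
`S ≤ G` of order 8, self-centralizing, with `|N_G(S)| = 168`: there is an element `x` of order 7 normalizing `S`
and acting fixed-point-freely on it.
-/
import Mathlib

set_option autoImplicit false

namespace Cfsg.Agent.Lib.Helper47.ReeMFpf

theorem exists_singer {G : Type*} [Group G] [Finite G] (S : Subgroup G) (hS8 : Nat.card S = 8)
    (hC : Subgroup.centralizer (S : Set G) = S) (hN : Nat.card (Subgroup.normalizer (S : Set G)) = 168) :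
    ∃ x : G, x ^ 7 = 1 ∧ (∀ e ∈ S, x * e * x⁻¹ ∈ S) ∧ (∀ e ∈ S, x * e * x⁻¹ = e → e = 1) := by
  classical
  have : Fact (Nat.Prime 7) := ⟨by norm_num⟩
  -- Cauchy in the normalizer
  have h7 : 7 ∣ Nat.card (Subgroup.normalizer (S : Set G)) := by rw [hN]; norm_num
  obtain ⟨x₀, hx₀⟩ := exists_prime_orderOf_dvd_card' 7 h7
  set x : G := (x₀ : G) with hx
  have hox : orderOf x = 7 := by rw [hx, Subgroup.orderOf_coe]; exact hx₀
  have hx7 : x ^ 7 = 1 := by rw [← hox]; exact pow_orderOf_eq_one x
  have hnorm : ∀ e : G, e ∈ S ↔ x * e * x⁻¹ ∈ S := fun e => Subgroup.mem_normalizer_iff.1 x₀.2 e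
  -- the conjugation action of the normalizer on `S`
  let act : MulAction (Subgroup.normalizer (S : Set G)) S :=
    { smul := fun n s => ⟨(n : G) * s * (n : G)⁻¹, (Subgroup.mem_normalizer_iff.1 n.2 s).1 s.2⟩
      one_smul := by intro s; apply Subtype.ext; simp
      mul_smul := by
        intro a b s; apply Subtype.ext
        show ((a * b : Subgroup.normalizer (S : Set G)) : G) * s * ((a * b : Subgroup.normalizer (S : Set G)) : G)⁻¹
          = (a : G) * ((b : G) * s * (b : G)⁻¹) * (a : G)⁻¹
        rw [Subgroup.coe_mul, mul_inv_rev]; simp only [mul_assoc] }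
  have hsmul : ∀ (n : Subgroup.normalizer (S : Set G)) (s : S), ((n • s : S) : G) = (n : G) * s * (n : G)⁻¹ :=
    fun _ _ => rfl
  let Z : Subgroup (Subgroup.normalizer (S : Set G)) := Subgroup.zpowers x₀
  have hZ : IsPGroup 7 Z := by
    apply IsPGroup.of_card (n := 1)
    rw [pow_one, Nat.card_zpowers, hx₀]
  have hmod := hZ.card_modEq_card_fixedPoints (α := S)
  -- the fixed points form the subgroup `F` of `S`
  let F : Subgroup S := (Subgroup.centralizer ({x} : Set G)).subgroupOf S
  have hmemF : ∀ s : S, s ∈ F ↔ x * s = s * x := by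
    intro s
    show (s : G) ∈ Subgroup.centralizer ({x} : Set G) ↔ _
    rw [Subgroup.mem_centralizer_iff]
    constructor
    · intro h; exact h x rfl
    · intro h y hy; rw [Set.mem_singleton_iff.1 hy]; exact h
  have hfix : (MulAction.fixedPoints Z S : Set S) = (F : Set S) := by
    ext s
    rw [MulAction.mem_fixedPoints, SetLike.mem_coe, hmemF]
    constructor
    · intro h
      have h1 := h ⟨x₀, Subgroup.mem_zpowers x₀⟩
      have h2 : x * (s : G) * x⁻¹ = s := congrArg Subtype.val h1
      calc x * (s : G) = x * s * x⁻¹ * x := by group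
        _ = s * x := by rw [h2]
    · intro h z
      obtain ⟨k, hk⟩ := Subgroup.mem_zpowers_iff.1 z.2
      apply Subtype.ext
      have hz : ((z : Subgroup.normalizer (S : Set G)) : G) = x ^ k := by
        rw [← hk, Subgroup.coe_zpow]
      show ((z : Subgroup.normalizer (S : Set G)) : G) * s * ((z : Subgroup.normalizer (S : Set G)) : G)⁻¹ = s
      rw [hz]
      have hc : Commute (x ^ k) (s : G) := Commute.zpow_left h k
      rw [hc.eq, mul_assoc, mul_inv_cancel, mul_one]
  have hcardfix : Nat.card (MulAction.fixedPoints Z S) = Nat.card F := by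
    show Nat.card (MulAction.fixedPoints Z S : Set S) = Nat.card (F : Set S)
    rw [hfix]
  rw [hcardfix, hS8] at hmod
  have hdvd : Nat.card F ∣ 8 := by
    have := Subgroup.card_subgroup_dvd_card F
    rwa [hS8] at this
  have hle : Nat.card F ≤ 8 := Nat.le_of_dvd (by norm_num) hdvd
  have hcases : Nat.card F = 1 ∨ Nat.card F = 8 := by
    unfold Nat.ModEq at hmod
    revert hmod hdvd hle
    generalize Nat.card F = m
    intro hmod hdvd hle
    interval_cases m <;> omega
  refine ⟨x, hx7, fun e he => (hnorm e).1 he, ?_⟩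
  rcases hcases with h1 | h8
  · have hbot : F = ⊥ := Subgroup.card_eq_one.1 h1
    intro e he hfe
    have hm : (⟨e, he⟩ : S) ∈ F := by
      rw [hmemF]
      show x * e = e * x
      calc x * e = x * e * x⁻¹ * x := by group
        _ = e * x := by rw [hfe]
    rw [hbot, Subgroup.mem_bot] at hm
    exact congrArg Subtype.val hm
  · exfalso
    have htop : F = ⊤ := Subgroup.eq_top_of_card_eq F (by rw [h8, hS8])
    have hxc : x ∈ Subgroup.centralizer (S : Set G) := by
      rw [Subgroup.mem_centralizer_iff]
      intro s hs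
      have hm : (⟨s, hs⟩ : S) ∈ F := by rw [htop]; exact Subgroup.mem_top _
      exact ((hmemF ⟨s, hs⟩).1 hm).symm
    rw [hC] at hxc
    have hd : orderOf x ∣ Nat.card S := Subgroup.orderOf_dvd_natCard S hxc
    rw [hox, hS8] at hd
    norm_num at hd

end Cfsg.Agent.Lib.Helper47.ReeMFpf
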