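/-
helper47: project ASCHSP (helper23, S5662), module ASCHSP-[C7]:
slot form data with alternating factors (|F| odd, k odd) gives a class 7 member.
-/
import Mathlib
import Cfsg.Prelude.Def_GeometricClasses
import Cfsg.Agent.Lib.Helper99.AschDefs
import Cfsg.Agent.Lib.Helper99.AschUtil4
import Cfsg.Agent.Lib.Helper23.AschSpDefs
import Cfsg.Agent.Lib.Helper25.AschSpFormKit
import Cfsg.Agent.Lib.Helper37.AltIso
import Cfsg.Agent.Lib.Helper47.AschSlotNorm
import Cfsg.Agent.Lib.Helper47.AschSpKFormC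

set_option autoImplicit false

namespace Cfsg.Agent.Lib.Helper47.AschSpC7

open Cfsg Cfsg.Geo Cfsg.Agent.Lib.Helper99.Asch Cfsg.Agent.Lib.Helper47.AschSlotNorm
open Cfsg.Agent.Lib.Helper23.AschSp Cfsg.Agent.Lib.Helper25.AschSp
open scoped MatrixGroups Matrix Kronecker

variable {k d : ℕ} {F : Type*} [Field F]

theorem pureT_transpose (gs : Fin k → Matrix (Fin d) (Fin d) F) :
    (pureT gs)ᵀ = pureT (fun i => (gs i)ᵀ) := by
  ext x y
  simp [pureT, Matrix.transpose_apply]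

/-- two invertible alternating matrices are congruent -/
theorem exists_congr_of_alt (J J' : Matrix (Fin d) (Fin d) F) (hJ : IsAltMat J) (hJ' : IsAltMat J')
    (hdet : J.det ≠ 0) (hdet' : J'.det ≠ 0) :
    ∃ g : GL (Fin d) F, (g : Matrix (Fin d) (Fin d) F)ᵀ * J * (g : Matrix (Fin d) (Fin d) F) = J' := by
  classical
  have halt : ∀ (K : Matrix (Fin d) (Fin d) F), IsAltMat K → (Matrix.toBilin' K).IsAlt := by
    intro K hK x
    rw [Matrix.toBilin'_apply', ← formOfGram_id_eq]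
    exact formOfGram_self_of_isAltMat K hK x
  have hnd : ∀ (K : Matrix (Fin d) (Fin d) F), K.det ≠ 0 →
      ∀ u, (∀ v, Matrix.toBilin' K u v = 0) → u = 0 := by
    intro K hK u hu
    have h1 : u ᵥ* K = 0 := by
      funext b
      have := hu (Pi.single b 1)
      rw [Matrix.toBilin'_apply', Matrix.dotProduct_mulVec] at this
      simpa using this
    exact Matrix.eq_zero_of_vecMul_eq_zero hK h1
  obtain ⟨c, hc⟩ := Cfsg.Agent.Lib.Helper37.AltIso.exists_isometry_of_alt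
    (Matrix.toBilin' J) (Matrix.toBilin' J') (halt J hJ) (halt J' hJ') (hnd J hdet) (hnd J' hdet')
  set g : Matrix (Fin d) (Fin d) F := LinearMap.toMatrix' c.toLinearMap with hg
  have hgv : ∀ x : Fin d → F, g *ᵥ x = c x := by
    intro x
    rw [hg, LinearMap.toMatrix'_mulVec]
    rfl
  have hcong : gᵀ * J * g = J' := by
    ext a b
    have h1 := hc (Pi.single a 1) (Pi.single b 1)
    rw [Matrix.toBilin'_apply', Matrix.toBilin'_apply', ← hgv, ← hgv] at h1
    have h2 : (gᵀ * J * g) a b = (g *ᵥ Pi.single a 1) ⬝ᵥ (J *ᵥ (g *ᵥ Pi.single b 1)) := by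
      rw [Matrix.mulVec_mulVec, Matrix.dotProduct_mulVec, Matrix.vecMul_mulVec]
      simp [Matrix.mul_assoc]
    rw [h2, h1]
    simp
  have hgdet : g.det ≠ 0 := by
    intro h0
    apply hdet'
    rw [← hcong, Matrix.det_mul, Matrix.det_mul, h0, mul_zero]
  exact ⟨Matrix.GeneralLinearGroup.mkOfDetNeZero g hgdet, hcong⟩

end Cfsg.Agent.Lib.Helper47.AschSpC7

namespace Cfsg.Agent.Lib.Helper47.AschSpC7

open Cfsg Cfsg.Geo Cfsg.Agent.Lib.Helper99.Asch Cfsg.Agent.Lib.Helper47.AschSlotNorm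
open Cfsg.Agent.Lib.Helper23.AschSp Cfsg.Agent.Lib.Helper25.AschSp
open scoped MatrixGroups Matrix Kronecker

variable {k d : ℕ} {F : Type*} [Field F]

theorem dot_congr {ι : Type} [Fintype ι] (T Γ : Matrix ι ι F) (x y : ι → F) :
    (T *ᵥ x) ⬝ᵥ (Γ *ᵥ (T *ᵥ y)) = x ⬝ᵥ ((Tᵀ * Γ * T) *ᵥ y) := by
  rw [Matrix.mul_assoc, ← Matrix.mulVec_mulVec, ← Matrix.mulVec_mulVec,
    Matrix.dotProduct_mulVec x Tᵀ, Matrix.vecMul_transpose]

theorem tGL_val (as : Fin k → GL (Fin d) F) :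
    ((tGL as : GL (Fin k → Fin d) F) : Matrix (Fin k → Fin d) (Fin k → Fin d) F) =
      pureT (fun i => ((as i : GL (Fin d) F) : Matrix (Fin d) (Fin d) F)) := rfl

theorem tGL_mem (as : Fin k → GL (Fin d) F) : tGL as ∈ tensorWreathStandard d k F :=
  Subgroup.subset_closure (Or.inl ⟨as, fun _ _ => rfl⟩)

end Cfsg.Agent.Lib.Helper47.AschSpC7

namespace Cfsg.Agent.Lib.Helper23.AschSp

open Cfsg Cfsg.Geo Cfsg.Agent.Lib.Helper99.Asch Cfsg.Agent.Lib.Helper47.AschSlotNorm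
open Cfsg.Agent.Lib.Helper25.AschSp Cfsg.Agent.Lib.Helper47.AschSpC7
open scoped MatrixGroups Matrix Kronecker

variable {n m : ℕ} {F : Type*} [Field F] [Fintype F] {f : (Fin n → F) → (Fin n → F) → F}

/-- ASCHSP-[C7] -/
theorem sgeo_of_slotFormData_odd (hodd : Odd (Fintype.card F)) (H : Subgroup (GL (Fin n) F)) (hH : H ≤ isoGL f) {k : ℕ}
    (Q : Fin k → Subgroup (GL (Fin n) F)) (d : ℕ) (idx : Fin n ≃ (Fin k → Fin d)) (B : GL (Fin n) F)
    (G : Fin k → Matrix (Fin d) (Fin d) F) (hD : SlotFormData f Q d idx B G) (halt : ∀ i, IsAltMat (G i))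
    (hk : 3 ≤ k) (hkodd : Odd k) (hex : ¬ (Fintype.card F = 3 ∧ d = 2))
    (hwr : ∀ h ∈ H, ∃ g ∈ tensorWreathStandard d k F, glReindex idx.symm g = B * h * B⁻¹) : SGeo m f H := by
  classical
  set i0 : Fin k := ⟨0, by omega⟩ with hi0
  choose gs hgs using fun i =>
    exists_congr_of_alt (G i) (G i0) (halt i) (halt i0) (hD.det i) (hD.det i0)
  set T : GL (Fin k → Fin d) F := tGL gs with hT
  have hTmem : T ∈ tensorWreathStandard d k F := tGL_mem gs
  set P' : GL (Fin n) F := B⁻¹ * glReindex idx.symm T with hP'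
  have hstruct : IsTensorPowerFormStructure id f (formOfGram id (G i0)) idx P' := by
    refine ⟨1, one_ne_zero, fun x y => ?_⟩
    have hP'v : ∀ z : (Fin k → Fin d) → F, (P' : Matrix (Fin n) (Fin n) F) *ᵥ (z ∘ idx) =
        ((B⁻¹ : GL (Fin n) F) : Matrix (Fin n) (Fin n) F) *ᵥ
          (((T : Matrix (Fin k → Fin d) (Fin k → Fin d) F) *ᵥ z) ∘ idx) := by
      intro z
      rw [hP', Units.val_mul, ← Matrix.mulVec_mulVec, Cfsg.Agent.Lib.Helper99.AschUtil.coe_glReindex,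
        Cfsg.Agent.Lib.Helper47.AschSpKForm.reindex_mulVec_comp]
    rw [hP'v, hP'v, hD.gram, gramMatrix_formOfGram, one_mul]
    have h1 : ∀ (Γ : Matrix (Fin k → Fin d) (Fin k → Fin d) F) (u v : (Fin k → Fin d) → F),
        ∑ a, ∑ b, u a * Γ a b * v b = u ⬝ᵥ (Γ *ᵥ v) := by
      intro Γ u v
      rw [← formOfGram_id_eq]
      rfl
    have h2 := h1 (pureT G) ((T : Matrix (Fin k → Fin d) (Fin k → Fin d) F) *ᵥ x)
      ((T : Matrix (Fin k → Fin d) (Fin k → Fin d) F) *ᵥ y)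
    have h3 := h1 (pureT (fun _ => G i0)) x y
    have h4 : (T : Matrix (Fin k → Fin d) (Fin k → Fin d) F)ᵀ * pureT G *
        (T : Matrix (Fin k → Fin d) (Fin k → Fin d) F) = pureT (fun _ => G i0) := by
      rw [hT, tGL_val, pureT_transpose, pureT_mul, pureT_mul]
      congr 1
      funext i
      exact hgs i
    calc ∑ a, ∑ b, ((T : Matrix (Fin k → Fin d) (Fin k → Fin d) F) *ᵥ x) a *
          (∏ i, G i (a i) (b i)) * ((T : Matrix (Fin k → Fin d) (Fin k → Fin d) F) *ᵥ y) b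
        = ((T : Matrix (Fin k → Fin d) (Fin k → Fin d) F) *ᵥ x) ⬝ᵥ
            (pureT G *ᵥ ((T : Matrix (Fin k → Fin d) (Fin k → Fin d) F) *ᵥ y)) := h2
      _ = x ⬝ᵥ (pureT (fun _ => G i0) *ᵥ y) := by rw [dot_congr, h4]
      _ = ∑ a, ∑ b, x a * (∏ i, G i0 (a i) (b i)) * id (y b) := h3.symm
  refine SGeo.of_c7 (M := tensorWreathSubgroup d k idx P' ⊓ isoGL f)
    ⟨d, k, idx, P', formOfGram id (G i0), hodd, hkodd, hk, hex,
      isSymplecticForm_formOfGram _ (halt i0) (hD.det i0), hstruct, rfl⟩ ?_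
  intro h hh
  refine Subgroup.mem_inf.mpr ⟨?_, hH hh⟩
  obtain ⟨g, hg, hgeq⟩ := hwr h hh
  unfold tensorWreathSubgroup
  rw [Subgroup.mem_map]
  refine ⟨glReindex idx.symm (T⁻¹ * g * T), Subgroup.mem_map.mpr ⟨T⁻¹ * g * T, ?_, rfl⟩, ?_⟩
  · exact Subgroup.mul_mem _ (Subgroup.mul_mem _ (Subgroup.inv_mem _ hTmem) hg) hTmem
  · show P' * glReindex idx.symm (T⁻¹ * g * T) * P'⁻¹ = h
    rw [map_mul, map_mul, map_inv, hgeq, hP']
    group

end Cfsg.Agent.Lib.Helper23.AschSp
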