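/-
helper47: project ASCHSP (helper23, S5662), module ASCHSP-[KFORM], part A:
invariant bilinear forms of a spanning set of matrices (uniqueness up to scalars, invertibility).
-/
import Mathlib

set_option autoImplicit false

namespace Cfsg.Agent.Lib.Helper47.AschSpKForm

open scoped Matrix

variable {d : ℕ} {F : Type*} [Field F]

/-- a property of matrices which is closed under linear combinations and holds on a spanning set
holds everywhere -/
theorem forall_of_span_eq_top {S : Set (Matrix (Fin d) (Fin d) F)} (hS : Submodule.span F S = ⊤)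
    (p : Submodule F (Matrix (Fin d) (Fin d) F)) (hp : ∀ a ∈ S, a ∈ p)
    (a : Matrix (Fin d) (Fin d) F) : a ∈ p := by
  have h1 : Submodule.span F S ≤ p := Submodule.span_le.mpr hp
  rw [hS] at h1
  exact h1 Submodule.mem_top

/-- an invariant nonzero form of a spanning set of invertible matrices is invertible -/
theorem det_ne_zero_of_invariant {S : Set (Matrix (Fin d) (Fin d) F)}
    (hS : Submodule.span F S = ⊤) (hdet : ∀ a ∈ S, a.det ≠ 0)
    {N : Matrix (Fin d) (Fin d) F} (hN : ∀ a ∈ S, aᵀ * N * a = N) (hN0 : N ≠ 0) : N.det ≠ 0 := by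
  classical
  intro h0
  obtain ⟨v, hv0, hv⟩ := Matrix.exists_mulVec_eq_zero_iff.mpr h0
  -- the kernel of `N` is invariant under every matrix
  let p : Submodule F (Matrix (Fin d) (Fin d) F) :=
    { carrier := {a | ∀ w, N *ᵥ w = 0 → N *ᵥ (a *ᵥ w) = 0}
      add_mem' := by
        intro a b ha hb w hw
        rw [Matrix.add_mulVec, Matrix.mulVec_add, ha w hw, hb w hw, add_zero]
      zero_mem' := by
        intro w _
        rw [Matrix.zero_mulVec, Matrix.mulVec_zero]
      smul_mem' := by
        intro c a ha w hw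
        rw [Matrix.smul_mulVec, Matrix.mulVec_smul, ha w hw, smul_zero] }
  have hp : ∀ a ∈ S, a ∈ p := by
    intro a ha w hw
    have h1 : aᵀ *ᵥ (N *ᵥ (a *ᵥ w)) = 0 := by
      rw [Matrix.mulVec_mulVec, Matrix.mulVec_mulVec, hN a ha, hw]
    have h2 : (aᵀ).det ≠ 0 := by rw [Matrix.det_transpose]; exact hdet a ha
    by_contra hne
    exact hne ((Matrix.eq_zero_of_mulVec_eq_zero h2) h1)
  have hall := forall_of_span_eq_top hS p hp
  -- so `N` kills everything
  apply hN0
  obtain ⟨j, hj⟩ : ∃ j, v j ≠ 0 := by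
    by_contra hcon
    push Not at hcon
    exact hv0 (funext hcon)
  have hker : ∀ w : Fin d → F, N *ᵥ w = 0 := by
    intro w
    let a : Matrix (Fin d) (Fin d) F := Matrix.of fun p q => w p * (if q = j then (v j)⁻¹ else 0)
    have ha : a *ᵥ v = w := by
      funext p
      simp only [Matrix.mulVec, dotProduct, a, Matrix.of_apply]
      rw [Finset.sum_eq_single j]
      · rw [if_pos rfl, mul_assoc, inv_mul_cancel₀ hj, mul_one]
      · intro q _ hq
        rw [if_neg hq, mul_zero, zero_mul]
      · intro h; exact absurd (Finset.mem_univ j) h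
    have := hall a v hv
    rwa [ha] at this
  ext p q
  have := congrFun (hker (Pi.single q 1)) p
  simpa using this

/-- invariant forms of a spanning set of invertible matrices are unique up to scalars -/
theorem exists_smul_of_invariant {S : Set (Matrix (Fin d) (Fin d) F)}
    (hS : Submodule.span F S = ⊤) (hdet : ∀ a ∈ S, a.det ≠ 0)
    {N : Matrix (Fin d) (Fin d) F} (hN : ∀ a ∈ S, aᵀ * N * a = N) (hN0 : N ≠ 0)
    {M : Matrix (Fin d) (Fin d) F} (hM : ∀ a ∈ S, aᵀ * M * a = M) : ∃ c : F, M = c • N := by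
  classical
  have hNdet : N.det ≠ 0 := det_ne_zero_of_invariant hS hdet hN hN0
  have hNu : IsUnit N.det := isUnit_iff_ne_zero.mpr hNdet
  set C : Matrix (Fin d) (Fin d) F := N⁻¹ * M with hC
  have hNC : N * C = M := by
    rw [hC, ← Matrix.mul_assoc, Matrix.mul_nonsing_inv N hNu, Matrix.one_mul]
  let p : Submodule F (Matrix (Fin d) (Fin d) F) :=
    { carrier := {a | a * C = C * a}
      add_mem' := by
        intro a b ha hb
        show (a + b) * C = C * (a + b)
        rw [Matrix.add_mul, Matrix.mul_add, ha, hb]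
      zero_mem' := by
        show (0 : Matrix (Fin d) (Fin d) F) * C = C * 0
        rw [Matrix.zero_mul, Matrix.mul_zero]
      smul_mem' := by
        intro c a ha
        show (c • a) * C = C * (c • a)
        rw [Matrix.smul_mul, Matrix.mul_smul, ha] }
  have hp : ∀ a ∈ S, a ∈ p := by
    intro a ha
    show a * C = C * a
    have h1 : (aᵀ * N) * (a * C) = M := by
      rw [← Matrix.mul_assoc, hN a ha, hNC]
    have h2 : (aᵀ * N) * (C * a) = M := by
      rw [Matrix.mul_assoc, ← Matrix.mul_assoc N, hNC, ← Matrix.mul_assoc, hM a ha]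
    have hu : IsUnit (aᵀ * N).det := by
      rw [Matrix.det_mul, Matrix.det_transpose]
      exact isUnit_iff_ne_zero.mpr (mul_ne_zero (hdet a ha) hNdet)
    have h3 : (aᵀ * N)⁻¹ * ((aᵀ * N) * (a * C)) = (aᵀ * N)⁻¹ * ((aᵀ * N) * (C * a)) := by
      rw [h1, h2]
    have h4 : ∀ X : Matrix (Fin d) (Fin d) F, (aᵀ * N)⁻¹ * ((aᵀ * N) * X) = X := by
      intro X
      rw [← Matrix.mul_assoc, Matrix.nonsing_inv_mul _ hu, Matrix.one_mul]
    rwa [h4, h4] at h3
  have hall := forall_of_span_eq_top hS p hp
  have hsc := Matrix.mem_range_scalar_of_commute_single (M := C) (fun x z _ => hall _)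
  obtain ⟨l, hl⟩ := hsc
  refine ⟨l, ?_⟩
  rw [← hNC, ← hl]
  ext x y
  simp [Matrix.scalar_apply, Matrix.mul_apply, Matrix.diagonal_apply, mul_comm]

end Cfsg.Agent.Lib.Helper47.AschSpKForm
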