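/-
helper47: project ASCHSP (helper23, S5662), module ASCHSP-[KFORM], part C:
the form in slot coordinates, its invariance, spanning of the slot matrices, the walk.
-/
import Mathlib
import Cfsg.Prelude.Def_GeometricClasses
import Cfsg.Agent.Lib.Helper99.AschDefs
import Cfsg.Agent.Lib.Helper23.AschSpDefs
import Cfsg.Agent.Lib.Helper37.Asch.FormKit
import Cfsg.Agent.Lib.Helper47.AschSlotNorm
import Cfsg.Agent.Lib.Helper47.AschSpKFormA
import Cfsg.Agent.Lib.Helper47.AschSpKFormB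

set_option autoImplicit false

namespace Cfsg.Agent.Lib.Helper47.AschSpKForm

open Cfsg Cfsg.Geo Cfsg.Agent.Lib.Helper99.Asch Cfsg.Agent.Lib.Helper47.AschSlotNorm
open Cfsg.Agent.Lib.Helper37.Asch
open scoped MatrixGroups Matrix Kronecker

variable {n k d : ℕ} {F : Type*} [Field F]

/-- the form in slot coordinates -/
def phi (f : (Fin n → F) → (Fin n → F) → F) (idx : Fin n ≃ (Fin k → Fin d)) (B : GL (Fin n) F)
    (x y : (Fin k → Fin d) → F) : F :=
  f (((B⁻¹ : GL (Fin n) F) : Matrix (Fin n) (Fin n) F) *ᵥ (x ∘ idx))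
    (((B⁻¹ : GL (Fin n) F) : Matrix (Fin n) (Fin n) F) *ᵥ (y ∘ idx))

theorem phi_bilinear {f : (Fin n → F) → (Fin n → F) → F} (hf : IsBilinearForm f)
    (idx : Fin n ≃ (Fin k → Fin d)) (B : GL (Fin n) F) : IsBilinearForm (phi f idx B) := by
  refine ⟨?_, ?_, ?_, ?_⟩
  · intro x y v
    show f (_ *ᵥ ((x + y) ∘ idx)) _ = _
    rw [show (x + y) ∘ idx = x ∘ idx + y ∘ idx from rfl, Matrix.mulVec_add, hf.add_left]
    rfl
  · intro c x v
    show f (_ *ᵥ ((c • x) ∘ idx)) _ = _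
    rw [show (c • x) ∘ idx = c • (x ∘ idx) from rfl, Matrix.mulVec_smul, hf.smul_left]
    rfl
  · intro v x y
    show f _ (_ *ᵥ ((x + y) ∘ idx)) = _
    rw [show (x + y) ∘ idx = x ∘ idx + y ∘ idx from rfl, Matrix.mulVec_add, hf.add_right]
    rfl
  · intro c v x
    show f _ (_ *ᵥ ((c • x) ∘ idx)) = _
    rw [show (c • x) ∘ idx = c • (x ∘ idx) from rfl, Matrix.mulVec_smul, hf.smul_right]
    rfl

/-- the Gram matrix in slot coordinates -/
def gm (f : (Fin n → F) → (Fin n → F) → F) (idx : Fin n ≃ (Fin k → Fin d)) (B : GL (Fin n) F) :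
    Matrix (Fin k → Fin d) (Fin k → Fin d) F := gram (phi f idx B)

theorem phi_eq_sum {f : (Fin n → F) → (Fin n → F) → F} (hf : IsBilinearForm f)
    (idx : Fin n ≃ (Fin k → Fin d)) (B : GL (Fin n) F) (x y : (Fin k → Fin d) → F) :
    phi f idx B x y = ∑ a, ∑ b, x a * gm f idx B a b * y b := by
  have h := (isSesq_of_bilinear (phi_bilinear hf idx B)).eq_gram x y
  rw [h]
  simp only [dotProduct, Matrix.mulVec, RingEquiv.refl_apply, gm]
  refine Finset.sum_congr rfl fun a _ => ?_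
  rw [Finset.mul_sum]
  refine Finset.sum_congr rfl fun b _ => ?_
  ring

/-- transport of a slot matrix -/
theorem reindex_mulVec_comp (idx : Fin n ≃ (Fin k → Fin d))
    (S : Matrix (Fin k → Fin d) (Fin k → Fin d) F) (ξ : (Fin k → Fin d) → F) :
    Matrix.reindex idx.symm idx.symm S *ᵥ (ξ ∘ idx) = (S *ᵥ ξ) ∘ idx := by
  have h := Matrix.submatrix_mulVec_equiv S (ξ ∘ idx) idx idx
  rw [Matrix.reindex_apply]
  simp only [Equiv.symm_symm]
  rw [h]
  congr 2
  funext a
  simp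

/-- an isometry acting as a slot matrix preserves the form in slot coordinates -/
theorem phi_slot_invariant {f : (Fin n → F) → (Fin n → F) → F}
    (idx : Fin n ≃ (Fin k → Fin d)) (B x : GL (Fin n) F) (hx : x ∈ Cfsg.Agent.Lib.Helper23.AschSp.isoGL f)
    (S : Matrix (Fin k → Fin d) (Fin k → Fin d) F)
    (hS : ((B * x * B⁻¹ : GL (Fin n) F) : Matrix (Fin n) (Fin n) F) =
      Matrix.reindex idx.symm idx.symm S) (ξ η : (Fin k → Fin d) → F) :
    phi f idx B (S *ᵥ ξ) (S *ᵥ η) = phi f idx B ξ η := by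
  have hkey : ∀ ζ : (Fin k → Fin d) → F,
      ((B⁻¹ : GL (Fin n) F) : Matrix (Fin n) (Fin n) F) *ᵥ ((S *ᵥ ζ) ∘ idx) =
      (x : Matrix (Fin n) (Fin n) F) *ᵥ
        (((B⁻¹ : GL (Fin n) F) : Matrix (Fin n) (Fin n) F) *ᵥ (ζ ∘ idx)) := by
    intro ζ
    rw [← reindex_mulVec_comp, ← hS, Matrix.mulVec_mulVec, Matrix.mulVec_mulVec]
    congr 1
    rw [← Units.val_mul, ← Units.val_mul]
    congr 1
    group
  unfold phi
  rw [hkey, hkey]
  exact (Cfsg.Agent.Lib.Helper23.AschSp.mem_isoGL.mp hx) _ _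

theorem gm_slot_invariant {f : (Fin n → F) → (Fin n → F) → F} (hf : IsBilinearForm f)
    (idx : Fin n ≃ (Fin k → Fin d)) (B x : GL (Fin n) F) (hx : x ∈ Cfsg.Agent.Lib.Helper23.AschSp.isoGL f)
    (S : Matrix (Fin k → Fin d) (Fin k → Fin d) F)
    (hS : ((B * x * B⁻¹ : GL (Fin n) F) : Matrix (Fin n) (Fin n) F) =
      Matrix.reindex idx.symm idx.symm S) :
    Sᵀ * gm f idx B * S = gm f idx B := by
  have h := (isSesq_of_bilinear (phi_bilinear hf idx B)).gram_of_fixes
    (A := S) (phi_slot_invariant idx B x hx S hS)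
  have hmap : S.map (RingEquiv.refl F) = S := by
    ext a b
    simp
  rw [hmap] at h
  exact h

/-- the set of slot-`i` matrices of `Q i` -/
def aset (Qi : Subgroup (GL (Fin n) F)) (i : Fin k) (idx : Fin n ≃ (Fin k → Fin d))
    (B : GL (Fin n) F) : Set (Matrix (Fin d) (Fin d) F) :=
  {a | a.det ≠ 0 ∧ ∃ x ∈ Qi, ((B * x * B⁻¹ : GL (Fin n) F) : Matrix (Fin n) (Fin n) F) =
      Matrix.reindex idx.symm idx.symm (slotMatrix i a)}

theorem aset_span (Qi : Subgroup (GL (Fin n) F)) (i : Fin k) (idx : Fin n ≃ (Fin k → Fin d))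
    (B : GL (Fin n) F)
    (hslot : ∀ x ∈ Qi, ∃ a : GL (Fin d) F,
        ((B * x * B⁻¹ : GL (Fin n) F) : Matrix (Fin n) (Fin n) F) =
          Matrix.reindex idx.symm idx.symm (slotMatrix i (a : Matrix (Fin d) (Fin d) F)))
    (hspan : ∀ (a : Matrix (Fin d) (Fin d) F),
        ((B⁻¹ : GL (Fin n) F) : Matrix (Fin n) (Fin n) F) *
          Matrix.reindex idx.symm idx.symm (slotMatrix i a) * (B : Matrix (Fin n) (Fin n) F) ∈
          Submodule.span F (matrixSet Qi)) :
    Submodule.span F (aset Qi i idx B) = ⊤ := by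
  rw [eq_top_iff]
  intro a _
  have key : ∀ X ∈ Submodule.span F (matrixSet Qi), ∃ a' ∈ Submodule.span F (aset Qi i idx B),
      (B : Matrix (Fin n) (Fin n) F) * X * ((B⁻¹ : GL (Fin n) F) : Matrix (Fin n) (Fin n) F) =
        Matrix.reindex idx.symm idx.symm (slotMatrix i a') := by
    intro X hX
    induction hX using Submodule.span_induction with
    | mem X hX =>
      obtain ⟨x, hxQ, rfl⟩ := hX
      obtain ⟨a', ha'⟩ := hslot x hxQ
      refine ⟨(a' : Matrix (Fin d) (Fin d) F), Submodule.subset_span ⟨?_, x, hxQ, ha'⟩, ?_⟩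
      · have := (Matrix.isUnit_iff_isUnit_det _).mp a'.isUnit
        exact this.ne_zero
      · rw [← ha']
        simp [Units.val_mul]
    | zero =>
      refine ⟨0, Submodule.zero_mem _, ?_⟩
      rw [slot_zero]
      simp
    | add X Y _ _ hX hY =>
      obtain ⟨a1, ha1, h1⟩ := hX
      obtain ⟨a2, ha2, h2⟩ := hY
      refine ⟨a1 + a2, Submodule.add_mem _ ha1 ha2, ?_⟩
      rw [slot_add, Matrix.mul_add, Matrix.add_mul, h1, h2]
      rfl
    | smul c X _ hX =>
      obtain ⟨a1, ha1, h1⟩ := hX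
      refine ⟨c • a1, Submodule.smul_mem _ c ha1, ?_⟩
      rw [slot_smul, Matrix.mul_smul, Matrix.smul_mul, h1]
      rfl
  obtain ⟨a', ha', h⟩ := key _ (hspan a)
  have h2 : (B : Matrix (Fin n) (Fin n) F) *
      (((B⁻¹ : GL (Fin n) F) : Matrix (Fin n) (Fin n) F) *
          Matrix.reindex idx.symm idx.symm (slotMatrix i a) * (B : Matrix (Fin n) (Fin n) F)) *
      ((B⁻¹ : GL (Fin n) F) : Matrix (Fin n) (Fin n) F) =
      Matrix.reindex idx.symm idx.symm (slotMatrix i a) := by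
    simp only [Matrix.mul_assoc]
    rw [Units.mul_inv, Matrix.mul_one, ← Matrix.mul_assoc, Units.mul_inv, Matrix.one_mul]
  rw [h2] at h
  have h3 := (Matrix.reindex idx.symm idx.symm).injective h
  have h4 := slot_injective i h3
  rw [h4]
  exact ha'

end Cfsg.Agent.Lib.Helper47.AschSpKForm
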