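/-
helper47: project ASCHSP (helper23, S5662), module ASCHSP-[KFORM]:
a symplectic form invariant under slot groups spanning the slot algebras has Gram matrix `⊗ G i`.
-/
import Mathlib
import Cfsg.Prelude.Def_GeometricClasses
import Cfsg.Agent.Lib.Helper99.AschDefs
import Cfsg.Agent.Lib.Helper23.AschSpDefs
import Cfsg.Agent.Lib.Helper47.AschSpKFormC

set_option autoImplicit false

namespace Cfsg.Agent.Lib.Helper47.AschSpKForm

open Cfsg Cfsg.Geo Cfsg.Agent.Lib.Helper99.Asch Cfsg.Agent.Lib.Helper47.AschSlotNorm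
open Cfsg.Agent.Lib.Helper37.Asch Cfsg.Agent.Lib.Helper23.AschSp
open scoped MatrixGroups Matrix Kronecker

variable {n k d : ℕ} {F : Type*} [Field F]

/-- mixing two multi-indices along a set of slots -/
def mix (T : Finset (Fin k)) (y y0 : Fin k → Fin d) : Fin k → Fin d :=
  fun j => if j ∈ T then y j else y0 j

theorem walk (Gm : Matrix (Fin k → Fin d) (Fin k → Fin d) F) (y0 z0 : Fin k → Fin d)
    (N : Fin k → Matrix (Fin d) (Fin d) F)
    (hstar : ∀ i (y z : Fin k → Fin d), Gm y z * Gm y0 z0 =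
      Gm (Function.update y i (y0 i)) (Function.update z i (z0 i)) * N i (y i) (z i))
    (y z : Fin k → Fin d) (T : Finset (Fin k)) :
    Gm (mix T y y0) (mix T z z0) * Gm y0 z0 ^ T.card = Gm y0 z0 * ∏ j ∈ T, N j (y j) (z j) := by
  classical
  induction T using Finset.induction_on with
  | empty =>
    have h1 : mix ∅ y y0 = y0 := by funext j; simp [mix]
    have h2 : mix ∅ z z0 = z0 := by funext j; simp [mix]
    rw [h1, h2]
    simp
  | insert i T hi ih =>
    have hu : ∀ (w w0 : Fin k → Fin d),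
        Function.update (mix (insert i T) w w0) i (w0 i) = mix T w w0 := by
      intro w w0
      funext j
      by_cases hj : j = i
      · subst hj
        simp [mix, hi]
      · rw [Function.update_of_ne hj]
        simp [mix, hj]
    have hi' : ∀ (w w0 : Fin k → Fin d), mix (insert i T) w w0 i = w i := by
      intro w w0
      simp [mix]
    have h := hstar i (mix (insert i T) y y0) (mix (insert i T) z z0)
    rw [hu, hu, hi', hi'] at h
    rw [Finset.card_insert_of_notMem hi, Finset.prod_insert hi, pow_succ]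
    calc Gm (mix (insert i T) y y0) (mix (insert i T) z z0) * (Gm y0 z0 ^ T.card * Gm y0 z0)
        = (Gm (mix (insert i T) y y0) (mix (insert i T) z z0) * Gm y0 z0) * Gm y0 z0 ^ T.card := by
          ring
      _ = (Gm (mix T y y0) (mix T z z0) * Gm y0 z0 ^ T.card) * N i (y i) (z i) := by
          rw [h]; ring
      _ = Gm y0 z0 * (N i (y i) (z i) * ∏ j ∈ T, N j (y j) (z j)) := by
          rw [ih]; ring

theorem walk_univ (Gm : Matrix (Fin k → Fin d) (Fin k → Fin d) F) (y0 z0 : Fin k → Fin d)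
    (N : Fin k → Matrix (Fin d) (Fin d) F)
    (hstar : ∀ i (y z : Fin k → Fin d), Gm y z * Gm y0 z0 =
      Gm (Function.update y i (y0 i)) (Function.update z i (z0 i)) * N i (y i) (z i))
    (y z : Fin k → Fin d) :
    Gm y z * Gm y0 z0 ^ k = Gm y0 z0 * ∏ j, N j (y j) (z j) := by
  have h := walk Gm y0 z0 N hstar y z Finset.univ
  have h1 : mix Finset.univ y y0 = y := by funext j; simp [mix]
  have h2 : mix Finset.univ z z0 = z := by funext j; simp [mix]
  rw [h1, h2, Finset.card_univ, Fintype.card_fin] at h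
  exact h

/-- the normalised factors -/
noncomputable def gfac (g0 : F) (i0 : Fin k) (N : Fin k → Matrix (Fin d) (Fin d) F) (j : Fin k) :
    Matrix (Fin d) (Fin d) F :=
  (if j = i0 then (1 : F) else g0⁻¹) • N j

theorem prod_gfac (Gm : Matrix (Fin k → Fin d) (Fin k → Fin d) F) (y0 z0 : Fin k → Fin d)
    (hg0 : Gm y0 z0 ≠ 0) (i0 : Fin k) (N : Fin k → Matrix (Fin d) (Fin d) F)
    (hstar : ∀ i (y z : Fin k → Fin d), Gm y z * Gm y0 z0 =
      Gm (Function.update y i (y0 i)) (Function.update z i (z0 i)) * N i (y i) (z i))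
    (y z : Fin k → Fin d) :
    ∏ j, gfac (Gm y0 z0) i0 N j (y j) (z j) = Gm y z := by
  classical
  set g0 := Gm y0 z0 with hg
  have h1 : ∏ j, gfac g0 i0 N j (y j) (z j) =
      (∏ j : Fin k, (if j = i0 then (1 : F) else g0⁻¹)) * ∏ j, N j (y j) (z j) := by
    rw [← Finset.prod_mul_distrib]
    refine Finset.prod_congr rfl fun j _ => ?_
    simp [gfac]
  have h2 : (∏ j : Fin k, (if j = i0 then (1 : F) else g0⁻¹)) * g0 ^ k = g0 := by
    have h3 : ∏ j : Fin k, ((if j = i0 then (1 : F) else g0⁻¹) * g0) =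
        ∏ j : Fin k, (if j = i0 then g0 else 1) := by
      refine Finset.prod_congr rfl fun j _ => ?_
      by_cases hj : j = i0
      · simp [hj]
      · simp [hj, inv_mul_cancel₀ hg0]
    rw [Finset.prod_mul_distrib, Finset.prod_const, Finset.card_univ, Fintype.card_fin] at h3
    rw [h3, Finset.prod_ite_eq' Finset.univ i0]
    simp
  have h4 := walk_univ Gm y0 z0 N hstar y z
  have hpow : g0 ^ k ≠ 0 := pow_ne_zero _ hg0
  apply mul_right_cancel₀ hpow
  rw [h1, h4]
  calc (∏ j : Fin k, (if j = i0 then (1 : F) else g0⁻¹)) * (∏ j, N j (y j) (z j)) * g0 ^ k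
      = ((∏ j : Fin k, (if j = i0 then (1 : F) else g0⁻¹)) * g0 ^ k) * ∏ j, N j (y j) (z j) := by
        ring
    _ = g0 * ∏ j, N j (y j) (z j) := by rw [h2]

end Cfsg.Agent.Lib.Helper47.AschSpKForm

namespace Cfsg.Agent.Lib.Helper47.AschSpKForm

open Cfsg Cfsg.Geo Cfsg.Agent.Lib.Helper99.Asch Cfsg.Agent.Lib.Helper47.AschSlotNorm
open Cfsg.Agent.Lib.Helper37.Asch Cfsg.Agent.Lib.Helper23.AschSp
open scoped MatrixGroups Matrix Kronecker

variable {n k d : ℕ} {F : Type*} [Field F]

/-- the Gram matrix in slot coordinates is nonzero -/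
theorem exists_gm_ne_zero {f : (Fin n → F) → (Fin n → F) → F} (hf : IsSymplecticForm f)
    (idx : Fin n ≃ (Fin k → Fin d)) (B : GL (Fin n) F) (y : Fin k → Fin d) :
    ∃ y0 z0, gm f idx B y0 z0 ≠ 0 := by
  classical
  by_contra hcon
  push Not at hcon
  set v : Fin n → F := ((B⁻¹ : GL (Fin n) F) : Matrix (Fin n) (Fin n) F) *ᵥ
    ((Pi.single y 1 : (Fin k → Fin d) → F) ∘ idx) with hv
  have hv0 : v ≠ 0 := by
    intro h0
    have h1 : (B : Matrix (Fin n) (Fin n) F) *ᵥ v = (Pi.single y 1 : (Fin k → Fin d) → F) ∘ idx := by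
      rw [hv, Matrix.mulVec_mulVec, Units.mul_inv, Matrix.one_mulVec]
    rw [h0, Matrix.mulVec_zero] at h1
    have := congrFun h1 (idx.symm y)
    simp at this
  obtain ⟨⟨x, hx⟩, _⟩ := hf.nondegenerate v hv0
  apply hx
  set ξ : (Fin k → Fin d) → F := ((B : Matrix (Fin n) (Fin n) F) *ᵥ x) ∘ idx.symm with hξ
  have hx' : x = ((B⁻¹ : GL (Fin n) F) : Matrix (Fin n) (Fin n) F) *ᵥ (ξ ∘ idx) := by
    have : ξ ∘ idx = (B : Matrix (Fin n) (Fin n) F) *ᵥ x := by
      funext a
      simp [hξ]
    rw [this, Matrix.mulVec_mulVec, Units.inv_mul, Matrix.one_mulVec]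
  have h2 : f x v = phi f idx B ξ (Pi.single y 1) := by
    rw [hx', hv]
    rfl
  rw [h2, phi_eq_sum hf.bilinear]
  apply Finset.sum_eq_zero
  intro a _
  apply Finset.sum_eq_zero
  intro b _
  rw [hcon a b, mul_zero, zero_mul]

end Cfsg.Agent.Lib.Helper47.AschSpKForm

namespace Cfsg.Agent.Lib.Helper23.AschSp

open Cfsg Cfsg.Geo Cfsg.Agent.Lib.Helper99.Asch Cfsg.Agent.Lib.Helper47.AschSlotNorm
open Cfsg.Agent.Lib.Helper37.Asch Cfsg.Agent.Lib.Helper47.AschSpKForm
open scoped MatrixGroups Matrix Kronecker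

variable {n m : ℕ} {F : Type*} [Field F] [Fintype F] {f : (Fin n → F) → (Fin n → F) → F}

/-- ASCHSP-[KFORM] -/
theorem slotFormData_of_slots (hf : IsSymplecticForm f) {k : ℕ} (hk : 0 < k) (Q : Fin k → Subgroup (GL (Fin n) F))
    (hQf : ∀ i, Q i ≤ isoGL f) (d : ℕ) (idx : Fin n ≃ (Fin k → Fin d)) (B : GL (Fin n) F)
    (hslot : ∀ i, ∀ x ∈ Q i, ∃ a : GL (Fin d) F,
        ((B * x * B⁻¹ : GL (Fin n) F) : Matrix (Fin n) (Fin n) F) =
          Matrix.reindex idx.symm idx.symm (slotMatrix i (a : Matrix (Fin d) (Fin d) F)))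
    (hspan : ∀ i (a : Matrix (Fin d) (Fin d) F),
        ((B⁻¹ : GL (Fin n) F) : Matrix (Fin n) (Fin n) F) *
          Matrix.reindex idx.symm idx.symm (slotMatrix i a) * (B : Matrix (Fin n) (Fin n) F) ∈
          Submodule.span F (matrixSet (Q i))) :
    ∃ G : Fin k → Matrix (Fin d) (Fin d) F, SlotFormData f Q d idx B G ∧
      (∀ i, (G i)ᵀ = G i ∨ (G i)ᵀ = -(G i)) ∧
      (∀ i, ∀ x ∈ Q i, ∀ a : GL (Fin d) F, ((B * x * B⁻¹ : GL (Fin n) F) : Matrix (Fin n) (Fin n) F) =
          Matrix.reindex idx.symm idx.symm (slotMatrix i (a : Matrix (Fin d) (Fin d) F)) →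
          (a : Matrix (Fin d) (Fin d) F)ᵀ * G i * (a : Matrix (Fin d) (Fin d) F) = G i) := by
  classical
  by_cases hI : IsEmpty (Fin k → Fin d)
  · -- degenerate case `d = 0`
    have hd : IsEmpty (Fin d) := by
      by_contra hne
      rw [not_isEmpty_iff] at hne
      obtain ⟨p⟩ := hne
      exact hI.false (fun _ => p)
    have hn : IsEmpty (Fin n) := idx.isEmpty
    refine ⟨fun _ => 1, ⟨hslot, hspan, ?_, ?_⟩, ?_, ?_⟩
    · intro x y
      have h0 : x ∘ idx = 0 := Subsingleton.elim _ _
      rw [h0, Matrix.mulVec_zero, (isSesq_of_bilinear hf.bilinear).zero_left]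
      simp
    · intro i
      rw [Matrix.det_isEmpty]
      exact one_ne_zero
    · intro i
      left
      exact Subsingleton.elim _ _
    · intro i x _ a _
      exact Subsingleton.elim _ _
  · rw [not_isEmpty_iff] at hI
    obtain ⟨ybase⟩ := hI
    obtain ⟨y0, z0, hg0⟩ := exists_gm_ne_zero hf idx B ybase
    -- the slot sets
    have hS : ∀ i, Submodule.span F (aset (Q i) i idx B) = ⊤ :=
      fun i => aset_span (Q i) i idx B (hslot i) (hspan i)
    have hdet : ∀ i, ∀ a ∈ aset (Q i) i idx B, a.det ≠ 0 := fun i a ha => ha.1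
    have hinv : ∀ i, ∀ a ∈ aset (Q i) i idx B, ∀ y z : Fin k → Fin d,
        aᵀ * blk i (gm f idx B) y z * a = blk i (gm f idx B) y z := by
      intro i a ha y z
      obtain ⟨_, x, hxQ, hx⟩ := ha
      exact blk_invariant i a (gm f idx B)
        (gm_slot_invariant hf.bilinear idx B x (hQf i hxQ) (slotMatrix i a) hx) y z
    set N : Fin k → Matrix (Fin d) (Fin d) F := fun i => blk i (gm f idx B) y0 z0 with hN
    have hNg : ∀ i, N i (y0 i) (z0 i) = (gm f idx B) y0 z0 := fun i => blk_apply_self i (gm f idx B) y0 z0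
    have hN0 : ∀ i, N i ≠ 0 := by
      intro i h0
      apply hg0
      rw [← hNg i, h0]
      rfl
    have hNinv : ∀ i, ∀ a ∈ aset (Q i) i idx B, aᵀ * N i * a = N i :=
      fun i a ha => hinv i a ha y0 z0
    have hNdet : ∀ i, (N i).det ≠ 0 :=
      fun i => det_ne_zero_of_invariant (hS i) (hdet i) (hNinv i) (hN0 i)
    have hstar : ∀ i (y z : Fin k → Fin d), (gm f idx B) y z * (gm f idx B) y0 z0 =
        (gm f idx B) (Function.update y i (y0 i)) (Function.update z i (z0 i)) * N i (y i) (z i) := by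
      intro i y z
      obtain ⟨c, hc⟩ := exists_smul_of_invariant (hS i) (hdet i) (hNinv i) (hN0 i)
        (M := blk i (gm f idx B) y z) (fun a ha => hinv i a ha y z)
      have h1 : (gm f idx B) y z = c * N i (y i) (z i) := by
        have := congrFun (congrFun hc (y i)) (z i)
        rw [blk_apply_self] at this
        exact this
      have h2 : (gm f idx B) (Function.update y i (y0 i)) (Function.update z i (z0 i)) = c * (gm f idx B) y0 z0 := by
        have := congrFun (congrFun hc (y0 i)) (z0 i)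
        rw [Matrix.smul_apply, hNg i] at this
        exact this
      rw [h1, h2]
      ring
    set i0 : Fin k := ⟨0, hk⟩ with hi0
    have hc0 : ∀ j : Fin k, (if j = i0 then (1 : F) else ((gm f idx B) y0 z0)⁻¹) ≠ 0 := by
      intro j
      by_cases hj : j = i0
      · rw [if_pos hj]; exact one_ne_zero
      · rw [if_neg hj]; exact inv_ne_zero hg0
    refine ⟨gfac ((gm f idx B) y0 z0) i0 N, ⟨hslot, hspan, ?_, ?_⟩, ?_, ?_⟩
    · intro x y
      have h1 := phi_eq_sum hf.bilinear idx B x y
      unfold phi at h1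
      rw [h1]
      refine Finset.sum_congr rfl fun a _ => ?_
      refine Finset.sum_congr rfl fun b _ => ?_
      rw [prod_gfac (gm f idx B) y0 z0 hg0 i0 N hstar a b]
    · intro i
      unfold gfac
      rw [Matrix.det_smul]
      exact mul_ne_zero (pow_ne_zero _ (hc0 i)) (hNdet i)
    · intro i
      -- `(N i)ᵀ` is invariant as well
      have hT : ∀ a ∈ aset (Q i) i idx B, aᵀ * (N i)ᵀ * a = (N i)ᵀ := by
        intro a ha
        have := congrArg Matrix.transpose (hNinv i a ha)
        rw [Matrix.transpose_mul, Matrix.transpose_mul, Matrix.transpose_transpose,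
          ← Matrix.mul_assoc] at this
        exact this
      obtain ⟨e, he⟩ := exists_smul_of_invariant (hS i) (hdet i) (hNinv i) (hN0 i) hT
      have he2 : e * e = 1 := by
        have h1 : N i = e • (N i)ᵀ := by
          have := congrArg Matrix.transpose he
          rw [Matrix.transpose_transpose, Matrix.transpose_smul] at this
          exact this
        rw [he, smul_smul] at h1
        have h2 := congrFun (congrFun h1 (y0 i)) (z0 i)
        rw [Matrix.smul_apply, hNg i, smul_eq_mul] at h2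
        have h3 : (e * e) * ((gm f idx B) y0 z0) = 1 * ((gm f idx B) y0 z0) := by rw [one_mul]; exact h2.symm
        exact mul_right_cancel₀ hg0 h3
      have he3 : e = 1 ∨ e = -1 := mul_self_eq_one_iff.mp he2
      unfold gfac
      rw [Matrix.transpose_smul, he]
      rcases he3 with h | h
      · left; rw [h, one_smul]
      · right; rw [h, neg_one_smul, smul_neg]
    · intro i x hxQ a ha
      have hmem : (a : Matrix (Fin d) (Fin d) F) ∈ aset (Q i) i idx B := by
        refine ⟨?_, x, hxQ, ha⟩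
        have := (Matrix.isUnit_iff_isUnit_det _).mp a.isUnit
        exact this.ne_zero
      unfold gfac
      rw [Matrix.mul_smul, Matrix.smul_mul, hNinv i _ hmem]

end Cfsg.Agent.Lib.Helper23.AschSp
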