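import Mathlib
import Cfsg.Agent.Lib.Helper2.ShultSub
import Cfsg.Agent.Lib.Helper24.Frat
import Cfsg.Agent.Lib.Helper24.ConjOn
import Cfsg.Agent.Lib.Helper48.Coprime

/-!
# A consequence of the Hall–Higman–Shult theorem (BG 13.4, "Lemma F''")

`S = [S, R]` a `q`-group, `R` of prime order `r`, both acting on a `p`-group `T` (`p, q, r` distinct,
`p, q` odd).  If `C_T(R)` is cyclic and `S` centralizes `Ω₁(C_T(R))`, then `S` centralizes `T`.
-/

set_option autoImplicit false

namespace Cfsg.Agent.Lib.Helper47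

open scoped commutatorElement

section ClassTwoPow

variable {G : Type*} [Group G]

/-- `y ^ k * x = x * y ^ k * c ^ k` when `c = y⁻¹ x⁻¹ y x` commutes with `y`. -/
theorem zfp_pow_mul_comm (x y : G) (hcy : Commute (y⁻¹ * x⁻¹ * y * x) y) (k : ℕ) :
    y ^ k * x = x * y ^ k * (y⁻¹ * x⁻¹ * y * x) ^ k := by
  induction k with
  | zero => simp
  | succ k ih =>
    have h1 : y * x = x * y * (y⁻¹ * x⁻¹ * y * x) := by group
    have hc : Commute ((y⁻¹ * x⁻¹ * y * x) ^ k) y := hcy.pow_left k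
    calc y ^ (k + 1) * x = y ^ k * (y * x) := by rw [pow_succ, mul_assoc]
      _ = y ^ k * x * y * (y⁻¹ * x⁻¹ * y * x) := by rw [h1]; group
      _ = x * y ^ k * ((y⁻¹ * x⁻¹ * y * x) ^ k * y) * (y⁻¹ * x⁻¹ * y * x) := by rw [ih]; group
      _ = x * y ^ k * (y * (y⁻¹ * x⁻¹ * y * x) ^ k) * (y⁻¹ * x⁻¹ * y * x) := by rw [hc.eq]
      _ = x * y ^ (k + 1) * (y⁻¹ * x⁻¹ * y * x) ^ (k + 1) := by
        rw [pow_succ, pow_succ]; group

/-- The class two power formula. -/
theorem zfp_mul_pow (x y : G) (hcx : Commute (y⁻¹ * x⁻¹ * y * x) x)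
    (hcy : Commute (y⁻¹ * x⁻¹ * y * x) y) (n : ℕ) :
    (x * y) ^ n = x ^ n * y ^ n * (y⁻¹ * x⁻¹ * y * x) ^ (n.choose 2) := by
  induction n with
  | zero => simp
  | succ n ih =>
    set c := y⁻¹ * x⁻¹ * y * x with hc
    have hce : ∀ e : ℕ, Commute (c ^ e) x := fun e => hcx.pow_left e
    have hce' : ∀ e : ℕ, Commute (c ^ e) y := fun e => hcy.pow_left e
    have h2 : y ^ n * x = x * y ^ n * c ^ n := zfp_pow_mul_comm x y hcy n
    have hch : (n + 1).choose 2 = n + n.choose 2 := by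
      rw [Nat.choose_succ_succ' n 1, Nat.choose_one_right]
    calc (x * y) ^ (n + 1) = (x * y) ^ n * (x * y) := pow_succ _ _
      _ = x ^ n * y ^ n * c ^ (n.choose 2) * (x * y) := by rw [ih]
      _ = x ^ n * y ^ n * (c ^ (n.choose 2) * x) * y := by group
      _ = x ^ n * y ^ n * (x * c ^ (n.choose 2)) * y := by rw [(hce _).eq]
      _ = x ^ n * (y ^ n * x) * (c ^ (n.choose 2) * y) := by group
      _ = x ^ n * (x * y ^ n * c ^ n) * (y * c ^ (n.choose 2)) := by rw [h2, (hce' _).eq]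
      _ = x ^ n * x * y ^ n * (c ^ n * y) * c ^ (n.choose 2) := by group
      _ = x ^ n * x * y ^ n * (y * c ^ n) * c ^ (n.choose 2) := by rw [(hce' n).eq]
      _ = x ^ (n + 1) * y ^ (n + 1) * c ^ ((n + 1).choose 2) := by
        rw [hch, pow_add c n, pow_succ x, pow_succ y]; group

/-- If commutators and `p`-th powers are central in `T` (`p` odd), then `x ↦ x ^ p` is multiplicative
on `T`. -/
theorem zfp_mul_pow_prime {p : ℕ} (hp : p.Prime) (hp2 : p ≠ 2) (x y : G)
    (hcx : Commute (y⁻¹ * x⁻¹ * y * x) x) (hcy : Commute (y⁻¹ * x⁻¹ * y * x) y)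
    (hyp : Commute (y ^ p) x) : (x * y) ^ p = x ^ p * y ^ p := by
  have h1 := zfp_pow_mul_comm x y hcy p
  have hc1 : (y⁻¹ * x⁻¹ * y * x) ^ p = 1 := by
    rw [hyp.eq] at h1
    have : x * y ^ p * 1 = x * y ^ p * (y⁻¹ * x⁻¹ * y * x) ^ p := by rw [mul_one]; exact h1
    exact (mul_left_cancel this).symm
  have hdvd : p ∣ p.choose 2 := by
    apply Nat.Prime.dvd_choose_self hp (by norm_num)
    have := hp.two_le
    omega
  obtain ⟨m, hm⟩ := hdvd
  rw [zfp_mul_pow x y hcx hcy p, hm, pow_mul, hc1, one_pow, mul_one]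

end ClassTwoPow


section QuotAct

/-- The endomorphism of `P ⧸ N` induced by an automorphism of `P` mapping `N` into itself. -/
def zfpQuotHom {P : Type*} [Group P] (N : Subgroup P) [N.Normal] (e : MulAut P)
    (h : ∀ n ∈ N, e n ∈ N) : P ⧸ N →* P ⧸ N :=
  QuotientGroup.map N N e.toMonoidHom (fun n hn => h n hn)

theorem zfpQuotHom_mk {P : Type*} [Group P] (N : Subgroup P) [N.Normal] (e : MulAut P)
    (h : ∀ n ∈ N, e n ∈ N) (x : P) :
    zfpQuotHom N e h (QuotientGroup.mk x) = QuotientGroup.mk (e x) := rfl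

/-- A group acting on `P` by automorphisms preserving the normal subgroup `N` acts on `P ⧸ N`. -/
def zfpQuotAct {P : Type*} [Group P] (N : Subgroup P) [N.Normal] {A : Type*} [Group A]
    (ψ : A →* MulAut P) (h : ∀ a, ∀ n ∈ N, ψ a n ∈ N) : A →* MulAut (P ⧸ N) :=
  MonoidHom.mk'
    (fun a => MonoidHom.toMulEquiv (zfpQuotHom N (ψ a) (h a)) (zfpQuotHom N (ψ a⁻¹) (h a⁻¹))
      (by
        ext q
        simp [zfpQuotHom_mk])
      (by
        ext q
        simp [zfpQuotHom_mk]))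
    (by
      intro a b
      ext q
      induction q using QuotientGroup.induction_on with
      | H x => simp [zfpQuotHom_mk])

theorem zfpQuotAct_mk {P : Type*} [Group P] (N : Subgroup P) [N.Normal] {A : Type*} [Group A]
    (ψ : A →* MulAut P) (h : ∀ a, ∀ n ∈ N, ψ a n ∈ N) (a : A) (x : P) :
    zfpQuotAct N ψ h a (QuotientGroup.mk x) = QuotientGroup.mk (ψ a x) := rfl

end QuotAct

theorem zfp_isCyclic_of_le {G : Type*} [Group G] {H K : Subgroup G} (h : H ≤ K) (hK : IsCyclic ↥K) :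
    IsCyclic ↥H := by
  have : IsCyclic ↥(H.subgroupOf K) := inferInstance
  exact (Subgroup.subgroupOfEquivOfLe h).isCyclic.mp this


open Cfsg.Agent.Lib.Helper24 in
/-- **Lemma F''** (for BG Theorem 13.4), without the (unneeded) hypothesis that `C_T(R)` is cyclic:
`S = [S, R]` a `q`-group, `|R| = r`, `S R` acting on the `p`-group `T`, and `S` centralizes every
element of order dividing `p` of `C_T(R)`; then `S` centralizes `T`. -/
theorem shult_centralizes_core {G : Type*} [Group G] [Finite G] {p q r : ℕ} (hp : p.Prime)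
    (hq : q.Prime)
    (hr : r.Prime) (hp2 : p ≠ 2) (hq2 : q ≠ 2) (hpq : p ≠ q) (hpr : p ≠ r) (hqr : q ≠ r)
    (T S R : Subgroup G) (hT : IsPGroup p T) (hS : IsPGroup q S) (hR : Nat.card R = r)
    (hRS : R ≤ Subgroup.normalizer (S : Set G)) (hST : S ≤ Subgroup.normalizer (T : Set G))
    (hRT : R ≤ Subgroup.normalizer (T : Set G)) (hSR : ⁅S, R⁆ = S)
    (hom : ∀ x ∈ T ⊓ Subgroup.centralizer (R : Set G), x ^ p = 1 →
      x ∈ Subgroup.centralizer (S : Set G)) :
    S ≤ Subgroup.centralizer (T : Set G) := by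
  have : Fact p.Prime := ⟨hp⟩
  have : Fact q.Prime := ⟨hq⟩
  have : Fact r.Prime := ⟨hr⟩
  induction' hn : Nat.card T using Nat.strong_induction_on with n ih generalizing T
  -- the induction hypothesis for proper invariant subgroups
  have ih' : ∀ T₀ : Subgroup G, T₀ ≤ T → T₀ ≠ T → S ≤ Subgroup.normalizer (T₀ : Set G) →
      R ≤ Subgroup.normalizer (T₀ : Set G) → S ≤ Subgroup.centralizer (T₀ : Set G) := by
    intro T₀ h1 h2 h3 h4
    have hlt : Nat.card T₀ < n := by
      rw [← hn]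
      exact lt_of_le_of_ne (Subgroup.card_le_of_le h1)
        (fun h => h2 (Subgroup.eq_of_le_of_card_ge h1 h.ge))
    have hle : T₀ ⊓ Subgroup.centralizer (R : Set G) ≤ T ⊓ Subgroup.centralizer (R : Set G) :=
      inf_le_inf_right _ h1
    exact ih (Nat.card T₀) hlt T₀ (hT.to_le h1) h3 h4
      (fun x hx hxp => hom x (hle hx) hxp) rfl
  by_cases hTbot : T = ⊥
  · intro s _
    rw [Subgroup.mem_centralizer_iff]
    intro t ht
    rw [hTbot] at ht
    have : t = 1 := by simpa using ht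
    rw [this, one_mul, mul_one]
  have hq_ndvd : ¬ q ∣ Nat.card T := by
    obtain ⟨k, hk⟩ := hT.exists_card_eq
    rw [hk]
    intro h
    exact hpq ((Nat.prime_dvd_prime_iff_eq hq hp).mp (hq.dvd_of_dvd_pow h)).symm
  have hTS_le : ⁅T, S⁆ ≤ T := Cfsg.Agent.Lib.Helper48.commutator_le_of_le_normalizer hST
  by_cases hTS : ⁅T, S⁆ = T
  swap
  · have h1 : S ≤ Subgroup.centralizer ((⁅T, S⁆ : Subgroup G) : Set G) :=
      ih' _ hTS_le hTS (Subgroup.normalizer_commutator_ge_right T S)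
        ((le_inf hRT hRS).trans
          (Cfsg.Agent.Lib.Helper48.normalizer_inf_le_normalizer_commutator T S))
    have h2 : ⁅⁅T, S⁆, S⁆ = ⊥ := by
      rw [Subgroup.commutator_eq_bot_iff_le_centralizer]
      exact Subgroup.le_centralizer_iff.mp h1
    have h3 : ⁅T, S⁆ = ⊥ := by
      rw [← Cfsg.Agent.Lib.Helper48.commutator_commutator_eq hS hq_ndvd hST]
      exact h2
    exact Subgroup.le_centralizer_iff.mp (Subgroup.commutator_eq_bot_iff_le_centralizer.mp h3)
  -- now `T = [T, S]`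
  have hFT : frat p T ≤ T := frat_le p T
  have hFne : frat p T ≠ T := frat_ne p T hT hTbot
  have hSF : S ≤ Subgroup.centralizer ((frat p T : Subgroup G) : Set G) :=
    ih' _ hFT hFne (hST.trans (normalizer_le_normalizer_frat p T))
      (hRT.trans (normalizer_le_normalizer_frat p T))
  have hFS : frat p T ≤ Subgroup.centralizer (S : Set G) := Subgroup.le_centralizer_iff.mp hSF
  have hFZ : ⁅T, frat p T⁆ = ⊥ := by
    have h1 : ⁅⁅S, frat p T⁆, T⁆ = ⊥ := by
      rw [Subgroup.commutator_eq_bot_iff_le_centralizer.mpr hSF, Subgroup.commutator_bot_left]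
    have h2 : ⁅⁅frat p T, T⁆, S⁆ = ⊥ := by
      have : ⁅frat p T, T⁆ ≤ frat p T :=
        Cfsg.Agent.Lib.Helper48.commutator_le_of_le_normalizer (le_normalizer_frat p T)
      rw [Subgroup.commutator_eq_bot_iff_le_centralizer]
      exact this.trans hFS
    have h3 := Subgroup.commutator_commutator_eq_bot_of_rotate h1 h2
    rwa [hTS] at h3
  have hFc : ∀ f ∈ frat p T, ∀ t ∈ T, f * t = t * f := by
    have h := Subgroup.commutator_eq_bot_iff_le_centralizer.mp hFZ
    intro f hf t ht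
    exact Subgroup.mem_centralizer_iff.mp (h ht) f hf
  -- the `p`-power map is multiplicative on `T`
  have hpow : ∀ x ∈ T, ∀ y ∈ T, (x * y) ^ p = x ^ p * y ^ p := by
    intro x hx y hy
    have hc : y⁻¹ * x⁻¹ * y * x ∈ frat p T := by
      have := comm_mem_frat p T (T.inv_mem hy) (T.inv_mem hx)
      rwa [commutatorElement_def, inv_inv, inv_inv] at this
    exact zfp_mul_pow_prime hp hp2 x y (hFc _ hc x hx) (hFc _ hc y hy)
      (hFc _ (pow_mem_frat p T hy) x hx)
  -- `T` has exponent `p`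
  have hexp : ∀ x ∈ T, x ^ p = 1 := by
    let Ω : Subgroup G :=
      { carrier := {x | x ∈ T ∧ x ^ p = 1}
        mul_mem' := fun {a b} ha hb =>
          ⟨T.mul_mem ha.1 hb.1, by rw [hpow a ha.1 b hb.1, ha.2, hb.2, one_mul]⟩
        one_mem' := ⟨T.one_mem, one_pow p⟩
        inv_mem' := fun {a} ha => ⟨T.inv_mem ha.1, by rw [inv_pow, ha.2, inv_one]⟩ }
    have hΩ : ⁅T, S⁆ ≤ Ω := by
      rw [Subgroup.commutator_le]
      intro t ht s hs
      have hts : s * t⁻¹ * s⁻¹ ∈ T :=
        (Subgroup.mem_normalizer_iff.mp (hST hs) t⁻¹).mp (T.inv_mem ht)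
      have he : ⁅t, s⁆ = t * (s * t⁻¹ * s⁻¹) := by rw [commutatorElement_def]; group
      have hcomm : s * (t ^ p)⁻¹ * s⁻¹ = (t ^ p)⁻¹ := by
        have h1 : (t ^ p)⁻¹ ∈ Subgroup.centralizer (S : Set G) :=
          (Subgroup.centralizer (S : Set G)).inv_mem (hFS (pow_mem_frat p T ht))
        have h2 := Subgroup.mem_centralizer_iff.mp h1 s hs
        rw [h2]; group
      refine ⟨?_, ?_⟩
      · rw [he]; exact T.mul_mem ht hts
      · show ⁅t, s⁆ ^ p = 1
        rw [he, hpow t ht _ hts, conj_pow, inv_pow, hcomm, mul_inv_cancel]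
    intro x hx
    have : x ∈ Ω := hΩ (by rw [hTS]; exact hx)
    exact this.2
  -- the Shult step, on `T / C_T(S)`
  obtain ⟨N, hNdef⟩ : ∃ N : Subgroup G, N = T ⊓ Subgroup.centralizer (S : Set G) := ⟨_, rfl⟩
  have hNmem : ∀ x : G, x ∈ N ↔ x ∈ T ∧ x ∈ Subgroup.centralizer (S : Set G) := by
    intro x
    rw [hNdef]
    exact Subgroup.mem_inf
  have hNT : N ≤ T := by rw [hNdef]; exact inf_le_left
  have hNS : N ≤ Subgroup.centralizer (S : Set G) := by rw [hNdef]; exact inf_le_right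
  -- `R` normalizes `N`
  have hRN1 : ∀ b ∈ R, ∀ n ∈ N, b * n * b⁻¹ ∈ N := by
    intro b hb n hn
    rw [hNmem] at hn ⊢
    refine ⟨(Subgroup.mem_normalizer_iff.mp (hRT hb) n).mp hn.1, ?_⟩
    rw [Subgroup.mem_centralizer_iff]
    intro s hs
    have hs' : b⁻¹ * s * b ∈ S := by
      have := (Subgroup.mem_normalizer_iff.mp (hRS (R.inv_mem hb)) s).mp hs
      simpa using this
    have h1 := Subgroup.mem_centralizer_iff.mp hn.2 _ hs'
    calc s * (b * n * b⁻¹) = b * ((b⁻¹ * s * b) * n) * b⁻¹ := by group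
      _ = b * (n * (b⁻¹ * s * b)) * b⁻¹ := by rw [h1]
      _ = b * n * b⁻¹ * s := by group
  have hRN : R ≤ Subgroup.normalizer (N : Set G) := by
    intro b hb
    rw [Subgroup.mem_normalizer_iff]
    intro n
    refine ⟨hRN1 b hb n, fun h => ?_⟩
    have := hRN1 b⁻¹ (R.inv_mem hb) _ h
    have e : b⁻¹ * (b * n * b⁻¹) * b⁻¹⁻¹ = n := by group
    rwa [e] at this
  have hrN : ¬ r ∣ Nat.card N := by
    obtain ⟨k, hk⟩ := (hT.to_le hNT).exists_card_eq
    rw [hk]
    intro h
    exact hpr ((Nat.prime_dvd_prime_iff_eq hr hp).mp (hr.dvd_of_dvd_pow h)).symm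
  obtain ⟨C', hC'def⟩ : ∃ C' : Subgroup ↥T, C' = N.subgroupOf T := ⟨_, rfl⟩
  have hC'mem : ∀ x : ↥T, x ∈ C' ↔ (x : G) ∈ Subgroup.centralizer (S : Set G) := by
    intro x
    rw [hC'def, Subgroup.mem_subgroupOf, hNmem]
    exact ⟨fun h => h.2, fun h => ⟨x.2, h⟩⟩
  have hC'N : ∀ x : ↥T, x ∈ C' ↔ (x : G) ∈ N := by
    intro x
    rw [hC'def, Subgroup.mem_subgroupOf]
  have hcommC' : ∀ x y : ↥T, x⁻¹ * y⁻¹ * x * y ∈ C' := by
    intro x y
    rw [hC'mem]
    apply hFS
    have := comm_mem_frat p T (T.inv_mem x.2) (T.inv_mem y.2)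
    rw [commutatorElement_def, inv_inv, inv_inv] at this
    simpa using this
  have hC'n : C'.Normal := by
    constructor
    intro n hn g
    have h1 : g * n * g⁻¹ = n * (n⁻¹ * (g⁻¹)⁻¹ * n * g⁻¹) := by group
    rw [h1]
    exact C'.mul_mem hn (hcommC' n g⁻¹)
  let instV : CommGroup (↥T ⧸ C') :=
    { (inferInstance : Group (↥T ⧸ C')) with
      mul_comm := by
        intro a b
        induction a using QuotientGroup.induction_on with
        | H x =>
        induction b using QuotientGroup.induction_on with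
        | H y =>
        rw [← QuotientGroup.mk_mul, ← QuotientGroup.mk_mul, QuotientGroup.eq]
        have : (x * y)⁻¹ * (y * x) = y⁻¹ * x⁻¹ * y * x := by group
        rw [this]
        exact hcommC' y x }
  have hSpres : ∀ (s : ↥S), ∀ n ∈ C', conjOn S T hST s n ∈ C' := by
    intro s n hn
    rw [hC'mem] at hn ⊢
    have h1 : ((conjOn S T hST s n : ↥T) : G) = (n : G) := by
      rw [conjOn_apply]
      have := Subgroup.mem_centralizer_iff.mp hn s s.2
      rw [this]; group
    rw [h1]; exact hn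
  have hRpres : ∀ (h : ↥R), ∀ n ∈ C', conjOn R T hRT h n ∈ C' := by
    intro h n hn
    rw [hC'N] at hn ⊢
    rw [conjOn_apply]
    exact hRN1 h h.2 n hn
  have hV : ∀ v : ↥T ⧸ C', v ^ p = 1 := by
    intro v
    induction v using QuotientGroup.induction_on with
    | H x =>
      have h1 : x ^ p = 1 := Subtype.ext (by rw [Subgroup.coe_pow]; exact hexp x x.2)
      rw [← QuotientGroup.mk_pow, h1]
      rfl
  have hcompat : ∀ (h : ↥R) (g : ↥S) (v : ↥T ⧸ C'),
      zfpQuotAct C' (conjOn R T hRT) hRpres h (zfpQuotAct C' (conjOn S T hST) hSpres g v) =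
        zfpQuotAct C' (conjOn S T hST) hSpres (conjOn R S hRS h g)
          (zfpQuotAct C' (conjOn R T hRT) hRpres h v) := by
    intro h g v
    induction v using QuotientGroup.induction_on with
    | H x =>
      rw [zfpQuotAct_mk, zfpQuotAct_mk, zfpQuotAct_mk, zfpQuotAct_mk]
      congr 1
      apply Subtype.ext
      rw [conjOn_apply, conjOn_apply, conjOn_apply, conjOn_apply, conjOn_apply]
      group
  have hfix : ∀ v : ↥T ⧸ C', (∀ h : ↥R, zfpQuotAct C' (conjOn R T hRT) hRpres h v = v) → v = 1 := by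
    intro v hv
    induction v using QuotientGroup.induction_on with
    | H t =>
      have hx : ∀ b ∈ R, (t : G)⁻¹ * (b * t * b⁻¹) ∈ N := by
        intro b hb
        have h1 := hv ⟨b, hb⟩
        rw [zfpQuotAct_mk] at h1
        have h3 := QuotientGroup.eq.mp h1.symm
        rw [hC'N] at h3
        simpa using h3
      obtain ⟨n, hn, hfixn⟩ := Cfsg.Agent.Lib.Helper48.exists_fixed_in_coset (q := r) R
        (IsPGroup.of_card (n := 1) (by rw [hR, pow_one])) N hrN hRN (t : G) hx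
      have hc : (t : G) * n ∈ T ⊓ Subgroup.centralizer (R : Set G) := by
        refine ⟨T.mul_mem t.2 (hNT hn), ?_⟩
        show (t : G) * n ∈ Subgroup.centralizer (R : Set G)
        rw [Subgroup.mem_centralizer_iff]
        intro b hb
        have := hfixn b hb
        calc b * ((t : G) * n) = b * ((t : G) * n) * b⁻¹ * b := by group
          _ = (t : G) * n * b := by rw [this]
      have hcS := hom _ hc (hexp _ hc.1)
      have htS : (t : G) ∈ Subgroup.centralizer (S : Set G) := by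
        have e : (t : G) = ((t : G) * n) * n⁻¹ := by group
        rw [e]
        exact mul_mem hcS (inv_mem (hNS hn))
      exact (QuotientGroup.eq_one_iff t).mpr ((hC'mem t).mpr htS)
  have hmain := Cfsg.Agent.Lib.Helper2.ShultGroup.main_group (p := p) (q := q) (r := r)
    (P := ↥S) (H := ↥R) (V := ↥T ⧸ C') hV hS hR hpq hpr hqr (conjOn R S hRS)
    (zfpQuotAct C' (conjOn S T hST) hSpres) (zfpQuotAct C' (conjOn R T hRT) hRpres) hcompat hfix
  rcases hmain with h1 | ⟨h2, _⟩
  swap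
  · exact absurd h2 hq2
  -- every element of `S = [S, R]` acts trivially on `T / N`
  have hSK : S ≤ ((zfpQuotAct C' (conjOn S T hST) hSpres).ker).map S.subtype := by
    refine hSR.ge.trans ?_
    rw [Subgroup.commutator_le]
    intro g hg h hh
    refine ⟨(⟨g, hg⟩ : ↥S) * conjOn R S hRS ⟨h, hh⟩ (⟨g, hg⟩ : ↥S)⁻¹, ?_, ?_⟩
    · rw [SetLike.mem_coe, MonoidHom.mem_ker]
      ext v
      have := h1 ⟨h, hh⟩ (⟨g, hg⟩ : ↥S)⁻¹ v
      rw [inv_inv] at this
      rw [this]
      rfl
    · rw [Subgroup.subtype_apply, Subgroup.coe_mul, conjOn_apply, commutatorElement_def]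
      simp [mul_assoc]
  have hTN : ⁅T, S⁆ ≤ N := by
    rw [Subgroup.commutator_le]
    intro t ht s hs
    obtain ⟨k, hk, hks⟩ := hSK hs
    rw [SetLike.mem_coe, MonoidHom.mem_ker] at hk
    have h2 : zfpQuotAct C' (conjOn S T hST) hSpres k
        (QuotientGroup.mk (⟨t⁻¹, T.inv_mem ht⟩ : ↥T)) = QuotientGroup.mk (⟨t⁻¹, T.inv_mem ht⟩ : ↥T) := by
      rw [hk]; rfl
    rw [zfpQuotAct_mk] at h2
    have h3 := QuotientGroup.eq.mp h2.symm
    rw [hC'N] at h3
    have e : ⁅t, s⁆ = (t⁻¹)⁻¹ * (s * t⁻¹ * s⁻¹) := by rw [commutatorElement_def]; group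
    rw [e]
    rw [Subgroup.subtype_apply] at hks
    rw [← hks]
    simpa using h3
  rw [hTS] at hTN
  exact Subgroup.le_centralizer_iff.mp (hTN.trans hNS)

/-- **Lemma F''** (for BG Theorem 13.4), as stated there (the hypothesis `hcyc` is not used). -/
theorem shult_centralizes {G : Type*} [Group G] [Finite G] {p q r : ℕ} (hp : p.Prime) (hq : q.Prime)
    (hr : r.Prime) (hp2 : p ≠ 2) (hq2 : q ≠ 2) (hpq : p ≠ q) (hpr : p ≠ r) (hqr : q ≠ r)
    (T S R : Subgroup G) (hT : IsPGroup p T) (hS : IsPGroup q S) (hR : Nat.card R = r)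
    (hRS : R ≤ Subgroup.normalizer (S : Set G)) (hST : S ≤ Subgroup.normalizer (T : Set G))
    (hRT : R ≤ Subgroup.normalizer (T : Set G)) (hSR : ⁅S, R⁆ = S)
    (_hcyc : IsCyclic ↥(T ⊓ Subgroup.centralizer (R : Set G)))
    (hom : ∀ x ∈ T ⊓ Subgroup.centralizer (R : Set G), x ^ p = 1 →
      x ∈ Subgroup.centralizer (S : Set G)) :
    S ≤ Subgroup.centralizer (T : Set G) :=
  shult_centralizes_core hp hq hr hp2 hq2 hpq hpr hqr T S R hT hS hR hRS hST hRT hSR hom

end Cfsg.Agent.Lib.Helper47
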