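/-
helper47: project CLEN (helper30, S5722), module CLEN-[PGRP]:
a `p`-group of order `p ^ a` has composition length at least `a`.
`add_le_clen` (CLEN-[ADD]) enters as a hypothesis in `le_clen_of_isPGroup_of`.
-/
import Cfsg.Agent.Lib.Helper30.CLen.Defs
import Cfsg.Agent.Lib.Helper30.CLen.BasicA

set_option autoImplicit false

namespace Cfsg.Agent.Lib.Helper47.CLen

open Cfsg.Agent.Lib.Helper30.CLen

universe u

/-- CLEN-[PGRP] with `add_le_clen` (exact stub statement) as a hypothesis -/
theorem le_clen_of_isPGroup_of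
    (add_le_clen : ∀ (G : Type u) [Group G] [Finite G] (K : Subgroup G) [K.Normal],
      clen K + clen (G ⧸ K) ≤ clen G)
    {p : ℕ} [hp : Fact p.Prime] {P : Type u} [Group P] [Finite P]
    (hP : IsPGroup p P) {a : ℕ} (ha : Nat.card P = p ^ a) : a ≤ clen P := by
  induction a generalizing P with
  | zero => exact Nat.zero_le _
  | succ a ih =>
    have hp1 : 1 < p := hp.out.one_lt
    have hnt : Nontrivial P := by
      rw [← Finite.one_lt_card_iff_nontrivial, ha]
      exact Nat.one_lt_pow (Nat.succ_ne_zero a) hp1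
    have hcnt : Nontrivial (Subgroup.center P) := hP.center_nontrivial
    have hcp : IsPGroup p (Subgroup.center P) := hP.to_subgroup _
    obtain ⟨k, hk⟩ := IsPGroup.iff_card.1 hcp
    have hk0 : k ≠ 0 := by
      rintro rfl
      have h1 : 1 < Nat.card (Subgroup.center P) := Finite.one_lt_card_iff_nontrivial.2 hcnt
      rw [hk, pow_zero] at h1
      exact lt_irrefl _ h1
    have hdvd : p ∣ Nat.card (Subgroup.center P) := by
      rw [hk]; exact dvd_pow_self p hk0
    obtain ⟨z, hz⟩ := exists_prime_orderOf_dvd_card' p hdvd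
    have hzP : orderOf (z : P) = p := by rw [Subgroup.orderOf_coe, hz]
    let Z0 : Subgroup P := Subgroup.zpowers (z : P)
    have hZ0le : Z0 ≤ Subgroup.center P := (Subgroup.zpowers_le).2 z.2
    have hZ0n : Z0.Normal := by
      refine ⟨fun n hn g => ?_⟩
      have hc : n ∈ Subgroup.center P := hZ0le hn
      have : g * n * g⁻¹ = n := by
        rw [Subgroup.mem_center_iff] at hc
        rw [hc g, mul_inv_cancel_right]
      rw [this]; exact hn
    have hZ0card : Nat.card Z0 = p := by
      rw [Nat.card_zpowers, hzP]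
    have hZ0nt : Nontrivial Z0 := by
      rw [← Finite.one_lt_card_iff_nontrivial, hZ0card]; exact hp1
    have hq : Nat.card (P ⧸ Z0) = p ^ a := by
      have h := Subgroup.card_eq_card_quotient_mul_card_subgroup Z0
      rw [ha, hZ0card, pow_succ] at h
      exact (Nat.eq_of_mul_eq_mul_right hp.out.pos h).symm
    have h1 : a ≤ clen (P ⧸ Z0) := ih (hP.to_quotient Z0) hq
    have h2 : 1 ≤ clen Z0 := one_le_clen
    have h3 := add_le_clen P Z0
    omega

end Cfsg.Agent.Lib.Helper47.CLen
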