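/-
helper47: project CLEN (helper30, S5722), module CLEN-[PROD]:
`clen (Fin m → T) ≤ m * clen T`.
`clen_le_add` (CLEN-[ADD]) and `clen_congr` (CLEN-[BASIC-B]) enter as hypotheses in `clen_pi_le_of`.
-/
import Cfsg.Agent.Lib.Helper30.CLen.Defs
import Cfsg.Agent.Lib.Helper30.CLen.BasicA

set_option autoImplicit false

namespace Cfsg.Agent.Lib.Helper47.CLen

open Cfsg.Agent.Lib.Helper30.CLen

universe w

/-- CLEN-[PROD] with `clen_le_add` and `clen_congr` (exact stub statements, one universe) as
hypotheses -/
theorem clen_pi_le_of
    (clen_le_add : ∀ (G : Type w) [Group G] [Finite G] (K : Subgroup G) [K.Normal],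
      clen G ≤ clen K + clen (G ⧸ K))
    (clen_congr : ∀ (G : Type w) [Group G] [Finite G] (G' : Type w) [Group G'] (_ : G ≃* G'),
      clen G = clen G')
    {T : Type w} [Group T] [Finite T] (m : ℕ) : clen (Fin m → T) ≤ m * clen T := by
  induction m with
  | zero =>
    rw [clen_eq_zero]
    exact Nat.zero_le _
  | succ m ih =>
    let f : (Fin (m + 1) → T) →* (Fin m → T) :=
      { toFun := fun x i => x i.succ
        map_one' := rfl
        map_mul' := fun _ _ => rfl }
    have hf : Function.Surjective f := by
      intro y
      refine ⟨Fin.cons (α := fun _ => T) 1 y, ?_⟩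
      funext i
      show Fin.cons (α := fun _ => T) 1 y i.succ = y i
      rw [Fin.cons_succ]
    have e1 : (Fin (m + 1) → T) ⧸ f.ker ≃* (Fin m → T) :=
      QuotientGroup.quotientKerEquivOfSurjective f hf
    have e2 : f.ker ≃* T := by
      let g : f.ker →* T :=
        (Pi.evalMonoidHom (fun _ : Fin (m + 1) => T) 0).comp f.ker.subtype
      have hgdef : ∀ x : f.ker, g x = x.1 0 := fun _ => rfl
      have hg : Function.Bijective g := by
        constructor
        · intro x y hxy
          rw [hgdef, hgdef] at hxy
          apply Subtype.ext
          funext i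
          refine Fin.cases ?_ ?_ i
          · exact hxy
          · intro j
            have hx : f x.1 = 1 := x.2
            have hy : f y.1 = 1 := y.2
            have hx' : x.1 j.succ = 1 := congrFun hx j
            have hy' : y.1 j.succ = 1 := congrFun hy j
            rw [hx', hy']
        · intro t
          refine ⟨⟨Fin.cons (α := fun _ => T) t 1, ?_⟩, ?_⟩
          · show f (Fin.cons (α := fun _ => T) t 1) = 1
            funext i
            show Fin.cons (α := fun _ => T) t 1 i.succ = 1
            rw [Fin.cons_succ]
            rfl
          · rw [hgdef]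
            exact Fin.cons_zero (α := fun _ : Fin (m + 1) => T) t 1
      exact MulEquiv.ofBijective g hg
    have h := clen_le_add (Fin (m + 1) → T) f.ker
    rw [clen_congr _ _ e1, clen_congr _ _ e2] at h
    calc clen (Fin (m + 1) → T) ≤ clen T + clen (Fin m → T) := h
      _ ≤ clen T + m * clen T := Nat.add_le_add_left ih _
      _ = (m + 1) * clen T := by ring

end Cfsg.Agent.Lib.Helper47.CLen
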