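/-
helper47: project CLEN (helper30, S5722), module CLEN-[AFF-NUM]: the arithmetic of the affine case.
-/
import Mathlib

set_option autoImplicit false

namespace Cfsg.Agent.Lib.Helper47.CLen

open ArithmeticFunction

/-- `3 d² + 3 d + 1 ≤ 4 · 2^d` for `d ≥ 4` -/
theorem aff_num_two (d : ℕ) (hd : 4 ≤ d) : 3 * (d * d) + 3 * d + 1 ≤ 4 * 2 ^ d := by
  induction d, hd using Nat.le_induction with
  | base => norm_num
  | succ d hd ih =>
    rw [pow_succ]
    nlinarith [Nat.mul_le_mul hd hd]

/-- `3 d + 3 s d² + 4 ≤ 4 (s+1)^d` for `s, d ≥ 2` -/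
theorem aff_num_odd (s : ℕ) (hs : 2 ≤ s) (d : ℕ) (hd : 2 ≤ d) :
    3 * d + 3 * s * (d * d) + 4 ≤ 4 * (s + 1) ^ d := by
  induction d, hd using Nat.le_induction with
  | base =>
    have : 4 ≤ s * s := Nat.mul_le_mul hs hs
    nlinarith
  | succ d hd ih =>
    rw [pow_succ]
    have hsd : 4 ≤ s * d := Nat.mul_le_mul hs hd
    have h1 : (3 * d + 3 * s * (d * d) + 4) * (s + 1) ≤ 4 * (s + 1) ^ d * (s + 1) :=
      Nat.mul_le_mul_right _ ih
    have h2 : 3 * (d + 1) + 3 * s * ((d + 1) * (d + 1)) + 4 ≤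
        (3 * d + 3 * s * (d * d) + 4) * (s + 1) := by
      nlinarith [Nat.mul_le_mul hsd hsd]
    calc 3 * (d + 1) + 3 * s * ((d + 1) * (d + 1)) + 4
        ≤ (3 * d + 3 * s * (d * d) + 4) * (s + 1) := h2
      _ ≤ 4 * (s + 1) ^ d * (s + 1) := h1
      _ = 4 * ((s + 1) ^ d * (s + 1)) := by ring

/-- a divisor of `8!` which is at most `2744` has at most nine prime factors -/
theorem aff_num_eight (g : ℕ) (hdvd : g ∣ 40320) (hle : g ≤ 2744) : cardFactors g ≤ 9 := by
  by_contra hcon
  push Not at hcon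
  obtain ⟨k, hk⟩ := hdvd
  have hg0 : g ≠ 0 := by rintro rfl; simp at hk
  have hk0 : k ≠ 0 := by rintro rfl; simp at hk
  have hΩ : cardFactors 40320 = 11 := by
    have h2 : Nat.Prime 2 := by norm_num
    have h3 : Nat.Prime 3 := by norm_num
    have h5 : Nat.Prime 5 := by norm_num
    have h7 : Nat.Prime 7 := by norm_num
    have e : 40320 = 2 ^ 7 * (3 ^ 2 * (5 * 7)) := by norm_num
    rw [e, cardFactors_mul (by norm_num) (by norm_num), cardFactors_mul (by norm_num) (by norm_num),
      cardFactors_mul (by norm_num) (by norm_num), cardFactors_apply_prime_pow h2,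
      cardFactors_apply_prime_pow h3, cardFactors_apply_prime h5, cardFactors_apply_prime h7]
  rw [hk, cardFactors_mul hg0 hk0] at hΩ
  have hk15 : 15 ≤ k := by
    by_contra h
    push Not at h
    have : g * k ≤ 2744 * 14 := Nat.mul_le_mul hle (by omega)
    omega
  have hΩk : cardFactors k = 0 ∨ cardFactors k = 1 := by omega
  rcases hΩk with h | h
  · rcases cardFactors_eq_zero_iff_eq_zero_or_one.1 h with h | h <;> omega
  · have hkp : k.Prime := cardFactors_eq_one_iff_prime.1 h
    have hkd : k ∣ 2 ^ 7 * (3 ^ 2 * (5 * 7)) := ⟨g, by rw [mul_comm k g, ← hk]; norm_num⟩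
    rcases (Nat.Prime.dvd_mul hkp).1 hkd with h1 | h1
    · have := Nat.le_of_dvd (by norm_num) (hkp.dvd_of_dvd_pow h1); omega
    · rcases (Nat.Prime.dvd_mul hkp).1 h1 with h2 | h2
      · have := Nat.le_of_dvd (by norm_num) (hkp.dvd_of_dvd_pow h2); omega
      · rcases (Nat.Prime.dvd_mul hkp).1 h2 with h3 | h3
        · have := Nat.le_of_dvd (by norm_num) h3; omega
        · have := Nat.le_of_dvd (by norm_num) h3; omega

theorem aff_num (p d n g q a b c : ℕ) (hp : p.Prime) (hd : 1 ≤ d) (hn : n = p ^ d)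
    (hg : g = n * q) (hq : q ≤ (n - 1) ^ d) (hdvd : g ∣ n.factorial) (ha : a ≤ d)
    (hb : 2 ^ b ≤ q) (hc1 : c ≤ a + b) (hc2 : c ≤ ArithmeticFunction.cardFactors g)
    (hc3 : 2 ^ c ≤ g) : 3 * c ≤ 4 * (n - 1) := by
  have hp2 : 2 ≤ p := hp.two_le
  have hnpos : 1 ≤ n := by rw [hn]; exact Nat.one_le_pow _ _ (by omega)
  -- `q < n ^ d`
  have hqlt : q < n ^ d := lt_of_le_of_lt hq (Nat.pow_lt_pow_left (by omega) (by omega))
  rcases Nat.lt_or_ge d 2 with hd1 | hd2
  · have hd1' : d = 1 := by omega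
    subst hd1'
    rw [pow_one] at hn hq
    have hb' : b < 2 ^ b := Nat.lt_two_pow_self
    omega
  · rcases Nat.lt_or_ge p 3 with hp3 | hp3
    · have hp2' : p = 2 := by omega
      subst hp2'
      rcases Nat.lt_or_ge d 4 with hd4 | hd4
      · interval_cases d
        · -- `n = 4`
          norm_num at hn
          subst hn
          have hfac : Nat.factorial 4 = 24 := by decide
          rw [hfac] at hdvd
          have hg24 : g ≤ 24 := Nat.le_of_dvd (by norm_num) hdvd
          have hc4 : c ≤ 4 := by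
            by_contra hc
            push Not at hc
            have : 2 ^ 5 ≤ 2 ^ c := Nat.pow_le_pow_right (by norm_num) hc
            omega
          omega
        · -- `n = 8`
          norm_num at hn
          subst hn
          have hfac : Nat.factorial 8 = 40320 := by decide
          rw [hfac] at hdvd
          have hq343 : q ≤ 343 := by norm_num at hq; exact hq
          have hg2744 : g ≤ 2744 := by omega
          have := aff_num_eight g hdvd hg2744
          omega
      · -- `p = 2`, `d ≥ 4`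
        have h1 : 2 ^ b < 2 ^ (d * d) := by
          calc 2 ^ b ≤ q := hb
            _ < n ^ d := hqlt
            _ = 2 ^ (d * d) := by rw [hn, ← pow_mul]
        have hbdd : b < d * d := (Nat.pow_lt_pow_iff_right (by norm_num)).1 h1
        have h2 := aff_num_two d hd4
        rw [← hn] at h2
        have : 1 ≤ d * d := Nat.mul_pos (by omega) (by omega)
        omega
    · -- `p ≥ 3`, `d ≥ 2`
      obtain ⟨s, rfl⟩ : ∃ s, p = s + 1 := ⟨p - 1, by omega⟩
      have hs : 2 ≤ s := by omega
      have hps : s + 1 ≤ 2 ^ s := Nat.lt_two_pow_self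
      have h1 : 2 ^ b < 2 ^ (s * (d * d)) := by
        calc 2 ^ b ≤ q := hb
          _ < n ^ d := hqlt
          _ = (s + 1) ^ (d * d) := by rw [hn, ← pow_mul]
          _ ≤ (2 ^ s) ^ (d * d) := Nat.pow_le_pow_left hps _
          _ = 2 ^ (s * (d * d)) := by rw [← pow_mul]
      have hbdd : b < s * (d * d) := (Nat.pow_lt_pow_iff_right (by norm_num)).1 h1
      have h2 := aff_num_odd s hs d hd2
      rw [← hn] at h2
      have h3 : 3 * s * (d * d) = 3 * (s * (d * d)) := by ring
      omega

end Cfsg.Agent.Lib.Helper47.CLen
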