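/-
helper47: S2202 module [I-124] (helper32's project, spine `Lib/Helper32/AbCentSPINE.md`):
`card_H_eq`, `exists_mul_of_mem_H`, `card_inverted`, `dInv`.
-/
import Mathlib
import Cfsg.Prelude.Def_Involutions
import Cfsg.Agent.Lib.Helper21.StronglyEmbedded
import Cfsg.Agent.Lib.Helper32.AbCentDefs

set_option autoImplicit false

namespace Cfsg.Agent.Lib.Helper47.AbCent

open Cfsg Cfsg.Agent.Lib.Helper32.AbCent Cfsg.Agent.Lib.Helper21

variable {G : Type*} [Group G] [Finite G] {H M : Subgroup G}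

omit [Finite G] in
/-- Orbit-stabilizer for the conjugation action of a subgroup `K ≥ C_G(x)` on `x`. -/
theorem card_eq_conjugates_mul_centralizer (K : Subgroup G) (x : G)
    (hC : Subgroup.centralizer ({x} : Set G) ≤ K) :
    Nat.card K = Nat.card {y : G // ∃ m ∈ K, m * x * m⁻¹ = y} *
      Nat.card (Subgroup.centralizer ({x} : Set G)) := by
  classical
  set C := Subgroup.centralizer ({x} : Set G) with hCdef
  have h1 := Subgroup.card_eq_card_quotient_mul_card_subgroup (C.subgroupOf K)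
  have h2 : Nat.card (C.subgroupOf K) = Nat.card C :=
    Nat.card_congr (Subgroup.subgroupOfEquivOfLe hC).toEquiv
  rw [h1, h2]
  congr 1
  let f : (↥K ⧸ C.subgroupOf K) → {y : G // ∃ m ∈ K, m * x * m⁻¹ = y} :=
    Quotient.lift (fun m : ↥K => (⟨(m : G) * x * (m : G)⁻¹, (m : G), m.2, rfl⟩ :
      {y : G // ∃ m ∈ K, m * x * m⁻¹ = y})) (by
      intro a c hac
      have hac' : a⁻¹ * c ∈ C.subgroupOf K := QuotientGroup.leftRel_apply.1 hac
      rw [Subgroup.mem_subgroupOf, hCdef, Subgroup.mem_centralizer_singleton_iff] at hac'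
      apply Subtype.ext
      show (a : G) * x * (a : G)⁻¹ = (c : G) * x * (c : G)⁻¹
      have hac'' : (a : G)⁻¹ * (c : G) * x = x * ((a : G)⁻¹ * (c : G)) := by
        simpa using hac'
      calc (a : G) * x * (a : G)⁻¹ = (a : G) * (x * ((a : G)⁻¹ * (c : G))) * (c : G)⁻¹ := by group
        _ = (a : G) * ((a : G)⁻¹ * (c : G) * x) * (c : G)⁻¹ := by rw [hac'']
        _ = (c : G) * x * (c : G)⁻¹ := by group)
  apply Nat.card_congr
  refine Equiv.ofBijective f ⟨?_, ?_⟩
  · intro a c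
    refine Quotient.inductionOn₂ a c ?_
    intro a c hac
    apply Quotient.sound
    apply QuotientGroup.leftRel_apply.2
    rw [Subgroup.mem_subgroupOf, hCdef, Subgroup.mem_centralizer_singleton_iff]
    have h : (a : G) * x * (a : G)⁻¹ = (c : G) * x * (c : G)⁻¹ := congrArg Subtype.val hac
    show ((a⁻¹ * c : ↥K) : G) * x = x * ((a⁻¹ * c : ↥K) : G)
    push_cast
    calc (a : G)⁻¹ * (c : G) * x = (a : G)⁻¹ * ((c : G) * x * (c : G)⁻¹) * (c : G) := by group
      _ = (a : G)⁻¹ * ((a : G) * x * (a : G)⁻¹) * (c : G) := by rw [h]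
      _ = x * ((a : G)⁻¹ * (c : G)) := by group
  · rintro ⟨y, m, hm, rfl⟩
    exact ⟨QuotientGroup.mk ⟨m, hm⟩, rfl⟩

omit [Finite G] in
/-- Under `TIData`, the centralizer of an involution of `H` is `M`. -/
theorem centralizer_eq_of_TIData (h : TIData H M) {t : G} (ht : orderOf t = 2) (htH : t ∈ H) :
    Subgroup.centralizer ({t} : Set G) = M := by
  have htM : t ∈ M := h.cent t htH ht t rfl
  apply le_antisymm
  · intro g hg
    rw [Subgroup.mem_centralizer_singleton_iff] at hg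
    exact h.cent t htH ht g hg
  · intro x hx
    rw [Subgroup.mem_centralizer_singleton_iff]
    exact h.comm x hx t htM

/-- There is an involution outside a strongly embedded subgroup. -/
theorem exists_involution_not_mem (hH : IsStronglyEmbedded H) : ∃ u : G, orderOf u = 2 ∧ u ∉ H := by
  classical
  obtain ⟨t, htH, ht⟩ := se_exists_involution hH
  have hne : ∃ g : G, g ∉ H := by
    by_contra hcon
    apply hH.1
    rw [eq_top_iff]
    intro g _
    by_contra hg
    exact hcon ⟨g, hg⟩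
  obtain ⟨g, hg⟩ := hne
  have hxy : (QuotientGroup.mk 1 : G ⧸ H) ≠ QuotientGroup.mk g := by
    intro heq
    apply hg
    have := QuotientGroup.eq.1 heq
    simpa using this
  have hcard := se_card_swapping hH hxy
  have hpos : 0 < Nat.card {t : G // orderOf t = 2 ∧ t ∈ H} := by
    have : Nonempty {t : G // orderOf t = 2 ∧ t ∈ H} := ⟨⟨t, ht, htH⟩⟩
    exact Nat.card_pos
  rw [← hcard] at hpos
  have := (Nat.card_pos_iff.1 hpos).1
  obtain ⟨i, hi, hix⟩ := Classical.arbitrary {i : G // orderOf i = 2 ∧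
    i • (QuotientGroup.mk 1 : G ⧸ H) = QuotientGroup.mk g}
  refine ⟨i, hi, ?_⟩
  intro hiH
  apply hxy
  rw [← hix]
  exact ((smul_mk_one_eq_iff i).2 hiH).symm

/-- [I-1a] -/
theorem card_H_eq (h : TIData H M) : Nat.card H = numInv H * Nat.card M := by
  classical
  obtain ⟨t, _, htH, _, ht, _, _⟩ := h.two
  obtain ⟨u, hu, huH⟩ := exists_involution_not_mem h.se
  have hC := centralizer_eq_of_TIData h ht htH
  have h1 := card_eq_conjugates_mul_centralizer H t (by rw [hC]; exact h.le)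
  rw [hC] at h1
  rw [h1]
  congr 1
  apply Nat.card_congr
  refine Equiv.subtypeEquivRight ?_
  intro y
  constructor
  · rintro ⟨m, hm, rfl⟩
    exact ⟨orderOf_conj_eq_two ht m, H.mul_mem (H.mul_mem hm htH) (H.inv_mem hm)⟩
  · rintro ⟨hy, hyH⟩
    obtain ⟨d, hd, hdy⟩ := se_involutions_conj_in_inter h.se hu huH ht htH hy hyH
    exact ⟨d, hd.1, hdy⟩

/-- [I-1b] -/
theorem exists_mul_of_mem_H (h : TIData H M) {u : G} (hu : orderOf u = 2) (huH : u ∉ H)
    {x : G} (hx : x ∈ H) : ∃ d ∈ H ⊓ cj u H, ∃ y ∈ M, x = d * y := by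
  obtain ⟨t, _, htH, _, ht, _, _⟩ := h.two
  have hs : orderOf (x * t * x⁻¹) = 2 := orderOf_conj_eq_two ht x
  have hsH : x * t * x⁻¹ ∈ H := H.mul_mem (H.mul_mem hx htH) (H.inv_mem hx)
  obtain ⟨d, hd, hdy⟩ := se_involutions_conj_in_inter h.se hu huH ht htH hs hsH
  refine ⟨d, hd, d⁻¹ * x, ?_, by group⟩
  apply h.cent t htH ht
  calc d⁻¹ * x * t = d⁻¹ * (x * t * x⁻¹) * x := by group
    _ = d⁻¹ * (d * t * d⁻¹) * x := by rw [hdy]
    _ = t * (d⁻¹ * x) := by group

/-- [I-2] -/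
theorem card_inverted (hH : IsStronglyEmbedded H) {u : G} (hu : orderOf u = 2) (huH : u ∉ H) :
    Nat.card {d : G // d ∈ H ∧ u * d * u⁻¹ = d⁻¹} = numInv H := by
  classical
  have huu : u * u = 1 := inv_mul_self hu
  have huinv : u⁻¹ = u := inv_inv_eq hu
  have hxy : (QuotientGroup.mk 1 : G ⧸ H) ≠ QuotientGroup.mk u := by
    intro heq
    apply huH
    have := QuotientGroup.eq.1 heq
    simpa using this
  rw [numInv, ← se_card_swapping hH hxy]
  apply Nat.card_congr
  refine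
    { toFun := fun d => ⟨u * d.1, ?_, ?_⟩
      invFun := fun i => ⟨u⁻¹ * i.1, ?_, ?_⟩
      left_inv := ?_
      right_inv := ?_ }
  · obtain ⟨d, hdH, hd⟩ := d
    apply orderOf_eq_two_of
    · intro h1
      apply huH
      have : u = d⁻¹ := eq_inv_of_mul_eq_one_left h1
      rw [this]
      exact H.inv_mem hdH
    · show u * d * (u * d) = 1
      calc u * d * (u * d) = (u * d * u⁻¹) * (u * u) * d := by group
        _ = 1 := by rw [hd, huu]; group
  · obtain ⟨d, hdH, hd⟩ := d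
    show (u * d) • (QuotientGroup.mk 1 : G ⧸ H) = QuotientGroup.mk u
    show (QuotientGroup.mk (u * d * 1) : G ⧸ H) = QuotientGroup.mk u
    rw [QuotientGroup.eq]
    have : (u * d * 1)⁻¹ * u = d⁻¹ := by group
    rw [this]
    exact H.inv_mem hdH
  · obtain ⟨i, hi, hix⟩ := i
    have : (QuotientGroup.mk (i * 1) : G ⧸ H) = QuotientGroup.mk u := hix
    rw [QuotientGroup.eq] at this
    have h2 : u⁻¹ * i = ((i * 1)⁻¹ * u)⁻¹ := by group
    show u⁻¹ * i ∈ H
    rw [h2]
    exact H.inv_mem this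
  · obtain ⟨i, hi, hix⟩ := i
    have hii : i * i = 1 := inv_mul_self hi
    have hiinv : i⁻¹ = i := inv_inv_eq hi
    show u * (u⁻¹ * i) * u⁻¹ = (u⁻¹ * i)⁻¹
    calc u * (u⁻¹ * i) * u⁻¹ = i * u⁻¹ := by group
      _ = i⁻¹ * u := by rw [hiinv, huinv]
      _ = (u⁻¹ * i)⁻¹ := by group
  · intro d
    apply Subtype.ext
    show u⁻¹ * (u * d.1) = d.1
    group
  · intro i
    apply Subtype.ext
    show u * (u⁻¹ * i.1) = i.1
    group

/-- Under `TIData` and `FTriv`: `|H ∩ uHu⁻¹| * |M| = |H|`. -/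
theorem card_inter_mul_card (h : TIData H M) (h3 : FTriv H M) {u : G} (hu : orderOf u = 2)
    (huH : u ∉ H) : Nat.card ↥(H ⊓ cj u H) * Nat.card M = Nat.card H := by
  classical
  rw [← Nat.card_prod]
  apply Nat.card_congr
  let f : ↥(H ⊓ cj u H) × ↥M → ↥H := fun p => ⟨p.1.1 * p.2.1, H.mul_mem p.1.2.1 (h.le p.2.2)⟩
  refine Equiv.ofBijective f ⟨?_, ?_⟩
  · rintro ⟨⟨d, hd⟩, ⟨y, hy⟩⟩ ⟨⟨d', hd'⟩, ⟨y', hy'⟩⟩ heq
    have heq' : d * y = d' * y' := congrArg Subtype.val heq
    have hz : d'⁻¹ * d = y' * y⁻¹ := by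
      calc d'⁻¹ * d = d'⁻¹ * (d * y) * y⁻¹ := by group
        _ = d'⁻¹ * (d' * y') * y⁻¹ := by rw [heq']
        _ = y' * y⁻¹ := by group
    have hzM : d'⁻¹ * d ∈ M := by rw [hz]; exact M.mul_mem hy' (M.inv_mem hy)
    have hzD : d'⁻¹ * d ∈ cj u H := (cj u H).mul_mem ((cj u H).inv_mem hd'.2) hd.2
    have h1 : d'⁻¹ * d = 1 := h3 u huH _ hzM hzD
    have hdd : d = d' := by
      have := eq_of_inv_mul_eq_one h1
      exact this.symm
    have hyy : y = y' := by
      have h2 : y' * y⁻¹ = 1 := by rw [← hz]; exact h1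
      have := eq_of_mul_inv_eq_one h2
      exact this.symm
    subst hdd; subst hyy; rfl
  · rintro ⟨x, hx⟩
    obtain ⟨d, hd, y, hy, hxy⟩ := exists_mul_of_mem_H h hu huH hx
    exact ⟨(⟨d, hd⟩, ⟨y, hy⟩), Subtype.ext hxy.symm⟩

/-- [I-4] -/
theorem dInv (h : TIData H M) (h3 : FTriv H M) : DInv H := by
  classical
  intro u hu huH
  have huinv : u⁻¹ = u := inv_inv_eq hu
  have hcard : Nat.card ↥(H ⊓ cj u H) = numInv H := by
    have h1 := card_inter_mul_card h h3 hu huH
    rw [card_H_eq h] at h1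
    have hMpos : 0 < Nat.card M := Nat.card_pos
    exact Nat.eq_of_mul_eq_mul_right hMpos h1
  refine ⟨hcard, ?_⟩
  -- the inverted elements form a subset of `D_u` of the same cardinality
  have hsub : {d : G | d ∈ H ∧ u * d * u⁻¹ = d⁻¹} ⊆ ((H ⊓ cj u H : Subgroup G) : Set G) := by
    rintro d ⟨hdH, hd⟩
    refine ⟨hdH, ?_⟩
    show d ∈ cj u H
    rw [cj, mem_map_conj_iff]
    have : u⁻¹ * d * u = d⁻¹ := by
      calc u⁻¹ * d * u = u * d * u⁻¹ := by rw [huinv]
        _ = d⁻¹ := hd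
    rw [this]
    exact H.inv_mem hdH
  have hfin : ((H ⊓ cj u H : Subgroup G) : Set G).Finite := Set.toFinite _
  have hc1 : Set.ncard {d : G | d ∈ H ∧ u * d * u⁻¹ = d⁻¹} = numInv H := by
    rw [← card_inverted h.se hu huH]
    rfl
  have hc2 : Set.ncard ((H ⊓ cj u H : Subgroup G) : Set G) = numInv H := by
    rw [← hcard]
    rfl
  have heq := Set.eq_of_subset_of_ncard_le hsub (by rw [hc1, hc2]) hfin
  intro d hd
  have : d ∈ {d : G | d ∈ H ∧ u * d * u⁻¹ = d⁻¹} := by
    rw [heq]; exact hd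
  exact this.2

end Cfsg.Agent.Lib.Helper47.AbCent
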