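/-
helper47: S2202 module [I-5] (helper32's project, spine `Lib/Helper32/AbCentSPINE.md`): `frob`.
-/
import Mathlib
import Cfsg.Prelude.Def_Involutions
import Cfsg.Agent.Lib.Helper21.StronglyEmbedded
import Cfsg.Agent.Lib.Helper32.AbCentDefs

set_option autoImplicit false

namespace Cfsg.Agent.Lib.Helper47.AbCent

open Cfsg Cfsg.Agent.Lib.Helper32.AbCent Cfsg.Agent.Lib.Helper21

variable {G : Type*} [Group G] [Finite G] {H M : Subgroup G}

/-- An involution normalizing a finite subgroup `K` and commuting with no nonidentity element of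
`K` inverts `K`. -/
theorem inverts_of_fixedPointFree {u : G} (huu : u * u = 1) (K : Subgroup G)
    (hnorm : ∀ k ∈ K, u * k * u⁻¹ ∈ K) (hfpf : ∀ k ∈ K, u * k = k * u → k = 1) :
    ∀ k ∈ K, u * k * u⁻¹ = k⁻¹ := by
  have huinv : u⁻¹ = u := inv_eq_of_mul_eq_one_right huu
  let φ : ↥K →* ↥K :=
    { toFun := fun k => ⟨u * k.1 * u⁻¹, hnorm k.1 k.2⟩
      map_one' := by
        apply Subtype.ext
        show u * (1 : G) * u⁻¹ = 1
        group
      map_mul' := by
        intro a b
        apply Subtype.ext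
        show u * ((a : G) * (b : G)) * u⁻¹ = u * (a : G) * u⁻¹ * (u * (b : G) * u⁻¹)
        group }
  have hφ : MonoidHom.FixedPointFree φ := by
    intro k hk
    have hk' : u * (k : G) * u⁻¹ = (k : G) := congrArg Subtype.val hk
    have h1 : (k : G) = 1 := by
      apply hfpf k.1 k.2
      calc u * (k : G) = u * (k : G) * u⁻¹ * u := by group
        _ = (k : G) * u := by rw [hk']
    exact Subtype.ext h1
  have h2 : Function.Involutive φ := by
    intro k
    apply Subtype.ext
    show u * (u * (k : G) * u⁻¹) * u⁻¹ = (k : G)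
    calc u * (u * (k : G) * u⁻¹) * u⁻¹ = (u * u) * (k : G) * (u * u)⁻¹ := by group
      _ = (k : G) := by rw [huu]; group
  have key := MonoidHom.FixedPointFree.coe_eq_inv_of_involutive hφ h2
  intro k hk
  have := congrFun key ⟨k, hk⟩
  exact congrArg Subtype.val this

/-- [I-5] -/
theorem frob (h : TIData H M) (h3 : FTriv H M) (h4 : DInv H) : Frob H M := by
  classical
  intro u hu huH d hd hd1 x hxM hxd
  have huu : u * u = 1 := inv_mul_self hu
  have huinv : u⁻¹ = u := inv_inv_eq hu
  obtain ⟨hcardD, hinv⟩ := h4 u hu huH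
  have hud : u * d * u⁻¹ = d⁻¹ := hinv d hd
  -- `d` has odd order
  have hoddD : Odd (Nat.card ↥(H ⊓ cj u H)) := h.se.2.2 u huH
  have hoddd : Odd (orderOf d) := by
    have hdvd : orderOf d ∣ Nat.card ↥(H ⊓ cj u H) := by
      have := orderOf_dvd_natCard (⟨d, hd⟩ : ↥(H ⊓ cj u H))
      rwa [Subgroup.orderOf_mk] at this
    exact Odd.of_dvd_nat hoddD hdvd
  -- the centralizer of `d`
  set C := Subgroup.centralizer ({d} : Set G) with hCdef
  have hnorm : ∀ k ∈ C, u * k * u⁻¹ ∈ C := by
    intro k hk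
    rw [hCdef, Subgroup.mem_centralizer_singleton_iff] at hk ⊢
    -- k d = d k ; want (u k u⁻¹) d = d (u k u⁻¹)
    have hud' : u⁻¹ * d * u = d⁻¹ := by
      calc u⁻¹ * d * u = u * d * u⁻¹ := by rw [huinv]
        _ = d⁻¹ := hud
    have hkd' : k * d⁻¹ = d⁻¹ * k := by
      calc k * d⁻¹ = d⁻¹ * (d * k) * d⁻¹ := by group
        _ = d⁻¹ * (k * d) * d⁻¹ := by rw [hk]
        _ = d⁻¹ * k := by group
    calc u * k * u⁻¹ * d = u * (k * (u⁻¹ * d * u)) * u⁻¹ := by group
      _ = u * (k * d⁻¹) * u⁻¹ := by rw [hud']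
      _ = u * (d⁻¹ * k) * u⁻¹ := by rw [hkd']
      _ = (u * d * u⁻¹)⁻¹ * (u * k * u⁻¹) := by group
      _ = d * (u * k * u⁻¹) := by rw [hud, inv_inv]
  have hfpf : ∀ c ∈ C, u * c = c * u → c = 1 := by
    intro c hc huc
    by_contra hc1
    rw [hCdef, Subgroup.mem_centralizer_singleton_iff] at hc
    -- write `u = g t g⁻¹` with `t ∈ H`
    obtain ⟨t, htH, ht⟩ := se_exists_involution h.se
    have hconj : IsConj t u := se_involutions_isConj h.se ht hu
    obtain ⟨g, hg⟩ := isConj_iff.1 hconj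
    have hgH : g ∉ H := by
      intro hgH
      apply huH
      rw [← hg]
      exact H.mul_mem (H.mul_mem hgH htH) (H.inv_mem hgH)
    have htM : t ∈ M := h.cent t htH ht t rfl
    have htt : t * t = 1 := inv_mul_self ht
    have htinv : t⁻¹ = t := inv_inv_eq ht
    -- conjugate everything by `g⁻¹`
    set c' := g⁻¹ * c * g with hc'def
    set d' := g⁻¹ * d * g with hd'def
    have hc'1 : c' ≠ 1 := by
      intro h1
      apply hc1
      calc c = g * c' * g⁻¹ := by rw [hc'def]; group
        _ = 1 := by rw [h1]; group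
    have hc't : c' * t = t * c' := by
      have ht' : t = g⁻¹ * u * g := by rw [← hg]; group
      calc c' * t = g⁻¹ * (c * u) * g := by rw [hc'def, ht']; group
        _ = g⁻¹ * (u * c) * g := by rw [huc]
        _ = t * c' := by rw [hc'def, ht']; group
    have hc'M : c' ∈ M := h.cent t htH ht c' hc't
    have hd'c' : d' * c' * d'⁻¹ = c' := by
      calc d' * c' * d'⁻¹ = g⁻¹ * (d * c) * d⁻¹ * g := by rw [hc'def, hd'def]; group
        _ = g⁻¹ * (c * d) * d⁻¹ * g := by rw [hc]
        _ = c' := by rw [hc'def]; group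
    have hd'H : d' ∈ H := by
      by_contra hd'H
      apply hc'1
      apply h.ti d' hd'H c' hc'M
      rw [hd'c']
      exact hc'M
    have htd' : t * d' * t⁻¹ = d'⁻¹ := by
      have ht' : t = g⁻¹ * u * g := by rw [← hg]; group
      calc t * d' * t⁻¹ = g⁻¹ * (u * d * u⁻¹) * g := by rw [hd'def, ht']; group
        _ = g⁻¹ * d⁻¹ * g := by rw [hud]
        _ = d'⁻¹ := by rw [hd'def]; group
    have hd'sq : d' * d' ∈ M := by
      have h1 : d' * t * d'⁻¹ ∈ M := h.norm d' hd'H t htM
      have h2 : d' * t * d'⁻¹ = d' * d' * t := by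
        calc d' * t * d'⁻¹ = d' * (t * d'⁻¹ * t⁻¹) * t := by group
          _ = d' * (t * d' * t⁻¹)⁻¹ * t := by group
          _ = d' * d' * t := by rw [htd', inv_inv]
      rw [h2] at h1
      have : d' * d' = d' * d' * t * t⁻¹ := by group
      rw [this]
      exact M.mul_mem h1 (M.inv_mem htM)
    have hoddd' : Odd (orderOf d') := by
      have : orderOf d' = orderOf d := by
        rw [hd'def]
        have h7 : g⁻¹ * d * g = (MulAut.conj g⁻¹) d := by
          rw [MulAut.conj_apply, inv_inv]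
        rw [h7]
        exact MulEquiv.orderOf_eq (MulAut.conj g⁻¹) d
      rw [this]; exact hoddd
    have hd'M : d' ∈ M := by
      obtain ⟨k, hk⟩ := hoddd'
      have hpow : d' ^ (2 * k + 1) = 1 := by rw [← hk]; exact pow_orderOf_eq_one d'
      have h5 : d' = ((d' * d') ^ (k + 1)) := by
        have h6 : (d' * d') ^ (k + 1) = d' ^ (2 * k + 1) * d' := by
          rw [← pow_two, ← pow_mul, ← pow_succ]
          congr 1
        rw [h6, hpow, one_mul]
      rw [h5]
      exact M.pow_mem hd'sq _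
    have hd'cj : d' ∈ cj g⁻¹ H := by
      rw [cj, mem_map_conj_iff]
      have : (g⁻¹)⁻¹ * d' * g⁻¹ = d := by rw [hd'def]; group
      rw [this]
      exact hd.1
    have hg'H : g⁻¹ ∉ H := fun hh => hgH (by simpa using H.inv_mem hh)
    have hd'1 : d' = 1 := h3 g⁻¹ hg'H d' hd'M hd'cj
    apply hd1
    calc d = g * d' * g⁻¹ := by rw [hd'def]; group
      _ = 1 := by rw [hd'1]; group
  have hinvC := inverts_of_fixedPointFree huu C hnorm hfpf
  have hxC : x ∈ C := by
    rw [hCdef, Subgroup.mem_centralizer_singleton_iff]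
    exact hxd
  have hux : u * x * u⁻¹ = x⁻¹ := hinvC x hxC
  apply h.ti u huH x hxM
  rw [hux]
  exact M.inv_mem hxM

end Cfsg.Agent.Lib.Helper47.AbCent
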