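/-
helper47: S2202 module [I-6] (helper32's project, spine `Lib/Helper32/AbCentSPINE.md`): `fix2`.
-/
import Mathlib
import Cfsg.Prelude.Def_Involutions
import Cfsg.Agent.Lib.Helper21.StronglyEmbedded
import Cfsg.Agent.Lib.Helper32.AbCentDefs
import Cfsg.Agent.Lib.Helper47.AbCentI124

set_option autoImplicit false

namespace Cfsg.Agent.Lib.Helper47.AbCent

open Cfsg Cfsg.Agent.Lib.Helper32.AbCent Cfsg.Agent.Lib.Helper21

variable {G : Type*} [Group G] [Finite G] {H M : Subgroup G}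

omit [Finite G] in
/-- Conjugates by elements of the same coset coincide. -/
theorem cj_eq_of_mem {g v : G} (hgv : g⁻¹ * v ∈ H) : cj v H = cj g H := by
  ext x
  rw [cj, cj, mem_map_conj_iff, mem_map_conj_iff]
  have h1 : v⁻¹ * x * v = (g⁻¹ * v)⁻¹ * (g⁻¹ * x * g) * (g⁻¹ * v) := by group
  rw [h1]
  constructor
  · intro hx
    have := H.mul_mem (H.mul_mem hgv hx) (H.inv_mem hgv)
    have h2 : (g⁻¹ * v) * ((g⁻¹ * v)⁻¹ * (g⁻¹ * x * g) * (g⁻¹ * v)) * (g⁻¹ * v)⁻¹ = g⁻¹ * x * g := by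
      group
    rwa [h2] at this
  · intro hx
    exact H.mul_mem (H.mul_mem (H.inv_mem hgv) hx) hgv

/-- Every coset `gH ≠ H` of a strongly embedded subgroup contains an involution. -/
theorem exists_involution_coset (hH : IsStronglyEmbedded H) {g : G} (hg : g ∉ H) :
    ∃ v : G, orderOf v = 2 ∧ v ∉ H ∧ g⁻¹ * v ∈ H ∧ cj v H = cj g H := by
  classical
  obtain ⟨t, htH, ht⟩ := se_exists_involution hH
  have hxy : (QuotientGroup.mk 1 : G ⧸ H) ≠ QuotientGroup.mk g := by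
    intro heq
    apply hg
    have := QuotientGroup.eq.1 heq
    simpa using this
  have hcard := se_card_swapping hH hxy
  have hpos : 0 < Nat.card {t : G // orderOf t = 2 ∧ t ∈ H} := by
    have : Nonempty {t : G // orderOf t = 2 ∧ t ∈ H} := ⟨⟨t, ht, htH⟩⟩
    exact Nat.card_pos
  rw [← hcard] at hpos
  have := (Nat.card_pos_iff.1 hpos).1
  obtain ⟨i, hi, hix⟩ := Classical.arbitrary {i : G // orderOf i = 2 ∧
    i • (QuotientGroup.mk 1 : G ⧸ H) = QuotientGroup.mk g}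
  have hgi : g⁻¹ * i ∈ H := by
    have h1 : (QuotientGroup.mk (i * 1) : G ⧸ H) = QuotientGroup.mk g := hix
    rw [QuotientGroup.eq] at h1
    have h2 : g⁻¹ * i = ((i * 1)⁻¹ * g)⁻¹ := by group
    rw [h2]
    exact H.inv_mem h1
  refine ⟨i, hi, ?_, hgi, cj_eq_of_mem hgi⟩
  intro hiH
  apply hg
  have h2 : g = i * (g⁻¹ * i)⁻¹ := by group
  rw [h2]
  exact H.mul_mem hiH (H.inv_mem hgi)

omit [Finite G] in
/-- A subgroup inverted elementwise by an element is commutative. -/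
theorem commute_of_inverted {u : G} {D : Subgroup G} (hinv : ∀ d ∈ D, u * d * u⁻¹ = d⁻¹)
    {a b : G} (ha : a ∈ D) (hb : b ∈ D) : a * b = b * a := by
  have h1 : u * (a * b) * u⁻¹ = (a * b)⁻¹ := hinv _ (D.mul_mem ha hb)
  have h2 : u * (a * b) * u⁻¹ = a⁻¹ * b⁻¹ := by
    calc u * (a * b) * u⁻¹ = (u * a * u⁻¹) * (u * b * u⁻¹) := by group
      _ = a⁻¹ * b⁻¹ := by rw [hinv a ha, hinv b hb]
  have h3 : (a * b)⁻¹ = a⁻¹ * b⁻¹ := by rw [← h1, h2]
  have h4 : a * b = (a⁻¹ * b⁻¹)⁻¹ := by rw [← h3, inv_inv]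
  rw [h4]
  group

/-- Under the hypotheses of case (I): an element of `H` commuting with a nonidentity element of
`D_u` lies in `D_u`. -/
theorem mem_inter_of_commute (h : TIData H M) (h4 : DInv H) (h5 : Frob H M)
    {u : G} (hu : orderOf u = 2) (huH : u ∉ H) {d : G} (hd : d ∈ H ⊓ cj u H) (hd1 : d ≠ 1)
    {x : G} (hx : x ∈ H) (hxd : x * d = d * x) : x ∈ H ⊓ cj u H := by
  obtain ⟨d₁, hd₁, y, hy, hxy⟩ := exists_mul_of_mem_H h hu huH hx
  have hinv := (h4 u hu huH).2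
  have hdd : d₁ * d = d * d₁ := commute_of_inverted hinv hd₁ hd
  have hyd : y * d = d * y := by
    have hy' : y = d₁⁻¹ * x := by rw [hxy]; group
    calc y * d = d₁⁻¹ * (x * d) := by rw [hy']; group
      _ = d₁⁻¹ * (d * x) := by rw [hxd]
      _ = d₁⁻¹ * (d * d₁) * y := by rw [hxy]; group
      _ = d₁⁻¹ * (d₁ * d) * y := by rw [hdd]
      _ = d * y := by group
  have hy1 : y = 1 := h5 u hu huH d hd hd1 y hy hyd
  rw [hxy, hy1, mul_one]
  exact hd₁

/-- Under the hypotheses of case (I): an element of `H` conjugating a nonidentity element `d` of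
`D_u` into `D_u` lies in `D_u`. -/
theorem mem_inter_of_conj_mem (h : TIData H M) (h3 : FTriv H M) (h5 : Frob H M)
    {u : G} (hu : orderOf u = 2) (huH : u ∉ H) {d : G} (hd : d ∈ H ⊓ cj u H) (hd1 : d ≠ 1)
    {x : G} (hx : x ∈ H) (hxd : x * d * x⁻¹ ∈ H ⊓ cj u H) : x ∈ H ⊓ cj u H := by
  obtain ⟨d₁, hd₁, y, hy, hxy⟩ := exists_mul_of_mem_H h hu huH hx
  set D := H ⊓ cj u H with hDdef
  have hyd : y * d * y⁻¹ ∈ D := by
    have h1 : y * d * y⁻¹ = d₁⁻¹ * (x * d * x⁻¹) * d₁ := by rw [hxy]; group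
    rw [h1]
    exact D.mul_mem (D.mul_mem (D.inv_mem hd₁) hxd) hd₁
  have hcD : y * d * y⁻¹ * d⁻¹ ∈ D := D.mul_mem hyd (D.inv_mem hd)
  have hcM : y * d * y⁻¹ * d⁻¹ ∈ M := by
    have h1 : d * y⁻¹ * d⁻¹ ∈ M := h.norm d hd.1 y⁻¹ (M.inv_mem hy)
    have h2 : y * d * y⁻¹ * d⁻¹ = y * (d * y⁻¹ * d⁻¹) := by group
    rw [h2]
    exact M.mul_mem hy h1
  have hc1 : y * d * y⁻¹ * d⁻¹ = 1 := h3 u huH _ hcM hcD.2
  have hyd' : y * d = d * y := by
    calc y * d = (y * d * y⁻¹ * d⁻¹) * d * y := by group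
      _ = d * y := by rw [hc1]; group
  have hy1 : y = 1 := h5 u hu huH d hd hd1 y hy hyd'
  rw [hxy, hy1, mul_one]
  exact hd₁

/-- [I-6] -/
theorem fix2 (h : TIData H M) (h3 : FTriv H M) (h4 : DInv H) (h5 : Frob H M) : Fix2 H := by
  classical
  intro u hu huH d hd hd1 g hgH hdg
  by_contra hcon
  have huinv : u⁻¹ = u := inv_inv_eq hu
  obtain ⟨v, hv, hvH, hgv, hcjv⟩ := exists_involution_coset h.se hgH
  have hvinv : v⁻¹ = v := inv_inv_eq hv
  have hdv : d ∈ H ⊓ cj v H := ⟨hd.1, by rw [hcjv]; exact hdg⟩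
  have hinvu := (h4 u hu huH).2
  have hinvv := (h4 v hv hvH).2
  -- `D_u = D_v`
  have hDeq : H ⊓ cj u H = H ⊓ cj v H := by
    apply le_antisymm
    · intro e he
      exact mem_inter_of_commute h h4 h5 hv hvH hdv hd1 he.1 (commute_of_inverted hinvu he hd)
    · intro e he
      exact mem_inter_of_commute h h4 h5 hu huH hd hd1 he.1 (commute_of_inverted hinvv he hdv)
  set w := u⁻¹ * v with hwdef
  have hwH : w ∉ H := by
    intro hw
    apply hcon
    have h1 : u⁻¹ * g = w * (g⁻¹ * v)⁻¹ := by rw [hwdef]; group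
    rw [h1]
    exact H.mul_mem hw (H.inv_mem hgv)
  -- `w` centralizes `D_u`
  have hwc : ∀ e ∈ H ⊓ cj u H, w * e * w⁻¹ = e := by
    intro e he
    have he' : e ∈ H ⊓ cj v H := by rw [← hDeq]; exact he
    have h1 : v * e * v⁻¹ = e⁻¹ := hinvv e he'
    have h2 : u * e⁻¹ * u⁻¹ = e := by
      have := hinvu e⁻¹ ((H ⊓ cj u H).inv_mem he)
      rwa [inv_inv] at this
    calc w * e * w⁻¹ = u⁻¹ * (v * e * v⁻¹) * u := by rw [hwdef]; group
      _ = u⁻¹ * e⁻¹ * u := by rw [h1]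
      _ = u * e⁻¹ * u⁻¹ := by rw [huinv]
      _ = e := h2
  have hwc' : ∀ e ∈ H ⊓ cj u H, w⁻¹ * e * w = e := by
    intro e he
    have := hwc e he
    calc w⁻¹ * e * w = w⁻¹ * (w * e * w⁻¹) * w := by rw [this]
      _ = e := by group
  obtain ⟨v', hv', hv'H, hwv', hcjv'⟩ := exists_involution_coset h.se hwH
  have hDle : H ⊓ cj u H ≤ H ⊓ cj v' H := by
    intro e he
    refine ⟨he.1, ?_⟩
    rw [hcjv']
    show e ∈ cj w H
    rw [cj, mem_map_conj_iff, hwc' e he]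
    exact he.1
  have hDeq' : H ⊓ cj u H = H ⊓ cj v' H := by
    apply Subgroup.eq_of_le_of_card_ge hDle
    rw [(h4 u hu huH).1, (h4 v' hv' hv'H).1]
  have hinvv' := (h4 v' hv' hv'H).2
  set h₁ := w⁻¹ * v' with hh₁def
  have hh₁H : h₁ ∈ H := hwv'
  have hconj : h₁ * d * h₁⁻¹ = d⁻¹ := by
    have hd' : d ∈ H ⊓ cj v' H := by rw [← hDeq']; exact hd
    have h1 : v' * d * v'⁻¹ = d⁻¹ := hinvv' d hd'
    calc h₁ * d * h₁⁻¹ = w⁻¹ * (v' * d * v'⁻¹) * w := by rw [hh₁def]; group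
      _ = w⁻¹ * d⁻¹ * w := by rw [h1]
      _ = d⁻¹ := hwc' d⁻¹ ((H ⊓ cj u H).inv_mem hd)
  have hh₁D : h₁ ∈ H ⊓ cj u H := by
    apply mem_inter_of_conj_mem h h3 h5 hu huH hd hd1 hh₁H
    rw [hconj]
    exact (H ⊓ cj u H).inv_mem hd
  have hcomm : h₁ * d = d * h₁ := commute_of_inverted hinvu hh₁D hd
  have hdd : d * d = 1 := by
    have h1 : h₁ * d * h₁⁻¹ = d := by
      calc h₁ * d * h₁⁻¹ = d * h₁ * h₁⁻¹ := by rw [hcomm]
        _ = d := by group
    have h2 : d = d⁻¹ := h1.symm.trans hconj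
    calc d * d = d * d⁻¹ := by rw [← h2]
      _ = 1 := by group
  -- `d` has odd order
  have hoddD : Odd (Nat.card ↥(H ⊓ cj u H)) := h.se.2.2 u huH
  have hoddd : Odd (orderOf d) := by
    have hdvd : orderOf d ∣ Nat.card ↥(H ⊓ cj u H) := by
      have := orderOf_dvd_natCard (⟨d, hd⟩ : ↥(H ⊓ cj u H))
      rwa [Subgroup.orderOf_mk] at this
    exact Odd.of_dvd_nat hoddD hdvd
  have hdvd2 : orderOf d ∣ 2 := orderOf_dvd_of_pow_eq_one (by rw [pow_two]; exact hdd)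
  have hcop : Nat.Coprime (orderOf d) 2 := Nat.coprime_two_right.2 hoddd
  have hord : orderOf d = 1 := Nat.Coprime.eq_one_of_dvd hcop hdvd2
  exact hd1 (orderOf_eq_one_iff.1 hord)

end Cfsg.Agent.Lib.Helper47.AbCent
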