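import Mathlib
import Cfsg.Agent.Lib.Helper32.SLMD.Defs2

/-!
# SLMD-[G-FIXREP] (helper47): character of the representation on `C_V(ν N)` and
eigenspace transfer.
-/

set_option autoImplicit false
set_option linter.unusedSectionVars false
set_option linter.unusedVariables false

namespace Cfsg.Agent.Lib.Helper32.SLMD

open Matrix Cfsg.Agent.Lib.Helper41 Cfsg.Agent.Lib.Helper39 Module
open scoped LinearAlgebra.Projectivization

section generic

variable {G : Type*} [Group G] {N : Type*} [Group N] [Fintype N] {H : Type*} [Group H]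
  {V : Type*} [AddCommGroup V] [Module ℂ V] [FiniteDimensional ℂ V]

/-- [G-FIXREP] -/
theorem fixRep_character (ρ : Representation ℂ G V) (ν : N →* G) (φ : H →* G)
    (hnorm : ∀ (h : H) (n : N), ∃ n' : N, (φ h)⁻¹ * ν n * φ h = ν n') (h : H) :
    (Fintype.card N : ℂ) * (fixRep ρ ν φ hnorm).character h =
      ∑ n : N, ρ.character (φ h * ν n) := by
  classical
  set W : Submodule ℂ V := eigenSub ρ ν 1 with hW
  set E : Module.End ℂ V := twistSum ρ ν 1 with hE
  set f : Module.End ℂ V := ρ (φ h) * E with hf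
  have hfmem : ∀ x, f x ∈ W := by
    intro x
    rw [hf, Module.End.mul_apply]
    exact eigenSub_one_invariant ρ ν (φ h) (hnorm h) (twistSum_mem ρ ν 1 x)
  have htr := LinearMap.trace_restrict_eq_of_forall_mem W f hfmem
  have hres : f.restrict (fun x _ => hfmem x) =
      (Fintype.card N : ℂ) • (fixRep ρ ν φ hnorm h) := by
    apply LinearMap.ext
    intro v
    apply Subtype.ext
    rw [LinearMap.restrict_apply]
    simp only [LinearMap.smul_apply, Submodule.coe_smul, fixRep_apply_coe]
    rw [hf, Module.End.mul_apply, hE, twistSum_apply_of_mem ρ ν 1 v.2, map_smul]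
  have htrf : LinearMap.trace ℂ V f = ∑ n : N, ρ.character (φ h * ν n) := by
    rw [hf, hE, twistSum, Finset.mul_sum, map_sum]
    refine Finset.sum_congr rfl fun n _ => ?_
    have h1 : ρ (φ h * ν n) = ρ (φ h) * ρ (ν n) := map_mul ρ _ _
    rw [Representation.character, h1]
    simp
  rw [hres, map_smul, smul_eq_mul] at htr
  rw [← htrf, ← htr]
  rfl

/-- [G-FIXREP] -/
theorem fixRep_eigen_finrank {K : Type*} [Group K] (ρ : Representation ℂ G V) (ν : N →* G)
    (φ : H →* G) (hnorm : ∀ (h : H) (n : N), ∃ n' : N, (φ h)⁻¹ * ν n * φ h = ν n')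
    (ψ : K →* H) (mu : K →* ℂˣ) :
    finrank ℂ ↥(eigenSub (fixRep ρ ν φ hnorm) ψ mu) =
      finrank ℂ ↥(eigenSub ρ ν 1 ⊓ eigenSub ρ (φ.comp ψ) mu) := by
  have hmap : (eigenSub (fixRep ρ ν φ hnorm) ψ mu).map (eigenSub ρ ν 1).subtype =
      eigenSub ρ ν 1 ⊓ eigenSub ρ (φ.comp ψ) mu := by
    ext v
    simp only [Submodule.mem_map, Submodule.mem_inf, Submodule.subtype_apply]
    constructor
    · rintro ⟨w, hw, rfl⟩
      refine ⟨w.2, ?_⟩
      rw [mem_eigenSub] at hw ⊢
      intro k
      have := congrArg Subtype.val (hw k)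
      simpa using this
    · rintro ⟨hv1, hv2⟩
      refine ⟨⟨v, hv1⟩, ?_, rfl⟩
      rw [mem_eigenSub] at hv2 ⊢
      intro k
      apply Subtype.ext
      have := hv2 k
      simpa using this
  rw [← hmap, Submodule.finrank_map_subtype_eq]

end generic

end Cfsg.Agent.Lib.Helper32.SLMD
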