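import Mathlib
import Cfsg.Agent.Lib.Helper32.SLMD.Defs2
import Cfsg.Agent.Lib.Helper65.SlmdGCommProj
import Cfsg.Agent.Lib.Helper65.SlmdGPsi

/-!
# SLMD-[N-A1B] (helper47)
-/

set_option autoImplicit false
set_option linter.unusedSectionVars false
set_option linter.unusedVariables false

namespace Cfsg.Agent.Lib.Helper32.SLMD

open Matrix Cfsg.Agent.Lib.Helper41 Cfsg.Agent.Lib.Helper39 Module
open scoped LinearAlgebra.Projectivization

variable {F : Type*} [Field F] [Fintype F] [DecidableEq F] {k : ℕ}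

namespace A1B

variable {V : Type*} [AddCommGroup V] [Module ℂ V] [FiniteDimensional ℂ V]

/-- translation invariance of `a ↦ χ(a1El a * a2El (single j s))` along `e_j`, for `s ≠ 0` -/
theorem char_translate (ρ : Representation ℂ (GG F k) V) (j : Fin k) (s : F) (hs : s ≠ 0)
    (c : F) (a : Fin k → F) :
    ρ.character (a1El (a + Pi.single j c) * a2El (Pi.single j s)) =
      ρ.character (a1El a * a2El (Pi.single j s)) := by
  rw [a1El_mul_a2El, a1El_mul_a2El]
  have h := x12_conj_uQ2 (k := k) (c / s) a (Pi.single j s)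
  have h2 : (c / s) • (Pi.single j s : Fin k → F) = Pi.single j c := by
    rw [← Pi.single_smul, smul_eq_mul, div_mul_cancel₀ c hs]
  rw [h2] at h
  rw [← h, Representation.char_conj]

theorem sum_eq_zero (ρ : Representation ℂ (GG F k) V) (ψ : Multiplicative F →* ℂˣ) (hψ : ψ ≠ 1)
    (j : Fin k) (s : F) (hs : s ≠ 0) :
    ∑ a : Multiplicative (Fin k → F), ((((prChar ψ j) a)⁻¹ : ℂˣ) : ℂ) *
      ρ.character (a1Hom a * x2Hom j (Multiplicative.ofAdd s)) = 0 := by
  classical
  obtain ⟨x, hx⟩ : ∃ x : Multiplicative F, ψ x ≠ 1 := by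
    by_contra hcon
    push Not at hcon
    exact hψ (MonoidHom.ext fun x => by simpa using hcon x)
  set c : F := x.toAdd with hc
  set t : Multiplicative (Fin k → F) := Multiplicative.ofAdd (Pi.single j c) with ht
  set S : ℂ := ∑ a : Multiplicative (Fin k → F), ((((prChar ψ j) a)⁻¹ : ℂˣ) : ℂ) *
      ρ.character (a1Hom a * x2Hom j (Multiplicative.ofAdd s)) with hS
  have hlamt : (prChar ψ j) t = ψ x := by
    show ψ (Multiplicative.ofAdd ((Pi.single j c : Fin k → F) j)) = ψ x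
    rw [Pi.single_eq_same]; rfl
  have h1 : S = (((ψ x)⁻¹ : ℂˣ) : ℂ) * S := by
    have hre : ∑ a : Multiplicative (Fin k → F), ((((prChar ψ j) (a * t))⁻¹ : ℂˣ) : ℂ) *
        ρ.character (a1Hom (a * t) * x2Hom j (Multiplicative.ofAdd s)) = S := by
      rw [hS]
      exact Fintype.sum_equiv (Equiv.mulRight t)
        (fun a : Multiplicative (Fin k → F) => ((((prChar ψ j) (a * t))⁻¹ : ℂˣ) : ℂ) *
          ρ.character (a1Hom (a * t) * x2Hom j (Multiplicative.ofAdd s)))
        (fun a : Multiplicative (Fin k → F) => ((((prChar ψ j) a)⁻¹ : ℂˣ) : ℂ) *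
          ρ.character (a1Hom a * x2Hom j (Multiplicative.ofAdd s))) (fun a => rfl)
    have hre2 : ∑ a : Multiplicative (Fin k → F), ((((prChar ψ j) (a * t))⁻¹ : ℂˣ) : ℂ) *
        ρ.character (a1Hom (a * t) * x2Hom j (Multiplicative.ofAdd s)) =
        (((ψ x)⁻¹ : ℂˣ) : ℂ) * S := by
      rw [hS, Finset.mul_sum]
      refine Finset.sum_congr rfl fun a _ => ?_
      have h3 : ρ.character (a1Hom (a * t) * x2Hom j (Multiplicative.ofAdd s)) =
          ρ.character (a1Hom a * x2Hom j (Multiplicative.ofAdd s)) := by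
        have := char_translate ρ j s hs c a.toAdd
        simpa [ht] using this
      rw [h3, map_mul, hlamt, mul_inv, Units.val_mul]
      ring
    rw [← hre2, hre]
  have hne : (((ψ x)⁻¹ : ℂˣ) : ℂ) ≠ 1 := by
    intro h
    apply hx
    have : ((ψ x)⁻¹ : ℂˣ) = 1 := Units.ext h
    simpa using this
  have h4 : (1 - (((ψ x)⁻¹ : ℂˣ) : ℂ)) * S = 0 := by
    rw [sub_mul, one_mul, ← h1, sub_self]
  rcases mul_eq_zero.mp h4 with h5 | h5
  · exact absurd (sub_eq_zero.mp h5).symm hne
  · exact h5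

/-- sum of the inverse of a non-trivial character vanishes -/
theorem sum_inv_char {N : Type*} [Group N] [Fintype N] (lam : N →* ℂˣ) (hlam : lam ≠ 1) :
    ∑ n : N, (((lam n)⁻¹ : ℂˣ) : ℂ) = 0 := by
  classical
  have h := sum_hom_units_eq_zero ((Units.coeHom ℂ).comp lam⁻¹) (by
    intro h
    apply hlam
    ext n
    have := DFunLike.congr_fun h n
    simp only [MonoidHom.coe_comp, Function.comp_apply, MonoidHom.inv_apply, Units.coeHom_apply,
      MonoidHom.one_apply] at this
    have h2 : ((lam n)⁻¹ : ℂˣ) = 1 := Units.ext this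
    have h3 : lam n = 1 := by simpa using h2
    simp [h3])
  simpa using h

/-- inline [G-CONST] -/
theorem twist_sum_const {G : Type*} [Group G] {N : Type*} [Group N] [Fintype N]
    (ρ : Representation ℂ G V) (ν : N →* G) (τ : ℂ)
    (hτ : ∀ n : N, n ≠ 1 → ρ.character (ν n) = τ) (lam : N →* ℂˣ) (hlam : lam ≠ 1) :
    ∑ n : N, (((lam n)⁻¹ : ℂˣ) : ℂ) * ρ.character (ν n) = (finrank ℂ V : ℂ) - τ := by
  classical
  have h1 : ∀ n : N, (((lam n)⁻¹ : ℂˣ) : ℂ) * ρ.character (ν n) =
      (((lam n)⁻¹ : ℂˣ) : ℂ) * τ + (if n = 1 then ((finrank ℂ V : ℂ) - τ) else 0) := by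
    intro n
    by_cases hn : n = 1
    · subst hn
      simp [Representation.char_one]
    · rw [hτ n hn, if_neg hn, add_zero]
  rw [Finset.sum_congr rfl (fun n _ => h1 n), Finset.sum_add_distrib, ← Finset.sum_mul,
    sum_inv_char lam hlam, zero_mul, zero_add, Finset.sum_ite_eq' Finset.univ (1 : N)]
  simp

end A1B

section gg

variable {V : Type*} [AddCommGroup V] [Module ℂ V] [FiniteDimensional ℂ V]

/-- [N-A1B] in `_of` form: `m1_char`, `m1_dim` ([N-MULT]) as hypotheses -/
theorem A1B.a1b_of (ρ : Representation ℂ (GG F k) V)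
    (hchar : ∀ (s : F) (a : Fin k → F), (s ≠ 0 ∨ a ≠ 0) →
      ρ.character (qEl s a) = (cQ ρ : ℂ) - 1)
    (hdim : finrank ℂ V + 1 = cQ ρ + Fintype.card F ^ (k + 1))
    (ψ : Multiplicative F →* ℂˣ) (hψ : ψ ≠ 1) (j : Fin k) :
    finrank ℂ ↥(eigenSub ρ (a1Hom : _ →* GG F k) (prChar ψ j) ⊓
      eigenSub ρ (x2Hom j : _ →* GG F k) 1) = 1 := by
  classical
  have hcomm : ∀ (n : Multiplicative (Fin k → F)) (h : Multiplicative F),
      Commute ((a1Hom : _ →* GG F k) n) (x2Hom j h) := by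
    intro n h
    show a1El n.toAdd * a2El (Pi.single j h.toAdd) = a2El (Pi.single j h.toAdd) * a1El n.toAdd
    rw [a1El_mul_a2El, a2El_mul_a1El]
  have hmain := comm_proj_sum ρ (a1Hom : _ →* GG F k) (x2Hom j) hcomm (prChar ψ j) 1
  rw [Finset.sum_comm] at hmain
  -- only the term `s = 1` survives
  have hlam : (prChar ψ j : Multiplicative (Fin k → F) →* ℂˣ) ≠ 1 := prChar_ne_one ψ hψ j
  have hτ : ∀ n : Multiplicative (Fin k → F), n ≠ 1 →
      ρ.character ((a1Hom : _ →* GG F k) n) = (cQ ρ : ℂ) - 1 := by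
    intro n hn
    have hn' : n.toAdd ≠ 0 := fun h => hn (by
      have : n = Multiplicative.ofAdd (0 : Fin k → F) := by rw [← h]; rfl
      simpa using this)
    have := hchar 0 n.toAdd (Or.inr hn')
    rw [qEl, x12_zero, one_mul] at this
    exact this
  have hs1 : ∑ a : Multiplicative (Fin k → F), ((((prChar ψ j) a)⁻¹ : ℂˣ) : ℂ) *
      ρ.character ((a1Hom : _ →* GG F k) a) = (finrank ℂ V : ℂ) - ((cQ ρ : ℂ) - 1) := by
    exact A1B.twist_sum_const ρ (a1Hom : _ →* GG F k) _ hτ (prChar ψ j) hlam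
  have hsum : ∑ h : Multiplicative F, ∑ n : Multiplicative (Fin k → F),
      ((((prChar ψ j) n)⁻¹ : ℂˣ) : ℂ) * ((((1 : Multiplicative F →* ℂˣ) h)⁻¹ : ℂˣ) : ℂ) *
        ρ.character ((a1Hom : _ →* GG F k) n * x2Hom j h) =
      (finrank ℂ V : ℂ) - ((cQ ρ : ℂ) - 1) := by
    rw [Finset.sum_eq_single (1 : Multiplicative F)]
    · rw [← hs1]
      refine Finset.sum_congr rfl fun n _ => ?_
      simp only [map_one, mul_one, inv_one, Units.val_one]
    · intro h _ hh
      have hh' : h.toAdd ≠ 0 := fun h0 => hh (by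
        have : h = Multiplicative.ofAdd (0 : F) := by rw [← h0]; rfl
        simpa using this)
      have := A1B.sum_eq_zero ρ ψ hψ j h.toAdd hh'
      rw [← this]
      refine Finset.sum_congr rfl fun n _ => ?_
      simp
    · intro h; exact absurd (Finset.mem_univ _) h
  rw [hsum] at hmain
  have hq : (Fintype.card F : ℂ) ≠ 0 := by exact_mod_cast Fintype.card_ne_zero
  have hcN : (Fintype.card (Multiplicative (Fin k → F)) : ℂ) = (Fintype.card F : ℂ) ^ k := by
    simp
  have hcH : (Fintype.card (Multiplicative F) : ℂ) = (Fintype.card F : ℂ) := by simp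
  rw [hcN, hcH] at hmain
  have hD : (finrank ℂ V : ℂ) - ((cQ ρ : ℂ) - 1) = (Fintype.card F : ℂ) ^ (k + 1) := by
    have : ((finrank ℂ V + 1 : ℕ) : ℂ) = ((cQ ρ + Fintype.card F ^ (k + 1) : ℕ) : ℂ) := by
      rw [hdim]
    push_cast at this
    linear_combination this
  rw [hD, pow_succ] at hmain
  have hne : (Fintype.card F : ℂ) ^ k * (Fintype.card F : ℂ) ≠ 0 := mul_ne_zero (pow_ne_zero _ hq) hq
  have h1 : ((finrank ℂ ↥(eigenSub ρ (a1Hom : _ →* GG F k) (prChar ψ j) ⊓
      eigenSub ρ (x2Hom j : _ →* GG F k) 1) : ℕ) : ℂ) = 1 := by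
    have := mul_left_cancel₀ hne ((mul_one _).trans hmain)
    exact this.symm
  exact_mod_cast h1

end gg

end Cfsg.Agent.Lib.Helper32.SLMD
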