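import Mathlib
import Cfsg.Agent.Lib.Helper32.SLMD.Defs2
import Cfsg.Agent.Lib.Helper95.SlmdGIndep

/-!
# SLMD-[N-VEC] (helper47): the averaged vector `w = ∑_s ρ(a2El (single j s)) ℓ`
-/

set_option autoImplicit false
set_option linter.unusedSectionVars false
set_option linter.unusedVariables false

namespace Cfsg.Agent.Lib.Helper32.SLMD

open Matrix Cfsg.Agent.Lib.Helper41 Cfsg.Agent.Lib.Helper39 Module
open scoped LinearAlgebra.Projectivization

variable {F : Type*} [Field F] [Fintype F] [DecidableEq F] {k : ℕ}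

namespace Vec

variable {V : Type*} [AddCommGroup V] [Module ℂ V]

theorem a2El_neg (c : Fin k → F) : (a2El (-c) : GG F k) = (a2El c)⁻¹ := by
  rw [eq_inv_iff_mul_eq_one, ← a2El_add, neg_add_cancel]
  exact (a2Hom : _ →* GG F k).map_one

theorem a2El_zero : (a2El (0 : Fin k → F) : GG F k) = 1 := (a2Hom : _ →* GG F k).map_one

/-- the character `(s', a) ↦ ψ (a j + s' * s)` of `Q` -/
def lamS (ψ : Multiplicative F →* ℂˣ) (j : Fin k) (s : F) :
    Multiplicative (F × (Fin k → F)) →* ℂˣ where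
  toFun v := ψ (Multiplicative.ofAdd (v.toAdd.2 j + v.toAdd.1 * s))
  map_one' := by simpa using ψ.map_one
  map_mul' a b := by
    show ψ (Multiplicative.ofAdd ((a.toAdd + b.toAdd).2 j + (a.toAdd + b.toAdd).1 * s)) = _
    rw [Prod.snd_add, Prod.fst_add, Pi.add_apply, ← map_mul, ← ofAdd_add]
    congr 2
    ring

theorem lamS_injective (ψ : Multiplicative F →* ℂˣ) (hψ : ψ ≠ 1) (j : Fin k) :
    Function.Injective (lamS (k := k) ψ j) := by
  intro s s' h
  by_contra hne
  apply hψ
  apply MonoidHom.ext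
  intro x
  have hd : s - s' ≠ 0 := sub_ne_zero.mpr hne
  have := DFunLike.congr_fun h
    (Multiplicative.ofAdd ((x.toAdd / (s - s'), (0 : Fin k → F)) : F × (Fin k → F)))
  have h1 : ψ (Multiplicative.ofAdd (x.toAdd / (s - s') * s)) =
      ψ (Multiplicative.ofAdd (x.toAdd / (s - s') * s')) := by
    simpa [lamS] using this
  have h2 : x = Multiplicative.ofAdd (x.toAdd / (s - s') * s') *
      Multiplicative.ofAdd (x.toAdd - x.toAdd / (s - s') * s') := by
    rw [← ofAdd_add]
    simp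
  have h3 : x.toAdd / (s - s') * s = x.toAdd / (s - s') * s' + x.toAdd := by
    field_simp
    ring
  rw [h3, ofAdd_add, map_mul] at h1
  have h4 : ψ (Multiplicative.ofAdd x.toAdd) = 1 := by
    have := mul_left_cancel (h1.trans (mul_one _).symm)
    exact this
  simpa using h4

/-- conjugation of `Q` by `a2El c` -/
theorem conj_qHom (c : Fin k → F) (x : Multiplicative (F × (Fin k → F))) :
    ((a2El c : GG F k))⁻¹ * qHom x * a2El c =
      qHom (Multiplicative.ofAdd ((x.toAdd.1, x.toAdd.2 + x.toAdd.1 • c) : F × (Fin k → F))) := by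
  have h := a2El_conj_qEl (-c) x.toAdd.1 x.toAdd.2
  rw [a2El_neg, inv_inv] at h
  rw [qHom_apply, h, qHom_apply]
  simp [sub_eq_add_neg]

/-- `ρ(a2El (single j s)) ℓ` lies in the `lamS s`-eigenspace of `Q` -/
theorem mem_lamS (ρ : Representation ℂ (GG F k) V) (ψ : Multiplicative F →* ℂˣ) (j : Fin k)
    (ℓ : V) (hℓ : ℓ ∈ eigenSub ρ (qHom : _ →* GG F k) (qChar ψ j)) (s : F) :
    ρ (a2El (Pi.single j s)) ℓ ∈ eigenSub ρ (qHom : _ →* GG F k) (lamS ψ j s) := by
  refine conj_eigenSub ρ (qHom : _ →* GG F k) (qHom : _ →* GG F k) (a2El (Pi.single j s))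
    (fun x => Multiplicative.ofAdd ((x.toAdd.1, x.toAdd.2 + x.toAdd.1 • (Pi.single j s : Fin k → F)) :
      F × (Fin k → F)))
    (fun x => conj_qHom (Pi.single j s) x) (qChar ψ j) (lamS ψ j s) ?_ hℓ
  intro x
  show ψ (Multiplicative.ofAdd ((x.toAdd.2 + x.toAdd.1 • (Pi.single j s : Fin k → F)) j)) =
    ψ (Multiplicative.ofAdd (x.toAdd.2 j + x.toAdd.1 * s))
  simp

/-- elements of `A₂` with `j`-th coordinate zero fix `ℓ` -/
theorem fix_of_coord_zero (ρ : Representation ℂ (GG F k) V) (j : Fin k) (ℓ : V)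
    (hfix : ∀ i : Fin k, i ≠ j → ∀ b : F, ρ (a2El (Pi.single i b)) ℓ = ℓ)
    (b : Fin k → F) (hb : b j = 0) : ρ (a2El b) ℓ = ℓ := by
  classical
  let S : AddSubmonoid (Fin k → F) :=
    { carrier := {b | ρ (a2El b) ℓ = ℓ}
      zero_mem' := by
        show ρ (a2El 0) ℓ = ℓ
        rw [a2El_zero, map_one]; rfl
      add_mem' := by
        intro b b' hb hb'
        show ρ (a2El (b + b')) ℓ = ℓ
        rw [a2El_add, map_mul, Module.End.mul_apply, hb', hb] }
  have hmem : ∀ i, (Pi.single i (b i) : Fin k → F) ∈ S := by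
    intro i
    by_cases hi : i = j
    · subst hi
      rw [hb, Pi.single_zero]
      exact S.zero_mem
    · exact hfix i hi (b i)
  have hsum : b = ∑ i, (Pi.single i (b i) : Fin k → F) := (Finset.univ_sum_single b).symm
  have : b ∈ S := by
    rw [hsum]
    exact S.sum_mem (fun i _ => hmem i)
  exact this

end Vec

section gg

variable {V : Type*} [AddCommGroup V] [Module ℂ V] [FiniteDimensional ℂ V]

/-- [N-VEC] -/
theorem vec [NeZero k] (ρ : Representation ℂ (GG F k) V) (ψ : Multiplicative F →* ℂˣ)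
    (hψ : ψ ≠ 1) (j : Fin k) (ℓ : V) (hℓ : ℓ ∈ eigenSub ρ (qHom : _ →* GG F k) (qChar ψ j))
    (hℓ0 : ℓ ≠ 0)
    (hfix : ∀ i : Fin k, i ≠ j → ∀ b : F, ρ (a2El (Pi.single i b)) ℓ = ℓ) :
    (∑ s : F, ρ (a2El (Pi.single j s)) ℓ) ≠ 0 ∧
      (∑ s : F, ρ (a2El (Pi.single j s)) ℓ) ∈
        eigenSub ρ (a2Hom : _ →* GG F k) 1 ⊓ eigenSub ρ (a1Hom : _ →* GG F k) (prChar ψ j) := by
  classical
  refine ⟨?_, Submodule.mem_inf.mpr ⟨?_, ?_⟩⟩
  · -- nonzero: linear independence
    have hind : iSupIndep (fun s : F => eigenSub ρ (qHom : _ →* GG F k) (Vec.lamS ψ j s)) :=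
      (eigenSub_iSupIndep ρ (qHom : _ →* GG F k)).comp (Vec.lamS_injective ψ hψ j)
    have hne : ∀ s : F, ρ (a2El (Pi.single j s)) ℓ ≠ 0 := by
      intro s h
      apply hℓ0
      have := congrArg (ρ (a2El (Pi.single j s))⁻¹) h
      rw [← Module.End.mul_apply, ← map_mul, inv_mul_cancel, map_one, map_zero] at this
      exact this
    have hli := hind.linearIndependent (fun s : F => eigenSub ρ (qHom : _ →* GG F k) (Vec.lamS ψ j s))
      (fun s => Vec.mem_lamS ρ ψ j ℓ hℓ s) hne
    intro h0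
    have := Fintype.linearIndependent_iff.mp hli (fun _ => (1 : ℂ)) (by simpa using h0) (0 : F)
    exact one_ne_zero this
  · -- fixed by A₂
    rw [mem_eigenSub]
    intro b
    simp only [a2Hom_apply, MonoidHom.one_apply, Units.val_one, one_smul]
    set b0 : Fin k → F := b.toAdd with hb0
    rw [map_sum]
    have hterm : ∀ s : F, ρ (a2El b0) (ρ (a2El (Pi.single j s)) ℓ) =
        ρ (a2El (Pi.single j (s + b0 j))) ℓ := by
      intro s
      rw [← Module.End.mul_apply, ← map_mul, ← a2El_add]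
      let b1 : Fin k → F := b0 - (Pi.single j (b0 j) : Fin k → F)
      have hz : b1 j = 0 := by simp [b1]
      have hdec : b0 + Pi.single j s = Pi.single j (s + b0 j) + b1 := by
        rw [Pi.single_add]
        simp only [b1]
        abel
      rw [hdec, a2El_add, map_mul, Module.End.mul_apply,
        Vec.fix_of_coord_zero ρ j ℓ hfix b1 hz]
    rw [Finset.sum_congr rfl (fun s _ => hterm s)]
    exact Fintype.sum_equiv (Equiv.addRight (b0 j)) _ _ (fun s => rfl)
  · -- eigenvector for A₁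
    rw [mem_eigenSub]
    intro a
    simp only [a1Hom_apply]
    set a0 : Fin k → F := a.toAdd with ha0
    rw [map_sum, Finset.smul_sum]
    refine Finset.sum_congr rfl fun s _ => ?_
    have hcomm : (a1El a0 : GG F k) * a2El (Pi.single j s) = a2El (Pi.single j s) * a1El a0 := by
      rw [a1El_mul_a2El, a2El_mul_a1El]
    rw [← Module.End.mul_apply, ← map_mul, hcomm, map_mul, Module.End.mul_apply]
    have hq : (a1El a0 : GG F k) = qHom (Multiplicative.ofAdd ((0, a0) : F × (Fin k → F))) := by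
      rw [qHom_apply]
      show a1El a0 = qEl 0 a0
      rw [qEl, x12_zero, one_mul]
    rw [hq, (mem_eigenSub ρ _ _ ℓ).mp hℓ, map_smul]
    rfl

end gg

end Cfsg.Agent.Lib.Helper32.SLMD
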