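/-
helper47: S1936-[ZJ], steps E3–E4 (pure balance combinatorics, Mathlib only).
`T` a subgroup of order at least 8, `θ` a balanced family with `θ b ≤ C(b)`, all `θ b` of the same order, and
every `C_T(θ b)` of index at most 2 in `T`: then `T` centralizes every `θ a`.
-/
import Mathlib

set_option autoImplicit false

namespace Cfsg.Agent.Lib.Helper47.S1936ZJ

open Subgroup

variable {G : Type*} [Group G] [Finite G]

/-- E4, first half: if `c ≠ 1` in `T` centralizes `θ b` then `θ b = θ c`. -/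
theorem theta_eq_of_centralizes (T : Subgroup G) (θ : G → Subgroup G)
    (hbal : ∀ a ∈ T, a ≠ 1 → ∀ b ∈ T, b ≠ 1 → θ a ⊓ centralizer {b} ≤ θ b)
    (hcard : ∀ a ∈ T, a ≠ 1 → ∀ b ∈ T, b ≠ 1 → Nat.card (θ a) = Nat.card (θ b))
    {b c : G} (hb : b ∈ T) (hb1 : b ≠ 1) (hc : c ∈ T) (hc1 : c ≠ 1)
    (hcb : c ∈ centralizer (θ b : Set G)) : θ b = θ c := by
  have hle : θ b ≤ θ c := by
    intro x hx
    apply hbal b hb hb1 c hc hc1
    refine Subgroup.mem_inf.2 ⟨hx, ?_⟩
    rw [Subgroup.mem_centralizer_iff]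
    intro y hy
    rw [Set.mem_singleton_iff] at hy
    subst hy
    rw [Subgroup.mem_centralizer_iff] at hcb
    exact (hcb x hx).symm
  exact Subgroup.eq_of_le_of_card_ge hle (hcard b hb hb1 c hc hc1).ge

/-- E3–E4: `T` centralizes every `θ a`. -/
theorem le_centralizer_theta (T : Subgroup G) (hT8 : 8 ≤ Nat.card T) (θ : G → Subgroup G)
    (hθC : ∀ b ∈ T, b ≠ 1 → θ b ≤ centralizer {b})
    (hbal : ∀ a ∈ T, a ≠ 1 → ∀ b ∈ T, b ≠ 1 → θ a ⊓ centralizer {b} ≤ θ b)
    (hcard : ∀ a ∈ T, a ≠ 1 → ∀ b ∈ T, b ≠ 1 → Nat.card (θ a) = Nat.card (θ b))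
    (hidx : ∀ b ∈ T, b ≠ 1 → (centralizer (θ b : Set G)).relIndex T ≤ 2) :
    ∀ a ∈ T, a ≠ 1 → T ≤ centralizer (θ a : Set G) := by
  intro a ha ha1
  by_contra hnot
  obtain ⟨c, hcT, hcn⟩ := SetLike.not_le_iff_exists.1 hnot
  have hc1 : c ≠ 1 := by
    intro h
    rw [h] at hcn
    exact hcn (one_mem _)
  -- the intersection of the two centralizers with `T` is non-trivial
  have h1 : (centralizer (θ a : Set G) ⊓ centralizer (θ c : Set G)).relIndex T ≤ 4 := by
    calc (centralizer (θ a : Set G) ⊓ centralizer (θ c : Set G)).relIndex T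
        ≤ (centralizer (θ a : Set G)).relIndex T * (centralizer (θ c : Set G)).relIndex T :=
          Subgroup.relIndex_inf_le
      _ ≤ 2 * 2 := Nat.mul_le_mul (hidx a ha ha1) (hidx c hcT hc1)
  obtain ⟨D, hD⟩ : ∃ D : Subgroup G, D = centralizer (θ a : Set G) ⊓ centralizer (θ c : Set G) :=
    ⟨_, rfl⟩
  rw [← hD] at h1
  have h2 : (D.subgroupOf T).index * Nat.card (D.subgroupOf T) = Nat.card T :=
    Subgroup.index_mul_card _
  have h3 : (D.subgroupOf T).index ≤ 4 := h1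
  have h4 : 2 ≤ Nat.card (D.subgroupOf T) := by
    by_contra hlt
    have h5 : Nat.card (D.subgroupOf T) ≤ 1 := by omega
    have h6 : (D.subgroupOf T).index * Nat.card (D.subgroupOf T) ≤ 4 * 1 :=
      Nat.mul_le_mul h3 h5
    omega
  have h5 : (D.subgroupOf T) ≠ ⊥ := by
    intro h
    rw [h, Subgroup.card_bot] at h4
    omega
  obtain ⟨d, hdD, hd1⟩ := (Subgroup.bot_or_exists_ne_one (D.subgroupOf T)).resolve_left h5
  have hdT : (d : G) ∈ T := d.2
  have hd1' : (d : G) ≠ 1 := fun h => hd1 (Subtype.ext h)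
  have hdD' : (d : G) ∈ D := Subgroup.mem_subgroupOf.1 hdD
  rw [hD, Subgroup.mem_inf] at hdD'
  have e1 : θ a = θ (d : G) :=
    theta_eq_of_centralizes T θ hbal hcard ha ha1 hdT hd1' hdD'.1
  have e2 : θ c = θ (d : G) :=
    theta_eq_of_centralizes T θ hbal hcard hcT hc1 hdT hd1' hdD'.2
  apply hcn
  rw [e1, ← e2, Subgroup.mem_centralizer_iff]
  intro x hx
  have := hθC c hcT hc1 hx
  rw [Subgroup.mem_centralizer_iff] at this
  exact (this c rfl).symm

end Cfsg.Agent.Lib.Helper47.S1936ZJ
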