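/-
helper47: S1936-ZJ-[CENT] (E3, E4) and ZJ-[CT] (E5) in `_of` form: the statements of ZJ-[AUT], SIGF-[BAL] and
SIGM-[STAR] (for the given `T`, `M`) are hypotheses; the `θ`-lemmas of helper25 (SIGF-[EQV/PG]) are used.
-/
import Mathlib
import Cfsg.Agent.Lib.Helper22.S1936Defs
import Cfsg.Agent.Lib.Helper25.S1936Theta
import Cfsg.Agent.Lib.Helper47.S1936ZJBal

set_option autoImplicit false
set_option linter.unusedSectionVars false
universe u

namespace Cfsg.Agent.Lib.Helper47.S1936ZJ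

open Cfsg.Agent.Lib.Helper22.S1936

variable {G : Type u} [Group G] [Finite G] {p : ℕ} [Fact p.Prime]

/-- a group of exponent 2 is commutative -/
theorem comm_of_sq_eq_one {T : Subgroup G} (h : ∀ t ∈ T, t ^ 2 = 1) {x y : G} (hx : x ∈ T)
    (hy : y ∈ T) : x * y = y * x := by
  have h1 := h x hx
  have h2 := h y hy
  have h3 := h (x * y) (T.mul_mem hx hy)
  rw [pow_two] at h1 h2 h3
  have hxi : x⁻¹ = x := inv_eq_of_mul_eq_one_left h1
  have hyi : y⁻¹ = y := inv_eq_of_mul_eq_one_left h2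
  have h4 : (x * y)⁻¹ = x * y := inv_eq_of_mul_eq_one_left h3
  rw [mul_inv_rev, hxi, hyi] at h4
  exact h4.symm

/-- ZJ-[CENT] (E3, E4), `_of` form. -/
theorem sylow_two_centralizes_theta_of {T : Sylow 2 G} {M : Subgroup G}
    (hD : SEDatum T M)
    (hAUT : ∀ (Q V : Subgroup G), IsPGroup p ↥Q → IsPGroup 2 ↥V →
      V ≤ Subgroup.normalizer (Q : Set G) →
      (V ⊓ Subgroup.centralizer (Q : Set G)).relIndex V ≤ 2)
    (hBAL : ∀ {a b : G}, orderOf a = 2 → orderOf b = 2 → a * b = b * a →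
      theta p a ⊓ Subgroup.centralizer ({b} : Set G) ≤ theta p b)
    (htr : ∀ a ∈ (T : Subgroup G), ∀ b ∈ (T : Subgroup G), a ≠ 1 → b ≠ 1 →
      ∃ n ∈ Subgroup.normalizer ((T : Subgroup G) : Set G), n * a * n⁻¹ = b)
    {a : G} (haT : a ∈ (T : Subgroup G)) (ha1 : a ≠ 1) :
    (T : Subgroup G) ≤ Subgroup.centralizer ((theta p a : Subgroup G) : Set G) := by
  classical
  have hord : ∀ b ∈ (T : Subgroup G), b ≠ 1 → orderOf b = 2 := fun b hb hb1 =>
    orderOf_eq_prime (hD.elem b hb) hb1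
  have hcomm : ∀ x ∈ (T : Subgroup G), ∀ y ∈ (T : Subgroup G), x * y = y * x :=
    fun x hx y hy => comm_of_sq_eq_one hD.elem hx hy
  have hTle : ∀ b ∈ (T : Subgroup G), (T : Subgroup G) ≤ Subgroup.centralizer ({b} : Set G) := by
    intro b hb t ht
    rw [Subgroup.mem_centralizer_iff]
    intro y hy
    rw [Set.mem_singleton_iff] at hy
    subst hy
    exact hcomm y hb t ht
  refine le_centralizer_theta (T : Subgroup G) hD.card8 (theta p) ?_ ?_ ?_ ?_ a haT ha1
  · intro b _ _
    exact Cfsg.Agent.Lib.Helper25.S1936.theta_le_centralizer b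
  · intro a' ha' ha1' b hb hb1
    exact hBAL (hord a' ha' ha1') (hord b hb hb1) (hcomm a' ha' b hb)
  · intro a' ha' ha1' b hb hb1
    obtain ⟨n, -, hn⟩ := htr a' ha' b hb ha1' hb1
    rw [← hn, Cfsg.Agent.Lib.Helper25.S1936.theta_conj]
    exact (Subgroup.card_map_of_injective (MulAut.conj n).injective).symm
  · intro b hb hb1
    have h1 := hAUT (theta p b) (T : Subgroup G)
      (Cfsg.Agent.Lib.Helper25.S1936.theta_isPGroup b) T.isPGroup'
      ((hTle b hb).trans (Cfsg.Agent.Lib.Helper25.S1936.centralizer_le_normalizer_theta b))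
    rw [Subgroup.inf_relIndex_left] at h1
    exact h1

/-- ZJ-[CT] (E5), `_of` form. -/
theorem centralizer_eq_centralizer_sylow_of {T : Sylow 2 G} {M : Subgroup G}
    (hD : SEDatum T M)
    (hSTAR : ∀ {a : G}, a ∈ (T : Subgroup G) → orderOf a = 2 →
      ∀ c ∈ Subgroup.centralizer ({a} : Set G),
        ∃ r ∈ theta p a, ∃ n ∈ Subgroup.centralizer ({a} : Set G) ⊓
          Subgroup.normalizer ((T : Subgroup G) : Set G), c = r * n)
    (hreg : ∀ a ∈ (T : Subgroup G), a ≠ 1 →
        Subgroup.centralizer ({a} : Set G) ⊓ Subgroup.normalizer ((T : Subgroup G) : Set G) =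
          Subgroup.centralizer ((T : Subgroup G) : Set G))
    (hcen : ∀ a ∈ (T : Subgroup G), a ≠ 1 →
        (T : Subgroup G) ≤ Subgroup.centralizer ((theta p a : Subgroup G) : Set G))
    {a : G} (haT : a ∈ (T : Subgroup G)) (ha1 : a ≠ 1) :
    Subgroup.centralizer ({a} : Set G) = Subgroup.centralizer ((T : Subgroup G) : Set G) := by
  have ha : orderOf a = 2 := orderOf_eq_prime (hD.elem a haT) ha1
  apply le_antisymm
  · intro c hc
    obtain ⟨r, hr, n, hn, rfl⟩ := hSTAR haT ha c hc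
    rw [hreg a haT ha1] at hn
    refine Subgroup.mul_mem _ ?_ hn
    rw [Subgroup.mem_centralizer_iff]
    intro t ht
    have := hcen a haT ha1 ht
    rw [Subgroup.mem_centralizer_iff] at this
    exact (this r hr).symm
  · apply Subgroup.centralizer_le
    intro x hx
    rw [Set.mem_singleton_iff] at hx
    subst hx
    exact haT

end Cfsg.Agent.Lib.Helper47.S1936ZJ
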