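/-
helper47: modules PIM-[AVG] and PIM-[INNER] of helper41's project PIM (S4427).
Exact statements of notes/helper41_PIM_modules.lean.txt.
-/
import Mathlib
import Cfsg.Agent.Lib.Helper41.PIM.Defs
import Cfsg.Agent.Lib.Helper47.PIMBasic

set_option autoImplicit false

namespace Cfsg.Agent.Lib.Helper47.PIM

open Cfsg Cfsg.Agent.Lib.Helper16 Cfsg.Agent.Lib.Helper41.PIM
open scoped ComplexConjugate

universe u

variable {G : Type u} [Group G] [Fintype G]

/-! ### PIM-[AVG] -/

/-- the coefficients of `avg H c` -/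
theorem coeff_avg {R : Type*} [Semiring R] (H : Subgroup G) (c : R) (g : G) :
    (avg H c).coeff g = (open Classical in if g ∈ H then c else 0) := by
  classical
  unfold avg
  rw [MonoidAlgebra.coeff_sum, Finsupp.finsetSum_apply, Finset.sum_eq_single g]
  · by_cases hg : g ∈ H
    · rw [if_pos hg, if_pos hg, MonoidAlgebra.coeff_single, Finsupp.single_eq_same]
    · rw [if_neg hg, if_neg hg, MonoidAlgebra.coeff_zero, Finsupp.zero_apply]
  · intro b _ hb
    by_cases hbH : b ∈ H
    · rw [if_pos hbH, MonoidAlgebra.coeff_single, Finsupp.single_eq_of_ne (Ne.symm hb)]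
    · rw [if_neg hbH, MonoidAlgebra.coeff_zero, Finsupp.zero_apply]
  · intro hg
    exact absurd (Finset.mem_univ g) hg

/-- the number of elements of `H`, as the cardinality of a filter -/
theorem card_filter_mem_subgroup (H : Subgroup G) [DecidablePred (· ∈ H)] :
    (Finset.univ.filter (· ∈ H)).card = Nat.card H :=
  (Nat.subtype_card (Finset.univ.filter (· ∈ H)) (by simp)).symm

/-- `∑_g [g ∈ H] c = |H| c` -/
theorem sum_ite_mem_subgroup {R : Type*} [Semiring R] (H : Subgroup G) (c : R) :
    ∑ g : G, (open Classical in if g ∈ H then c else 0) = (Nat.card H : R) * c := by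
  classical
  rw [← Finset.sum_filter, Finset.sum_const, card_filter_mem_subgroup, nsmul_eq_mul]

theorem avg_mul_self {R : Type*} [CommRing R] (H : Subgroup G) (c : R)
    (hc : c * (Nat.card H : R) = 1) : avg H c * avg H c = avg H c := by
  classical
  apply MonoidAlgebra.ext
  ext g
  rw [coeff_mul_sum]
  simp only [coeff_avg]
  by_cases hg : g ∈ H
  · rw [if_pos hg]
    have hterm : ∀ h : G, (if h ∈ H then c else 0) * (if h⁻¹ * g ∈ H then c else 0) =
        if h ∈ H then c * c else 0 := by
      intro h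
      by_cases hh : h ∈ H
      · rw [if_pos hh, if_pos hh, if_pos (H.mul_mem (H.inv_mem hh) hg)]
      · rw [if_neg hh, if_neg hh, zero_mul]
    rw [Finset.sum_congr rfl (fun h _ => hterm h), sum_ite_mem_subgroup]
    calc (Nat.card H : R) * (c * c) = (c * (Nat.card H : R)) * c := by ring
      _ = c := by rw [hc, one_mul]
  · rw [if_neg hg]
    apply Finset.sum_eq_zero
    intro h _
    by_cases hh : h ∈ H
    · have hn : h⁻¹ * g ∉ H := by
        intro h'
        apply hg
        have := H.mul_mem hh h'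
        rwa [mul_inv_cancel_left] at this
      rw [if_neg hn, mul_zero]
    · rw [if_neg hh, zero_mul]

theorem aug_avg {R : Type*} [CommRing R] (H : Subgroup G) (c : R)
    (hc : c * (Nat.card H : R) = 1) : aug (avg H c) = 1 := by
  classical
  unfold aug
  simp only [coeff_avg]
  rw [sum_ite_mem_subgroup, mul_comm, hc]

theorem avg_map {R S : Type*} [Semiring R] [Semiring S] (f : R →+* S) (H : Subgroup G) (c : R) :
    MonoidAlgebra.mapRingHom G f (avg H c) = avg H (f c) := by
  classical
  unfold avg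
  rw [map_sum]
  apply Finset.sum_congr rfl
  intro g _
  by_cases hg : g ∈ H
  · rw [if_pos hg, if_pos hg, MonoidAlgebra.mapRingHom_single]
  · rw [if_neg hg, if_neg hg, map_zero]

omit [Fintype G] in
/-- `extendByZero` of the constant function `1` -/
theorem extendByZero_one_apply (H : Subgroup G) (g : G) :
    extendByZero H (fun _ : H => (1 : ℂ)) g = (open Classical in if g ∈ H then 1 else 0) := by
  classical
  unfold extendByZero
  by_cases hg : g ∈ H
  · rw [if_pos hg]
    have := Subtype.val_injective.extend_apply (fun _ : H => (1 : ℂ)) 0 (⟨g, hg⟩ : H)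
    exact this
  · rw [if_neg hg, Function.extend_apply']
    · rfl
    · rintro ⟨a, ha⟩
      exact hg (ha ▸ a.2)

theorem classTr_avg (H : Subgroup G) :
    classTr (avg H ((Nat.card H : ℂ)⁻¹)) = indFun H (fun _ : H => (1 : ℂ)) := by
  classical
  funext g
  unfold classTr indFun
  simp only [coeff_avg, extendByZero_one_apply]
  rw [Finset.mul_sum]
  apply Finset.sum_congr rfl
  intro h _
  have hinv : (h⁻¹ * g * h)⁻¹ = h⁻¹ * g⁻¹ * h := by group
  by_cases hh : h⁻¹ * g * h ∈ H
  · have h2 : h⁻¹ * g⁻¹ * h ∈ H := by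
      rw [← hinv]
      exact H.inv_mem hh
    rw [if_pos h2, if_pos hh, mul_one]
  · have h2 : h⁻¹ * g⁻¹ * h ∉ H := by
      intro h'
      apply hh
      have := H.inv_mem h'
      rwa [← hinv, inv_inv] at this
    rw [if_neg h2, if_neg hh, mul_zero]

/-! ### PIM-[INNER] -/

/-- `g ↦ h⁻¹ g⁻¹ h` as a permutation of `G` -/
def conjInvEquiv (h : G) : G ≃ G :=
  (Equiv.inv G).trans ((Equiv.mulLeft h⁻¹).trans (Equiv.mulRight h))

omit [Fintype G] in
theorem conjInvEquiv_apply (h g : G) : conjInvEquiv h g = h⁻¹ * g⁻¹ * h := rfl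

omit [Fintype G] in
theorem orderOf_conjInv (h g : G) : orderOf (h⁻¹ * g⁻¹ * h) = orderOf g := by
  have h1 : h⁻¹ * g⁻¹ * h = MulAut.conj h⁻¹ g⁻¹ := by
    rw [MulAut.conj_apply, inv_inv]
  rw [h1, MulEquiv.orderOf_eq, orderOf_inv]

theorem card_mul_inv_mul (z : ℂ) :
    (Nat.card G : ℂ)⁻¹ * ∑ _h : G, z = z := by
  have hG : (Nat.card G : ℂ) ≠ 0 := by
    exact_mod_cast (Nat.card_pos (α := G)).ne'
  rw [Finset.sum_const, Finset.card_univ, nsmul_eq_mul, ← Nat.card_eq_fintype_card, ← mul_assoc,
    inv_mul_cancel₀ hG, one_mul]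

theorem classInner_classTr_one (x : MonoidAlgebra ℂ G) :
    classInner (classTr x) (fun _ : G => (1 : ℂ)) = aug x := by
  unfold classInner classTr
  simp only [map_one, mul_one]
  rw [Finset.sum_comm]
  have key : ∀ h : G, ∑ g : G, x.coeff (h⁻¹ * g⁻¹ * h) = aug x := by
    intro h
    unfold aug
    apply Fintype.sum_equiv (conjInvEquiv h)
    intro g
    rfl
  rw [Finset.sum_congr rfl (fun h _ => key h), card_mul_inv_mul]

theorem classInner_classTr_theta (p : ℕ) (x : MonoidAlgebra ℂ G) (c : ℂ) (hc : (starRingEnd ℂ) c = c) :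
    classInner (classTr x) (fun g : G => if p ∣ orderOf g then (0 : ℂ) else c) =
      c * sumOn (regSet p G) x := by
  classical
  unfold classInner classTr
  have hθ : ∀ g : G, (starRingEnd ℂ) (if p ∣ orderOf g then (0 : ℂ) else c) =
      if p ∣ orderOf g then 0 else c := by
    intro g
    split_ifs
    · simp
    · exact hc
  simp only [hθ, Finset.sum_mul]
  rw [Finset.sum_comm]
  have key : ∀ h : G, ∑ g : G, x.coeff (h⁻¹ * g⁻¹ * h) * (if p ∣ orderOf g then 0 else c) =
      c * sumOn (regSet p G) x := by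
    intro h
    unfold sumOn
    rw [Finset.mul_sum]
    apply Fintype.sum_equiv (conjInvEquiv h)
    intro g
    rw [conjInvEquiv_apply]
    have hr : h⁻¹ * g⁻¹ * h ∈ regSet p G ↔ ¬ p ∣ orderOf g := by
      show ¬ p ∣ orderOf (h⁻¹ * g⁻¹ * h) ↔ ¬ p ∣ orderOf g
      rw [orderOf_conjInv]
    by_cases hg : p ∣ orderOf g
    · rw [if_pos hg, if_neg (fun h' => (hr.1 h') hg), mul_zero, mul_zero]
    · rw [if_neg hg, if_pos (hr.2 hg), mul_comm]
  rw [Finset.sum_congr rfl (fun h _ => key h), card_mul_inv_mul]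

end Cfsg.Agent.Lib.Helper47.PIM
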