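/-
helper47: S2202 module [I-7] (helper32's project, spine `Lib/Helper32/AbCentSPINE.md`):
`card_quot_and_trans`.
-/
import Mathlib
import Cfsg.Prelude.Def_Involutions
import Cfsg.Agent.Lib.Helper21.StronglyEmbedded
import Cfsg.Agent.Lib.Helper32.AbCentDefs
import Cfsg.Agent.Lib.Helper47.AbCentI124
import Cfsg.Agent.Lib.Helper47.AbCentI6

set_option autoImplicit false

namespace Cfsg.Agent.Lib.Helper47.AbCent

open Cfsg Cfsg.Agent.Lib.Helper32.AbCent Cfsg.Agent.Lib.Helper21

variable {G : Type*} [Group G] [Finite G] {H M : Subgroup G}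

omit [Finite G] in
/-- `M` acts freely on the cosets `≠ H`. -/
theorem eq_one_of_smul_eq (h3 : FTriv H M) {g : G} (hg : g ∉ H) {x : G} (hx : x ∈ M)
    (hfix : x • (QuotientGroup.mk g : G ⧸ H) = QuotientGroup.mk g) : x = 1 :=
  h3 g hg x hx ((mem_map_conj_iff_smul g x).2 hfix)

/-- `numInv H ≥ 2` under `TIData`. -/
theorem two_le_numInv (h : TIData H M) : 2 ≤ numInv H := by
  obtain ⟨a, b, haH, hbH, ha, hb, hab⟩ := h.two
  have : Nontrivial {t : G // orderOf t = 2 ∧ t ∈ H} :=
    ⟨⟨⟨a, ha, haH⟩, ⟨b, hb, hbH⟩, fun heq => hab (congrArg Subtype.val heq)⟩⟩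
  exact Finite.one_lt_card_iff_nontrivial.2 this

/-- The counting bound of [I-7]: `(n - 1) (m - 1) ≤ (m - 1) |M|`. -/
theorem card_quot_bound (h : TIData H M) (h3 : FTriv H M) (h4 : DInv H) (h6 : Fix2 H) :
    (Nat.card (G ⧸ H) - 1) * (numInv H - 1) ≤ (numInv H - 1) * Nat.card M := by
  classical
  letI : Fintype G := Fintype.ofFinite G
  letI : Fintype (G ⧸ H) := Fintype.ofFinite (G ⧸ H)
  set m := numInv H with hm
  let q₀ : G ⧸ H := QuotientGroup.mk 1
  let Ω' : Finset (G ⧸ H) := Finset.univ.erase q₀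
  let S : G ⧸ H → Finset G := fun q => (Finset.univ.filter (fun d : G => d ∈ H ∧ d • q = q)).erase 1
  let HM : Finset G := Finset.univ.filter (fun d : G => d ∈ H ∧ d ∉ M)
  have hΩcard : Ω'.card = Nat.card (G ⧸ H) - 1 := by
    rw [Finset.card_erase_of_mem (Finset.mem_univ _), Finset.card_univ, Nat.card_eq_fintype_card]
  -- cardinality of `H ∖ M`
  have hHMcard : HM.card = (m - 1) * Nat.card M := by
    have h1 : (Finset.univ.filter (fun d : G => d ∈ H)).card = Nat.card H := by
      rw [Nat.card_eq_fintype_card, Fintype.card_subtype]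
    have h2 : (Finset.univ.filter (fun d : G => d ∈ M)).card = Nat.card M := by
      rw [Nat.card_eq_fintype_card, Fintype.card_subtype]
    have h3' : HM = (Finset.univ.filter (fun d : G => d ∈ H)) \ (Finset.univ.filter (fun d : G => d ∈ M)) := by
      ext d
      simp [HM]
    have hsub : (Finset.univ.filter (fun d : G => d ∈ M)) ⊆ (Finset.univ.filter (fun d : G => d ∈ H)) := by
      intro d hd
      simp only [Finset.mem_filter, Finset.mem_univ, true_and] at hd ⊢
      exact h.le hd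
    rw [h3', Finset.card_sdiff_of_subset hsub, h1, h2, card_H_eq h, Nat.sub_mul, one_mul]
  -- each `S q` has `m - 1` elements
  have hScard : ∀ q ∈ Ω', (S q).card = m - 1 := by
    intro q hq
    obtain ⟨g, rfl⟩ := QuotientGroup.mk_surjective q
    have hgH : g ∉ H := by
      intro hgH
      have : (QuotientGroup.mk g : G ⧸ H) = q₀ := by
        show (QuotientGroup.mk g : G ⧸ H) = QuotientGroup.mk 1
        rw [QuotientGroup.eq]
        simpa using H.inv_mem hgH
      exact (Finset.mem_erase.1 hq).1 this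
    obtain ⟨v, hv, hvH, hgv, hcjv⟩ := exists_involution_coset h.se hgH
    have hcard : Nat.card ↥(H ⊓ cj g H) = m := by
      rw [← hcjv]; exact (h4 v hv hvH).1
    have hfilter : (Finset.univ.filter (fun d : G => d ∈ H ∧ d • (QuotientGroup.mk g : G ⧸ H) = QuotientGroup.mk g)).card = m := by
      rw [← hcard, Nat.card_eq_fintype_card, Fintype.card_subtype]
      congr 1
      ext d
      simp only [Finset.mem_filter, Finset.mem_univ, true_and, Subgroup.mem_inf]
      rw [cj, mem_map_conj_iff_smul]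
    show ((Finset.univ.filter (fun d : G => d ∈ H ∧ d • (QuotientGroup.mk g : G ⧸ H) = QuotientGroup.mk g)).erase 1).card = m - 1
    rw [Finset.card_erase_of_mem, hfilter]
    simp only [Finset.mem_filter, Finset.mem_univ, true_and]
    exact ⟨H.one_mem, one_smul _ _⟩
  -- each `S q` lies in `H ∖ M`
  have hSsub : ∀ q ∈ Ω', S q ⊆ HM := by
    intro q hq d hd
    obtain ⟨g, rfl⟩ := QuotientGroup.mk_surjective q
    have hgH : g ∉ H := by
      intro hgH
      have : (QuotientGroup.mk g : G ⧸ H) = q₀ := by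
        show (QuotientGroup.mk g : G ⧸ H) = QuotientGroup.mk 1
        rw [QuotientGroup.eq]
        simpa using H.inv_mem hgH
      exact (Finset.mem_erase.1 hq).1 this
    have hd' := Finset.mem_erase.1 hd
    have hd'' := (Finset.mem_filter.1 hd'.2).2
    simp only [HM, Finset.mem_filter, Finset.mem_univ, true_and]
    refine ⟨hd''.1, ?_⟩
    intro hdM
    exact hd'.1 (eq_one_of_smul_eq h3 hgH hdM hd''.2)
  -- the `S q` are pairwise disjoint
  have hdisj : ∀ q ∈ Ω', ∀ q' ∈ Ω', q ≠ q' → Disjoint (S q) (S q') := by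
    intro q hq q' hq' hne
    rw [Finset.disjoint_left]
    intro d hd hd2
    apply hne
    obtain ⟨g, rfl⟩ := QuotientGroup.mk_surjective q
    obtain ⟨g', rfl⟩ := QuotientGroup.mk_surjective q'
    have hgH : g ∉ H := by
      intro hgH
      have : (QuotientGroup.mk g : G ⧸ H) = q₀ := by
        show (QuotientGroup.mk g : G ⧸ H) = QuotientGroup.mk 1
        rw [QuotientGroup.eq]
        simpa using H.inv_mem hgH
      exact (Finset.mem_erase.1 hq).1 this
    have hg'H : g' ∉ H := by
      intro hgH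
      have : (QuotientGroup.mk g' : G ⧸ H) = q₀ := by
        show (QuotientGroup.mk g' : G ⧸ H) = QuotientGroup.mk 1
        rw [QuotientGroup.eq]
        simpa using H.inv_mem hgH
      exact (Finset.mem_erase.1 hq').1 this
    obtain ⟨v, hv, hvH, hgv, hcjv⟩ := exists_involution_coset h.se hgH
    have hd' := Finset.mem_erase.1 hd
    have hd'' := (Finset.mem_filter.1 hd'.2).2
    have hd2' := Finset.mem_erase.1 hd2
    have hd2'' := (Finset.mem_filter.1 hd2'.2).2
    have hdv : d ∈ H ⊓ cj v H := by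
      refine Subgroup.mem_inf.2 ⟨hd''.1, ?_⟩
      rw [hcjv, cj, mem_map_conj_iff_smul]
      exact hd''.2
    have hdg' : d ∈ cj g' H := by
      rw [cj, mem_map_conj_iff_smul]
      exact hd2''.2
    have hkey : v⁻¹ * g' ∈ H := h6 v hv hvH d hdv hd'.1 g' hg'H hdg'
    rw [QuotientGroup.eq]
    have h1 : g⁻¹ * g' = (g⁻¹ * v) * (v⁻¹ * g') := by group
    rw [h1]
    exact H.mul_mem hgv hkey
  have hunion : (Ω'.biUnion S).card = Ω'.card * (m - 1) := by
    rw [Finset.card_biUnion hdisj, Finset.sum_const_nat hScard]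
  have hle : (Ω'.biUnion S).card ≤ HM.card := by
    apply Finset.card_le_card
    intro d hd
    obtain ⟨q, hq, hdq⟩ := Finset.mem_biUnion.1 hd
    exact hSsub q hq hdq
  rw [hunion, hHMcard, hΩcard] at hle
  exact hle

/-- [I-7] -/
theorem card_quot_and_trans (h : TIData H M) (h3 : FTriv H M) (h4 : DInv H) (h5 : Frob H M)
    (h6 : Fix2 H) :
    Nat.card (G ⧸ H) = Nat.card M + 1 ∧
      ∀ g g' : G, g ∉ H → g' ∉ H →
        ∃ x ∈ M, x • (QuotientGroup.mk g : G ⧸ H) = QuotientGroup.mk g' := by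
  classical
  have hm2 := two_le_numInv h
  have hbound := card_quot_bound h h3 h4 h6
  have hle : Nat.card (G ⧸ H) - 1 ≤ Nat.card M := by
    have hpos : 0 < numInv H - 1 := by omega
    rw [mul_comm] at hbound
    exact Nat.le_of_mul_le_mul_left hbound hpos
  -- a coset different from `H`
  obtain ⟨u, hu, huH⟩ := exists_involution_not_mem h.se
  -- the orbit map `M → {q // q ≠ H}`
  have hne : ∀ {g : G}, g ∉ H → ∀ x ∈ M, x • (QuotientGroup.mk g : G ⧸ H) ≠ QuotientGroup.mk 1 := by
    intro g hg x hx heq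
    apply hg
    have h1 : (QuotientGroup.mk (x * g) : G ⧸ H) = QuotientGroup.mk 1 := heq
    rw [QuotientGroup.eq] at h1
    have h2 : g = x⁻¹ * ((x * g)⁻¹ * 1)⁻¹ := by group
    rw [h2]
    exact H.mul_mem (H.inv_mem (h.le hx)) (H.inv_mem h1)
  let f : ↥M → {q : G ⧸ H // q ≠ QuotientGroup.mk 1} :=
    fun x => ⟨(x : G) • (QuotientGroup.mk u : G ⧸ H), hne huH x.1 x.2⟩
  have hf : Function.Injective f := by
    intro x x' hxx
    have h1 : (x : G) • (QuotientGroup.mk u : G ⧸ H) = (x' : G) • (QuotientGroup.mk u : G ⧸ H) :=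
      congrArg Subtype.val hxx
    have h2 : ((x' : G)⁻¹ * (x : G)) • (QuotientGroup.mk u : G ⧸ H) = QuotientGroup.mk u := by
      rw [mul_smul, h1, ← mul_smul]
      simp
    have h3' := eq_one_of_smul_eq h3 huH (M.mul_mem (M.inv_mem x'.2) x.2) h2
    apply Subtype.ext
    have := eq_of_inv_mul_eq_one h3'
    exact this.symm
  have hcardΩ : Nat.card {q : G ⧸ H // q ≠ QuotientGroup.mk 1} = Nat.card (G ⧸ H) - 1 := by
    letI : Fintype (G ⧸ H) := Fintype.ofFinite (G ⧸ H)
    rw [Nat.card_eq_fintype_card, Nat.card_eq_fintype_card,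
      Fintype.card_subtype_compl (fun q : G ⧸ H => q = QuotientGroup.mk 1), Fintype.card_subtype_eq]
  have hbij : Function.Bijective f := by
    apply Function.Injective.bijective_of_nat_card_le hf
    rw [hcardΩ]
    exact hle
  have hcard : Nat.card M = Nat.card (G ⧸ H) - 1 := by
    rw [← hcardΩ]
    exact Nat.card_congr (Equiv.ofBijective f hbij)
  have hpos : 0 < Nat.card (G ⧸ H) := Nat.card_pos
  refine ⟨by omega, ?_⟩
  -- transitivity
  have hsurj : ∀ g : G, g ∉ H → ∃ x ∈ M, x • (QuotientGroup.mk u : G ⧸ H) = QuotientGroup.mk g := by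
    intro g hg
    have hq : (QuotientGroup.mk g : G ⧸ H) ≠ QuotientGroup.mk 1 := by
      intro heq
      apply hg
      rw [QuotientGroup.eq] at heq
      simpa using H.inv_mem heq
    obtain ⟨x, hx⟩ := hbij.2 ⟨QuotientGroup.mk g, hq⟩
    exact ⟨x.1, x.2, congrArg Subtype.val hx⟩
  intro g g' hg hg'
  obtain ⟨x, hx, hxg⟩ := hsurj g hg
  obtain ⟨x', hx', hxg'⟩ := hsurj g' hg'
  refine ⟨x' * x⁻¹, M.mul_mem hx' (M.inv_mem hx), ?_⟩
  rw [← hxg, ← hxg', mul_smul, ← mul_smul x⁻¹ x]
  simp

end Cfsg.Agent.Lib.Helper47.AbCent
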