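import Mathlib
import Cfsg.Prelude.Def_Amalgam
import Cfsg.Agent.Lib.Helper68.AmalBDefs
import Cfsg.Agent.Lib.Helper68.AmalBTools

/-!
# S2751, case (B), `b = 2` (helper68's sheet `AmalBSHEET.md`): GSB-[B2-CNT], `|F_y| ≤ 8`

`b2_card_F_le_of` is the sheet statement `b2_card_F_le` with the statements of the modules it uses
([P2a] `Zb_le`, [P2b] `Za_card`, [P2c] `Za_fix_le`, [P3] `Za_le_Qb`, [B2-FQ] `Fb_le_Qa`,
[B2-I] `b2_F_inf_eq_bot`, [B2-A1] `b2_A1`, [B2-D] `b2_exists_d`) as hypotheses, stated exactly as in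
`AmalBStubs.lean.txt`; `AllCrit2` is written out.
-/

set_option autoImplicit false

namespace Cfsg.Agent.Lib.Helper68.AmalB.H47Cnt

open Cfsg Cfsg.Agent.Lib.Helper12.Amal Cfsg.Agent.Lib.Helper68.AmalD Cfsg.Agent.Lib.Helper68.AmalW
  Cfsg.Agent.Lib.Helper68.AmalB

variable {G : Type*} [Group G] {P₁ P₂ : Subgroup G}

/-- for `H ≤ K`: `[K : H] |H| = |K|` -/
theorem relIndex_mul_card_of_le {H K : Subgroup G} (h : H ≤ K) :
    H.relIndex K * Nat.card ↥H = Nat.card ↥K := by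
  have h1 := (H.subgroupOf K).card_mul_index
  rw [Nat.card_congr (Subgroup.subgroupOfEquivOfLe h).toEquiv] at h1
  rw [mul_comm]
  exact h1

/-- product formula when `B` normalizes `A` -/
theorem card_sup_mul_card_inf_of_le_normalizer {A B : Subgroup G}
    (h : B ≤ Subgroup.normalizer (A : Set G)) :
    Nat.card ↥(A ⊔ B) * Nat.card ↥(A ⊓ B) = Nat.card ↥A * Nat.card ↥B := by
  have hA : A ≤ Subgroup.normalizer (A : Set G) := Subgroup.le_normalizer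
  have h1 := Subgroup.relIndex_sup_right (B.subgroupOf (Subgroup.normalizer (A : Set G)))
    (A.subgroupOf (Subgroup.normalizer (A : Set G)))
  rw [← Subgroup.subgroupOf_sup h hA, Subgroup.relIndex_subgroupOf (sup_le h hA),
    Subgroup.relIndex_subgroupOf h] at h1
  have h2 := relIndex_mul_card_of_le (le_sup_right : A ≤ B ⊔ A)
  have h3 := relIndex_mul_card_of_le (inf_le_right : A ⊓ B ≤ B)
  rw [Subgroup.inf_relIndex_right] at h3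
  rw [h1] at h2
  rw [sup_comm, ← h2, ← h3]
  ring

/-- the two other neighbours of a vertex -/
theorem exists_two_other (hW : BaseW P₁ P₂) {x y : CosetVertex P₁ P₂}
    (hxy : (cosetGraph P₁ P₂).Adj x y) :
    ∃ y₂ y₃ : CosetVertex P₁ P₂, (cosetGraph P₁ P₂).Adj x y₂ ∧ (cosetGraph P₁ P₂).Adj x y₃ ∧
      y ≠ y₂ ∧ y ≠ y₃ ∧ y₂ ≠ y₃ ∧
      ∀ l, (cosetGraph P₁ P₂).Adj x l → l = y ∨ l = y₂ ∨ l = y₃ := by
  have h3 := hW.card_nbr x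
  have hfin : ((cosetGraph P₁ P₂).neighborSet x).Finite := Set.finite_of_ncard_ne_zero (by omega)
  have hy : y ∈ (cosetGraph P₁ P₂).neighborSet x := hxy
  have h2 : ((cosetGraph P₁ P₂).neighborSet x \ {y}).ncard = 2 := by
    rw [Set.ncard_sdiff_singleton_of_mem hy, h3]
  obtain ⟨y₂, y₃, hne, he⟩ := Set.ncard_eq_two.1 h2
  have m₂ : y₂ ∈ (cosetGraph P₁ P₂).neighborSet x \ {y} := by rw [he]; simp
  have m₃ : y₃ ∈ (cosetGraph P₁ P₂).neighborSet x \ {y} := by rw [he]; simp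
  refine ⟨y₂, y₃, m₂.1, m₃.1, fun h => m₂.2 h.symm, fun h => m₃.2 h.symm, hne, ?_⟩
  intro l hl
  by_cases hly : l = y
  · exact Or.inl hly
  · have : l ∈ (cosetGraph P₁ P₂).neighborSet x \ {y} := ⟨hl, hly⟩
    rw [he] at this
    rcases this with h | h
    · exact Or.inr (Or.inl h)
    · exact Or.inr (Or.inr h)

/-- three subgroups of index `2` with trivial intersection: the order is at most `8` -/
theorem card_le_eight_of_three {A A₁ A₂ A₃ : Subgroup G} [Finite ↥A]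
    (h₁ : A₁ ≤ A) (h₂ : A₂ ≤ A) (h₃ : A₃ ≤ A)
    (c₁ : Nat.card ↥A = 2 * Nat.card ↥A₁) (c₂ : Nat.card ↥A = 2 * Nat.card ↥A₂)
    (c₃ : Nat.card ↥A = 2 * Nat.card ↥A₃) (hbot : A₁ ⊓ A₂ ⊓ A₃ = ⊥) : Nat.card ↥A ≤ 8 := by
  have hpos : 0 < Nat.card ↥A := Nat.card_pos
  have key : ∀ {B : Subgroup G}, B ≤ A → Nat.card ↥A = 2 * Nat.card ↥B → B.relIndex A = 2 := by
    intro B hB hc
    have h := relIndex_mul_card_of_le hB
    have hBpos : 0 < Nat.card ↥B := by omega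
    rw [hc] at h
    exact Nat.eq_of_mul_eq_mul_right hBpos h
  have r₁ := key h₁ c₁
  have r₂ := key h₂ c₂
  have r₃ := key h₃ c₃
  have e : (A₁ ⊓ A₂ ⊓ A₃).relIndex A = Nat.card ↥A := by
    rw [hbot, Subgroup.relIndex_bot_left]
  have i₁ : (A₁ ⊓ A₂ ⊓ A₃).relIndex A ≤ (A₁ ⊓ A₂).relIndex A * A₃.relIndex A :=
    Subgroup.relIndex_inf_le
  have i₂ : (A₁ ⊓ A₂).relIndex A ≤ A₁.relIndex A * A₂.relIndex A := Subgroup.relIndex_inf_le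
  rw [r₁, r₂] at i₂
  rw [r₃, e] at i₁
  calc Nat.card ↥A ≤ (A₁ ⊓ A₂).relIndex A * 2 := i₁
    _ ≤ (2 * 2) * 2 := Nat.mul_le_mul_right 2 i₂
    _ = 8 := by norm_num

/-- `z (d a d⁻¹ a⁻¹ ∈ Z) ⇒ d A d⁻¹ ≤ A ⊔ Z` -/
theorem map_conj_le_sup {A Z : Subgroup G} {d : G}
    (h : ∀ a ∈ A, d * a * d⁻¹ * a⁻¹ ∈ Z) :
    A.map (MulAut.conj d).toMonoidHom ≤ A ⊔ Z := by
  rintro _ ⟨a, ha, rfl⟩
  have e : (MulAut.conj d).toMonoidHom a = (d * a * d⁻¹ * a⁻¹) * a := by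
    show d * a * d⁻¹ = _
    group
  rw [e]
  exact Subgroup.mul_mem _ (Subgroup.mem_sup_right (h a ha)) (Subgroup.mem_sup_left ha)

/-- **GSB-[B2-CNT]** (`b2_card_F_le` of `AmalBSHEET.md`) with the statements of the modules it uses
as hypotheses -/
theorem b2_card_F_le_of (hB : BaseB P₁ P₂)
    (hall : ∀ x y x' : CosetVertex P₁ P₂, ¬ IsB x → (cosetGraph P₁ P₂).Adj x y →
      (cosetGraph P₁ P₂).Adj y x' → x' ≠ x → ¬ Zv x' ≤ Qv x)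
    (hk : ∀ y : CosetVertex P₁ P₂, IsB y → Nat.card ↥(Zv y) = 2)
    (hZb_le : ∀ {x y : CosetVertex P₁ P₂}, (cosetGraph P₁ P₂).Adj x y → IsB y → Zv y ≤ Zv x)
    (hZa_card : ∀ {x l : CosetVertex P₁ P₂}, ¬ IsB x → (cosetGraph P₁ P₂).Adj x l →
      Nat.card ↥(Zv x) = Nat.card ↥(Zv l) * Nat.card ↥(Zv l))
    (hZa_fix_le : ∀ {x y : CosetVertex P₁ P₂}, (cosetGraph P₁ P₂).Adj x y → IsB y →
      ∀ {t z : G}, t ∈ Gv x ⊓ Gv y → t ∉ Qv x → z ∈ Zv x → t * z = z * t → z ∈ Zv y)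
    (hZa_le_Qb : ∀ {x y : CosetVertex P₁ P₂}, (cosetGraph P₁ P₂).Adj x y → IsB y → Zv x ≤ Qv y)
    (hFb_le_Qa : ∀ {x y : CosetVertex P₁ P₂}, ¬ IsB x → (cosetGraph P₁ P₂).Adj x y →
      Fb y ≤ Qv x)
    (hI : ∀ {x y₁ y₂ y₃ : CosetVertex P₁ P₂}, ¬ IsB x → (cosetGraph P₁ P₂).Adj x y₁ →
      (cosetGraph P₁ P₂).Adj x y₂ → (cosetGraph P₁ P₂).Adj x y₃ → y₁ ≠ y₂ → y₁ ≠ y₃ → y₂ ≠ y₃ →
      Fb y₁ ⊓ Fb y₂ ⊓ Fb y₃ = ⊥)
    (hA1 : ∀ {x y y₂ y₃ : CosetVertex P₁ P₂}, ¬ IsB x → (cosetGraph P₁ P₂).Adj x y →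
      (cosetGraph P₁ P₂).Adj x y₂ → (cosetGraph P₁ P₂).Adj x y₃ → y ≠ y₂ → y ≠ y₃ → y₂ ≠ y₃ →
      Fb y ⊓ Qv y₂ = Fb y ⊓ Qv y₃ ∧ Nat.card ↥(Fb y) ≤ 2 * Nat.card ↥(Fb y ⊓ Qv y₂))
    (hD : ∀ {x y₁ y₂ y₃ : CosetVertex P₁ P₂}, ¬ IsB x → (cosetGraph P₁ P₂).Adj x y₁ →
      (cosetGraph P₁ P₂).Adj x y₂ → (cosetGraph P₁ P₂).Adj x y₃ → y₁ ≠ y₂ → y₁ ≠ y₃ → y₂ ≠ y₃ →
      ∃ d ∈ Gv x, d • y₁ = y₂ ∧ d • y₂ = y₃ ∧ d • y₃ = y₁ ∧
        ∀ f ∈ F2 x, d * f * d⁻¹ * f⁻¹ ∈ Zv x)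
    {x y : CosetVertex P₁ P₂} (hx : ¬ IsB x) (hxy : (cosetGraph P₁ P₂).Adj x y) :
    Nat.card ↥(Fb y) ≤ 8 := by
  have hW := hB.W
  obtain ⟨y₂, y₃, h₂, h₃, h₁₂, h₁₃, h₂₃, hnbr⟩ := exists_two_other hW hxy
  have hBnbr : ∀ l, (cosetGraph P₁ P₂).Adj x l → IsB l := by
    intro l hl
    have := hB.adj_type x l hl
    by_contra hcon
    exact hx (this.2 hcon)
  have hy : IsB y := hBnbr y hxy
  obtain ⟨d, hdG, hd1, hd2, -, hdF⟩ := hD hx hxy h₂ h₃ h₁₂ h₁₃ h₂₃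
  obtain ⟨hA1eq, hA1card⟩ := hA1 hx hxy h₂ h₃ h₁₂ h₁₃ h₂₃
  have hI' := hI hx hxy h₂ h₃ h₁₂ h₁₃ h₂₃
  have hdx : d • x = x := MulAction.mem_stabilizer_iff.1 hdG
  -- `Z_x ≤ F2 x`
  have hZF2 : Zv x ≤ F2 x := by
    intro z hz
    rw [mem_F2]
    exact ⟨hW.Z_le_Q x hz, fun l hl => hZa_le_Qb hl (hBnbr l hl) hz⟩
  -- the three subgroups
  have hA₁eq : Fb y ⊓ F2 x = Fb y ⊓ Qv y₂ := by
    apply le_antisymm
    · intro f hf
      exact ⟨hf.1, (mem_F2.1 hf.2).2 y₂ h₂⟩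
    · intro f hf
      refine ⟨hf.1, mem_F2.2 ⟨hFb_le_Qa hx hxy hf.1, ?_⟩⟩
      intro l hl
      rcases hnbr l hl with rfl | rfl | rfl
      · exact hf.1.1
      · exact hf.2
      · have h' : f ∈ Fb y ⊓ Qv l := by rw [← hA1eq]; exact hf
        exact h'.2
  have hFcard : Nat.card ↥(Fb y) ≤ 2 * Nat.card ↥(Fb y ⊓ F2 x) := by
    rw [hA₁eq]; exact hA1card
  have hA₂ : Fb y₂ ⊓ F2 x = (Fb y ⊓ F2 x).map (MulAut.conj d).toMonoidHom := by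
    rw [Subgroup.map_inf _ _ _ (MulAut.conj d).injective, ← Fb_smul hW, ← F2_smul hW, hd1, hdx]
  have hA₃ : Fb y₃ ⊓ F2 x = (Fb y₂ ⊓ F2 x).map (MulAut.conj d).toMonoidHom := by
    rw [Subgroup.map_inf _ _ _ (MulAut.conj d).injective, ← Fb_smul hW, ← F2_smul hW, hd2, hdx]
  have hc₂ : Nat.card ↥(Fb y₂ ⊓ F2 x) = Nat.card ↥(Fb y ⊓ F2 x) := by
    rw [hA₂]
    exact Subgroup.card_map_of_injective (MulAut.conj d).injective
  have hc₃ : Nat.card ↥(Fb y₃ ⊓ F2 x) = Nat.card ↥(Fb y₂ ⊓ F2 x) := by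
    rw [hA₃]
    exact Subgroup.card_map_of_injective (MulAut.conj d).injective
  -- `A = A₁ Z_x`
  have hA₁Q : Fb y ⊓ F2 x ≤ Qv x := fun f hf => hFb_le_Qa hx hxy hf.1
  have hZnorm : Zv x ≤ Subgroup.normalizer ((Fb y ⊓ F2 x : Subgroup G) : Set G) := by
    intro z hz
    rw [Subgroup.mem_set_normalizer_iff]
    intro a
    have key : ∀ a ∈ Fb y ⊓ F2 x, z * a * z⁻¹ = a := by
      intro a ha
      have := Q_comm_Z hW (hA₁Q ha) hz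
      rw [← this]; group
    constructor
    · intro ha
      rw [key a ha]; exact ha
    · intro ha
      have h1 : z⁻¹ * (z * a * z⁻¹) * z = z * a * z⁻¹ := by
        have := Q_comm_Z hW (hA₁Q ha) hz
        have e : z⁻¹ * (z * a * z⁻¹) * z = z⁻¹ * ((z * a * z⁻¹) * z) := by group
        rw [e, this]; group
      have e2 : z⁻¹ * (z * a * z⁻¹) * z = a := by group
      rw [← e2, h1]; exact ha
  -- `A₁ ∩ Z_x = Z_y`
  have hinf : (Fb y ⊓ F2 x) ⊓ Zv x = Zv y := by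
    apply le_antisymm
    · rintro z ⟨⟨hzF, -⟩, hz⟩
      obtain ⟨x₂, -, hyx₂, -, hxx₂, -, -, -⟩ := exists_two_other hW hxy.symm
      have hnot := hall x y x₂ hx hxy hyx₂ (Ne.symm hxx₂)
      obtain ⟨t, ht, htQ⟩ := SetLike.not_le_iff_exists.1 hnot
      have htV : t ∈ Vv y := Z_le_Vv hyx₂ ht
      have hc : t * z = z * t := (Subgroup.mem_centralizer_iff.1 hzF.2) t htV
      have hx₂ : ¬ IsB x₂ := (hB.adj_type y x₂ hyx₂).1 hy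
      have htT : t ∈ Gv x ⊓ Gv y := Q_le_T' hW hxy (hZa_le_Qb hyx₂.symm hy ht)
      exact hZa_fix_le hxy hy htT htQ hz hc
    · intro z hz
      have hzx : z ∈ Zv x := hZb_le hxy hy hz
      refine ⟨⟨⟨hW.Z_le_Q y hz, ?_⟩, hZF2 hzx⟩, hzx⟩
      show z ∈ Subgroup.centralizer ((Vv y : Subgroup G) : Set G)
      rw [Subgroup.mem_centralizer_iff]
      intro v hv
      have hvG : v ∈ Gv y := by
        have : Vv y ≤ Gv y := Vv_le (fun x' hx' => (hW.Z_le_Q x').trans (Q_le_G_adj hW hx'.symm))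
        exact this hv
      exact (Subgroup.mem_centralizer_iff.1 (hy hz)) v hvG
  have hcardZ : Nat.card ↥(Zv x) = 4 := by
    rw [hZa_card hx hxy, hk y hy]
  have hprod := card_sup_mul_card_inf_of_le_normalizer hZnorm
  rw [hinf, hcardZ, hk y hy] at hprod
  have hcA : Nat.card ↥((Fb y ⊓ F2 x) ⊔ Zv x) = 2 * Nat.card ↥(Fb y ⊓ F2 x) := by omega
  -- `A₂, A₃ ≤ A`
  have hle₂ : Fb y₂ ⊓ F2 x ≤ (Fb y ⊓ F2 x) ⊔ Zv x := by
    rw [hA₂]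
    exact map_conj_le_sup (fun a (ha : a ∈ Fb y ⊓ F2 x) => hdF a ha.2)
  have hle₃ : Fb y₃ ⊓ F2 x ≤ (Fb y ⊓ F2 x) ⊔ Zv x := by
    rw [hA₃]
    have h1 : (Fb y₂ ⊓ F2 x).map (MulAut.conj d).toMonoidHom ≤ (Fb y₂ ⊓ F2 x) ⊔ Zv x :=
      map_conj_le_sup (fun a (ha : a ∈ Fb y₂ ⊓ F2 x) => hdF a ha.2)
    exact h1.trans (sup_le hle₂ le_sup_right)
  -- finiteness
  have hfin : Finite ↥((Fb y ⊓ F2 x) ⊔ Zv x) := by
    have hle : (Fb y ⊓ F2 x) ⊔ Zv x ≤ Gv x :=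
      sup_le (hA₁Q.trans (Q_le_G hW x)) ((hW.Z_le_Q x).trans (Q_le_G hW x))
    have := hW.fin x
    exact Finite.of_injective (Subgroup.inclusion hle) (Subgroup.inclusion_injective hle)
  have hbot : (Fb y ⊓ F2 x) ⊓ (Fb y₂ ⊓ F2 x) ⊓ (Fb y₃ ⊓ F2 x) = ⊥ := by
    rw [eq_bot_iff, ← hI']
    exact le_inf (le_inf (inf_le_left.trans (inf_le_left.trans inf_le_left))
      (inf_le_left.trans (inf_le_right.trans inf_le_left))) (inf_le_right.trans inf_le_left)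
  have h8 := card_le_eight_of_three (A := (Fb y ⊓ F2 x) ⊔ Zv x) le_sup_left hle₂ hle₃ hcA
    (by rw [hc₂]; exact hcA) (by rw [hc₃, hc₂]; exact hcA) hbot
  omega

end Cfsg.Agent.Lib.Helper68.AmalB.H47Cnt
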