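import Mathlib
import Cfsg.Agent.Lib.Helper47.WeaklyClosed

/-!
Helper47 library: an amalgam-type lemma.  A family of subgroups `M i` sharing a subgroup `L`, each with a
normal pair `Y i ≤ P i`, such that any two conjugates of the `Y i` normalizing each other commute
(asymmetry), `L ∩ C(Y i) ≤ P i` and `Y i ≤ P j` for all `i, j`: then every conjugate of a `Y i` under the
subgroup generated by the `M i` lies in every `P j`.
-/

set_option autoImplicit false

namespace Cfsg.Agent.Lib.Helper47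

variable {G : Type*} [Group G]

/-- If `g⁻¹ A g` normalizes `B`, then `A` normalizes `g B g⁻¹`. -/
theorem le_normalizer_map_conj_of {A B : Subgroup G} {g : G}
    (h : A.map (MulAut.conj g⁻¹).toMonoidHom ≤ Subgroup.normalizer (B : Set G)) :
    A ≤ Subgroup.normalizer ((B.map (MulAut.conj g).toMonoidHom : Subgroup G) : Set G) := by
  intro a ha
  have h1 : g⁻¹ * a * g ∈ Subgroup.normalizer (B : Set G) := by
    apply h
    refine ⟨a, ha, ?_⟩
    simp
  rw [Subgroup.mem_normalizer_iff] at h1 ⊢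
  intro x
  rw [mem_map_conj_iff, mem_map_conj_iff, h1 (g⁻¹ * x * g)]
  have : g⁻¹ * a * g * (g⁻¹ * x * g) * (g⁻¹ * a * g)⁻¹ = g⁻¹ * (a * x * a⁻¹) * g := by group
  rw [this]

/-- Conjugates of a subgroup of the normalizer still normalize: `M ≤ N(P)`, `m ∈ M`, `X ≤ P` give
`m X m⁻¹ ≤ P`. -/
theorem map_conj_le_of_mem_normalizer {X P : Subgroup G} {m : G}
    (hm : m ∈ Subgroup.normalizer (P : Set G)) (hX : X ≤ P) :
    X.map (MulAut.conj m).toMonoidHom ≤ P := by
  calc X.map (MulAut.conj m).toMonoidHom ≤ P.map (MulAut.conj m).toMonoidHom := Subgroup.map_mono hX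
    _ = P := map_conj_eq_of_mem_normalizer hm

section amalgam

variable {ι : Type*} (M Y P : ι → Subgroup G) (L : Subgroup G) (𝒴 : Set (Subgroup G))

/-- The amalgam lemma, list form. -/
theorem map_conj_prod_le_of_amalgam
    (h𝒴 : ∀ A ∈ 𝒴, ∀ g : G, A.map (MulAut.conj g).toMonoidHom ∈ 𝒴) (hY𝒴 : ∀ i, Y i ∈ 𝒴)
    (hcomm : ∀ A ∈ 𝒴, ∀ B ∈ 𝒴, A ≤ Subgroup.normalizer (B : Set G) →
      B ≤ Subgroup.normalizer (A : Set G) → A ≤ Subgroup.centralizer (B : Set G))
    (hMY : ∀ i, M i ≤ Subgroup.normalizer ((Y i : Subgroup G) : Set G))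
    (hMP : ∀ i, M i ≤ Subgroup.normalizer ((P i : Subgroup G) : Set G))
    (hPL : ∀ i, P i ≤ L) (hLM : ∀ i, L ≤ M i)
    (hLC : ∀ i, L ⊓ Subgroup.centralizer ((Y i : Subgroup G) : Set G) ≤ P i)
    (hbase : ∀ i j, Y i ≤ P j) :
    ∀ (n : ℕ) (l : List G), l.length = n → (∀ x ∈ l, ∃ i, x ∈ M i) →
      ∀ i j, (Y i).map (MulAut.conj l.prod).toMonoidHom ≤ P j := by
  intro n
  induction n using Nat.strong_induction_on with
  | _ n IH =>
    intro l hl hmem i j
    rcases n with _ | n
    · have : l = [] := List.length_eq_zero_iff.mp hl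
      subst this
      rw [List.prod_nil, map_conj_one]
      exact hbase i j
    · -- every product of a list of length `n + 1` conjugates each `Y i` into `L`
      have hA : ∀ (l' : List G), l'.length = n + 1 → (∀ x ∈ l', ∃ i, x ∈ M i) → ∀ i',
          (Y i').map (MulAut.conj l'.prod).toMonoidHom ≤ L := by
        intro l' hl' hmem' i'
        rcases l' with _ | ⟨m, t⟩
        · simp at hl'
        · obtain ⟨k, hk⟩ := hmem' m (List.mem_cons_self)
          have hlen : t.length = n := by simpa using hl'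
          have h1 := IH n (Nat.lt_succ_self n) t hlen
            (fun x hx => hmem' x (List.mem_cons_of_mem _ hx)) i' k
          rw [List.prod_cons, ← map_conj_map_conj]
          exact (map_conj_le_of_mem_normalizer (hMP k hk) h1).trans (hPL k)
      set X := (Y i).map (MulAut.conj l.prod).toMonoidHom with hX
      have hXL : X ≤ L := hA l hl hmem i
      have hX𝒴 : X ∈ 𝒴 := h𝒴 _ (hY𝒴 i) _
      -- `X` normalizes `Y j`
      have h1 : X ≤ Subgroup.normalizer ((Y j : Subgroup G) : Set G) :=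
        hXL.trans ((hLM j).trans (hMY j))
      -- `Y j` normalizes `X`
      have h2 : Y j ≤ Subgroup.normalizer (X : Set G) := by
        apply le_normalizer_map_conj_of
        set r := (l.map fun x => x⁻¹).reverse with hr
        have hrprod : r.prod = l.prod⁻¹ := (List.prod_inv_reverse l).symm
        have hrlen : r.length = n + 1 := by simp [hr, hl]
        have hrmem : ∀ x ∈ r, ∃ i, x ∈ M i := by
          intro x hx
          rw [hr, List.mem_reverse, List.mem_map] at hx
          obtain ⟨y, hy, rfl⟩ := hx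
          obtain ⟨k, hk⟩ := hmem y hy
          exact ⟨k, (M k).inv_mem hk⟩
        have := hA r hrlen hrmem j
        rw [hrprod] at this
        exact this.trans ((hLM i).trans (hMY i))
      have h3 : X ≤ Subgroup.centralizer ((Y j : Subgroup G) : Set G) :=
        hcomm X hX𝒴 (Y j) (hY𝒴 j) h1 h2
      exact (le_inf hXL h3).trans (hLC j)

/-- The amalgam lemma: every conjugate of `Y i` under `⨆ i, M i` lies in every `P j`. -/
theorem map_conj_le_of_amalgam
    (h𝒴 : ∀ A ∈ 𝒴, ∀ g : G, A.map (MulAut.conj g).toMonoidHom ∈ 𝒴) (hY𝒴 : ∀ i, Y i ∈ 𝒴)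
    (hcomm : ∀ A ∈ 𝒴, ∀ B ∈ 𝒴, A ≤ Subgroup.normalizer (B : Set G) →
      B ≤ Subgroup.normalizer (A : Set G) → A ≤ Subgroup.centralizer (B : Set G))
    (hMY : ∀ i, M i ≤ Subgroup.normalizer ((Y i : Subgroup G) : Set G))
    (hMP : ∀ i, M i ≤ Subgroup.normalizer ((P i : Subgroup G) : Set G))
    (hPL : ∀ i, P i ≤ L) (hLM : ∀ i, L ≤ M i)
    (hLC : ∀ i, L ⊓ Subgroup.centralizer ((Y i : Subgroup G) : Set G) ≤ P i)
    (hbase : ∀ i j, Y i ≤ P j) {w : G} (hw : w ∈ ⨆ i, M i) (i j : ι) :
    (Y i).map (MulAut.conj w).toMonoidHom ≤ P j := by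
  rw [Subgroup.iSup_eq_closure, ← Subgroup.mem_toSubmonoid, Subgroup.closure_toSubmonoid] at hw
  obtain ⟨l, hl, rfl⟩ := Submonoid.exists_list_of_mem_closure hw
  refine map_conj_prod_le_of_amalgam M Y P L 𝒴 h𝒴 hY𝒴 hcomm hMY hMP hPL hLM hLC hbase l.length l rfl
    ?_ i j
  intro x hx
  rcases hl x hx with h | h
  · obtain ⟨k, hk⟩ := Set.mem_iUnion.mp h
    exact ⟨k, hk⟩
  · rw [Set.mem_inv] at h
    obtain ⟨k, hk⟩ := Set.mem_iUnion.mp h
    refine ⟨k, ?_⟩
    have := (M k).inv_mem hk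
    simpa using this

end amalgam

end Cfsg.Agent.Lib.Helper47
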