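/-
helper47: project ASCH (helper99, S5630), module ASCH-[KRONNORM]:
an element normalising a group in tensor normal form `W ⊗ 1` is a Kronecker product `a ⊗ b`.
Burnside's theorem (module ASCH-[BURNSIDE]) enters as a hypothesis in `kronecker_of_normalizes_of`.
-/
import Mathlib
import Cfsg.Prelude.Def_GeometricClasses
import Cfsg.Agent.Lib.Helper99.AschDefs
import Cfsg.Agent.Lib.Helper54.SkolemNoether

set_option autoImplicit false

namespace Cfsg.Agent.Lib.Helper47.AschKronNorm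

open Cfsg Cfsg.Geo Cfsg.Agent.Lib.Helper99.Asch
open scoped MatrixGroups Matrix Kronecker

variable {n : ℕ} {F : Type*} [Field F]

/-- conjugate by `B` and pass to the index set `Fin d × Fin e` -/
noncomputable def kap {d e : ℕ} (idx : Fin n ≃ Fin d × Fin e) (B : GL (Fin n) F) :
    GL (Fin n) F →* (Matrix (Fin d × Fin e) (Fin d × Fin e) F)ˣ :=
  (Units.mapEquiv (Matrix.reindexAlgEquiv F F idx).toMulEquiv).toMonoidHom.comp
    (MulAut.conj B).toMonoidHom

theorem kap_val {d e : ℕ} (idx : Fin n ≃ Fin d × Fin e) (B x : GL (Fin n) F) :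
    ((kap idx B x : (Matrix (Fin d × Fin e) (Fin d × Fin e) F)ˣ) :
      Matrix (Fin d × Fin e) (Fin d × Fin e) F) =
      Matrix.reindex idx idx ((B * x * B⁻¹ : GL (Fin n) F) : Matrix (Fin n) (Fin n) F) := rfl

theorem eq_reindex_iff {d e : ℕ} (idx : Fin n ≃ Fin d × Fin e) (X : Matrix (Fin n) (Fin n) F)
    (M : Matrix (Fin d × Fin e) (Fin d × Fin e) F) :
    X = Matrix.reindex idx.symm idx.symm M ↔ Matrix.reindex idx idx X = M := by
  constructor
  · rintro rfl
    ext p q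
    simp [Matrix.reindex_apply]
  · rintro rfl
    ext i j
    simp [Matrix.reindex_apply]

theorem kap_eq_iff {d e : ℕ} (idx : Fin n ≃ Fin d × Fin e) (B x : GL (Fin n) F)
    (M : Matrix (Fin d × Fin e) (Fin d × Fin e) F) :
    ((B * x * B⁻¹ : GL (Fin n) F) : Matrix (Fin n) (Fin n) F) =
      Matrix.reindex idx.symm idx.symm M ↔
    ((kap idx B x : (Matrix (Fin d × Fin e) (Fin d × Fin e) F)ˣ) :
      Matrix (Fin d × Fin e) (Fin d × Fin e) F) = M := by
  rw [kap_val]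
  exact eq_reindex_iff idx _ M

/-- the group of the `a`'s of a tensor normal form -/
noncomputable def wGroup {d e : ℕ} (N : Subgroup (GL (Fin n) F)) (idx : Fin n ≃ Fin d × Fin e)
    (B : GL (Fin n) F) : Subgroup (GL (Fin d) F) where
  carrier := {a | ∃ x ∈ N, ((kap idx B x : (Matrix (Fin d × Fin e) (Fin d × Fin e) F)ˣ) :
      Matrix (Fin d × Fin e) (Fin d × Fin e) F) =
        (a : Matrix (Fin d) (Fin d) F) ⊗ₖ (1 : Matrix (Fin e) (Fin e) F)}
  mul_mem' := by
    rintro a a' ⟨x, hx, hxa⟩ ⟨y, hy, hya⟩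
    refine ⟨x * y, N.mul_mem hx hy, ?_⟩
    rw [map_mul, Units.val_mul, hxa, hya, ← Matrix.mul_kronecker_mul, Matrix.one_mul,
      Units.val_mul]
  one_mem' := ⟨1, N.one_mem, by rw [map_one, Units.val_one, Units.val_one, Matrix.one_kronecker_one]⟩
  inv_mem' := by
    rintro a ⟨x, hx, hxa⟩
    refine ⟨x⁻¹, N.inv_mem hx, ?_⟩
    rw [map_inv]
    apply Units.inv_eq_of_mul_eq_one_right
    rw [hxa, ← Matrix.mul_kronecker_mul, Matrix.one_mul, ← Units.val_mul, mul_inv_cancel,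
      Units.val_one, Matrix.one_kronecker_one]

theorem matrixSet_wGroup {d e : ℕ} (he : 0 < e) (N : Subgroup (GL (Fin n) F))
    (idx : Fin n ≃ Fin d × Fin e) (B : GL (Fin n) F) (hNF : TensorNF N d e idx B) :
    matrixSet (wGroup N idx B) = {a : Matrix (Fin d) (Fin d) F | ∃ x ∈ N,
      ((B * x * B⁻¹ : GL (Fin n) F) : Matrix (Fin n) (Fin n) F) =
        Matrix.reindex idx.symm idx.symm (a ⊗ₖ (1 : Matrix (Fin e) (Fin e) F))} := by
  have : Nonempty (Fin e) := ⟨⟨0, he⟩⟩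
  ext M
  constructor
  · rintro ⟨a, ⟨x, hx, hxa⟩, rfl⟩
    exact ⟨x, hx, (kap_eq_iff idx B x _).2 hxa⟩
  · rintro ⟨x, hx, hxM⟩
    obtain ⟨a, ha⟩ := hNF.1 x hx
    have h1 := (kap_eq_iff idx B x _).1 hxM
    have h2 := (kap_eq_iff idx B x _).1 ha
    have h3 : M = (a : Matrix (Fin d) (Fin d) F) :=
      Cfsg.Agent.Lib.Helper54.SkolemNoether.kronecker_one_injective (h1.symm.trans h2)
    exact ⟨a, ⟨x, hx, h2⟩, h3.symm⟩

/-- ASCH-[KRONNORM] with Burnside's theorem in dimension `d` as a hypothesis -/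
theorem kronecker_of_normalizes_of (N : Subgroup (GL (Fin n) F)) (d e : ℕ)
    (hburn : ∀ S : Subgroup (GL (Fin d) F), ActsAbsolutelyIrreducibly (matrixSet S) →
      Submodule.span F (matrixSet S) = ⊤)
    (idx : Fin n ≃ Fin d × Fin e) (B : GL (Fin n) F) (hNF : TensorNF N d e idx B)
    (g : GL (Fin n) F) (hg : ∀ x ∈ N, g * x * g⁻¹ ∈ N) :
    ∃ (a : GL (Fin d) F) (b : GL (Fin e) F),
      ((B * g * B⁻¹ : GL (Fin n) F) : Matrix (Fin n) (Fin n) F) =
      Matrix.reindex idx.symm idx.symm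
        ((a : Matrix (Fin d) (Fin d) F) ⊗ₖ (b : Matrix (Fin e) (Fin e) F)) := by
  rcases Nat.eq_zero_or_pos d with hd | hd
  · subst hd
    have : IsEmpty (Fin n) := idx.isEmpty
    exact ⟨1, 1, by ext i; exact isEmptyElim i⟩
  rcases Nat.eq_zero_or_pos e with he | he
  · subst he
    have : IsEmpty (Fin n) := idx.isEmpty
    exact ⟨1, 1, by ext i; exact isEmptyElim i⟩
  have : Nonempty (Fin d) := ⟨⟨0, hd⟩⟩
  have : Nonempty (Fin e) := ⟨⟨0, he⟩⟩
  have hW : ActsAbsolutelyIrreducibly (matrixSet (wGroup N idx B)) := by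
    rw [matrixSet_wGroup he N idx B hNF]
    exact hNF.2
  have hspan := hburn _ hW
  have hnorm : ∀ A : Matrix (Fin d) (Fin d) F, ∃ A' : Matrix (Fin d) (Fin d) F,
      ((kap idx B g : (Matrix (Fin d × Fin e) (Fin d × Fin e) F)ˣ) :
        Matrix (Fin d × Fin e) (Fin d × Fin e) F) * (A ⊗ₖ (1 : Matrix (Fin e) (Fin e) F)) *
        (((kap idx B g)⁻¹ : (Matrix (Fin d × Fin e) (Fin d × Fin e) F)ˣ) :
          Matrix (Fin d × Fin e) (Fin d × Fin e) F) =
        A' ⊗ₖ (1 : Matrix (Fin e) (Fin e) F) := by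
    intro A
    have hA : A ∈ Submodule.span F (matrixSet (wGroup N idx B)) := by
      rw [hspan]; exact Submodule.mem_top
    induction hA using Submodule.span_induction with
    | mem A hA =>
      obtain ⟨a, ⟨x, hx, hxa⟩, rfl⟩ := hA
      obtain ⟨a'', ha''⟩ := hNF.1 (g * x * g⁻¹) (hg x hx)
      refine ⟨a'', ?_⟩
      rw [← hxa, ← Units.val_mul, ← Units.val_mul, ← map_inv, ← map_mul, ← map_mul]
      exact (kap_eq_iff idx B _ _).1 ha''
    | zero => exact ⟨0, by simp⟩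
    | add A₁ A₂ _ _ h₁ h₂ =>
      obtain ⟨A₁', h₁'⟩ := h₁
      obtain ⟨A₂', h₂'⟩ := h₂
      exact ⟨A₁' + A₂', by
        rw [Matrix.add_kronecker, Matrix.mul_add, Matrix.add_mul, h₁', h₂', Matrix.add_kronecker]⟩
    | smul c A _ h =>
      obtain ⟨A', h'⟩ := h
      exact ⟨c • A', by
        rw [Matrix.smul_kronecker, Matrix.mul_smul, Matrix.smul_mul, h', Matrix.smul_kronecker]⟩
  obtain ⟨a, b, hab⟩ :=
    Cfsg.Agent.Lib.Helper54.SkolemNoether.exists_kronecker_of_normalizes (kap idx B g) hnorm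
  exact ⟨a, b, (kap_eq_iff idx B g _).2 hab⟩

end Cfsg.Agent.Lib.Helper47.AschKronNorm
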