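/-
helper47: project ASCHSP (helper23, S5662), module ASCHSP-[KFORM], part B:
a form on the `k`-fold tensor power invariant under slot matrices: invariance of the blocks.
-/
import Mathlib
import Cfsg.Agent.Lib.Helper99.AschDefs

set_option autoImplicit false

namespace Cfsg.Agent.Lib.Helper47.AschSpKForm

open Cfsg Cfsg.Geo Cfsg.Agent.Lib.Helper99.Asch
open scoped Matrix

variable {k d : ℕ} {F : Type*} [Field F]

/-- summing against a column of a slot matrix -/
theorem slot_sum (i : Fin k) (a : Matrix (Fin d) (Fin d) F) (y : Fin k → Fin d)
    (g : (Fin k → Fin d) → F) :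
    ∑ c, slotMatrix i a c y * g c = ∑ γ, a γ (y i) * g (Function.update y i γ) := by
  classical
  have h1 : ∀ c : Fin k → Fin d, slotMatrix i a c y * g c =
      ∑ γ, if c = Function.update y i γ then a γ (y i) * g (Function.update y i γ) else 0 := by
    intro c
    by_cases hc : ∀ j, j ≠ i → c j = y j
    · have hcu : c = Function.update y i (c i) := by
        funext j
        by_cases hj : j = i
        · subst hj; simp
        · rw [Function.update_of_ne hj]; exact hc j hj
      rw [Finset.sum_eq_single (c i)]
      · rw [if_pos hcu, ← hcu]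
        simp only [slotMatrix]
        rw [if_pos hc]
      · intro γ _ hγ
        rw [if_neg]
        intro h
        apply hγ
        have := congrFun h i
        simpa using this.symm
      · intro h; exact absurd (Finset.mem_univ _) h
    · have h0 : slotMatrix i a c y = 0 := by
        simp only [slotMatrix]
        rw [if_neg hc]
      rw [h0, zero_mul]
      symm
      apply Finset.sum_eq_zero
      intro γ _
      rw [if_neg]
      intro h
      apply hc
      intro j hj
      rw [h, Function.update_of_ne hj]
  rw [Finset.sum_congr rfl (fun c _ => h1 c), Finset.sum_comm]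
  refine Finset.sum_congr rfl fun γ _ => ?_
  rw [Finset.sum_ite_eq' Finset.univ (Function.update y i γ)]
  simp

/-- entries of `Sᵀ G S` for a slot matrix `S` -/
theorem slot_transpose_mul_mul_apply (i : Fin k) (a : Matrix (Fin d) (Fin d) F)
    (Gm : Matrix (Fin k → Fin d) (Fin k → Fin d) F) (y z : Fin k → Fin d) :
    ((slotMatrix i a)ᵀ * Gm * slotMatrix i a) y z =
      ∑ γ, ∑ ε, a γ (y i) * Gm (Function.update y i γ) (Function.update z i ε) * a ε (z i) := by
  classical
  rw [Matrix.mul_assoc, Matrix.mul_apply]
  simp only [Matrix.transpose_apply]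
  rw [slot_sum i a y (fun c => (Gm * slotMatrix i a) c z)]
  refine Finset.sum_congr rfl fun γ _ => ?_
  rw [Matrix.mul_apply]
  have h2 : ∑ e, Gm (Function.update y i γ) e * slotMatrix i a e z =
      ∑ ε, a ε (z i) * Gm (Function.update y i γ) (Function.update z i ε) := by
    rw [← slot_sum i a z (fun e => Gm (Function.update y i γ) e)]
    refine Finset.sum_congr rfl fun e _ => ?_
    ring
  rw [h2, Finset.mul_sum]
  refine Finset.sum_congr rfl fun ε _ => ?_
  ring

/-- the block of `Gm` in slot `i` through the multi-indices `y`, `z` -/
def blk (i : Fin k) (Gm : Matrix (Fin k → Fin d) (Fin k → Fin d) F) (y z : Fin k → Fin d) :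
    Matrix (Fin d) (Fin d) F :=
  fun α β => Gm (Function.update y i α) (Function.update z i β)

theorem blk_apply_self (i : Fin k) (Gm : Matrix (Fin k → Fin d) (Fin k → Fin d) F)
    (y z : Fin k → Fin d) : blk i Gm y z (y i) (z i) = Gm y z := by
  simp [blk]

/-- the blocks are invariant -/
theorem blk_invariant (i : Fin k) (a : Matrix (Fin d) (Fin d) F)
    (Gm : Matrix (Fin k → Fin d) (Fin k → Fin d) F)
    (h : (slotMatrix i a)ᵀ * Gm * slotMatrix i a = Gm) (y z : Fin k → Fin d) :
    aᵀ * blk i Gm y z * a = blk i Gm y z := by
  classical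
  ext α β
  have h1 := congrFun (congrFun h (Function.update y i α)) (Function.update z i β)
  rw [slot_transpose_mul_mul_apply] at h1
  simp only [Function.update_self, Function.update_idem] at h1
  rw [Matrix.mul_apply]
  simp only [Matrix.mul_apply, Matrix.transpose_apply, blk]
  rw [← h1]
  rw [Finset.sum_comm]
  refine Finset.sum_congr rfl fun γ _ => ?_
  rw [Finset.sum_mul]

end Cfsg.Agent.Lib.Helper47.AschSpKForm
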