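import Mathlib
import Cfsg.Prelude.Def_LocalStructure
import Cfsg.Agent.Lib.Helper47.PRedIn
import Cfsg.Agent.Lib.Helper47.ThompsonPQ

/-!
# `p`-reduced subgroups and Thompson's `P × Q` lemma (helper47)

`centralizes_of_forall_pRedIn`: a normal subgroup `R = O^p(R)` of `K` centralizing all `p`-reduced
normal subgroups of `K` centralizes every `K`-invariant elementary abelian `V ≤ K` that is
"`p`-reduced for `R`".
-/

set_option autoImplicit false

namespace Cfsg.Agent.Lib.Helper47

open Cfsg
open scoped commutatorElement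

variable {G : Type*} [Group G]

/-- If `S` acts on `V` as a `p`-group then `S = C_S(V) P₀` for a `p`-subgroup `P₀`. -/
theorem exists_isPGroup_sup_eq [Finite G] {p : ℕ} [Fact p.Prime] {S V : Subgroup G}
    (hSV : S ≤ Subgroup.normalizer (V : Set G)) (hact : PActs p S V) :
    ∃ P₀ : Subgroup G, P₀ ≤ S ∧ IsPGroup p ↥P₀ ∧
      (S ⊓ Subgroup.centralizer (V : Set G)) ⊔ P₀ = S := by
  have hSC : S ≤ Subgroup.normalizer ((Subgroup.centralizer (V : Set G) : Subgroup G) : Set G) :=
    hSV.trans (normalizer_le_normalizer_centralizer V)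
  have hNn : ((Subgroup.centralizer (V : Set G)).subgroupOf S).Normal :=
    Subgroup.normal_subgroupOf_of_le_normalizer hSC
  have hq : IsPGroup p (↥S ⧸ (Subgroup.centralizer (V : Set G)).subgroupOf S) := by
    intro x
    induction x using QuotientGroup.induction_on with
    | H s =>
      obtain ⟨k, hk⟩ := hact s s.2
      refine ⟨k, ?_⟩
      rw [← QuotientGroup.mk_pow, QuotientGroup.eq_one_iff, Subgroup.mem_subgroupOf]
      simpa using hk
  obtain ⟨T⟩ : Nonempty (Sylow p ↥S) := inferInstance
  have h1 := sup_sylow_eq_top_of_isPGroup_quotient _ hq T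
  refine ⟨(T : Subgroup ↥S).map S.subtype, Subgroup.map_subtype_le _, T.isPGroup'.map _, ?_⟩
  have h2 := congrArg (Subgroup.map S.subtype) h1
  rw [Subgroup.map_sup, Subgroup.subgroupOf_map_subtype, ← MonoidHom.range_eq_map,
    Subgroup.range_subtype, inf_comm] at h2
  exact h2

/-- The `P × Q` step: a `p'`-element `y ∈ R` centralizing `C_V(S)` centralizes `V`, where `S` is a
`K`-invariant subgroup of `K` acting on `V` as a `p`-group and `V` is "`p`-reduced for `R`". -/
theorem mem_centralizer_of_mem_centralizer_inf [Finite G] {p : ℕ} [Fact p.Prime]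
    {K R S V : Subgroup G} (hRK : R ≤ K) (hKR : K ≤ Subgroup.normalizer (R : Set G))
    (hKV : K ≤ Subgroup.normalizer (V : Set G)) (hVel : IsElementaryAbelian p V)
    (hPR : ∀ N : Subgroup G, N ≤ R → R ≤ Subgroup.normalizer (N : Set G) → PActs p N V →
      N ≤ Subgroup.centralizer (V : Set G))
    (hSK : S ≤ K) (hKS : K ≤ Subgroup.normalizer (S : Set G)) (hSact : PActs p S V)
    {y : G} (hyR : y ∈ R) (hco : Nat.Coprime (orderOf y) p)
    (hy : y ∈ Subgroup.centralizer ((V ⊓ Subgroup.centralizer (S : Set G) : Subgroup G) : Set G)) :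
    y ∈ Subgroup.centralizer (V : Set G) := by
  obtain ⟨P₀, hP₀S, hP₀p, hsup⟩ := exists_isPGroup_sup_eq (hSK.trans hKV) hSact
  have hSR : S ⊓ R ≤ Subgroup.centralizer (V : Set G) := by
    apply hPR _ inf_le_right _ (hSact.mono_left inf_le_left)
    exact (le_inf (hRK.trans hKS) Subgroup.le_normalizer).trans
      Subgroup.inf_normalizer_le_normalizer_inf
  have hcomm : ⁅S, R⁆ ≤ S ⊓ R :=
    le_inf (Subgroup.le_normalizer_iff_commutator_le_left.mp (hRK.trans hKS))
      (Subgroup.le_normalizer_iff_commutator_le_right.mp (hSK.trans hKR))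
  have hQR : Subgroup.zpowers y ≤ R := (Subgroup.zpowers_le).mpr hyR
  have hPQ : ⁅P₀, Subgroup.zpowers y⁆ ≤ Subgroup.centralizer (V : Set G) :=
    (Subgroup.commutator_mono hP₀S hQR).trans (hcomm.trans hSR)
  have hQcard : (Nat.card ↥(Subgroup.zpowers y)).Coprime p := by
    rw [Nat.card_zpowers]; exact hco
  have hC : V ⊓ Subgroup.centralizer (P₀ : Set G) ≤
      Subgroup.centralizer ((Subgroup.zpowers y : Subgroup G) : Set G) := by
    rintro v ⟨hvV, hvP⟩
    have hvS : v ∈ Subgroup.centralizer (S : Set G) := by
      have h1 : S ⊓ Subgroup.centralizer (V : Set G) ≤ Subgroup.centralizer ({v} : Set G) := by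
        rintro s ⟨_, hs⟩
        rw [Subgroup.mem_centralizer_iff]
        intro w hw
        rw [Set.mem_singleton_iff] at hw
        subst hw
        exact (Subgroup.mem_centralizer_iff.mp hs) w hvV
      have h2 : P₀ ≤ Subgroup.centralizer ({v} : Set G) := by
        intro s hs
        rw [Subgroup.mem_centralizer_iff]
        intro w hw
        rw [Set.mem_singleton_iff] at hw
        subst hw
        exact ((Subgroup.mem_centralizer_iff.mp hvP) s hs).symm
      have h3 : S ≤ Subgroup.centralizer ({v} : Set G) := by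
        rw [← hsup]; exact sup_le h1 h2
      rw [Subgroup.mem_centralizer_iff]
      intro s hs
      exact ((Subgroup.mem_centralizer_iff.mp (h3 hs)) v rfl).symm
    have hvy : v * y = y * v := (Subgroup.mem_centralizer_iff.mp hy) v ⟨hvV, hvS⟩
    rw [Subgroup.mem_centralizer_iff]
    intro q hq
    obtain ⟨n, rfl⟩ := Subgroup.mem_zpowers_iff.mp hq
    exact ((Commute.zpow_right (show Commute v y from hvy) n).eq).symm
  have := pq_general p P₀ (Subgroup.zpowers y) V hP₀p hQcard (IsElementaryAbelian.isPGroup hVel) hPQ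
    (hP₀S.trans (hSK.trans hKV)) (hQR.trans (hRK.trans hKV)) hC
  exact this (Subgroup.mem_zpowers y)

/-- **Main lemma**: let `R ≤ K` be normalized by `K` and generated by its `p'`-elements, and suppose
`R` centralizes every `p`-reduced normal subgroup of `K`. Then `R` centralizes every `K`-invariant
elementary abelian `p`-subgroup `V ≤ K` which is `p`-reduced for `R` (every subgroup of `R`
normalized by `R` acting as a `p`-group on `V` centralizes `V`). -/
theorem centralizes_of_forall_pRedIn [Finite G] {p : ℕ} [Fact p.Prime] {K R : Subgroup G}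
    (hRK : R ≤ K) (hKR : K ≤ Subgroup.normalizer (R : Set G))
    (hRgen : R ≤ Subgroup.closure {x : G | x ∈ R ∧ Nat.Coprime (orderOf x) p})
    (hY : ∀ W : Subgroup G, PRedIn p K W → R ≤ Subgroup.centralizer (W : Set G)) :
    ∀ (n : ℕ) (V : Subgroup G), Nat.card V = n → V ≤ K →
      K ≤ Subgroup.normalizer (V : Set G) → IsElementaryAbelian p V →
      (∀ N : Subgroup G, N ≤ R → R ≤ Subgroup.normalizer (N : Set G) → PActs p N V →
        N ≤ Subgroup.centralizer (V : Set G)) →
      R ≤ Subgroup.centralizer (V : Set G) := by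
  intro n
  induction n using Nat.strong_induction_on with
  | _ n ih =>
    intro V hcard hVK hKV hVel hPR
    set S := maxPActing p K V with hS
    have hSK : S ≤ K := maxPActing_le p K V
    have hKS : K ≤ Subgroup.normalizer (S : Set G) := le_normalizer_maxPActing hKV
    have hSact : PActs p S V := pActs_maxPActing hKV
    by_cases hSC : S ≤ Subgroup.centralizer (V : Set G)
    · apply hY V
      exact ⟨hVK, hKV, hVel, fun D hDK hKD hDp => (le_maxPActing hDK hKD hDp).trans hSC⟩
    · set V₁ := V ⊓ Subgroup.centralizer (S : Set G) with hV₁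
      have hV₁V : V₁ ≤ V := inf_le_left
      have hne : V₁ ≠ V := by
        intro h
        apply hSC
        rw [Subgroup.le_centralizer_iff]
        rw [← h]
        exact inf_le_right
      have hKV₁ : K ≤ Subgroup.normalizer (V₁ : Set G) :=
        (le_inf hKV (hKS.trans (normalizer_le_normalizer_centralizer S))).trans
          Subgroup.inf_normalizer_le_normalizer_inf
      have hstep : ∀ y ∈ R, Nat.Coprime (orderOf y) p →
          y ∈ Subgroup.centralizer (V₁ : Set G) → y ∈ Subgroup.centralizer (V : Set G) :=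
        fun y hyR hco hy =>
          mem_centralizer_of_mem_centralizer_inf hRK hKR hKV hVel hPR hSK hKS hSact hyR hco hy
      have hPR₁ : ∀ N : Subgroup G, N ≤ R → R ≤ Subgroup.normalizer (N : Set G) → PActs p N V₁ →
          N ≤ Subgroup.centralizer (V₁ : Set G) := by
        intro N hNR hRN hNact
        have h1 : PActs p N V := by
          apply pActs_of_coprime
          intro y hyN hco
          exact hstep y (hNR hyN) hco (hNact.mem_centralizer_of_coprime hyN hco)
        exact (hPR N hNR hRN h1).trans (Subgroup.centralizer_le hV₁V)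
      have hlt : Nat.card V₁ < n := by
        rw [← hcard]
        exact Set.Finite.card_lt_card (Set.toFinite _)
          (SetLike.coe_ssubset_coe.mpr (lt_of_le_of_ne hV₁V hne))
      have hRV₁ : R ≤ Subgroup.centralizer (V₁ : Set G) :=
        ih (Nat.card V₁) hlt V₁ rfl (hV₁V.trans hVK) hKV₁ (IsElementaryAbelian.mono hVel hV₁V) hPR₁
      refine hRgen.trans ?_
      rw [Subgroup.closure_le]
      rintro y ⟨hyR, hco⟩
      exact hstep y hyR hco (hRV₁ hyR)

end Cfsg.Agent.Lib.Helper47
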