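import Mathlib
import Cfsg.Prelude.Def_LocalStructure
import Cfsg.Agent.Lib.Helper47.PReduced4

set_option autoImplicit false

namespace Cfsg.Agent.Lib.Helper47

open Cfsg
open scoped commutatorElement Pointwise

/-- If `T ≤ L, M` is a Sylow `p`-subgroup of `H` and `L C_H(Y_M) = M C_H(Y_M)` then `Y_M ≤ Y_L`. -/
theorem largestPReducedOf_le_of_sup_centralizer_eq {H : Type*} [Group H] [Finite H] {p : ℕ}
    [Fact p.Prime] (T : Sylow p H) (L M : Subgroup H) (hTL : (T : Subgroup H) ≤ L)
    (hTM : (T : Subgroup H) ≤ M) :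
    L ⊔ Subgroup.centralizer (((Cfsg.largestPReducedOf p M) : Subgroup H) : Set H) =
      M ⊔ Subgroup.centralizer (((Cfsg.largestPReducedOf p M) : Subgroup H) : Set H) →
    (Cfsg.largestPReducedOf p M) ≤ (Cfsg.largestPReducedOf p L) := by
  intro hfac
  set YM := Cfsg.largestPReducedOf p M with hYM
  have hMN : M ≤ Subgroup.normalizer (YM : Set H) := le_normalizer_largestPReducedOf p M
  have hCN : Subgroup.centralizer (YM : Set H) ≤ Subgroup.normalizer (YM : Set H) :=
    Subgroup.centralizer_le_normalizer _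
  have hNC : Subgroup.normalizer (YM : Set H) ≤
      Subgroup.normalizer ((Subgroup.centralizer (YM : Set H) : Subgroup H) : Set H) :=
    normalizer_le_normalizer_centralizer _
  have hLN : L ≤ Subgroup.normalizer (YM : Set H) := by
    have : L ≤ M ⊔ Subgroup.centralizer (YM : Set H) := by rw [← hfac]; exact le_sup_left
    exact this.trans (sup_le hMN hCN)
  have hYL : YM ≤ L :=
    ((largestPReducedOf_le_pCoreOf p M).trans (pCoreOf_le_sylow_of_le T hTM)).trans hTL
  apply le_largestPReducedOf hYL hLN (isElementaryAbelian_largestPReducedOf p M)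
  intro D hDL hLD hDp
  have hDC : D ≤ Subgroup.normalizer ((Subgroup.centralizer (YM : Set H) : Subgroup H) : Set H) :=
    hDL.trans (hLN.trans hNC)
  -- D' = (D ⊔ C) ⊓ M
  have hDCn : M ≤ Subgroup.normalizer ((D ⊔ Subgroup.centralizer (YM : Set H) : Subgroup H) : Set H) := by
    have h1 : L ⊔ Subgroup.centralizer (YM : Set H) ≤
        Subgroup.normalizer ((D ⊔ Subgroup.centralizer (YM : Set H) : Subgroup H) : Set H) := by
      apply sup_le
      · refine le_trans ?_ (Subgroup.normalizer_inf_normalizer_le_normalizer_sup _ _)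
        exact le_inf hLD (hLN.trans hNC)
      · exact le_sup_right.trans Subgroup.le_normalizer
    rw [hfac] at h1
    exact le_sup_left.trans h1
  have hD'M : (D ⊔ Subgroup.centralizer (YM : Set H)) ⊓ M ≤ M := inf_le_right
  have hMD' : M ≤ Subgroup.normalizer
      ((((D ⊔ Subgroup.centralizer (YM : Set H)) ⊓ M : Subgroup H)) : Set H) := by
    refine le_trans ?_ Subgroup.inf_normalizer_le_normalizer_inf
    exact le_inf hDCn Subgroup.le_normalizer
  have hD'C : (D ⊔ Subgroup.centralizer (YM : Set H)) ⊓ M ≤ Subgroup.centralizer (YM : Set H) := by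
    apply pRed_largestPReducedOf p M hD'M hMD'
    intro d hd
    exact exists_pow_mem_of_mem_sup' hDC hDp hd.1
  intro d hd
  have hdMC : d ∈ ((M ⊔ Subgroup.centralizer (YM : Set H) : Subgroup H) : Set H) := by
    have : d ∈ L ⊔ Subgroup.centralizer (YM : Set H) := Subgroup.mem_sup_left (hDL hd)
    rw [hfac] at this
    exact this
  rw [Subgroup.coe_mul_of_left_le_normalizer_right M _ (hMN.trans hNC)] at hdMC
  obtain ⟨m, hm, c, hc, hmc⟩ := hdMC
  have hm' : m ∈ (D ⊔ Subgroup.centralizer (YM : Set H)) ⊓ M := by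
    refine ⟨?_, hm⟩
    have : m = d * c⁻¹ := by rw [← hmc]; group
    rw [this]
    exact Subgroup.mul_mem_sup hd (Subgroup.inv_mem _ hc)
  have : d = m * c := hmc.symm
  rw [this]
  exact Subgroup.mul_mem _ (hD'C hm') hc

end Cfsg.Agent.Lib.Helper47
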