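import Mathlib
import Cfsg.Prelude.Def_LocalStructure
import Cfsg.Agent.Lib.Helper47.PReduced5
import Cfsg.Agent.S2803

set_option autoImplicit false

namespace Cfsg.Agent.Lib.Helper47

open Cfsg
open scoped commutatorElement Pointwise

/-- Ambient form of `Y_L = Ω₁Z(C_T(Y_L))` (one inclusion): for `L ≤ H` of characteristic `p`
containing the Sylow `p`-subgroup `T` of `H`, `Ω₁Z(C_T(Y_L)) ≤ Y_L`. -/
theorem omegaOne_center_centralizer_le_largestPReducedOf {H : Type*} [Group H] [Finite H] {p : ℕ}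
    [Fact p.Prime] (T : Sylow p H) (L : Subgroup H) (hTL : (T : Subgroup H) ≤ L)
    (hL : Subgroup.centralizer (Cfsg.pCore p ↥L : Set ↥L) ≤ Cfsg.pCore p ↥L) :
    Cfsg.omegaOne p (((T : Subgroup H) ⊓ Subgroup.centralizer ((Cfsg.largestPReducedOf p L : Subgroup H) : Set H)) ⊓
      Subgroup.centralizer ((((T : Subgroup H) ⊓
        Subgroup.centralizer ((Cfsg.largestPReducedOf p L : Subgroup H) : Set H)) : Subgroup H) : Set H)) ≤
    Cfsg.largestPReducedOf p L := by
  have hY : Cfsg.IsPReducedNormal p (Cfsg.largestPReduced p ↥L) ∧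
      ∀ V : Subgroup ↥L, Cfsg.IsPReducedNormal p V → V ≤ Cfsg.largestPReduced p ↥L :=
    ⟨isPReducedNormal_largestPReduced p ↥L, fun V hV => le_largestPReduced hV⟩
  have key := (Cfsg.Agent.S2803.result hL (T.subtype hTL) (Cfsg.largestPReduced p ↥L) hY _ rfl).2.2
  intro w hw
  rw [mem_omegaOne_center_iff] at hw
  obtain ⟨hwTC, hwZ, hwp⟩ := hw
  rw [Subgroup.mem_inf] at hwTC
  obtain ⟨hwT, hwC⟩ := hwTC
  have hwL : w ∈ L := hTL hwT
  refine Subgroup.mem_map.mpr ⟨⟨w, hwL⟩, ?_, rfl⟩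
  rw [key, mem_omegaOne_center_iff]
  refine ⟨Subgroup.mem_inf.mpr ⟨?_, ?_⟩, ?_, ?_⟩
  · rw [Sylow.coe_subtype, Subgroup.mem_subgroupOf]; exact hwT
  · rw [mem_centralizer_subtype_iff]; exact hwC
  · rw [Subgroup.mem_centralizer_iff]
    intro x hx
    rw [SetLike.mem_coe, Subgroup.mem_inf] at hx
    obtain ⟨hxT, hxC⟩ := hx
    apply Subtype.ext
    rw [Sylow.coe_subtype, Subgroup.mem_subgroupOf] at hxT
    have hxC' : (x : H) ∈ Subgroup.centralizer ((Cfsg.largestPReducedOf p L : Subgroup H) : Set H) :=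
      (mem_centralizer_subtype_iff _ x).mp hxC
    have := (Subgroup.mem_centralizer_iff.mp hwZ) (x : H) (Subgroup.mem_inf.mpr ⟨hxT, hxC'⟩)
    simpa using this
  · apply Subtype.ext
    simpa using hwp

end Cfsg.Agent.Lib.Helper47
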