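import Mathlib
import Cfsg.Prelude.Def_LocalStructure
import Cfsg.Agent.Lib.Helper47.PRedIn2
import Cfsg.Agent.Lib.Helper47.PReduced5
import Cfsg.Agent.Lib.Helper47.PReduced6
import Cfsg.Agent.Lib.Helper47.WeaklyClosed
import Cfsg.Agent.Lib.Helper47.Quot
import Cfsg.Agent.Lib.Helper47.SylowLemmas
import Cfsg.Agent.Lib.Helper97.OmegaOne

/-!
# The basic property (helper47)

Existence of members of `𝔐_H` (subgroups with the basic property) in a finite group of parabolic
characteristic `p`, following Meierfrankenfeld–Stellmacher–Stroth.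

* `mem_charPSubgroups_of_parabolic` : in a group of parabolic characteristic `p` every subgroup `R`
  containing a Sylow `p`-subgroup with `O_p(R) ≠ 1` lies in `𝓛_H`.
* `largestPReducedOf_mono` : `Y_L ≤ Y_K` for `T ≤ L ≤ K`, `K` of characteristic `p`.
-/

set_option autoImplicit false

namespace Cfsg.Agent.Lib.Helper47

open Cfsg
open scoped Pointwise

variable {G : Type*} [Group G]

theorem le_normalizer_of_forall_map_conj_le {K V : Subgroup G}
    (h : ∀ k ∈ K, V.map (MulAut.conj k).toMonoidHom ≤ V) :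
    K ≤ Subgroup.normalizer (V : Set G) := by
  intro k hk
  rw [Subgroup.mem_normalizer_iff_map_conj_eq]
  apply le_antisymm (h k hk)
  have h1 := Subgroup.map_mono (f := (MulAut.conj k).toMonoidHom) (h k⁻¹ (K.inv_mem hk))
  rwa [map_conj_map_conj, mul_inv_cancel, map_conj_one] at h1

/-- In a group of characteristic `p` (subtype form) the ambient statement `K ∩ C(O_p(K)) ≤ O_p(K)`. -/
theorem inf_centralizer_pCoreOf_le {p : ℕ} {K : Subgroup G}
    (hK : Subgroup.centralizer (pCore p ↥K : Set ↥K) ≤ pCore p ↥K) :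
    K ⊓ Subgroup.centralizer ((pCoreOf p K : Subgroup G) : Set G) ≤ pCoreOf p K := by
  rintro x ⟨hxK, hxC⟩
  have h1 : (⟨x, hxK⟩ : ↥K) ∈ Subgroup.centralizer (pCore p ↥K : Set ↥K) := by
    rw [mem_centralizer_subtype_iff]
    exact hxC
  exact ⟨⟨x, hxK⟩, hK h1, rfl⟩

/-- Subgroups in `𝓛_H` have characteristic `p`. -/
theorem charP_of_mem_charPSubgroups {p : ℕ} {L : Subgroup G} (hL : L ∈ charPSubgroups p G) :
    Subgroup.centralizer (pCore p ↥L : Set ↥L) ≤ pCore p ↥L := by
  intro x hx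
  have h1 : (x : G) ∈ Subgroup.centralizer ((pCoreOf p L : Subgroup G) : Set G) :=
    (mem_centralizer_subtype_iff (pCore p ↥L) x).mp hx
  obtain ⟨x', hx', hxx⟩ := hL.2 h1
  have : x' = x := Subtype.ext hxx
  rw [← this]
  exact hx'

theorem pCore_ne_bot_of_pCoreOf_ne_bot {p : ℕ} {L : Subgroup G} (h : pCoreOf p L ≠ ⊥) :
    pCore p ↥L ≠ ⊥ := by
  intro h0
  apply h
  unfold pCoreOf
  rw [h0, Subgroup.map_bot]

theorem pCoreOf_ne_bot_of_mem_charPSubgroups {p : ℕ} {L : Subgroup G}
    (hL : L ∈ charPSubgroups p G) : pCoreOf p L ≠ ⊥ := by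
  intro h0
  apply hL.1
  unfold pCoreOf at h0
  exact (Subgroup.map_eq_bot_iff_of_injective _ L.subtype_injective).mp h0

/-- In a group of parabolic characteristic `p`, every subgroup `R` containing a Sylow `p`-subgroup
with `O_p(R) ≠ 1` belongs to `𝓛_H`. -/
theorem mem_charPSubgroups_of_parabolic [Finite G] {p : ℕ} [Fact p.Prime]
    (hG : IsOfParabolicCharacteristic p G) (T : Sylow p G) {R : Subgroup G}
    (hTR : (T : Subgroup G) ≤ R) (hR : pCoreOf p R ≠ ⊥) : R ∈ charPSubgroups p G := by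
  refine ⟨pCore_ne_bot_of_pCoreOf_ne_bot hR, ?_⟩
  show Subgroup.centralizer ((pCoreOf p R : Subgroup G) : Set G) ≤ pCoreOf p R
  set P := pCoreOf p R with hP
  set N := Subgroup.normalizer (P : Set G) with hN
  have hRN : R ≤ N := Subgroup.le_normalizer.trans (normalizer_le_normalizer_pCoreOf p R)
  have hPp : IsPGroup p ↥P := pCoreOf_isPGroup p R
  have hpar : IsParabolic p N := ⟨T, hTR.trans hRN⟩
  have hNc := hG P hPp hR hpar
  have hPNT : pCoreOf p N ≤ (T : Subgroup G) := pCoreOf_le_sylow_of_le T (hTR.trans hRN)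
  have hPNP : pCoreOf p N ≤ P := by
    apply le_pCoreOf (hPNT.trans hTR) _ (pCoreOf_isPGroup p N)
    exact hRN.trans (Subgroup.le_normalizer.trans (normalizer_le_normalizer_pCoreOf p N))
  intro x hx
  have hxN : x ∈ N := Subgroup.centralizer_le_normalizer _ hx
  have hxC : x ∈ Subgroup.centralizer ((pCoreOf p N : Subgroup G) : Set G) :=
    Subgroup.centralizer_le hPNP hx
  exact hPNP (inf_centralizer_pCoreOf_le hNc ⟨hxN, hxC⟩)

/-- **Monotonicity of `Y`.** If `T ≤ L ≤ K` with `T` a Sylow `p`-subgroup of the finite group and `K`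
of characteristic `p`, then `Y_L ≤ Y_K`. -/
theorem largestPReducedOf_mono [Finite G] {p : ℕ} [Fact p.Prime] (T : Sylow p G)
    {L K : Subgroup G} (hTL : (T : Subgroup G) ≤ L) (hLK : L ≤ K)
    (hK : Subgroup.centralizer (pCore p ↥K : Set ↥K) ≤ pCore p ↥K) :
    largestPReducedOf p L ≤ largestPReducedOf p K := by
  set YL := largestPReducedOf p L with hYL
  set OK := pCoreOf p K with hOK
  have hTK : (T : Subgroup G) ≤ K := hTL.trans hLK
  have hKOK : K ≤ Subgroup.normalizer (OK : Set G) :=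
    Subgroup.le_normalizer.trans (normalizer_le_normalizer_pCoreOf p K)
  have hOKT : OK ≤ (T : Subgroup G) := pCoreOf_le_sylow_of_le T hTK
  have hOKOL : OK ≤ pCoreOf p L :=
    le_pCoreOf (hOKT.trans hTL) (hLK.trans hKOK) (pCoreOf_isPGroup p K)
  set A := omegaOne p (OK ⊓ Subgroup.centralizer (OK : Set G)) with hA
  have hAel : IsElementaryAbelian p A := isElementaryAbelian_omegaOne_center p OK
  -- conjugates of elements of `Y_L` under `K` lie in `A`
  have hconj : ∀ k ∈ K, ∀ y ∈ YL, k * y * k⁻¹ ∈ A := by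
    intro k hk y hy
    have hy' := largestPReducedOf_le_omegaOne p L hy
    rw [mem_omegaOne_center_iff] at hy'
    obtain ⟨hyO, hyC, hyp⟩ := hy'
    have hyK : y ∈ K := hLK (pCoreOf_le p L hyO)
    have hyCK : y ∈ Subgroup.centralizer (OK : Set G) := Subgroup.centralizer_le hOKOL hyC
    have hyOK : y ∈ OK := inf_centralizer_pCoreOf_le hK ⟨hyK, hyCK⟩
    rw [hA, mem_omegaOne_center_iff]
    refine ⟨?_, ?_, ?_⟩
    · exact (Subgroup.mem_normalizer_iff.mp (hKOK hk) y).mp hyOK
    · have hkC := (hKOK.trans (normalizer_le_normalizer_centralizer OK)) hk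
      exact (Subgroup.mem_normalizer_iff.mp hkC y).mp hyCK
    · rw [conj_pow, hyp, mul_one, mul_inv_cancel]
  set V : Subgroup G := ⨆ k : ↥K, YL.map (MulAut.conj (k : G)).toMonoidHom with hV
  have hVA : V ≤ A := by
    apply iSup_le
    rintro ⟨k, hk⟩ _ ⟨y, hy, rfl⟩
    exact hconj k hk y hy
  have hYV : YL ≤ V := by
    have := le_iSup (fun k : ↥K => YL.map (MulAut.conj (k : G)).toMonoidHom) ⟨1, K.one_mem⟩
    have e : YL.map (MulAut.conj ((⟨1, K.one_mem⟩ : ↥K) : G)).toMonoidHom = YL := map_conj_one YL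
    rw [e] at this
    exact this
  have hVK : V ≤ K := by
    apply iSup_le
    rintro ⟨k, hk⟩ _ ⟨y, hy, rfl⟩
    have hyK : y ∈ K := hLK (largestPReducedOf_le p L hy)
    exact K.mul_mem (K.mul_mem hk hyK) (K.inv_mem hk)
  have hKV : K ≤ Subgroup.normalizer (V : Set G) := by
    apply le_normalizer_of_forall_map_conj_le
    intro g hg
    rw [hV, Subgroup.map_iSup]
    apply iSup_le
    rintro ⟨k, hk⟩
    rw [map_conj_map_conj]
    exact le_iSup (fun k : ↥K => YL.map (MulAut.conj (k : G)).toMonoidHom) ⟨g * k, K.mul_mem hg hk⟩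
  have hpr : PRedIn p K V := by
    refine ⟨hVK, hKV, IsElementaryAbelian.mono hAel hVA, ?_⟩
    intro D hDK hKD hact
    have hKC : K ≤ Subgroup.normalizer ((Subgroup.centralizer (V : Set G) : Subgroup G) : Set G) :=
      hKV.trans (normalizer_le_normalizer_centralizer V)
    have hsplit := le_inf_sup_inf_sylow_ambient hDK hKD hKC hact (T.subtype hTK)
    have hTmap : ((T.subtype hTK : Sylow p ↥K) : Subgroup ↥K).map K.subtype = (T : Subgroup G) := by
      rw [Sylow.coe_subtype, Subgroup.subgroupOf_map_subtype, inf_of_le_left hTK]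
    rw [hTmap] at hsplit
    -- `D ≤ C(Y_L)`
    have hDL : D ⊓ L ≤ Subgroup.centralizer (YL : Set G) := by
      apply pRed_largestPReducedOf p L inf_le_right
      · refine le_trans ?_ Subgroup.inf_normalizer_le_normalizer_inf
        exact le_inf (hLK.trans hKD) Subgroup.le_normalizer
      · intro d hd
        obtain ⟨k, hk⟩ := hact d hd.1
        exact ⟨k, Subgroup.centralizer_le hYV hk⟩
    have hDY : D ≤ Subgroup.centralizer (YL : Set G) := by
      refine hsplit.trans (sup_le ?_ ?_)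
      · exact inf_le_right.trans (Subgroup.centralizer_le hYV)
      · exact (inf_le_inf_left D hTL).trans hDL
    rw [Subgroup.le_centralizer_iff]
    apply iSup_le
    rintro ⟨k, hk⟩ _ ⟨y, hy, rfl⟩
    rw [Subgroup.mem_centralizer_iff]
    intro d hd
    have hd' : k⁻¹ * d * k ∈ D := by
      have := (Subgroup.mem_normalizer_iff.mp (hKD (K.inv_mem hk)) d).mp hd
      simpa using this
    have hc := (Subgroup.mem_centralizer_iff.mp (hDY hd')) y hy
    show d * (k * y * k⁻¹) = k * y * k⁻¹ * d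
    calc d * (k * y * k⁻¹) = k * ((k⁻¹ * d * k) * y) * k⁻¹ := by group
      _ = k * (y * (k⁻¹ * d * k)) * k⁻¹ := by rw [hc]
      _ = k * y * k⁻¹ * d := by group
  exact hYV.trans hpr.le_largestPReducedOf

/-- `Y_X ≠ 1` for a subgroup `X` of characteristic `p` containing the nontrivial Sylow subgroup `T`. -/
theorem largestPReducedOf_ne_bot [Finite G] {p : ℕ} [Fact p.Prime] (T : Sylow p G)
    {X : Subgroup G} (hTX : (T : Subgroup G) ≤ X)
    (hX : Subgroup.centralizer (pCore p ↥X : Set ↥X) ≤ pCore p ↥X) (hT : (T : Subgroup G) ≠ ⊥) :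
    largestPReducedOf p X ≠ ⊥ := by
  have h1 : (T : Subgroup G) ⊓ Subgroup.centralizer ((T : Subgroup G) : Set G) ≠ ⊥ :=
    inf_centralizer_ne_bot_of_isPGroup T.isPGroup' T.isPGroup' hT Subgroup.le_normalizer
  have h2 := Cfsg.Agent.Lib.Helper97.omegaOne_ne_bot (p := p) (T.isPGroup'.to_le inf_le_left) h1
  have h3 := (omegaOne_center_sylow_le_sylowCenterClosure T hTX).trans
    (sylowCenterClosure_le_largestPReducedOf hX)
  intro h0
  rw [h0] at h3
  exact h2 (le_bot_iff.mp h3)

theorem sylow_ne_bot_of_mem_charPSubgroups {p : ℕ} [Fact p.Prime] (T : Sylow p G)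
    {X : Subgroup G} (hTX : (T : Subgroup G) ≤ X) (hX : X ∈ charPSubgroups p G) :
    (T : Subgroup G) ≠ ⊥ := by
  intro h0
  apply pCoreOf_ne_bot_of_mem_charPSubgroups hX
  have := pCoreOf_le_sylow_of_le T hTX
  rw [h0] at this
  exact le_bot_iff.mp this

/-- `X† = X C_H(Y_X)` lies in `𝓛_H` for `X ∈ 𝓛_H` containing `T`. -/
theorem dagger_mem_charPSubgroups [Finite G] {p : ℕ} [Fact p.Prime]
    (hG : IsOfParabolicCharacteristic p G) (T : Sylow p G) {X : Subgroup G}
    (hTX : (T : Subgroup G) ≤ X) (hX : X ∈ charPSubgroups p G) :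
    X ⊔ Subgroup.centralizer ((largestPReducedOf p X : Subgroup G) : Set G) ∈
      charPSubgroups p G := by
  have hXc := charP_of_mem_charPSubgroups hX
  have hT := sylow_ne_bot_of_mem_charPSubgroups T hTX hX
  have hY1 := largestPReducedOf_ne_bot T hTX hXc hT
  set Y := largestPReducedOf p X with hY
  have hXdN : X ⊔ Subgroup.centralizer (Y : Set G) ≤ Subgroup.normalizer (Y : Set G) :=
    sup_le (le_normalizer_largestPReducedOf p X) (Subgroup.centralizer_le_normalizer _)
  apply mem_charPSubgroups_of_parabolic hG T (hTX.trans le_sup_left)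
  have hYO : Y ≤ pCoreOf p (X ⊔ Subgroup.centralizer (Y : Set G)) :=
    le_pCoreOf ((largestPReducedOf_le p X).trans le_sup_left) hXdN
      (IsElementaryAbelian.isPGroup (isElementaryAbelian_largestPReducedOf p X))
  intro h0
  rw [h0] at hYO
  exact hY1 (le_bot_iff.mp hYO)

/-- `Y_X ≤ Y_{X†}`. -/
theorem largestPReducedOf_le_dagger [Finite G] {p : ℕ} [Fact p.Prime] (T : Sylow p G)
    {X : Subgroup G} (hTX : (T : Subgroup G) ≤ X) :
    largestPReducedOf p X ≤ largestPReducedOf p
      (X ⊔ Subgroup.centralizer ((largestPReducedOf p X : Subgroup G) : Set G)) := by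
  apply largestPReducedOf_le_of_sup_centralizer_eq T _ X (hTX.trans le_sup_left) hTX
  rw [sup_assoc, sup_idem]

/-- Ambient Frattini argument: if `T ≤ M` is a Sylow `p`-subgroup of the finite group and `M`
normalizes `C`, then `M = N_M(T ∩ C) (M ∩ C)`. -/
theorem exists_mul_of_sylow_inf [Finite G] {p : ℕ} [Fact p.Prime] (T : Sylow p G)
    {M C : Subgroup G} (hTM : (T : Subgroup G) ≤ M)
    (hMC : M ≤ Subgroup.normalizer (C : Set G)) :
    ∀ m ∈ M, ∃ a ∈ M ⊓ Subgroup.normalizer ((((T : Subgroup G) ⊓ C : Subgroup G)) : Set G),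
      ∃ c ∈ M ⊓ C, m = a * c := by
  intro m hm
  have hT₀M : (T : Subgroup G) ⊓ C ≤ M := inf_le_left.trans hTM
  have hn : (C.subgroupOf M).Normal := Subgroup.normal_subgroupOf_of_le_normalizer hMC
  have hfr := normalizer_inf_sup_eq_top (T.subtype hTM) (C.subgroupOf M)
  have hmem : (⟨m, hm⟩ : ↥M) ∈ Subgroup.normalizer
      ((((T.subtype hTM : Sylow p ↥M) : Subgroup ↥M) ⊓ C.subgroupOf M : Subgroup ↥M) : Set ↥M) ⊔
      C.subgroupOf M := by rw [hfr]; trivial
  rw [Subgroup.mem_sup_of_normal_right] at hmem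
  obtain ⟨a, ha, c, hc, hac⟩ := hmem
  have heq : ((T.subtype hTM : Sylow p ↥M) : Subgroup ↥M) ⊓ C.subgroupOf M =
      ((T : Subgroup G) ⊓ C).subgroupOf M := by
    rw [Sylow.coe_subtype]
    ext x
    simp [Subgroup.mem_subgroupOf]
  rw [heq, ← Subgroup.subgroupOf_normalizer_eq hT₀M, Subgroup.mem_subgroupOf] at ha
  rw [Subgroup.mem_subgroupOf] at hc
  have hm' : m = (a : G) * (c : G) := by
    have := congrArg Subtype.val hac
    simpa using this.symm
  exact ⟨a, ⟨a.2, ha⟩, c, ⟨c.2, hc⟩, hm'⟩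

theorem index_eq_relIndex_of_normal_sup_eq_top [Finite G] (D X : Subgroup G) [D.Normal]
    (h : D ⊔ X = ⊤) : X.index = X.relIndex D := by
  have h1 : D.relIndex X = D.index := by
    have := Subgroup.relIndex_sup_left (K := D) (H := X)
    rw [h, Subgroup.relIndex_top_right] at this
    exact this.symm
  have h2 : Nat.card ↥(D ⊓ X) * (D ⊓ X).relIndex X = Nat.card ↥X := by
    have := Subgroup.relIndex_mul_relIndex ⊥ (D ⊓ X) X bot_le inf_le_right
    simpa using this
  have h3 : Nat.card ↥(D ⊓ X) * (D ⊓ X).relIndex D = Nat.card ↥D := by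
    have := Subgroup.relIndex_mul_relIndex ⊥ (D ⊓ X) D bot_le inf_le_left
    simpa using this
  have h4 := Subgroup.card_mul_index X
  have h5 := Subgroup.card_mul_index D
  rw [Subgroup.inf_relIndex_right, h1] at h2
  rw [Subgroup.inf_relIndex_left] at h3
  have hpos : 0 < Nat.card ↥(D ⊓ X) * D.index := by
    apply Nat.mul_pos Nat.card_pos
    exact Nat.pos_of_ne_zero Subgroup.index_ne_zero_of_finite
  apply Nat.eq_of_mul_eq_mul_left hpos
  calc Nat.card ↥(D ⊓ X) * D.index * X.index = Nat.card ↥X * X.index := by rw [h2]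
    _ = Nat.card G := h4
    _ = Nat.card ↥D * D.index := h5.symm
    _ = Nat.card ↥(D ⊓ X) * X.relIndex D * D.index := by rw [h3]
    _ = Nat.card ↥(D ⊓ X) * D.index * X.relIndex D := by ring

theorem exists_map_conj_le_of_not_dvd_index [Finite G] {p : ℕ} [Fact p.Prime] {P : Subgroup G}
    (hP : IsPGroup p ↥P) (X : Subgroup G) (h : ¬ p ∣ X.index) :
    ∃ g : G, P.map (MulAut.conj g).toMonoidHom ≤ X := by
  have hne := hP.nonempty_fixed_point_of_prime_not_dvd_card (G ⧸ X)
    (by rwa [← Subgroup.index_eq_card])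
  obtain ⟨a, ha⟩ := hne
  induction a using QuotientGroup.induction_on with
  | H g =>
    refine ⟨g⁻¹, ?_⟩
    rintro _ ⟨u, hu, rfl⟩
    have h1 := ha ⟨u, hu⟩
    have h2 : ((u * g : G) : G ⧸ X) = (g : G ⧸ X) := h1
    rw [QuotientGroup.eq] at h2
    have h3 : g⁻¹ * u * g⁻¹⁻¹ = ((u * g)⁻¹ * g)⁻¹ := by group
    show g⁻¹ * u * g⁻¹⁻¹ ∈ X
    rw [h3]
    exact X.inv_mem h2

/-- If the normal subgroup `D` has `O_p(G)` as a Sylow `p`-subgroup (index prime to `p`) and no proper
subgroup containing the Sylow `p`-subgroup `P` of `G` supplements `D`, then the image of `D` in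
`G / O_p(G)` lies in the Frattini subgroup. -/
theorem map_le_frattini_of_minimal [Finite G] {p : ℕ} [Fact p.Prime] (P : Sylow p G)
    (D : Subgroup G) [hD : D.Normal]
    (hmin : ∀ X : Subgroup G, (P : Subgroup G) ≤ X → D ⊔ X = ⊤ → X = ⊤)
    (hO : ¬ p ∣ (pCore p G).relIndex D) :
    D.map (QuotientGroup.mk' (pCore p G)) ≤ frattini (G ⧸ pCore p G) := by
  unfold frattini Order.radical
  apply le_iInf₂
  intro Xb hXb
  have hXc : IsCoatom (Xb.comap (QuotientGroup.mk' (pCore p G))) := isCoatom_comap_mk' _ hXb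
  have hOX : pCore p G ≤ Xb.comap (QuotientGroup.mk' (pCore p G)) := le_comap_mk' _ _
  set X := Xb.comap (QuotientGroup.mk' (pCore p G)) with hX
  suffices hDX : D ≤ X by
    calc D.map (QuotientGroup.mk' (pCore p G)) ≤ X.map (QuotientGroup.mk' (pCore p G)) :=
          Subgroup.map_mono hDX
      _ = Xb := map_comap_mk' _ _
  by_contra hDX
  have hsup : D ⊔ X = ⊤ := by
    apply hXc.2
    apply lt_of_le_of_ne le_sup_right
    intro h
    apply hDX
    rw [h]
    exact le_sup_left
  have hidx : X.index = X.relIndex D := index_eq_relIndex_of_normal_sup_eq_top D X hsup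
  have hdvd : X.relIndex D ∣ (pCore p G).relIndex D := Subgroup.relIndex_dvd_of_le_left D hOX
  have hnd : ¬ p ∣ X.index := by
    intro h
    rw [hidx] at h
    exact hO (dvd_trans h hdvd)
  obtain ⟨g, hg⟩ := exists_map_conj_le_of_not_dvd_index P.isPGroup' X hnd
  set X' := X.map (MulAut.conj g⁻¹).toMonoidHom with hX'
  have hPX' : (P : Subgroup G) ≤ X' := by
    have := Subgroup.map_mono (f := (MulAut.conj g⁻¹).toMonoidHom) hg
    rwa [map_conj_map_conj, inv_mul_cancel, map_conj_one] at this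
  have hXX' : X = X'.map (MulAut.conj g).toMonoidHom := by
    rw [hX', map_conj_map_conj, mul_inv_cancel, map_conj_one]
  have hsup' : D ⊔ X' = ⊤ := by
    have := congrArg (Subgroup.map (MulAut.conj g⁻¹).toMonoidHom) hsup
    rw [Subgroup.map_sup, map_conj_eq_of_mem_normalizer
      (by rw [Subgroup.normalizer_eq_top_iff.mpr hD]; trivial),
      Subgroup.map_top_of_surjective _ (MulAut.conj g⁻¹).surjective] at this
    exact this
  have hX'top := hmin X' hPX' hsup'
  apply hXc.1
  rw [hXX', hX'top]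
  exact Subgroup.map_top_of_surjective _ (MulAut.conj g).surjective

end Cfsg.Agent.Lib.Helper47
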