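import Mathlib
import Cfsg.Prelude.Def_LocalStructure
import Cfsg.Agent.Lib.Helper47.BasicProperty
import Cfsg.Agent.Lib.Helper47.Amalgam
import Cfsg.Agent.Lib.Helper46.Ambient

/-!
# Asymmetric `Y_M` (helper47)

General lemmas for the situation of a subgroup `M` with the basic property whose largest `p`-reduced
normal subgroup `Y = Y_M` is asymmetric: `P = O_p(M)` is normal in every `p`-subgroup containing it,
is weakly closed, and `N_G(P) ≤ M† = M C_G(Y)` controls fusion in `Y`.
-/

set_option autoImplicit false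
set_option linter.unusedSectionVars false

namespace Cfsg.Agent.Lib.Helper47

open Cfsg
open scoped commutatorElement Pointwise

variable {G : Type*} [Group G]

/-- Moving a conjugation to the other side. -/
theorem le_map_conj_inv_of_map_conj_le {A B : Subgroup G} {g : G}
    (h : A.map (MulAut.conj g).toMonoidHom ≤ B) : A ≤ B.map (MulAut.conj g⁻¹).toMonoidHom := by
  have := Subgroup.map_mono (f := (MulAut.conj g⁻¹).toMonoidHom) h
  rwa [map_conj_map_conj, inv_mul_cancel, map_conj_one] at this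

/-- Moving a conjugation to the other side. -/
theorem map_conj_inv_le_of_le_map_conj {A B : Subgroup G} {g : G}
    (h : A ≤ B.map (MulAut.conj g).toMonoidHom) : A.map (MulAut.conj g⁻¹).toMonoidHom ≤ B := by
  have := Subgroup.map_mono (f := (MulAut.conj g⁻¹).toMonoidHom) h
  rwa [map_conj_map_conj, inv_mul_cancel, map_conj_one] at this

theorem card_map_conj' (A : Subgroup G) (g : G) :
    Nat.card ↥(A.map (MulAut.conj g).toMonoidHom) = Nat.card ↥A :=
  Nat.card_congr (A.equivMapOfInjective _ (MulAut.conj g).injective).toEquiv.symm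

/-- A conjugate of `A` contained in `A` equals `A` (finite case). -/
theorem map_conj_eq_of_le [Finite G] {A : Subgroup G} {g : G}
    (h : A.map (MulAut.conj g).toMonoidHom ≤ A) : A.map (MulAut.conj g).toMonoidHom = A :=
  Subgroup.eq_of_le_of_card_ge h (card_map_conj' A g).ge

/-- Relative Sylow theorem: if the Sylow `p`-subgroup `T` of `G` lies in `H`, every `p`-subgroup of `H`
lies in an `H`-conjugate of `T`. -/
theorem exists_mem_le_map_conj_sylow [Finite G] {p : ℕ} [Fact p.Prime] (T : Sylow p G)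
    {H X : Subgroup G} (hTH : (T : Subgroup G) ≤ H) (hXH : X ≤ H) (hX : IsPGroup p ↥X) :
    ∃ h ∈ H, X ≤ (T : Subgroup G).map (MulAut.conj h).toMonoidHom := by
  obtain ⟨x, hxH, P₀, hP₀, hTP, hXP⟩ := exists_conj_le_common hTH hXH T.isPGroup' hX
  have h1 : P₀ = T := T.is_maximal' hP₀ hTP
  rw [h1] at hXP
  exact ⟨x⁻¹, H.inv_mem hxH, le_map_conj_inv_of_map_conj_le hXP⟩

/-- Asymmetry: if `Y` and a conjugate `Y^g` normalize each other they commute. -/
theorem le_centralizer_of_not_isSymmetricIn {Y : Subgroup G} (hasym : ¬ IsSymmetricIn Y) (g : G)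
    (h1 : Y ≤ Subgroup.normalizer ((Y.map (MulAut.conj g).toMonoidHom : Subgroup G) : Set G))
    (h2 : Y.map (MulAut.conj g).toMonoidHom ≤ Subgroup.normalizer (Y : Set G)) :
    Y ≤ Subgroup.centralizer ((Y.map (MulAut.conj g).toMonoidHom : Subgroup G) : Set G) := by
  rw [← Subgroup.commutator_eq_bot_iff_le_centralizer]
  by_contra hne
  apply hasym
  refine ⟨g, hne, le_inf ?_ ?_⟩
  · rw [Subgroup.commutator_le]
    intro y hy z hz
    have h3 : z * y⁻¹ * z⁻¹ ∈ Y := conj_mem_of_le_normalizer h2 hz (Y.inv_mem hy)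
    have h4 : ⁅y, z⁆ = y * (z * y⁻¹ * z⁻¹) := by
      rw [commutatorElement_def]; group
    rw [h4]
    exact Y.mul_mem hy h3
  · rw [Subgroup.commutator_le]
    intro y hy z hz
    have h3 : y * z * y⁻¹ ∈ Y.map (MulAut.conj g).toMonoidHom :=
      conj_mem_of_le_normalizer h1 hy hz
    rw [commutatorElement_def]
    exact (Y.map (MulAut.conj g).toMonoidHom).mul_mem h3
      ((Y.map (MulAut.conj g).toMonoidHom).inv_mem hz)

/-- Asymmetry for two arbitrary conjugates. -/
theorem map_conj_le_centralizer_of_not_isSymmetricIn {Y : Subgroup G} (hasym : ¬ IsSymmetricIn Y)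
    (a b : G)
    (h1 : Y.map (MulAut.conj a).toMonoidHom ≤
      Subgroup.normalizer ((Y.map (MulAut.conj b).toMonoidHom : Subgroup G) : Set G))
    (h2 : Y.map (MulAut.conj b).toMonoidHom ≤
      Subgroup.normalizer ((Y.map (MulAut.conj a).toMonoidHom : Subgroup G) : Set G)) :
    Y.map (MulAut.conj a).toMonoidHom ≤
      Subgroup.centralizer ((Y.map (MulAut.conj b).toMonoidHom : Subgroup G) : Set G) := by
  have h1' := Subgroup.map_mono (f := (MulAut.conj a⁻¹).toMonoidHom) h1
  rw [map_conj_map_conj, inv_mul_cancel, map_conj_one, ← normalizer_map_conj,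
    map_conj_map_conj] at h1'
  have h2' := Subgroup.map_mono (f := (MulAut.conj a⁻¹).toMonoidHom) h2
  rw [map_conj_map_conj, ← normalizer_map_conj, map_conj_map_conj, inv_mul_cancel,
    map_conj_one] at h2'
  have h3 := le_centralizer_of_not_isSymmetricIn hasym (a⁻¹ * b) h1' h2'
  have h4 := Subgroup.map_mono (f := (MulAut.conj a).toMonoidHom) h3
  rwa [← centralizer_map_conj, map_conj_map_conj, mul_inv_cancel_left] at h4

/-- `𝓛_G` is invariant under conjugation. -/
theorem map_conj_mem_charPSubgroups {p : ℕ} {L : Subgroup G} (hL : L ∈ charPSubgroups p G) (g : G) :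
    L.map (MulAut.conj g).toMonoidHom ∈ charPSubgroups p G := by
  have h1 : pCoreOf p (L.map (MulAut.conj g).toMonoidHom) =
      (pCoreOf p L).map (MulAut.conj g).toMonoidHom :=
    Cfsg.Agent.Lib.Helper46.pCoreOf_map (p := p) L (MulAut.conj g)
  have h0 : pCoreOf p L ≠ ⊥ := pCoreOf_ne_bot_of_mem_charPSubgroups hL
  refine ⟨pCore_ne_bot_of_pCoreOf_ne_bot ?_, ?_⟩
  · rw [h1]
    intro h
    exact h0 ((Subgroup.map_eq_bot_iff_of_injective _ (MulAut.conj g).injective).mp h)
  · show Subgroup.centralizer ((pCoreOf p (L.map (MulAut.conj g).toMonoidHom) : Subgroup G) : Set G) ≤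
      pCoreOf p (L.map (MulAut.conj g).toMonoidHom)
    rw [h1, centralizer_map_conj]
    exact Subgroup.map_mono hL.2

/-- Every member of `𝓛_G` lies in a maximal member. -/
theorem exists_le_mem_maxCharPSubgroups [Finite G] {p : ℕ} {K : Subgroup G}
    (hK : K ∈ charPSubgroups p G) : ∃ X ∈ maxCharPSubgroups p G, K ≤ X := by
  classical
  obtain ⟨X, hX, hXmax⟩ := Set.exists_max_image {X : Subgroup G | X ∈ charPSubgroups p G ∧ K ≤ X}
    (fun X => Nat.card X) (Set.toFinite _) ⟨K, hK, le_rfl⟩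
  refine ⟨X, ⟨hX.1, ?_⟩, hX.2⟩
  intro L hL hXL
  have h1 : Nat.card L ≤ Nat.card X := hXmax L ⟨hL, hX.2.trans hXL⟩
  exact (Subgroup.eq_of_le_of_card_ge hXL h1).symm

/-- The data of a subgroup `M ≥ S` with the basic property and asymmetric `Y = Y_M`, `P = O_p(M)`. -/
structure AsymData (p : ℕ) (S : Sylow p G) (M Y P : Subgroup G) : Prop where
  hG : IsOfParabolicCharacteristic p G
  hSM : (S : Subgroup G) ≤ M
  hPS : P ≤ (S : Subgroup G)
  hYP : Y ≤ P
  hY1 : Y ≠ ⊥
  hMY : M ≤ Subgroup.normalizer (Y : Set G)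
  hMP : M ≤ Subgroup.normalizer (P : Set G)
  hSD : (S : Subgroup G) ⊓ Subgroup.centralizer (Y : Set G) ≤ P
  hPD : P ≤ Subgroup.centralizer (Y : Set G)
  hmax : ∀ K ∈ charPSubgroups p G, M ≤ K → K ≤ M ⊔ Subgroup.centralizer (Y : Set G)
  hdag : M ⊔ Subgroup.centralizer (Y : Set G) ∈ charPSubgroups p G
  hasym : ¬ IsSymmetricIn Y

namespace AsymData

variable [Finite G] {p : ℕ} [Fact p.Prime] {S : Sylow p G} {M Y P : Subgroup G}

theorem dagger_le_normalizer (h : AsymData p S M Y P) :
    M ⊔ Subgroup.centralizer (Y : Set G) ≤ Subgroup.normalizer (Y : Set G) :=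
  sup_le h.hMY (Subgroup.centralizer_le_normalizer _)

theorem dagger_le_normalizer_centralizer (h : AsymData p S M Y P) :
    M ⊔ Subgroup.centralizer (Y : Set G) ≤
      Subgroup.normalizer ((Subgroup.centralizer (Y : Set G) : Subgroup G) : Set G) :=
  h.dagger_le_normalizer.trans (normalizer_le_normalizer_centralizer Y)

theorem isPGroup_P (h : AsymData p S M Y P) : IsPGroup p ↥P := S.isPGroup'.to_le h.hPS

theorem P_ne_bot (h : AsymData p S M Y P) : P ≠ ⊥ := fun h0 =>
  h.hY1 (le_bot_iff.mp (h0 ▸ h.hYP))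

/-- Weak closure of `P` in `M†`. -/
theorem wc_dagger (h : AsymData p S M Y P) {g : G}
    (hg : g ∈ M ⊔ Subgroup.centralizer (Y : Set G))
    (hgS : P.map (MulAut.conj g).toMonoidHom ≤ (S : Subgroup G)) :
    P.map (MulAut.conj g).toMonoidHom = P := by
  apply map_conj_eq_of_le
  refine (le_inf hgS ?_).trans h.hSD
  calc P.map (MulAut.conj g).toMonoidHom
      ≤ (Subgroup.centralizer (Y : Set G)).map (MulAut.conj g).toMonoidHom := Subgroup.map_mono h.hPD
    _ = Subgroup.centralizer (Y : Set G) :=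
        map_conj_eq_of_mem_normalizer (h.dagger_le_normalizer_centralizer hg)

theorem mem_charP (h : AsymData p S M Y P) {K : Subgroup G} (hSK : (S : Subgroup G) ≤ K)
    (hK : pCoreOf p K ≠ ⊥) : K ∈ charPSubgroups p G :=
  mem_charPSubgroups_of_parabolic h.hG S hSK hK

/-- `N_G(P) ≤ M†`. -/
theorem normalizer_P_le (h : AsymData p S M Y P) :
    Subgroup.normalizer (P : Set G) ≤ M ⊔ Subgroup.centralizer (Y : Set G) := by
  apply h.hmax _ _ h.hMP
  apply h.mem_charP (h.hSM.trans h.hMP)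
  intro h0
  apply h.P_ne_bot
  have := le_pCoreOf (p := p) (Subgroup.le_normalizer (H := P)) le_rfl h.isPGroup_P
  rw [h0] at this
  exact le_bot_iff.mp this

/-- `N_G(M†) ≤ M†`. -/
theorem normalizer_dagger_le (h : AsymData p S M Y P) :
    Subgroup.normalizer ((M ⊔ Subgroup.centralizer (Y : Set G) : Subgroup G) : Set G) ≤
      M ⊔ Subgroup.centralizer (Y : Set G) := by
  set Md := M ⊔ Subgroup.centralizer (Y : Set G) with hMd
  have hMMd : M ≤ Md := le_sup_left
  apply h.hmax _ _ (hMMd.trans Subgroup.le_normalizer)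
  apply h.mem_charP (h.hSM.trans (hMMd.trans Subgroup.le_normalizer))
  intro h0
  apply pCoreOf_ne_bot_of_mem_charPSubgroups h.hdag
  have := le_pCoreOf (p := p) ((pCoreOf_le p Md).trans Subgroup.le_normalizer)
    (normalizer_le_normalizer_pCoreOf p Md) (pCoreOf_isPGroup p Md)
  rw [h0] at this
  exact le_bot_iff.mp this

/-- If `M^g ≤ M†` then `g ∈ M†`. -/
theorem mem_dagger_of_map_conj_le (h : AsymData p S M Y P) {g : G}
    (hg : M.map (MulAut.conj g).toMonoidHom ≤ M ⊔ Subgroup.centralizer (Y : Set G)) :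
    g ∈ M ⊔ Subgroup.centralizer (Y : Set G) := by
  set Md := M ⊔ Subgroup.centralizer (Y : Set G) with hMd
  have h1 : M ≤ Md.map (MulAut.conj g⁻¹).toMonoidHom := le_map_conj_inv_of_map_conj_le hg
  have h2 : Md.map (MulAut.conj g⁻¹).toMonoidHom ≤ Md :=
    h.hmax _ (map_conj_mem_charPSubgroups h.hdag g⁻¹) h1
  have h3 : g⁻¹ ∈ Subgroup.normalizer (Md : Set G) :=
    Subgroup.mem_normalizer_iff_map_conj_eq.mpr (map_conj_eq_of_le h2)
  have h4 := h.normalizer_dagger_le h3
  simpa using Md.inv_mem h4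

/-- Step A': for `P ≤ L ≤ S` every element of `N_G(L)` normalizes `P`. -/
theorem stepA' (h : AsymData p S M Y P) {L : Subgroup G} (hLS : L ≤ (S : Subgroup G))
    (hPL : P ≤ L) {g : G} (hg : g ∈ Subgroup.normalizer (L : Set G)) :
    P.map (MulAut.conj g).toMonoidHom = P := by
  classical
  have hgL : L.map (MulAut.conj g).toMonoidHom = L := map_conj_eq_of_mem_normalizer hg
  let Mi : Bool → Subgroup G := fun b => cond b (M.map (MulAut.conj g).toMonoidHom) M
  let Yi : Bool → Subgroup G := fun b => cond b (Y.map (MulAut.conj g).toMonoidHom) Y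
  let Pi : Bool → Subgroup G := fun b => cond b (P.map (MulAut.conj g).toMonoidHom) P
  let 𝒴 : Set (Subgroup G) := {A | ∃ a : G, A = Y.map (MulAut.conj a).toMonoidHom}
  have hLM : L ≤ M := hLS.trans h.hSM
  have hLY : L ≤ Subgroup.normalizer (Y : Set G) := hLM.trans h.hMY
  have hLgM : L ≤ M.map (MulAut.conj g).toMonoidHom := by
    calc L = L.map (MulAut.conj g).toMonoidHom := hgL.symm
      _ ≤ _ := Subgroup.map_mono hLM
  have hMgY : M.map (MulAut.conj g).toMonoidHom ≤
      Subgroup.normalizer ((Y.map (MulAut.conj g).toMonoidHom : Subgroup G) : Set G) := by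
    rw [normalizer_map_conj]
    exact Subgroup.map_mono h.hMY
  have hMgP : M.map (MulAut.conj g).toMonoidHom ≤
      Subgroup.normalizer ((P.map (MulAut.conj g).toMonoidHom : Subgroup G) : Set G) := by
    rw [normalizer_map_conj]
    exact Subgroup.map_mono h.hMP
  have hLgY : L ≤ Subgroup.normalizer ((Y.map (MulAut.conj g).toMonoidHom : Subgroup G) : Set G) :=
    hLgM.trans hMgY
  have hLD : L ⊓ Subgroup.centralizer (Y : Set G) ≤ P := (inf_le_inf_right _ hLS).trans h.hSD
  have hLDg : L ⊓ Subgroup.centralizer ((Y.map (MulAut.conj g).toMonoidHom : Subgroup G) : Set G) ≤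
      P.map (MulAut.conj g).toMonoidHom := by
    rw [centralizer_map_conj]
    calc L ⊓ (Subgroup.centralizer (Y : Set G)).map (MulAut.conj g).toMonoidHom
        = L.map (MulAut.conj g).toMonoidHom ⊓
            (Subgroup.centralizer (Y : Set G)).map (MulAut.conj g).toMonoidHom := by rw [hgL]
      _ = (L ⊓ Subgroup.centralizer (Y : Set G)).map (MulAut.conj g).toMonoidHom :=
          (Subgroup.map_inf _ _ _ (MulAut.conj g).injective).symm
      _ ≤ P.map (MulAut.conj g).toMonoidHom := Subgroup.map_mono hLD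
  have hPgL : P.map (MulAut.conj g).toMonoidHom ≤ L := by
    calc P.map (MulAut.conj g).toMonoidHom ≤ L.map (MulAut.conj g).toMonoidHom :=
          Subgroup.map_mono hPL
      _ = L := hgL
  have hYL : Y ≤ L := h.hYP.trans hPL
  have hYgL : Y.map (MulAut.conj g).toMonoidHom ≤ L := (Subgroup.map_mono h.hYP).trans hPgL
  have hcomm0 : Y ≤ Subgroup.centralizer ((Y.map (MulAut.conj g).toMonoidHom : Subgroup G) : Set G) :=
    le_centralizer_of_not_isSymmetricIn h.hasym g (hYL.trans hLgY) (hYgL.trans hLY)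
  have hcomm0' : Y.map (MulAut.conj g).toMonoidHom ≤ Subgroup.centralizer (Y : Set G) :=
    Subgroup.le_centralizer_iff.mp hcomm0
  have hYgP : Y.map (MulAut.conj g).toMonoidHom ≤ P := (le_inf hYgL hcomm0').trans hLD
  have hYPg : Y ≤ P.map (MulAut.conj g).toMonoidHom := (le_inf hYL hcomm0).trans hLDg
  have key : ∀ w ∈ ⨆ i, Mi i, ∀ i j, (Yi i).map (MulAut.conj w).toMonoidHom ≤ Pi j := by
    intro w hw i j
    refine map_conj_le_of_amalgam Mi Yi Pi L 𝒴 ?_ ?_ ?_ ?_ ?_ ?_ ?_ ?_ ?_ hw i j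
    · rintro A ⟨a, rfl⟩ b
      exact ⟨b * a, map_conj_map_conj Y a b⟩
    · rintro (_ | _)
      · exact ⟨1, (map_conj_one Y).symm⟩
      · exact ⟨g, rfl⟩
    · rintro A ⟨a, rfl⟩ B ⟨b, rfl⟩ h1 h2
      exact map_conj_le_centralizer_of_not_isSymmetricIn h.hasym a b h1 h2
    · rintro (_ | _)
      · exact h.hMY
      · exact hMgY
    · rintro (_ | _)
      · exact h.hMP
      · exact hMgP
    · rintro (_ | _)
      · exact hPL
      · exact hPgL
    · rintro (_ | _)
      · exact hLM
      · exact hLgM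
    · rintro (_ | _)
      · exact hLD
      · exact hLDg
    · rintro (_ | _) (_ | _)
      · exact h.hYP
      · exact hYPg
      · exact hYgP
      · exact Subgroup.map_mono h.hYP
  set K : Subgroup G := ⨆ i, Mi i with hK
  have hMK : M ≤ K := le_iSup Mi false
  have hMgK : M.map (MulAut.conj g).toMonoidHom ≤ K := le_iSup Mi true
  set V : Subgroup G := ⨆ w : K, Y.map (MulAut.conj (w : G)).toMonoidHom with hV
  have hVP : V ≤ P := iSup_le (fun w => key w.1 w.2 false false)
  have hYV : Y ≤ V := by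
    have := le_iSup (fun w : K => Y.map (MulAut.conj (w : G)).toMonoidHom) 1
    simpa only [OneMemClass.coe_one, map_conj_one] using this
  have hKV : K ≤ Subgroup.normalizer (V : Set G) := by
    apply le_normalizer_of_forall_map_conj_le
    intro k hk
    rw [hV, Subgroup.map_iSup]
    apply iSup_le
    intro w
    rw [map_conj_map_conj]
    exact le_iSup (fun w : K => Y.map (MulAut.conj (w : G)).toMonoidHom) ⟨k * w, K.mul_mem hk w.2⟩
  have hV1 : V ≠ ⊥ := fun h0 => h.hY1 (le_bot_iff.mp (h0 ▸ hYV))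
  have hVp : IsPGroup p ↥V := h.isPGroup_P.to_le hVP
  have hVK : V ≤ K := hVP.trans (h.hPS.trans (h.hSM.trans hMK))
  have hOK : pCoreOf p K ≠ ⊥ := by
    intro h0
    have := le_pCoreOf hVK hKV hVp
    rw [h0] at this
    exact hV1 (le_bot_iff.mp this)
  have hKc : K ∈ charPSubgroups p G := h.mem_charP (h.hSM.trans hMK) hOK
  have hKd : K ≤ M ⊔ Subgroup.centralizer (Y : Set G) := h.hmax K hKc hMK
  have hgd : g ∈ M ⊔ Subgroup.centralizer (Y : Set G) :=
    h.mem_dagger_of_map_conj_le (hMgK.trans hKd)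
  exact h.wc_dagger hgd (hPgL.trans hLS)

/-- Step A: a `p`-subgroup `L` with `P ⊴ L` has `N_G(L) ≤ N_G(P)`. -/
theorem stepA (h : AsymData p S M Y P) {L : Subgroup G} (hLp : IsPGroup p ↥L) (hPL : P ≤ L)
    (hLN : L ≤ Subgroup.normalizer (P : Set G)) {g : G}
    (hg : g ∈ Subgroup.normalizer (L : Set G)) :
    P.map (MulAut.conj g).toMonoidHom = P := by
  set Md := M ⊔ Subgroup.centralizer (Y : Set G) with hMd
  have hLMd : L ≤ Md := hLN.trans h.normalizer_P_le
  have hSMd : (S : Subgroup G) ≤ Md := h.hSM.trans le_sup_left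
  obtain ⟨m, hm, hLm⟩ := exists_mem_le_map_conj_sylow S hSMd hLMd hLp
  set L' := L.map (MulAut.conj m⁻¹).toMonoidHom with hL'
  have hL'S : L' ≤ (S : Subgroup G) := map_conj_inv_le_of_le_map_conj hLm
  have hPm : P.map (MulAut.conj m⁻¹).toMonoidHom = P :=
    h.wc_dagger (Md.inv_mem hm) ((Subgroup.map_mono hPL).trans hL'S)
  have hPL' : P ≤ L' := by
    calc P = P.map (MulAut.conj m⁻¹).toMonoidHom := hPm.symm
      _ ≤ L' := Subgroup.map_mono hPL
  have hg' : m⁻¹ * g * m ∈ Subgroup.normalizer (L' : Set G) := by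
    rw [Subgroup.mem_normalizer_iff_map_conj_eq]
    show L'.map (MulAut.conj (m⁻¹ * g * m)).toMonoidHom = L'
    rw [hL', map_conj_map_conj]
    have e : m⁻¹ * g * m * m⁻¹ = m⁻¹ * g := by group
    rw [e, ← map_conj_map_conj, map_conj_eq_of_mem_normalizer hg]
  have h1 := h.stepA' hL'S hPL' hg'
  have hPm' : P.map (MulAut.conj m).toMonoidHom = P := by
    have := congrArg (Subgroup.map (MulAut.conj m).toMonoidHom) hPm
    rw [map_conj_map_conj, mul_inv_cancel, map_conj_one] at this
    exact this.symm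
  have e0 : m * (m⁻¹ * g * m) * m⁻¹ = g := by group
  have e1 : P.map (MulAut.conj g).toMonoidHom =
      ((P.map (MulAut.conj m⁻¹).toMonoidHom).map (MulAut.conj (m⁻¹ * g * m)).toMonoidHom).map
        (MulAut.conj m).toMonoidHom := by
    rw [map_conj_map_conj, map_conj_map_conj, e0]
  rw [e1, hPm, h1, hPm']

/-- Step B: `P` is normal in every `p`-subgroup containing it. -/
theorem stepB (h : AsymData p S M Y P) {L : Subgroup G} (hLp : IsPGroup p ↥L) (hPL : P ≤ L) :
    L ≤ Subgroup.normalizer (P : Set G) := by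
  set L₁ := L ⊓ Subgroup.normalizer (P : Set G) with hL₁
  have hL₁L : L₁ ≤ L := inf_le_left
  by_contra hne
  have hlt : L₁.subgroupOf L < ⊤ := by
    rw [lt_top_iff_ne_top]
    intro htop
    apply hne
    rw [Subgroup.subgroupOf_eq_top] at htop
    exact htop.trans inf_le_right
  have : Group.IsNilpotent ↥L := hLp.isNilpotent
  have hnc := Group.normalizerCondition_of_isNilpotent (G := ↥L) _ hlt
  rw [← Subgroup.subgroupOf_normalizer_eq hL₁L] at hnc
  obtain ⟨x, hxN, hxL₁⟩ := SetLike.exists_of_lt hnc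
  rw [Subgroup.mem_subgroupOf] at hxN hxL₁
  have hxNP : (x : G) ∈ Subgroup.normalizer (P : Set G) := by
    rw [Subgroup.mem_normalizer_iff_map_conj_eq]
    exact h.stepA (hLp.to_le hL₁L) (le_inf hPL Subgroup.le_normalizer) inf_le_right hxN
  exact hxL₁ ⟨x.2, hxNP⟩

/-- `N_G(L) ≤ N_G(P)` for every `p`-subgroup `L` containing `P`. -/
theorem normalizer_le (h : AsymData p S M Y P) {L : Subgroup G} (hLp : IsPGroup p ↥L)
    (hPL : P ≤ L) :
    Subgroup.normalizer (L : Set G) ≤ Subgroup.normalizer (P : Set G) := by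
  intro g hg
  rw [Subgroup.mem_normalizer_iff_map_conj_eq]
  exact h.stepA hLp hPL (h.stepB hLp hPL) hg

/-- `P` is weakly closed in `S` with respect to `G`. -/
theorem isWeaklyClosed (h : AsymData p S M Y P) : IsWeaklyClosed P (S : Subgroup G) := by
  refine ⟨h.hPS, ?_⟩
  intro g hg
  set N := Subgroup.normalizer (P : Set G) with hN
  have h1 : P ≤ (S : Subgroup G).map (MulAut.conj g⁻¹).toMonoidHom :=
    le_map_conj_inv_of_map_conj_le hg
  have hSp' : IsPGroup p ↥((S : Subgroup G).map (MulAut.conj g⁻¹).toMonoidHom) :=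
    S.isPGroup'.map _
  have h2 : (S : Subgroup G).map (MulAut.conj g⁻¹).toMonoidHom ≤ N := h.stepB hSp' h1
  obtain ⟨n, hn, hle⟩ := exists_mem_le_map_conj_sylow S (h.hSM.trans h.hMP) h2 hSp'
  have h3 : ((S : Subgroup G).map (MulAut.conj g⁻¹).toMonoidHom).map
      (MulAut.conj n⁻¹).toMonoidHom ≤ (S : Subgroup G) := map_conj_inv_le_of_le_map_conj hle
  rw [map_conj_map_conj] at h3
  have h4 : n⁻¹ * g⁻¹ ∈ Subgroup.normalizer ((S : Subgroup G) : Set G) :=
    Subgroup.mem_normalizer_iff_map_conj_eq.mpr (map_conj_eq_of_le h3)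
  have h5 : n⁻¹ * g⁻¹ ∈ N := h.normalizer_le S.isPGroup' h.hPS h4
  have h6 : g⁻¹ ∈ N := by
    have := N.mul_mem hn h5
    simpa using this
  have h7 : g ∈ N := by simpa using N.inv_mem h6
  exact map_conj_eq_of_mem_normalizer h7

/-- For every subgroup `L` containing `P`, `L ∩ M†` contains a Sylow `p`-subgroup of `L`. -/
theorem isParabolic (h : AsymData p S M Y P) {L : Subgroup G} (hPL : P ≤ L) :
    IsParabolic p ((L ⊓ (M ⊔ Subgroup.centralizer (Y : Set G))).subgroupOf L) := by
  have hp' : IsPGroup p ↥(P.subgroupOf L) := h.isPGroup_P.comap_subtype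
  obtain ⟨T, hT⟩ := hp'.exists_le_sylow
  refine ⟨T, ?_⟩
  have hTp : IsPGroup p ↥((T : Subgroup ↥L).map L.subtype) := T.isPGroup'.map _
  have hPT : P ≤ (T : Subgroup ↥L).map L.subtype := by
    intro x hx
    exact ⟨⟨x, hPL hx⟩, hT (by rw [Subgroup.mem_subgroupOf]; exact hx), rfl⟩
  have h1 := (h.stepB hTp hPT).trans h.normalizer_P_le
  intro x hx
  rw [Subgroup.mem_subgroupOf]
  exact ⟨x.2, h1 ⟨x, hx, rfl⟩⟩

/-- Elements of `Y` conjugate in `G` are conjugate in `M`. -/
theorem fusion (h : AsymData p S M Y P) {x : G} (hx : x ∈ Y) {g : G} (hgx : g * x * g⁻¹ ∈ Y) :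
    ∃ m ∈ M, m * x * m⁻¹ = g * x * g⁻¹ := by
  set y := g * x * g⁻¹ with hy
  set C := Subgroup.centralizer ({y} : Set G) with hC
  have hPC : P ≤ C :=
    h.hPD.trans (Subgroup.centralizer_le (Set.singleton_subset_iff.mpr hgx))
  have hPgC : P.map (MulAut.conj g).toMonoidHom ≤ C := by
    rintro _ ⟨u, hu, rfl⟩
    rw [hC, Subgroup.mem_centralizer_singleton_iff]
    have hux : x * u = u * x := Subgroup.mem_centralizer_iff.mp (h.hPD hu) x hx
    show (MulAut.conj g) u * y = y * (MulAut.conj g) u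
    rw [MulAut.conj_apply, hy]
    calc g * u * g⁻¹ * (g * x * g⁻¹) = g * (u * x) * g⁻¹ := by group
      _ = g * (x * u) * g⁻¹ := by rw [hux]
      _ = g * x * g⁻¹ * (g * u * g⁻¹) := by group
  obtain ⟨c, hcC, hc⟩ := exists_conj_eq_of_isWeaklyClosed S h.isWeaklyClosed hPC hPgC
  have h1 : c⁻¹ * g ∈ Subgroup.normalizer (P : Set G) := by
    rw [Subgroup.mem_normalizer_iff_map_conj_eq]
    show P.map (MulAut.conj (c⁻¹ * g)).toMonoidHom = P
    rw [← map_conj_map_conj, hc, map_conj_map_conj, inv_mul_cancel, map_conj_one]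
  have h2 := h.normalizer_P_le h1
  have h3 : ((M ⊔ Subgroup.centralizer (Y : Set G) : Subgroup G) : Set G) =
      (M : Set G) * (Subgroup.centralizer (Y : Set G) : Set G) :=
    Subgroup.coe_mul_of_left_le_normalizer_right M _
      (h.hMY.trans (normalizer_le_normalizer_centralizer Y))
  have h4 : c⁻¹ * g ∈ ((M ⊔ Subgroup.centralizer (Y : Set G) : Subgroup G) : Set G) := h2
  rw [h3, Set.mem_mul] at h4
  obtain ⟨m, hm, d, hd, hmd⟩ := h4
  refine ⟨m, hm, ?_⟩
  have hdx : d * x * d⁻¹ = x := by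
    have := Subgroup.mem_centralizer_iff.mp hd x hx
    rw [← this, mul_inv_cancel_right]
  have hcy : c⁻¹ * y * c = y := by
    rw [hC, Subgroup.mem_centralizer_singleton_iff] at hcC
    calc c⁻¹ * y * c = c⁻¹ * (y * c) := by group
      _ = c⁻¹ * (c * y) := by rw [hcC]
      _ = y := by group
  calc m * x * m⁻¹ = m * (d * x * d⁻¹) * m⁻¹ := by rw [hdx]
    _ = (m * d) * x * (m * d)⁻¹ := by group
    _ = (c⁻¹ * g) * x * (c⁻¹ * g)⁻¹ := by rw [hmd]
    _ = c⁻¹ * (g * x * g⁻¹) * c := by group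
    _ = g * x * g⁻¹ := hcy

end AsymData

end Cfsg.Agent.Lib.Helper47
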