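import Mathlib
import Cfsg.Prelude.Def_LocalStructure
import Cfsg.Agent.Lib.Helper47.BasicProperty

/-!
# Subgroups of characteristic `p` containing a self-centralizing `p`-subgroup (helper47)

If `H` has characteristic `p`, `P ≤ X ≤ H` with `P` a `p`-subgroup such that `C_H(P) ≤ P` and
`O_p(H)` normalizes `P`, then `X` has characteristic `p`.
-/

set_option autoImplicit false
set_option linter.unusedSectionVars false

namespace Cfsg.Agent.Lib.Helper47

open Cfsg
open scoped commutatorElement Pointwise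

variable {G : Type*} [Group G]

/-- The elements normalizing `U` and `N` and acting trivially on `U` modulo `N`. -/
def kerMod (U N : Subgroup G) : Subgroup G where
  carrier := {g | g ∈ Subgroup.normalizer (U : Set G) ∧ g ∈ Subgroup.normalizer (N : Set G) ∧
    ∀ u ∈ U, ⁅u, g⁆ ∈ N}
  one_mem' := ⟨one_mem _, one_mem _, fun u _ => by simp [commutatorElement_def]⟩
  mul_mem' := by
    rintro g g' ⟨hgU, hgN, hg⟩ ⟨hgU', hgN', hg'⟩
    refine ⟨mul_mem hgU hgU', mul_mem hgN hgN', ?_⟩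
    intro u hu
    have h1 : ⁅u, g * g'⁆ = ⁅u, g⁆ * (g * ⁅u, g'⁆ * g⁻¹) := by
      simp only [commutatorElement_def]; group
    rw [h1]
    exact N.mul_mem (hg u hu) ((Subgroup.mem_normalizer_iff.mp hgN _).mp (hg' u hu))
  inv_mem' := by
    rintro g ⟨hgU, hgN, hg⟩
    refine ⟨inv_mem hgU, inv_mem hgN, ?_⟩
    intro u hu
    have h1 : ⁅u, g⁻¹⁆ = g⁻¹ * (⁅u, g⁆)⁻¹ * g⁻¹⁻¹ := by
      simp only [commutatorElement_def]; group
    rw [h1]
    exact (Subgroup.mem_normalizer_iff.mp (inv_mem hgN) _).mp (N.inv_mem (hg u hu))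

theorem mem_kerMod_iff {U N : Subgroup G} {g : G} :
    g ∈ kerMod U N ↔ g ∈ Subgroup.normalizer (U : Set G) ∧ g ∈ Subgroup.normalizer (N : Set G) ∧
      ∀ u ∈ U, ⁅u, g⁆ ∈ N := Iff.rfl

/-- `kerMod U N` is normalized by `N(U) ∩ N(N)`. -/
theorem conj_mem_kerMod {U N : Subgroup G} {h g : G} (hU : h ∈ Subgroup.normalizer (U : Set G))
    (hN : h ∈ Subgroup.normalizer (N : Set G)) (hg : g ∈ kerMod U N) :
    h * g * h⁻¹ ∈ kerMod U N := by
  obtain ⟨hgU, hgN, hg⟩ := hg
  refine ⟨mul_mem (mul_mem hU hgU) (inv_mem hU), mul_mem (mul_mem hN hgN) (inv_mem hN), ?_⟩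
  intro u hu
  have hu' : h⁻¹ * u * h ∈ U := by
    have := (Subgroup.mem_normalizer_iff.mp (inv_mem hU) u).mp hu
    simpa using this
  have h1 : ⁅u, h * g * h⁻¹⁆ = h * ⁅h⁻¹ * u * h, g⁆ * h⁻¹ := by
    simp only [commutatorElement_def]; group
  rw [h1]
  exact (Subgroup.mem_normalizer_iff.mp hN _).mp (hg _ hu')

/-- A `p'`-element acting trivially on `U/N` and on the `p`-group `N` centralizes `U`. -/
theorem mem_centralizer_of_mem_kerMod_of_coprime {p : ℕ} [Fact p.Prime] {U N : Subgroup G}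
    (hN : IsPGroup p ↥N) {b : G} (hb : b ∈ kerMod U N)
    (hbN : b ∈ Subgroup.centralizer (N : Set G)) (hco : Nat.Coprime (orderOf b) p) :
    b ∈ Subgroup.centralizer (U : Set G) := by
  rw [Subgroup.mem_centralizer_iff]
  intro u hu
  have h1 : ⁅u, b⁆ ∈ N := hb.2.2 u hu
  have h2 : Commute ⁅u, b⁆ b := (Subgroup.mem_centralizer_iff.mp hbN _ h1)
  exact (commute_of_coprime_of_commutator_commute hN b hco u h1 h2).eq

/-- Ambient form of characteristic `p` from the type-level form. -/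
theorem charP_subtype_of_ambient {p : ℕ} {K : Subgroup G}
    (hK : K ⊓ Subgroup.centralizer ((pCoreOf p K : Subgroup G) : Set G) ≤ pCoreOf p K) :
    Subgroup.centralizer (pCore p ↥K : Set ↥K) ≤ pCore p ↥K := by
  intro x hx
  have h1 : (x : G) ∈ Subgroup.centralizer ((pCoreOf p K : Subgroup G) : Set G) :=
    (mem_centralizer_subtype_iff (pCore p ↥K) x).mp hx
  obtain ⟨x', hx', hxx⟩ := hK ⟨x.2, h1⟩
  have : x' = x := Subtype.ext hxx
  rw [← this]
  exact hx'

/-- **Subgroups over a self-centralizing `p`-subgroup inside a group of characteristic `p`.** -/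
theorem charP_of_le_of_centralizer_le [Finite G] {p : ℕ} [Fact p.Prime] {H X P : Subgroup G}
    (hH : H ⊓ Subgroup.centralizer ((pCoreOf p H : Subgroup G) : Set G) ≤ pCoreOf p H)
    (hPX : P ≤ X) (hXH : X ≤ H) (hP : IsPGroup p ↥P)
    (hCP : H ⊓ Subgroup.centralizer (P : Set G) ≤ P)
    (hUP : pCoreOf p H ≤ Subgroup.normalizer (P : Set G)) :
    X ⊓ Subgroup.centralizer ((pCoreOf p X : Subgroup G) : Set G) ≤ pCoreOf p X := by
  set U₀ := pCoreOf p H with hU₀
  set R := pCoreOf p X with hR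
  set C := X ⊓ Subgroup.centralizer (R : Set G) with hC
  set N := U₀ ⊓ P with hN
  have hHU : H ≤ Subgroup.normalizer (U₀ : Set G) :=
    Subgroup.le_normalizer.trans (normalizer_le_normalizer_pCoreOf p H)
  have hXR : X ≤ Subgroup.normalizer (R : Set G) :=
    Subgroup.le_normalizer.trans (normalizer_le_normalizer_pCoreOf p X)
  have hU₀p : IsPGroup p ↥U₀ := pCoreOf_isPGroup p H
  have hNp : IsPGroup p ↥N := hP.to_le inf_le_right
  -- `U₀ ∩ X ≤ R`
  have hUXR : U₀ ⊓ X ≤ R := by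
    apply le_pCoreOf inf_le_right _ (hU₀p.to_le inf_le_left)
    intro x hx
    rw [Subgroup.mem_normalizer_iff_map_conj_eq]
    show (U₀ ⊓ X).map (MulAut.conj x).toMonoidHom = U₀ ⊓ X
    rw [Subgroup.map_inf _ _ _ (MulAut.conj x).injective,
      map_conj_eq_of_mem_normalizer (hHU (hXH hx)),
      map_conj_eq_of_mem_normalizer (Subgroup.le_normalizer hx)]
  have hNR : N ≤ R := (inf_le_inf_left U₀ hPX).trans hUXR
  -- `C` is normal in `X`
  have hXC : X ≤ Subgroup.normalizer (C : Set G) := by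
    intro x hx
    rw [Subgroup.mem_normalizer_iff_map_conj_eq]
    show C.map (MulAut.conj x).toMonoidHom = C
    rw [hC, Subgroup.map_inf _ _ _ (MulAut.conj x).injective,
      map_conj_eq_of_mem_normalizer (Subgroup.le_normalizer hx),
      map_conj_eq_of_mem_normalizer (normalizer_le_normalizer_centralizer R (hXR hx))]
  have hCX : C ≤ X := inf_le_left
  have hCN : C ≤ Subgroup.centralizer (N : Set G) :=
    inf_le_right.trans (Subgroup.centralizer_le hNR)
  -- `P ≤ kerMod U₀ N`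
  have hPK : P ≤ kerMod U₀ N := by
    intro x hx
    have hxU : x ∈ Subgroup.normalizer (U₀ : Set G) := hHU (hXH (hPX hx))
    refine ⟨hxU, ?_, ?_⟩
    · rw [Subgroup.mem_normalizer_iff_map_conj_eq]
      show N.map (MulAut.conj x).toMonoidHom = N
      rw [hN, Subgroup.map_inf _ _ _ (MulAut.conj x).injective,
        map_conj_eq_of_mem_normalizer hxU,
        map_conj_eq_of_mem_normalizer (Subgroup.le_normalizer hx)]
    · intro u hu
      refine ⟨?_, ?_⟩
      · -- `⁅u, x⁆ = u * (x u⁻¹ x⁻¹) ∈ U₀`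
        have h1 : x * u⁻¹ * x⁻¹ ∈ U₀ :=
          (Subgroup.mem_normalizer_iff.mp hxU _).mp (U₀.inv_mem hu)
        have h2 : ⁅u, x⁆ = u * (x * u⁻¹ * x⁻¹) := by
          simp only [commutatorElement_def]; group
        rw [h2]; exact U₀.mul_mem hu h1
      · have h1 : u * x * u⁻¹ ∈ P := (Subgroup.mem_normalizer_iff.mp (hUP hu) _).mp hx
        rw [commutatorElement_def]
        exact P.mul_mem h1 (P.inv_mem hx)
  -- the normal `p`-subgroup `C ∩ kerMod ∩ C(N)` of `C`
  set E := C ⊓ (kerMod U₀ N ⊓ Subgroup.centralizer (N : Set G)) with hE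
  have hEp : IsPGroup p ↥E := by
    apply isPGroup_subgroup_of_forall_coprime_eq_one
    rintro b ⟨hbC, hbK, hbN⟩ hco
    have h1 : b ∈ Subgroup.centralizer (U₀ : Set G) :=
      mem_centralizer_of_mem_kerMod_of_coprime hNp hbK hbN hco
    have h2 : b ∈ U₀ := hH ⟨hXH (hCX hbC), h1⟩
    obtain ⟨k, hk⟩ := hU₀p ⟨b, h2⟩
    have h3 : b ^ p ^ k = 1 := by simpa using congrArg Subtype.val hk
    have h4 : orderOf b ∣ p ^ k := orderOf_dvd_of_pow_eq_one h3
    have h5 : orderOf b = 1 :=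
      Nat.eq_one_of_dvd_coprimes (Nat.Coprime.pow_right k hco) dvd_rfl h4
    exact orderOf_eq_one_iff.mp h5
  have hCE : C ≤ Subgroup.normalizer (E : Set G) := by
    intro c hc
    have hcU : c ∈ Subgroup.normalizer (U₀ : Set G) := hHU (hXH (hCX hc))
    have hcN : c ∈ Subgroup.normalizer (N : Set G) :=
      Subgroup.centralizer_le_normalizer _ (hCN hc)
    rw [Subgroup.mem_normalizer_iff]
    have key : ∀ d : G, d ∈ Subgroup.normalizer (U₀ : Set G) →
        d ∈ Subgroup.normalizer (N : Set G) → d ∈ C → ∀ e ∈ E, d * e * d⁻¹ ∈ E := by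
      rintro d hdU hdN hdC e ⟨heC, heK, heN⟩
      refine ⟨C.mul_mem (C.mul_mem hdC heC) (C.inv_mem hdC), conj_mem_kerMod hdU hdN heK, ?_⟩
      exact (Subgroup.mem_normalizer_iff.mp
        (normalizer_le_normalizer_centralizer N hdN) _).mp heN
    intro e
    constructor
    · exact key c hcU hcN hc e
    · intro he
      have := key c⁻¹ (inv_mem hcU) (inv_mem hcN) (C.inv_mem hc) _ he
      have e1 : c⁻¹ * (c * e * c⁻¹) * c⁻¹⁻¹ = e := by group
      rwa [e1] at this
  have hER : E ≤ R := by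
    have h1 : E ≤ pCoreOf p C := le_pCoreOf inf_le_left hCE hEp
    have h2 : pCoreOf p C ≤ R :=
      le_pCoreOf ((pCoreOf_le p C).trans hCX) (hXC.trans (normalizer_le_normalizer_pCoreOf p C))
        (pCoreOf_isPGroup p C)
    exact h1.trans h2
  -- commutators `⁅x, a⁆`, `x ∈ P`, `a ∈ C`, lie in `E`
  have hcomm : ∀ a ∈ C, ∀ x ∈ P, ⁅x, a⁆ ∈ E := by
    intro a ha x hx
    have haU : a ∈ Subgroup.normalizer (U₀ : Set G) := hHU (hXH (hCX ha))
    have haN : a ∈ Subgroup.normalizer (N : Set G) :=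
      Subgroup.centralizer_le_normalizer _ (hCN ha)
    have hxC : x * a * x⁻¹ ∈ C :=
      (Subgroup.mem_normalizer_iff.mp (hXC (hPX hx)) _).mp ha
    have h1 : ⁅x, a⁆ ∈ C := by
      rw [commutatorElement_def]
      exact C.mul_mem hxC (C.inv_mem ha)
    have h2 : ⁅x, a⁆ ∈ kerMod U₀ N := by
      have e1 : ⁅x, a⁆ = x * (a * x⁻¹ * a⁻¹) := by
        simp only [commutatorElement_def]; group
      rw [e1]
      exact (kerMod U₀ N).mul_mem (hPK hx)
        (conj_mem_kerMod haU haN ((kerMod U₀ N).inv_mem (hPK hx)))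
    exact ⟨h1, h2, hCN h1⟩
  -- `C` is a `p`-group
  have hCp : IsPGroup p ↥C := by
    apply isPGroup_subgroup_of_forall_coprime_eq_one
    intro a ha hco
    have haP : a ∈ Subgroup.centralizer (P : Set G) := by
      rw [Subgroup.mem_centralizer_iff]
      intro x hx
      have h1 : ⁅x, a⁆ ∈ R := hER (hcomm a ha x hx)
      have h2 : Commute ⁅x, a⁆ a := Subgroup.mem_centralizer_iff.mp ha.2 _ h1
      exact (commute_of_coprime_of_commutator_commute (pCoreOf_isPGroup p X) a hco x h1 h2).eq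
    have h2 : a ∈ P := hCP ⟨hXH (hCX ha), haP⟩
    obtain ⟨k, hk⟩ := hP ⟨a, h2⟩
    have h3 : a ^ p ^ k = 1 := by simpa using congrArg Subtype.val hk
    have h4 : orderOf a ∣ p ^ k := orderOf_dvd_of_pow_eq_one h3
    have h5 : orderOf a = 1 :=
      Nat.eq_one_of_dvd_coprimes (Nat.Coprime.pow_right k hco) dvd_rfl h4
    exact orderOf_eq_one_iff.mp h5
  exact le_pCoreOf hCX hXC hCp

end Cfsg.Agent.Lib.Helper47
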