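import Mathlib
import Cfsg.Prelude.Def_LocalStructure
import Cfsg.Agent.Lib.Helper47.Asym
import Cfsg.Agent.Lib.Helper47.CharPSub
import Cfsg.Agent.S2845

/-!
# Instantiating `AsymData` from the standing hypotheses (helper47)
-/

set_option autoImplicit false
set_option linter.unusedSectionVars false

namespace Cfsg.Agent.Lib.Helper47

open Cfsg

variable {G : Type*} [Group G]

/-- `S ∩ C_G(Y_M) ≤ O_p(M)` when `C_M(Y_M)` is `p`-closed. -/
theorem sylow_inf_centralizer_le_pCoreOf [Finite G] {p : ℕ} [Fact p.Prime] (S : Sylow p G)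
    {M : Subgroup G} (hSM : (S : Subgroup G) ≤ M)
    (hcl : IsPClosed p ↥(M ⊓ Subgroup.centralizer (largestPReducedOf p M : Set G))) :
    (S : Subgroup G) ⊓ Subgroup.centralizer (largestPReducedOf p M : Set G) ≤ pCoreOf p M := by
  set Y : Subgroup G := largestPReducedOf p M with hY
  set D : Subgroup G := Subgroup.centralizer (Y : Set G) with hD
  have hMY : M ≤ Subgroup.normalizer (Y : Set G) := le_normalizer_largestPReducedOf p M
  have hMD : M ≤ Subgroup.normalizer (D : Set G) :=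
    hMY.trans (normalizer_le_normalizer_centralizer Y)
  set E : Subgroup G := M ⊓ D with hE
  have hSDE : (S : Subgroup G) ⊓ D ≤ E := inf_le_inf_right D hSM
  have hSDp : IsPGroup p ↥((S : Subgroup G) ⊓ D : Subgroup G) := S.isPGroup'.to_le inf_le_left
  have hp' : IsPGroup p ↥(((S : Subgroup G) ⊓ D).subgroupOf E) := hSDp.comap_subtype
  obtain ⟨T, hT⟩ := hp'.exists_le_sylow
  have hTn : (T : Subgroup ↥E).Normal := hcl T
  have hTcore : (T : Subgroup ↥E) ≤ pCore p ↥E :=
    le_sSup (show (T : Subgroup ↥E) ∈ {N : Subgroup ↥E | N.Normal ∧ IsPGroup p ↥N} from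
      ⟨hTn, T.isPGroup'⟩)
  have h1 : (S : Subgroup G) ⊓ D ≤ pCoreOf p E := by
    intro x hx
    exact ⟨⟨x, hSDE hx⟩, hTcore (hT (by rw [Subgroup.mem_subgroupOf]; exact hx)), rfl⟩
  have hME : M ≤ Subgroup.normalizer (E : Set G) := by
    intro m hm
    rw [Subgroup.mem_normalizer_iff_map_conj_eq]
    show E.map (MulAut.conj m).toMonoidHom = E
    rw [hE, Subgroup.map_inf _ _ _ (MulAut.conj m).injective,
      map_conj_eq_of_mem_normalizer (Subgroup.le_normalizer hm),
      map_conj_eq_of_mem_normalizer (hMD hm)]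
  have h2 : pCoreOf p E ≤ pCoreOf p M :=
    le_pCoreOf ((pCoreOf_le p E).trans inf_le_left)
      (hME.trans (normalizer_le_normalizer_pCoreOf p E)) (pCoreOf_isPGroup p E)
  exact h1.trans h2

/-- The standing hypotheses (large `Q ≤ S ≤ M`, `M ∈ 𝔐_G(S)`, `Y_M` asymmetric) give `AsymData`. -/
theorem asymData_of_isInFrakM [Finite G] {p : ℕ} [Fact p.Prime] (S : Sylow p G) (Q : Subgroup G)
    (hQp : IsPGroup p ↥Q) (hQ1 : Q ≠ ⊥) (hQS : Q ≤ (S : Subgroup G)) (hQ : IsLarge Q)
    (M : Subgroup G) (hSM : (S : Subgroup G) ≤ M) (hM : IsInFrakM p M)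
    (hasym : ¬ IsSymmetricIn (largestPReducedOf p M)) :
    AsymData p S M (largestPReducedOf p M) (pCoreOf p M) := by
  obtain ⟨hM1, hM2, hM3, _, hcl, _⟩ := hM
  have hS1 : (S : Subgroup G) ≠ ⊥ := fun h => hQ1 (le_bot_iff.mp (h ▸ hQS))
  exact
    { hG := (Cfsg.Agent.S2845.result Q hQp hQ1 hQ).2.2
      hSM := hSM
      hPS := pCoreOf_le_sylow_of_le S hSM
      hYP := largestPReducedOf_le_pCoreOf p M
      hY1 := largestPReducedOf_ne_bot S hSM (charP_of_mem_charPSubgroups hM1) hS1
      hMY := le_normalizer_largestPReducedOf p M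
      hMP := Subgroup.le_normalizer.trans (normalizer_le_normalizer_pCoreOf p M)
      hSD := sylow_inf_centralizer_le_pCoreOf S hSM hcl
      hPD := pCoreOf_le_centralizer_largestPReducedOf p M
      hmax := by
        intro K hK hMK
        obtain ⟨X, hX, hKX⟩ := exists_le_mem_maxCharPSubgroups hK
        have := hM3 X hX (hMK.trans hKX)
        rw [this] at hKX
        exact hKX
      hdag := hM2.1
      hasym := hasym }

namespace AsymData

variable [Finite G] {p : ℕ} [Fact p.Prime] {S : Sylow p G} {M Y P : Subgroup G}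

/-- `O_p(H)` normalizes `P` for every subgroup `H` containing `P`. -/
theorem pCoreOf_le_normalizer (h : AsymData p S M Y P) {H : Subgroup G} (hPH : P ≤ H) :
    pCoreOf p H ≤ Subgroup.normalizer (P : Set G) := by
  have hp' : IsPGroup p ↥(P.subgroupOf H) := h.isPGroup_P.comap_subtype
  obtain ⟨T, hT⟩ := hp'.exists_le_sylow
  have hTp : IsPGroup p ↥((T : Subgroup ↥H).map H.subtype) := T.isPGroup'.map _
  have hPT : P ≤ (T : Subgroup ↥H).map H.subtype := by
    intro x hx
    exact ⟨⟨x, hPH hx⟩, hT (by rw [Subgroup.mem_subgroupOf]; exact hx), rfl⟩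
  refine le_trans ?_ (h.stepB hTp hPT)
  rintro _ ⟨c, hc, rfl⟩
  exact ⟨c, pCore_le_sylow T hc, rfl⟩

/-- Subgroups `X` with `P ≤ X ≤ H`, `H` of characteristic `p`, have characteristic `p`
(`C_G(P) ≤ P` assumed). -/
theorem charP_of_le (h : AsymData p S M Y P) (hCP : Subgroup.centralizer (P : Set G) ≤ P)
    {H X : Subgroup G}
    (hH : H ⊓ Subgroup.centralizer ((pCoreOf p H : Subgroup G) : Set G) ≤ pCoreOf p H)
    (hPX : P ≤ X) (hXH : X ≤ H) :
    X ⊓ Subgroup.centralizer ((pCoreOf p X : Subgroup G) : Set G) ≤ pCoreOf p X :=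
  charP_of_le_of_centralizer_le hH hPX hXH h.isPGroup_P (inf_le_right.trans hCP)
    (h.pCoreOf_le_normalizer (hPX.trans hXH))

end AsymData

end Cfsg.Agent.Lib.Helper47
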