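import Mathlib
import Cfsg.Prelude.Def_LocalStructure
import Cfsg.Prelude.Def_Local
import Cfsg.Agent.Lib.Helper47.AsymInst
import Cfsg.Agent.Lib.Helper21.GenFitting

/-!
# `F*` of `M†/C(Y_M)` and `p`-reduced quotients (helper47)
-/

set_option autoImplicit false
set_option linter.unusedSectionVars false

namespace Cfsg.Agent.Lib.Helper47

open Cfsg
open scoped commutatorElement

universe u

/-- In a finite group with `O_p = 1`, a `p`-subgroup normalized by `F*` is trivial. -/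
theorem eq_bot_of_isPGroup_of_gfs_le_normalizer {K : Type u} [Group K] [Finite K] {p : ℕ}
    [Fact p.Prime] (hO : pCore p K = ⊥) {A : Subgroup K} (hA : IsPGroup p ↥A)
    (hAF : generalizedFittingSubgroup K ≤ Subgroup.normalizer (A : Set K)) : A = ⊥ := by
  set Fs := generalizedFittingSubgroup K with hFs
  have hFn : Fs.Normal := Cfsg.Agent.Lib.Helper29.generalizedFittingSubgroup_normal K
  have hB : A ⊓ Fs = ⊥ := by
    have hFB : Fs ≤ Subgroup.normalizer ((A ⊓ Fs : Subgroup K) : Set K) := by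
      intro f hf
      rw [Subgroup.mem_normalizer_iff_map_conj_eq]
      show (A ⊓ Fs).map (MulAut.conj f).toMonoidHom = A ⊓ Fs
      rw [Subgroup.map_inf _ _ _ (MulAut.conj f).injective,
        map_conj_eq_of_mem_normalizer (hAF hf),
        map_conj_eq_of_mem_normalizer (Subgroup.le_normalizer hf)]
    have h1 : A ⊓ Fs ≤ pCoreOf p Fs := le_pCoreOf inf_le_right hFB (hA.to_le inf_le_left)
    have h2 : pCoreOf p Fs ≤ pCore p K := pCoreOf_le_pCore_of_isSubnormal p hFn.isSubnormal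
    rw [hO] at h2
    exact le_bot_iff.mp (h1.trans h2)
  have hcomm : ⁅A, Fs⁆ ≤ A ⊓ Fs := by
    rw [Subgroup.commutator_le]
    intro a ha f hf
    refine ⟨?_, ?_⟩
    · have h1 : f * a⁻¹ * f⁻¹ ∈ A := conj_mem_of_le_normalizer hAF hf (A.inv_mem ha)
      have h2 : ⁅a, f⁆ = a * (f * a⁻¹ * f⁻¹) := by
        simp only [commutatorElement_def]; group
      rw [h2]; exact A.mul_mem ha h1
    · rw [commutatorElement_def]
      exact Fs.mul_mem (hFn.conj_mem f hf a) (Fs.inv_mem hf)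
  have hAC : A ≤ Subgroup.centralizer (Fs : Set K) := by
    rw [← Subgroup.commutator_eq_bot_iff_le_centralizer]
    rw [hB] at hcomm
    exact le_bot_iff.mp hcomm
  have hAFs : A ≤ Fs := hAC.trans Cfsg.Agent.Lib.Helper21.centralizer_generalizedFittingSubgroup_le
  rw [← inf_of_le_left hAFs]
  exact hB

variable {G : Type u} [Group G]

/-- `O_p(K/C_K(Y)) = 1` for a `p`-reduced normal subgroup `Y` of `K` (ambient form). -/
theorem pCore_quotient_eq_bot_of_pRedIn {p : ℕ} {K Y D : Subgroup G}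
    (hD : D = Subgroup.centralizer (Y : Set G)) (hY : PRedIn p K Y)
    [hn : (D.subgroupOf K).Normal] : pCore p (↥K ⧸ D.subgroupOf K) = ⊥ := by
  set π := QuotientGroup.mk' (D.subgroupOf K) with hπ
  set B' : Subgroup ↥K := (pCore p (↥K ⧸ D.subgroupOf K)).comap π with hB'
  have hB'n : B'.Normal := by
    have : (pCore p (↥K ⧸ D.subgroupOf K)).Normal := pCore_normal p _
    exact Subgroup.Normal.comap this π
  set B : Subgroup G := B'.map K.subtype with hB
  have hBK : B ≤ K := map_subtype_le' K B'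
  have hKB : K ≤ Subgroup.normalizer (B : Set G) := le_normalizer_map_subtype_of_normal K B'
  have hact : PActs p B Y := by
    rintro _ ⟨b', hb', rfl⟩
    obtain ⟨k, hk⟩ := (pCore_isPGroup p (↥K ⧸ D.subgroupOf K)) ⟨π b', hb'⟩
    refine ⟨k, ?_⟩
    have h1 : (π b') ^ p ^ k = 1 := by simpa using congrArg Subtype.val hk
    rw [← map_pow] at h1
    have h2 : b' ^ p ^ k ∈ π.ker := h1
    rw [hπ, QuotientGroup.ker_mk', Subgroup.mem_subgroupOf, hD] at h2
    simpa using h2
  have hBD : B ≤ Subgroup.centralizer (Y : Set G) := hY.red B hBK hKB hact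
  rw [eq_bot_iff]
  intro x hx
  obtain ⟨x', rfl⟩ := QuotientGroup.mk'_surjective (D.subgroupOf K) x
  have h1 : (x' : G) ∈ B := ⟨x', hx, rfl⟩
  have h2 : x' ∈ D.subgroupOf K := by
    rw [Subgroup.mem_subgroupOf, hD]; exact hBD h1
  rw [Subgroup.mem_bot]
  exact (QuotientGroup.eq_one_iff x').mpr h2

/-- A subgroup `W` normalized by the preimage `F` of `F*(K/D)` and acting as a `p`-group modulo `D`
meets `K` inside `D`, when `O_p(K/D) = 1`. -/
theorem inf_le_of_gfs_quotient [Finite G] {p : ℕ} [Fact p.Prime] {K D : Subgroup G}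
    [hn : (D.subgroupOf K).Normal] (hO : pCore p (↥K ⧸ D.subgroupOf K) = ⊥)
    {F : Subgroup G}
    (hF : F = ((generalizedFittingSubgroup (↥K ⧸ D.subgroupOf K)).comap
      (QuotientGroup.mk' (D.subgroupOf K))).map K.subtype)
    {W : Subgroup G} (hFW : F ≤ Subgroup.normalizer (W : Set G))
    (hWp : ∀ w ∈ W ⊓ K, ∃ k : ℕ, w ^ p ^ k ∈ D) : W ⊓ K ≤ D := by
  set π := QuotientGroup.mk' (D.subgroupOf K) with hπ
  set A : Subgroup (↥K ⧸ D.subgroupOf K) := (W.subgroupOf K).map π with hA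
  have hAp : IsPGroup p ↥A := by
    rintro ⟨_, ⟨w, hw, rfl⟩⟩
    rw [SetLike.mem_coe, Subgroup.mem_subgroupOf] at hw
    obtain ⟨k, hk⟩ := hWp (w : G) ⟨hw, w.2⟩
    refine ⟨k, ?_⟩
    apply Subtype.ext
    show (π w) ^ p ^ k = 1
    rw [← map_pow]
    apply (QuotientGroup.eq_one_iff _).mpr
    rw [Subgroup.mem_subgroupOf]
    simpa using hk
  have hconj : ∀ f : ↥K, (f : G) ∈ Subgroup.normalizer (W : Set G) → ∀ x ∈ A,
      π f * x * (π f)⁻¹ ∈ A := by
    rintro f hf _ ⟨w, hw, rfl⟩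
    refine ⟨f * w * f⁻¹, ?_, by simp⟩
    rw [SetLike.mem_coe, Subgroup.mem_subgroupOf] at hw ⊢
    have := (Subgroup.mem_normalizer_iff.mp hf (w : G)).mp hw
    simpa using this
  have hAF : generalizedFittingSubgroup (↥K ⧸ D.subgroupOf K) ≤
      Subgroup.normalizer (A : Set (↥K ⧸ D.subgroupOf K)) := by
    intro fb hfb
    obtain ⟨f, rfl⟩ := QuotientGroup.mk'_surjective (D.subgroupOf K) fb
    have hfF : (f : G) ∈ F := by
      rw [hF]; exact ⟨f, hfb, rfl⟩
    have hfW : (f : G) ∈ Subgroup.normalizer (W : Set G) := hFW hfF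
    have hfW' : ((f⁻¹ : ↥K) : G) ∈ Subgroup.normalizer (W : Set G) := by
      simpa using inv_mem hfW
    rw [Subgroup.mem_normalizer_iff]
    intro x
    constructor
    · exact hconj f hfW x
    · intro hx
      have := hconj f⁻¹ hfW' _ hx
      have e : π f⁻¹ * (π f * x * (π f)⁻¹) * (π f⁻¹)⁻¹ = x := by
        rw [map_inv]; group
      rwa [e] at this
  have hAbot : A = ⊥ := eq_bot_of_isPGroup_of_gfs_le_normalizer hO hAp hAF
  rintro w ⟨hwW, hwK⟩
  have h1 : π ⟨w, hwK⟩ ∈ A :=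
    ⟨⟨w, hwK⟩, by rw [SetLike.mem_coe, Subgroup.mem_subgroupOf]; exact hwW, rfl⟩
  rw [hAbot, Subgroup.mem_bot] at h1
  have h2 := (QuotientGroup.eq_one_iff _).mp h1
  rw [Subgroup.mem_subgroupOf] at h2
  exact h2

/-- If `N ⊴ H`, `T` is a Sylow `p`-subgroup of `H`, and `B` contains the `p'`-elements of `N` and
`T ∩ N`, then `N ≤ B`. -/
theorem le_of_coprime_mem_of_sylow_inf_le [Finite G] {p : ℕ} [Fact p.Prime] {H N B : Subgroup G}
    (hNH : N ≤ H) (hHN : H ≤ Subgroup.normalizer (N : Set G)) (T : Sylow p ↥H)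
    (h1 : ∀ y ∈ N, Nat.Coprime (orderOf y) p → y ∈ B)
    (h2 : (T : Subgroup ↥H).map H.subtype ⊓ N ≤ B) : N ≤ B := by
  have hn : (N.subgroupOf H).Normal := Subgroup.normal_subgroupOf_of_le_normalizer hHN
  obtain ⟨P', hP'⟩ := exists_sylow_eq_subgroupOf_of_normal T (N.subgroupOf H)
  have htop := pResidual_sup_sylow P'
  set B'' : Subgroup ↥(N.subgroupOf H) := (B.subgroupOf H).subgroupOf (N.subgroupOf H) with hB''
  have hres : pResidual p ↥(N.subgroupOf H) ≤ B'' := by
    unfold pResidual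
    rw [Subgroup.closure_le]
    intro g hg
    have hg' : Nat.Coprime (orderOf g) p := hg
    rw [SetLike.mem_coe, hB'', Subgroup.mem_subgroupOf, Subgroup.mem_subgroupOf]
    apply h1
    · have := g.2
      rw [Subgroup.mem_subgroupOf] at this
      exact this
    · rwa [Subgroup.orderOf_coe, Subgroup.orderOf_coe]
  have hsyl : (P' : Subgroup ↥(N.subgroupOf H)) ≤ B'' := by
    intro g hg
    rw [hP', Subgroup.mem_subgroupOf] at hg
    rw [hB'', Subgroup.mem_subgroupOf, Subgroup.mem_subgroupOf]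
    apply h2
    refine ⟨⟨(g : ↥H), hg, rfl⟩, ?_⟩
    have := g.2
    rw [Subgroup.mem_subgroupOf] at this
    exact this
  have hall : (⊤ : Subgroup ↥(N.subgroupOf H)) ≤ B'' := by
    rw [← htop]; exact sup_le hres hsyl
  intro n hn'
  have hmem : (⟨⟨n, hNH hn'⟩, by rw [Subgroup.mem_subgroupOf]; exact hn'⟩ : ↥(N.subgroupOf H)) ∈ B'' :=
    hall (Subgroup.mem_top _)
  rw [hB'', Subgroup.mem_subgroupOf, Subgroup.mem_subgroupOf] at hmem
  exact hmem

end Cfsg.Agent.Lib.Helper47
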