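import Mathlib
import Cfsg.Agent.S1446
import Cfsg.Agent.S0026
import Cfsg.Agent.Lib.Helper51.BGAsymA
import Cfsg.Agent.Lib.Helper55.BGFifteenD
import Cfsg.Agent.Lib.Helper47.BGFifteenTwoC

/-!
# Bender–Glauberman Theorem 15.2(g), abstract part: `D' ≤ C(Q)`

In the situation `PrimAct q Q D A` of helper55 (a `q`-group `Q` acted on by `D A`, `A` acting
fixed-point-freely on `D` and with prime action on `Q`, `|C_Q(A)| = q`), with `Q₀ = C_Q(D)` normal
in the ambient group, the landed S1446 (B&G Lemma 3.10) applied in the quotient by `Q₀` shows that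
`D'` centralizes `Q`.
-/

set_option autoImplicit false

namespace Cfsg.Agent.Lib.Helper47.BG152

open Cfsg
open scoped Pointwise commutatorElement
open Cfsg.Agent.Lib.Helper55.BGFifteen (PrimAct)

variable {T : Type*} [Group T]

/-- Lifting of fixed points modulo a normal subgroup of coprime order. -/
theorem exists_lift_of_fixed [Finite T] (N B : Subgroup T) [N.Normal]
    (hcop : (Nat.card B).Coprime (Nat.card N)) (hsolv : Group.IsSolvable N)
    (y : T) (hfix : ∀ b ∈ B, QuotientGroup.mk' N b * QuotientGroup.mk' N y =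
      QuotientGroup.mk' N y * QuotientGroup.mk' N b) :
    ∃ c ∈ Subgroup.centralizer (B : Set T), QuotientGroup.mk' N c = QuotientGroup.mk' N y := by
  have hNB : B ≤ Subgroup.normalizer (N : Set T) := by
    rw [Subgroup.normalizer_eq_top]; exact le_top
  have hy : y ∈ Subgroup.normalizer (N : Set T) := by
    rw [Subgroup.normalizer_eq_top]; trivial
  obtain ⟨c, hc, hcy⟩ := Cfsg.Agent.Lib.Helper51.BGAsym.exists_mem_centralizer_of_fixed_coset B N hNB
    hcop (Or.inr hsolv) y hy (by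
      intro b hb
      have h1 : QuotientGroup.mk' N (b * y * b⁻¹ * y⁻¹) = 1 := by
        rw [map_mul, map_mul, map_mul, map_inv, map_inv, hfix b hb]
        group
      exact (QuotientGroup.eq_one_iff _).mp h1)
  refine ⟨c, hc, ?_⟩
  symm
  rw [QuotientGroup.mk'_apply, QuotientGroup.mk'_apply, QuotientGroup.eq]
  exact hcy

/-- **B&G 15.2(g), abstract core.**  `D'` centralizes `Q`. -/
theorem derived_le_centralizer_of_primAct [Finite T] (hsolvT : Group.IsSolvable T)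
    (hoddT : Odd (Nat.card T)) (q : ℕ) [Fact q.Prime] {Q D A : Subgroup T}
    (h : PrimAct q Q D A) (hcopDA : (Nat.card D).Coprime (Nat.card A))
    (N : Subgroup T) [hNn : N.Normal] (hN : N = Q ⊓ Subgroup.centralizer (D : Set T)) :
    ⁅D, D⁆ ≤ Subgroup.centralizer (Q : Set T) := by
  classical
  have hq : q.Prime := Fact.out
  obtain ⟨-, -, -, hlt, -, -, -⟩ := h.main
  rw [← hN] at hlt
  have hNQ : N ≤ Q := hlt.le
  have hNC : N ≤ Subgroup.centralizer (D : Set T) := by rw [hN]; exact inf_le_right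
  obtain ⟨n, hn⟩ := IsPGroup.iff_card.mp h.hQ
  have hcardN : Nat.card N ∣ q ^ n := hn ▸ Subgroup.card_dvd_of_le hNQ
  have hcopN : ∀ B : Subgroup T, (Nat.card B).Coprime q → (Nat.card B).Coprime (Nat.card N) :=
    fun B hB => Nat.Coprime.coprime_dvd_right hcardN (Nat.Coprime.pow_right n hB)
  have hsolvN : Group.IsSolvable N := inferInstance
  have hDQ : D ⊓ Q = ⊥ :=
    (Subgroup.disjoint_of_coprime_natCard (by rw [hn]; exact Nat.Coprime.pow_right n h.hcopD)).eq_bot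
  have hAQ : A ⊓ Q = ⊥ :=
    (Subgroup.disjoint_of_coprime_natCard (by rw [hn]; exact Nat.Coprime.pow_right n h.hcopK)).eq_bot
  obtain ⟨π, hπdef⟩ : ∃ π : T →* T ⧸ N, π = QuotientGroup.mk' N := ⟨_, rfl⟩
  have hker : π.ker = N := by rw [hπdef]; exact QuotientGroup.ker_mk' N
  have hπ1 : ∀ x : T, π x = 1 ↔ x ∈ N := fun x =>
    (MonoidHom.mem_ker (f := π)).symm.trans (SetLike.ext_iff.mp hker x)
  have hπeq : ∀ c y : T, π c = π y → c⁻¹ * y ∈ N := by
    intro c y hcy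
    rw [← hπ1, map_mul, map_inv, hcy, inv_mul_cancel]
  have hmemQ : ∀ c y : T, y ∈ Q → π c = π y → c ∈ Q := by
    intro c y hy hcy
    have h1 : c⁻¹ * y ∈ N := hπeq c y hcy
    have h2 : c = y * (c⁻¹ * y)⁻¹ := by group
    rw [h2]; exact Q.mul_mem hy (Q.inv_mem (hNQ h1))
  have hlift : ∀ B : Subgroup T, (Nat.card B).Coprime q → ∀ y : T,
      (∀ b ∈ B, π b * π y = π y * π b) →
      ∃ c ∈ Subgroup.centralizer (B : Set T), π c = π y := by
    intro B hB y hfix
    rw [hπdef] at hfix ⊢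
    exact exists_lift_of_fixed N B (hcopN B hB) hsolvN y hfix
  have hD1 : D.map π ≠ ⊥ := by
    intro h0
    rw [Subgroup.map_eq_bot_iff, hker] at h0
    have h1 : D ≤ D ⊓ Q := le_inf le_rfl (h0.trans hNQ)
    rw [hDQ] at h1
    exact h.D_ne_bot (le_bot_iff.mp h1)
  have hA1 : A.map π ≠ ⊥ := by
    intro h0
    rw [Subgroup.map_eq_bot_iff, hker] at h0
    have h1 : A ≤ A ⊓ Q := le_inf le_rfl (h0.trans hNQ)
    rw [hAQ] at h1
    exact h.hK1 (le_bot_iff.mp h1)
  have hcD : (Nat.card (D.map π)).Coprime q :=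
    Nat.Coprime.coprime_dvd_left (Subgroup.card_map_dvd D π) h.hcopD
  have hcA : (Nat.card (A.map π)).Coprime q :=
    Nat.Coprime.coprime_dvd_left (Subgroup.card_map_dvd A π) h.hcopK
  have hDA : D.map π ⊓ A.map π = ⊥ :=
    (Subgroup.disjoint_of_coprime_natCard
      (Nat.Coprime.coprime_dvd_left (Subgroup.card_map_dvd D π)
        (Nat.Coprime.coprime_dvd_right (Subgroup.card_map_dvd A π) hcopDA))).eq_bot
  have hAD : A.map π ≤ Subgroup.normalizer ((D.map π : Subgroup (T ⧸ N)) : Set (T ⧸ N)) :=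
    (Subgroup.map_mono h.hKD).trans (Subgroup.le_normalizer_map π)
  have hDQn : D.map π ≤ Subgroup.normalizer ((Q.map π : Subgroup (T ⧸ N)) : Set (T ⧸ N)) :=
    (Subgroup.map_mono h.hDQ).trans (Subgroup.le_normalizer_map π)
  have hAQn : A.map π ≤ Subgroup.normalizer ((Q.map π : Subgroup (T ⧸ N)) : Set (T ⧸ N)) :=
    (Subgroup.map_mono h.hKQ).trans (Subgroup.le_normalizer_map π)
  have hfrob : ∀ r ∈ A.map π, r ≠ 1 →
      D.map π ⊓ Subgroup.centralizer ({r} : Set (T ⧸ N)) = ⊥ := by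
    rintro _ ⟨a, ha, rfl⟩ hr
    have ha1 : a ≠ 1 := by rintro rfl; exact hr (map_one π)
    rw [eq_bot_iff]
    rintro _ ⟨⟨d, hd, rfl⟩, hc⟩
    rw [Subgroup.mem_bot]
    replace hc := Subgroup.mem_centralizer_singleton_iff.mp
      (show π d ∈ Subgroup.centralizer ({π a} : Set (T ⧸ N)) from hc)
    have h1 : d⁻¹ * a⁻¹ * d * a ∈ N := by
      rw [← hπ1, map_mul, map_mul, map_mul, map_inv, map_inv, mul_assoc _ (π d), hc]
      group
    have h2 : d⁻¹ * a⁻¹ * d * a ∈ D := by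
      have h3 : a⁻¹ * d * a ∈ D :=
        Cfsg.Agent.Lib.Helper55.BGFifteen.mem_normalizer_conj' (h.hKD ha) hd
      have h4 := D.mul_mem (D.inv_mem hd) h3
      have h5 : d⁻¹ * (a⁻¹ * d * a) = d⁻¹ * a⁻¹ * d * a := by group
      rwa [h5] at h4
    have h3 : d⁻¹ * a⁻¹ * d * a ∈ D ⊓ Q := ⟨h2, hNQ h1⟩
    rw [hDQ, Subgroup.mem_bot] at h3
    have h4 : a * d = d * a := by
      calc a * d = a * d * (d⁻¹ * a⁻¹ * d * a) := by rw [h3, mul_one]
        _ = d * a := by group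
    rw [h.hfpf a ha ha1 d hd h4, map_one]
  have hsolvQ : Group.IsSolvable (T ⧸ N) := inferInstance
  have hsolv : Group.IsSolvable ↥(D.map π ⊔ A.map π) := inferInstance
  have hodd : Odd (Nat.card ↥(D.map π ⊔ A.map π)) :=
    (hoddT.of_dvd_nat (Subgroup.card_quotient_dvd_card N)).of_dvd_nat
      (Subgroup.card_subgroup_dvd_card _)
  have hQ1 : Q.map π ≠ ⊥ := by
    intro h0
    rw [Subgroup.map_eq_bot_iff, hker] at h0
    exact not_le_of_gt hlt h0
  have hQn : Group.IsNilpotent (Q.map π) := by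
    have := h.hQ.isNilpotent
    exact Group.nilpotent_of_surjective (π.subgroupMap Q) (π.subgroupMap_surjective Q)
  have hcop : (Nat.card ↥(D.map π ⊔ A.map π)).Coprime (Nat.card (Q.map π)) := by
    have h1 : Nat.card ↥(D.map π ⊔ A.map π) = Nat.card (D.map π) * Nat.card (A.map π) :=
      Cfsg.Agent.Lib.Helper54.card_sup_of_le_normalizer hAD hDA
    rw [h1]
    have h2 : Nat.card (Q.map π) ∣ q ^ n := hn ▸ Subgroup.card_map_dvd Q π
    exact Nat.Coprime.coprime_dvd_right h2 (Nat.Coprime.pow_right n (Nat.Coprime.mul_left hcD hcA))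
  have hCK : Q.map π ⊓ Subgroup.centralizer ((D.map π : Subgroup (T ⧸ N)) : Set (T ⧸ N)) = ⊥ := by
    rw [eq_bot_iff]
    rintro _ ⟨⟨y, hy, rfl⟩, hc⟩
    rw [Subgroup.mem_bot]
    replace hc := Subgroup.mem_centralizer_iff.mp
      (show π y ∈ Subgroup.centralizer ((D.map π : Subgroup (T ⧸ N)) : Set (T ⧸ N)) from hc)
    obtain ⟨c, hcC, hcy⟩ := hlift D h.hcopD y (fun b hb => hc (π b) ⟨b, hb, rfl⟩)
    have hcQ : c ∈ Q := hmemQ c y hy hcy
    have hcN : c ∈ N := by rw [hN]; exact ⟨hcQ, hcC⟩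
    rw [← hcy]; exact (hπ1 c).mpr hcN
  have hcentmap : ∀ c : T, c ∈ Subgroup.centralizer (A : Set T) →
      π c ∈ Subgroup.centralizer ((A.map π : Subgroup (T ⧸ N)) : Set (T ⧸ N)) := by
    intro c hcC
    rw [Subgroup.mem_centralizer_iff]
    rintro _ ⟨a', ha', rfl⟩
    rw [← map_mul, ← map_mul, (Subgroup.mem_centralizer_iff.mp hcC) a' ha']
  have hpr : ∀ x ∈ A.map π, x ≠ 1 →
      Q.map π ⊓ Subgroup.centralizer ({x} : Set (T ⧸ N)) =
        Q.map π ⊓ Subgroup.centralizer ((A.map π : Subgroup (T ⧸ N)) : Set (T ⧸ N)) := by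
    rintro _ ⟨a, ha, rfl⟩ hx
    have ha1 : a ≠ 1 := by rintro rfl; exact hx (map_one π)
    apply le_antisymm
    · rintro _ ⟨⟨y, hy, rfl⟩, hc⟩
      replace hc := Subgroup.mem_centralizer_singleton_iff.mp
        (show π y ∈ Subgroup.centralizer ({π a} : Set (T ⧸ N)) from hc)
      have hcopZ : (Nat.card (Subgroup.zpowers a)).Coprime q :=
        Nat.Coprime.coprime_dvd_left
          (Subgroup.card_dvd_of_le (Subgroup.zpowers_le.mpr ha)) h.hcopK
      obtain ⟨c, hcC, hcy⟩ := hlift (Subgroup.zpowers a) hcopZ y (by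
        intro b hb
        obtain ⟨i, rfl⟩ := Subgroup.mem_zpowers_iff.mp hb
        rw [map_zpow]
        exact (Commute.zpow_left (show Commute (π a) (π y) from hc.symm) i).eq)
      have hcQ : c ∈ Q := hmemQ c y hy hcy
      have hca : c ∈ Subgroup.centralizer ({a} : Set T) := by
        rw [Subgroup.mem_centralizer_singleton_iff]
        exact ((Subgroup.mem_centralizer_iff.mp hcC) a (Subgroup.mem_zpowers a)).symm
      have hcA : c ∈ Q ⊓ Subgroup.centralizer (A : Set T) := by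
        rw [← h.hprime a ha ha1]; exact ⟨hcQ, hca⟩
      rw [← hcy]
      exact ⟨⟨c, hcA.1, rfl⟩, hcentmap c hcA.2⟩
    · exact inf_le_inf_left _
        (Subgroup.centralizer_le (Set.singleton_subset_iff.mpr ⟨a, ha, rfl⟩))
  obtain ⟨-, -, h3⟩ := Cfsg.Agent.S1446.result (D.map π) (A.map π) (Q.map π) hD1 hA1 hDA hAD hfrob
    hsolv hodd hQ1 hQn hDQn hAQn hcop hCK hpr
  have hEq : Q.map π ⊓ Subgroup.centralizer ((A.map π : Subgroup (T ⧸ N)) : Set (T ⧸ N)) =
      (Q ⊓ Subgroup.centralizer (A : Set T)).map π := by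
    apply le_antisymm
    · rintro _ ⟨⟨y, hy, rfl⟩, hc⟩
      replace hc := Subgroup.mem_centralizer_iff.mp
        (show π y ∈ Subgroup.centralizer ((A.map π : Subgroup (T ⧸ N)) : Set (T ⧸ N)) from hc)
      obtain ⟨c, hcC, hcy⟩ := hlift A h.hcopK y (fun b hb => hc (π b) ⟨b, hb, rfl⟩)
      exact ⟨c, ⟨hmemQ c y hy hcy, hcC⟩, hcy⟩
    · rintro _ ⟨c, ⟨hcQ, hcC⟩, rfl⟩
      exact ⟨⟨c, hcQ, rfl⟩, hcentmap c hcC⟩
  have hcyc : IsCyclic
      ↥(Q.map π ⊓ Subgroup.centralizer ((A.map π : Subgroup (T ⧸ N)) : Set (T ⧸ N))) := by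
    rw [hEq]
    have : IsCyclic ↥(Q ⊓ Subgroup.centralizer (A : Set T)) := isCyclic_of_prime_card (p := q) h.hKs
    exact isCyclic_of_surjective (π.subgroupMap _) (π.subgroupMap_surjective _)
  have h4 := h3 hcyc
  have h5 : ⁅⁅D, D⁆, Q⁆ ≤ N := by
    rw [Subgroup.commutator_le]
    intro g₁ hg₁ g₂ hg₂
    rw [← hπ1, map_commutatorElement, commutatorElement_eq_one_iff_mul_comm]
    have h6 : π g₁ ∈ ⁅D.map π, D.map π⁆ := by
      rw [← Subgroup.map_commutator]; exact ⟨g₁, hg₁, rfl⟩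
    exact ((Subgroup.mem_centralizer_iff.mp (h4 h6)) (π g₂) ⟨g₂, hg₂, rfl⟩).symm
  have hD'D : ⁅D, D⁆ ≤ D :=
    Subgroup.commutator_le.mpr (fun a ha b hb =>
      D.mul_mem (D.mul_mem (D.mul_mem ha hb) (D.inv_mem ha)) (D.inv_mem hb))
  have hcop' : (Nat.card ↥⁅D, D⁆).Coprime (Nat.card Q) := by
    rw [hn]
    exact Nat.Coprime.pow_right n
      (Nat.Coprime.coprime_dvd_left (Subgroup.card_dvd_of_le hD'D) h.hcopD)
  have hsolvQ' : Group.IsSolvable Q := inferInstance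
  have h7 := Cfsg.Agent.S0026.result ⁅D, D⁆ Q (hD'D.trans h.hDQ) hcop' (Or.inr hsolvQ')
  have h8 : ⁅Q, ⁅D, D⁆⁆ ≤ Q ⊓ Subgroup.centralizer ((⁅D, D⁆ : Subgroup T) : Set T) := by
    rw [Subgroup.commutator_comm]
    exact h5.trans (le_inf hNQ (hNC.trans (Subgroup.centralizer_le (SetLike.coe_subset_coe.mpr hD'D))))
  rw [sup_eq_right.mpr h8] at h7
  exact Subgroup.le_centralizer_iff.mp (h7.ge.trans inf_le_right)

end Cfsg.Agent.Lib.Helper47.BG152
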