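import Mathlib
import Cfsg.Agent.Lib.Helper47.BGFifteenTwoE

/-!
# Bender–Glauberman Theorem 15.2(g), abstract form: `M_σ' ≤ F(M)`

`T = Ms K` finite solvable of odd order, `Ms ⊴ T`, `K` acting coprimely with prime action on `Ms`
and `|C_Ms(K)| = q` prime; `Q ⊴ T` a Sylow `q`-subgroup of `Ms` containing `C_Ms(K)`, `Ms` not
nilpotent, and elements of `Ms` of coprime orders commute modulo `Q`.  Then `Ms' ≤ F(T)`.
-/

set_option autoImplicit false

namespace Cfsg.Agent.Lib.Helper47.BG152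

open Cfsg
open scoped Pointwise commutatorElement
open Cfsg.Agent.Lib.Helper55.BGFifteen (PrimAct)

variable {T : Type*} [Group T]

/-- The `K`-invariant complement and its `PrimAct` structure (extracted from the proof of
`Cfsg.Agent.Lib.Helper55.BGFifteen.core`). -/
theorem exists_primAct [Finite T] (q : ℕ) [Fact q.Prime] (Ms K Q : Subgroup T)
    (hsolv : Group.IsSolvable Ms) (hKMs : K ≤ Subgroup.normalizer (Ms : Set T))
    (hcop : (Nat.card K).Coprime (Nat.card Ms)) (hK1 : K ≠ ⊥)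
    (hsemi : ∀ k ∈ K, k ≠ 1 →
      Ms ⊓ Subgroup.centralizer ({k} : Set T) = Ms ⊓ Subgroup.centralizer (K : Set T))
    (hKs : Nat.card ↥(Ms ⊓ Subgroup.centralizer (K : Set T)) = q)
    (hKsQ : Ms ⊓ Subgroup.centralizer (K : Set T) ≤ Q)
    (hQMs : Q ≤ Ms) (hQ : IsPGroup q Q) (hMsQ : Ms ≤ Subgroup.normalizer (Q : Set T))
    (hKQ : K ≤ Subgroup.normalizer (Q : Set T))
    (hsyl : ¬ q ∣ Q.relIndex Ms) (hnn : ¬ Group.IsNilpotent Ms) :
    ∃ D₀ : Subgroup T, IsComplIn Q D₀ Ms ∧ Group.IsNilpotent D₀ ∧ PrimAct q Q D₀ K := by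
  have hq : q.Prime := Fact.out
  have hqMs : q ∣ Nat.card Ms := by
    rw [← hKs]
    exact Subgroup.card_dvd_of_le inf_le_left
  have hcopKq : (Nat.card K).Coprime q := Nat.Coprime.coprime_dvd_right hqMs hcop
  obtain ⟨⟨D₀, hD₀H, hKD₀⟩, -, -⟩ :=
    Cfsg.Agent.S3745.result K Ms hKMs hcop hsolv {p | p.Prime ∧ p ≠ q}
  have hD₀Ms : D₀ ≤ Ms := hD₀H.1
  have hcopD₀ : (Nat.card D₀).Coprime q := by
    rw [Nat.coprime_comm, Nat.Prime.coprime_iff_not_dvd hq]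
    intro hd
    exact (hD₀H.2.1 q hq hd).2 rfl
  obtain ⟨n, hn⟩ := hQ.exists_card_eq
  have hcardD₀ : Nat.card D₀ = Q.relIndex Ms := by
    have h1 := Cfsg.Agent.Lib.Helper62.isPiHallOf_card_mul hD₀H
    have h2 := Cfsg.Agent.Lib.Helper54.card_mul_relIndex hQMs
    have h3 : Nat.card D₀ * D₀.relIndex Ms = Q.relIndex Ms * Nat.card Q := by
      rw [h1, ← h2, mul_comm]
    refine Cfsg.Agent.Lib.Helper62.pi_part_unique (π := {p | p.Prime ∧ p ≠ q}) h3
      hD₀H.2.1 hD₀H.2.2 ?_ ?_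
    · intro p hp hpd
      refine ⟨hp, ?_⟩
      rintro rfl
      exact hsyl hpd
    · intro p hp hpπ hpd
      rw [hn] at hpd
      exact hpπ.2 ((Nat.prime_dvd_prime_iff_eq hp hq).mp (hp.dvd_of_dvd_pow hpd))
  have hcopQD₀ : (Nat.card Q).Coprime (Nat.card D₀) := by
    rw [hn]
    exact Nat.Coprime.pow_left n hcopD₀.symm
  have hcompl₀ : IsComplIn Q D₀ Ms := by
    apply Cfsg.Agent.Lib.Helper55.BGFifteen.isComplIn_of_card' hQMs hD₀Ms hcopQD₀
    rw [hcardD₀]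
    exact Cfsg.Agent.Lib.Helper54.card_mul_relIndex hQMs
  have hdisj : Q ⊓ D₀ = ⊥ := hcompl₀.2.2.1
  have hfpf : ∀ k ∈ K, k ≠ 1 → ∀ u ∈ D₀, k * u = u * k → u = 1 := by
    intro k hk hk1 u hu hku
    have h1 : u ∈ Ms ⊓ Subgroup.centralizer ({k} : Set T) := by
      refine Subgroup.mem_inf.mpr ⟨hD₀Ms hu, ?_⟩
      rw [Subgroup.mem_centralizer_singleton_iff]
      exact hku.symm
    rw [hsemi k hk hk1] at h1
    have h2 : u ∈ Q ⊓ D₀ := Subgroup.mem_inf.mpr ⟨hKsQ h1, hu⟩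
    rw [hdisj] at h2
    exact Subgroup.mem_bot.mp h2
  have hD₀nil : Group.IsNilpotent D₀ := by
    have hK1' : Nat.card K ≠ 1 := fun h1 => hK1 (Subgroup.card_eq_one.mp h1)
    obtain ⟨p, hp, hpK⟩ := Nat.exists_prime_and_dvd hK1'
    have : Fact p.Prime := ⟨hp⟩
    obtain ⟨k, hk⟩ := exists_prime_orderOf_dvd_card' (G := K) p hpK
    have hk1 : (k : T) ≠ 1 := by
      intro h1
      have : k = 1 := Subtype.ext h1
      rw [this, orderOf_one] at hk
      exact hp.one_lt.ne hk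
    have hkp : (k : T) ^ p = 1 := by
      have := pow_orderOf_eq_one k
      rw [hk] at this
      exact_mod_cast congrArg Subtype.val this
    apply Cfsg.Agent.Lib.Helper55.BGFifteen.isNilpotent_of_fpf_conj' hp D₀ (k : T) hkp
    · intro y hy
      exact Cfsg.Agent.Lib.Helper55.BGFifteen.mem_normalizer_conj (hKD₀ k.2) hy
    · intro y hy hc
      exact hfpf (k : T) k.2 hk1 y hy hc
  have hQKs : Q ⊓ Subgroup.centralizer (K : Set T) = Ms ⊓ Subgroup.centralizer (K : Set T) := by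
    apply le_antisymm
    · exact inf_le_inf_right _ hQMs
    · exact le_inf hKsQ inf_le_right
  have hPA : PrimAct q Q D₀ K := by
    refine ⟨hQ, hD₀Ms.trans hMsQ, hKQ, hKD₀, hK1, hfpf, hcopD₀, hcopKq, ?_, ?_, ?_⟩
    · rw [hQKs]; exact hKs
    · intro k hk hk1
      rw [hQKs]
      apply le_antisymm
      · rw [← hsemi k hk hk1]
        exact inf_le_inf_right _ hQMs
      · refine le_inf hKsQ ?_
        rw [← hsemi k hk hk1]
        exact inf_le_right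
    · intro hc
      exact hnn (Cfsg.Agent.Lib.Helper55.BGFifteen.isNilpotent_of_isComplIn_of_le_centralizer
        hcompl₀ hQ.isNilpotent hD₀nil hc)
  exact ⟨D₀, hcompl₀, hD₀nil, hPA⟩

/-- `C_Ms(Q)` is nilpotent when elements of `Ms` of coprime orders commute modulo the
`q`-group `Q`. -/
theorem isNilpotent_inf_centralizer [Finite T] (q : ℕ) [Fact q.Prime] (Ms Q : Subgroup T)
    (hQ : IsPGroup q Q)
    (hcomm : ∀ x ∈ Ms, ∀ y ∈ Ms, (orderOf x).Coprime (orderOf y) → ⁅x, y⁆ ∈ Q) :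
    Group.IsNilpotent ↥(Ms ⊓ Subgroup.centralizer (Q : Set T)) := by
  have hq : q.Prime := Fact.out
  -- the key computation
  have key : ∀ u v : T, v ∈ Subgroup.centralizer (Q : Set T) → (orderOf v).Coprime q →
      ⁅u, v⁆ ∈ Q → u * v = v * u := by
    intro u v hv hvq hz
    have hzv : Commute ⁅u, v⁆ v := ((Subgroup.mem_centralizer_iff.mp hv) _ hz)
    have h1 : u * v * u⁻¹ = ⁅u, v⁆ * v := by rw [commutatorElement_def]; group
    have h2 : (u * v * u⁻¹) ^ orderOf v = 1 := by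
      rw [conj_pow, pow_orderOf_eq_one]; group
    rw [h1, hzv.mul_pow, pow_orderOf_eq_one, mul_one] at h2
    have h3 : orderOf ⁅u, v⁆ ∣ orderOf v := orderOf_dvd_of_pow_eq_one h2
    obtain ⟨k, hk⟩ := (IsPGroup.iff_orderOf.mp hQ) ⟨⁅u, v⁆, hz⟩
    rw [Subgroup.orderOf_mk] at hk
    have h4 : (orderOf ⁅u, v⁆).Coprime (orderOf v) := by
      rw [hk]; exact Nat.Coprime.pow_left k hvq.symm
    have h5 : orderOf ⁅u, v⁆ = 1 := Nat.Coprime.eq_one_of_dvd h4 h3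
    rw [orderOf_eq_one_iff, commutatorElement_eq_one_iff_mul_comm] at h5
    exact h5
  apply isNilpotent_of_coprime_commute
  intro x y hxy
  rw [← Subgroup.orderOf_coe x, ← Subgroup.orderOf_coe y] at hxy
  apply Subtype.ext
  show (x : T) * (y : T) = (y : T) * (x : T)
  by_cases hy : q ∣ orderOf (y : T)
  · have hx : (orderOf (x : T)).Coprime q := by
      rw [Nat.coprime_comm, Nat.Prime.coprime_iff_not_dvd hq]
      intro hx
      have := Nat.dvd_gcd hx hy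
      rw [hxy] at this
      exact hq.one_lt.ne' (Nat.dvd_one.mp this)
    exact (key (y : T) (x : T) x.2.2 hx (hcomm _ y.2.1 _ x.2.1 hxy.symm)).symm
  · have hy' : (orderOf (y : T)).Coprime q :=
      ((Nat.Prime.coprime_iff_not_dvd hq).mpr hy).symm
    exact key (x : T) (y : T) y.2.2 hy' (hcomm _ x.2.1 _ y.2.1 hxy)

/-- If `Q ≤ N ⊴ T` and `D' ≤ N` then `(Q D)' ≤ N`. -/
theorem commutator_sup_le (N Q D : Subgroup T) [N.Normal] (hQ : Q ≤ N) (hD : ⁅D, D⁆ ≤ N) :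
    ⁅Q ⊔ D, Q ⊔ D⁆ ≤ N := by
  have hker : (QuotientGroup.mk' N).ker = N := QuotientGroup.ker_mk' N
  have hQ0 : Q.map (QuotientGroup.mk' N) = ⊥ := by
    rw [Subgroup.map_eq_bot_iff, hker]; exact hQ
  have hD0 : (⁅D, D⁆).map (QuotientGroup.mk' N) = ⊥ := by
    rw [Subgroup.map_eq_bot_iff, hker]; exact hD
  have h1 : (⁅Q ⊔ D, Q ⊔ D⁆).map (QuotientGroup.mk' N) = ⊥ := by
    rw [Subgroup.map_commutator, Subgroup.map_sup, hQ0, bot_sup_eq, ← Subgroup.map_commutator, hD0]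
  rw [Subgroup.map_eq_bot_iff, hker] at h1
  exact h1

/-- **B&G 15.2(g), abstract form.** -/
theorem derived_le_fittingSubgroup [Finite T] (hsolvT : Group.IsSolvable T)
    (hoddT : Odd (Nat.card T)) (q : ℕ) [Fact q.Prime] (Ms K Q : Subgroup T)
    [hMsn : Ms.Normal] [hQn : Q.Normal] (hsup : Ms ⊔ K = ⊤)
    (hcop : (Nat.card K).Coprime (Nat.card Ms)) (hK1 : K ≠ ⊥)
    (hsemi : ∀ k ∈ K, k ≠ 1 →
      Ms ⊓ Subgroup.centralizer ({k} : Set T) = Ms ⊓ Subgroup.centralizer (K : Set T))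
    (hKs : Nat.card ↥(Ms ⊓ Subgroup.centralizer (K : Set T)) = q)
    (hKsQ : Ms ⊓ Subgroup.centralizer (K : Set T) ≤ Q)
    (hQMs : Q ≤ Ms) (hQ : IsPGroup q Q)
    (hsyl : ¬ q ∣ Q.relIndex Ms) (hnn : ¬ Group.IsNilpotent Ms)
    (hcomm : ∀ x ∈ Ms, ∀ y ∈ Ms, (orderOf x).Coprime (orderOf y) → ⁅x, y⁆ ∈ Q) :
    ⁅Ms, Ms⁆ ≤ fittingSubgroup T := by
  have hnormMs : ∀ X : Subgroup T, X ≤ Subgroup.normalizer (Ms : Set T) := fun X => by
    rw [Subgroup.normalizer_eq_top]; exact le_top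
  have hnormQ : ∀ X : Subgroup T, X ≤ Subgroup.normalizer (Q : Set T) := fun X => by
    rw [Subgroup.normalizer_eq_top]; exact le_top
  have hsolvMs : Group.IsSolvable Ms := inferInstance
  obtain ⟨D₀, hcompl, hD₀nil, hPA⟩ := exists_primAct q Ms K Q hsolvMs (hnormMs K) hcop hK1 hsemi
    hKs hKsQ hQMs hQ (hnormQ Ms) (hnormQ K) hsyl hnn
  have hMsup : Q ⊔ D₀ = Ms := Cfsg.Agent.Lib.Helper55.BGFifteen.sup_eq_of_isComplIn hcompl
  have hD₀Ms : D₀ ≤ Ms := hcompl.2.1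
  obtain ⟨hQN, hDN, hKN, -, -, -, -⟩ := hPA.main
  have hNn : (Q ⊓ Subgroup.centralizer (D₀ : Set T)).Normal := by
    rw [← Subgroup.normalizer_eq_top_iff, eq_top_iff, ← hsup, ← hMsup]
    exact sup_le (sup_le hQN hDN) hKN
  have hcopDK : (Nat.card D₀).Coprime (Nat.card K) :=
    (Nat.Coprime.coprime_dvd_right (Subgroup.card_dvd_of_le hD₀Ms) hcop).symm
  have hD' : ⁅D₀, D₀⁆ ≤ Subgroup.centralizer (Q : Set T) :=
    derived_le_centralizer_of_primAct hsolvT hoddT q hPA hcopDK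
      (Q ⊓ Subgroup.centralizer (D₀ : Set T)) rfl
  have hD'D : ⁅D₀, D₀⁆ ≤ D₀ :=
    Subgroup.commutator_le.mpr (fun a ha b hb =>
      D₀.mul_mem (D₀.mul_mem (D₀.mul_mem ha hb) (D₀.inv_mem ha)) (D₀.inv_mem hb))
  have hC1n : (Ms ⊓ Subgroup.centralizer (Q : Set T)).Normal := inferInstance
  have hC1nil := isNilpotent_inf_centralizer q Ms Q hQ hcomm
  have hQF : Q ≤ fittingSubgroup T := le_sSup ⟨hQn, hQ.isNilpotent⟩
  have hC1F : Ms ⊓ Subgroup.centralizer (Q : Set T) ≤ fittingSubgroup T :=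
    le_sSup ⟨hC1n, hC1nil⟩
  have hN'n : (Q ⊔ (Ms ⊓ Subgroup.centralizer (Q : Set T))).Normal := inferInstance
  have h1 : ⁅Q ⊔ D₀, Q ⊔ D₀⁆ ≤ Q ⊔ (Ms ⊓ Subgroup.centralizer (Q : Set T)) :=
    commutator_sup_le _ Q D₀ le_sup_left
      ((le_inf (hD'D.trans hD₀Ms) hD').trans le_sup_right)
  rw [hMsup] at h1
  exact h1.trans (sup_le hQF hC1F)

end Cfsg.Agent.Lib.Helper47.BG152
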