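import Mathlib
import Cfsg.Agent.Lib.Helper47.BGFifteenTwoD
import Cfsg.Agent.Lib.Helper47.BGFifteenTwoF

/-!
# Bender–Glauberman Theorem 15.2(g): `M'' ≤ F(M)` when `M_F ≠ M_σ`

The first conjunct of S1356 in the case `M_F ≠ M_σ` (the remaining case and the assembly are
helper23's).  `h73` is the statement of S1373 (`|K*|` prime) for `M`, `K`, `U`.
-/

set_option autoImplicit false

namespace Cfsg.Agent.Lib.Helper47.BG152

open Cfsg
open scoped Pointwise commutatorElement
open Cfsg.Agent.Lib.Helper54 (pcOf pcOf_le pcOf_isPGroup)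

variable {G : Type*} [Group G] [Finite G]

/-- **B&G 15.2(g)**: `M'' ≤ F(M)` if `M_F ≠ M_σ`. -/
theorem derived_two_le_fittingOf (hG : IsMinSimpleOddOrder G) (M : Subgroup G) (hM : IsCoatom M)
    (K U : Subgroup G) (hKU : IsSigmaDecomposition M K U)
    (hne : fittingHallOf M ≠ sigmaCore M)
    (h73 : K ≠ ⊥ → U = ⊥ →
      (Nat.card ↥(sigmaCore M ⊓ Subgroup.centralizer (K : Set G))).Prime) :
    ⁅⁅M, M⁆, ⁅M, M⁆⁆ ≤ fittingOf M := by
  obtain ⟨q, hqdef⟩ : ∃ q : ℕ,
      Nat.card ↥(sigmaCore M ⊓ Subgroup.centralizer (K : Set G)) = q := ⟨_, rfl⟩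
  rw [hqdef] at h73
  classical
  have hs : IsSimpleGroup G := hG.2.1
  have hsolvM : Group.IsSolvable M := hG.2.2.2 M hM.1
  have hHall : IsPiHallOf (sigma M) (sigmaCore M) M := (Cfsg.Agent.S1350.result hG M hM).1
  have hσM : sigmaCore M ≤ M := Subgroup.map_subtype_le _
  have hKM : K ≤ M := hKU.hall.1
  have hnn := not_isNilpotent_sigmaCore hG M hM hne
  have hall := forall_mem_kappa hG M hM hnn
  have hU : U = ⊥ := U_eq_bot M K U hKU hHall hall
  have hMsup : M = sigmaCore M ⊔ K := by
    apply le_antisymm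
    · intro m hm
      obtain ⟨u, hu, b, hb, rfl⟩ := hKU.compl.2.2.2 m hm
      rw [hU, Subgroup.mem_bot] at hu
      rw [hu, one_mul, sup_comm]
      exact hb
    · exact sup_le hσM hKM
  have hder : sigmaCore M ≤ ⁅M, M⁆ :=
    Cfsg.Agent.Lib.Helper68.sigmaCore_le_commutator
      (fun p _ P V hV => (Cfsg.Agent.S1411.result hG p P V hV).2)
  have hMbot : M ≠ ⊥ := by
    intro h
    apply hne
    have hF : fittingHallOf M ≤ M := Subgroup.map_subtype_le _
    rw [le_bot_iff.mp (hF.trans h.le), le_bot_iff.mp (hσM.trans h.le)]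
  have hK1 : K ≠ ⊥ := by
    intro hK
    have h1 : M ≤ sigmaCore M := by
      have h2 := hMsup.le
      rwa [hK, sup_bot_eq] at h2
    have hlt := Cfsg.Agent.Lib.Helper1.commutator_lt_of_isSolvable hMbot
    exact absurd (h1.trans hder) (not_le_of_gt hlt)
  obtain ⟨hsemi, -, -⟩ := Cfsg.Agent.S1430.result hG M hM K hKU.hall hK1
  have hqp : q.Prime := h73 hK1 hU
  have : Fact q.Prime := ⟨hqp⟩
  have hcopKσ : (Nat.card K).Coprime (Nat.card (sigmaCore M)) := by
    refine Nat.coprime_of_dvd (fun r hr h1 h2 => ?_)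
    exact (hKU.hall.2.1 r hr h1).2.2.1 (hHall.2.1 r hr h2)
  -- pass to `T = ↥M`
  obtain ⟨H, hHdef⟩ : ∃ H : Subgroup ↥M, H = piCore (sigma M) ↥M := ⟨_, rfl⟩
  obtain ⟨A, hAdef⟩ : ∃ A : Subgroup ↥M, A = K.subgroupOf M := ⟨_, rfl⟩
  have hHn : H.Normal := by rw [hHdef]; infer_instance
  have hHmap : H.map M.subtype = sigmaCore M := by rw [hHdef]; rfl
  have hAmap : A.map M.subtype = K := by rw [hAdef]; exact Subgroup.map_subgroupOf_eq_of_le hKM
  have hsupT : H ⊔ A = ⊤ := by
    apply Subgroup.map_injective M.subtype_injective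
    rw [Subgroup.map_sup, hHmap, hAmap, ← hMsup, ← MonoidHom.range_eq_map, Subgroup.range_subtype]
  have hcardH : Nat.card H = Nat.card (sigmaCore M) := by
    rw [← hHmap]; exact (Subgroup.card_map_of_injective M.subtype_injective).symm
  have hcardA : Nat.card A = Nat.card K := by
    rw [← hAmap]; exact (Subgroup.card_map_of_injective M.subtype_injective).symm
  have hcopT : (Nat.card H).Coprime (Nat.card A) := by
    rw [hcardH, hcardA]; exact hcopKσ.symm
  have hoddM : Odd (Nat.card ↥M) := hG.1.of_dvd_nat (Subgroup.card_subgroup_dvd_card M)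
  have hAcomm : IsMulCommutative A := by
    have hKc : K ≤ Subgroup.centralizer (K : Set G) := by
      have := hKU.cyclic
      exact Subgroup.le_centralizer_iff_isMulCommutative.mpr inferInstance
    rw [← Subgroup.le_centralizer_iff_isMulCommutative]
    intro a ha
    rw [Subgroup.mem_centralizer_iff]
    intro b hb
    rw [hAdef, Subgroup.mem_subgroupOf] at ha
    rw [SetLike.mem_coe, hAdef, Subgroup.mem_subgroupOf] at hb
    exact Subtype.ext ((Subgroup.mem_centralizer_iff.mp (hKc ha)) (b : G) hb)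
  have hmemH : ∀ t : ↥M, t ∈ H ↔ (t : G) ∈ sigmaCore M := by
    intro t
    rw [← hHmap]
    exact (Subgroup.mem_map_iff_mem M.subtype_injective (K := H) (x := t)).symm
  have hprimeT : ∀ x ∈ A, x ≠ 1 →
      H ⊓ Subgroup.centralizer ({x} : Set ↥M) = H ⊓ Subgroup.centralizer (A : Set ↥M) := by
    intro x hxA hx1
    have hxK : (x : G) ∈ K := by rw [hAdef, Subgroup.mem_subgroupOf] at hxA; exact hxA
    have hx1' : (x : G) ≠ 1 := fun h => hx1 (Subtype.ext h)
    have h := hsemi (x : G) hxK hx1'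
    ext t
    rw [Subgroup.mem_inf, Subgroup.mem_inf, mem_centralizer_singleton_coe, hAdef,
      mem_centralizer_subgroupOf_coe M K hKM, hmemH]
    have h2 := SetLike.ext_iff.mp h (t : G)
    rw [Subgroup.mem_inf, Subgroup.mem_inf] at h2
    exact h2
  have hfixmap : (H ⊓ Subgroup.centralizer (A : Set ↥M)).map M.subtype =
      sigmaCore M ⊓ Subgroup.centralizer (K : Set G) := by
    rw [hAdef, map_inf_centralizer_subgroupOf M K hKM H, hHmap]
  have hqT : Nat.card ↥(H ⊓ Subgroup.centralizer (A : Set ↥M)) = q := by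
    rw [← hqdef, ← hfixmap]
    exact (Subgroup.card_map_of_injective M.subtype_injective).symm
  have hcm : (commutator ↥M).map M.subtype = ⁅M, M⁆ := by
    rw [commutator_def, Subgroup.map_commutator, ← MonoidHom.range_eq_map, Subgroup.range_subtype]
  have hderT : H ≤ commutator ↥M := by
    rw [← Subgroup.map_subtype_le_map_subtype, hHmap, hcm]; exact hder
  have hder2 : ⁅M, M⁆ ≤ sigmaCore M := by
    rw [← hcm, ← hHmap]
    apply Subgroup.map_mono
    exact hHn.commutator_le_of_self_sup_commutative_eq_top hsupT hAcomm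
  have hnnT : ¬ Group.IsNilpotent H := by
    intro h
    apply hnn
    have := h
    have e : ↥H ≃* ↥(H.map M.subtype) := Subgroup.equivMapOfInjective H M.subtype M.subtype_injective
    rw [← hHmap]
    exact Group.nilpotent_of_mulEquiv e
  have hfix : H ⊓ Subgroup.centralizer (A : Set ↥M) ≤ pcOf q H :=
    fix_le_pcOf hoddM H A hsupT hcopT hAcomm hprimeT q hqT hderT hnnT
  have hA1 : A ≠ ⊥ := by
    intro h
    apply hK1
    rw [← hAmap, h, Subgroup.map_bot]
  have hcommT := comm_mem_pcOf H A hA1 hcopT hprimeT q hfix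
  have hsylT := not_dvd_relIndex_pcOf H q hcommT
  have hQn : (pcOf q H).Normal := Cfsg.Agent.Lib.Helper21.pcOf_normal_of_normal q H
  have hsolvH : Group.IsSolvable H := inferInstance
  have hT := derived_le_fittingSubgroup hsolvM hoddM q H A (pcOf q H) hsupT hcopT.symm hA1 hprimeT
    hqT hfix (pcOf_le q H) (pcOf_isPGroup q H) hsylT hnnT hcommT
  have hMM : ⁅M, M⁆ = sigmaCore M := le_antisymm hder2 hder
  rw [hMM, ← hHmap, ← Subgroup.map_commutator]
  unfold fittingOf
  exact Subgroup.map_mono hT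

end Cfsg.Agent.Lib.Helper47.BG152
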