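import Mathlib
import Cfsg.Agent.Lib.Helper30.BSW.Defs
import Cfsg.Agent.Lib.Helper78.CharOrtho
import Cfsg.Agent.Lib.Helper84.BSWOuter
import Cfsg.Agent.Lib.Helper84.BSWReal
import Cfsg.Agent.Lib.Helper51.BSWValues
import Cfsg.Agent.Lib.Helper26.BSWF2c
import Cfsg.Agent.Lib.Helper45.BSW.Norm
import Cfsg.Agent.Lib.Helper62.BSWF2f

set_option autoImplicit false

/-!
# BSW module [F2g] (helper47): the normalizer of `Q = C(x)` in the case `δ = -1`

For `x` outer with `Χ x = 0` (so `Q = C_G(x)` is a T.I. subgroup of order `q = 2k - 1`):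
`N(Q) = Q ⊔ C(w)` for some outer `w` with `Χ w = 1`.

Proof. `|N(Q)| = q (k-1)` by orbit-stabilizer on `Q ∖ 1 = (Q ∩ x^G) ⊔ (Q ∩ (x⁻¹)^G)`.
Every `m ∈ N(Q) ∖ Q` has `m ^ (k-1) = 1`, is outer with `Χ m = 1`, and `C(m)` is abelian of order
`k - 1`, T.I., containing all odd-order elements of its normalizer.  Hence every Sylow
`l`-subgroup (`l ∣ k-1`) of `M = N(Q)` satisfies Burnside's condition `N_M(P) ≤ C_M(P)`, so `M'`
lies in every normal `l`-complement: `|M'|` divides `q`.  The class of `z ∈ M ∖ Q` in `M` lies in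
the coset `M' z`, so `|M : C_M(z)| ≤ q`, `|C_M(z)| ≥ k-1 = |C(z)|`, `C(z) ≤ M`, `M = Q C(z)`.
-/

open Cfsg.Agent.Lib.Helper30.BSW
open scoped commutatorElement

namespace Cfsg.Agent.Lib.Helper47.BSWNegNormalizer

section general


variable {H : Type*} [Group H]

/-- The index of the centralizer of an element is at most the order of the derived subgroup. -/
theorem index_centralizer_le_card_commutator [Finite H] (z : H) :
    (Subgroup.centralizer ({z} : Set H)).index ≤ Nat.card (commutator H) := by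
  classical
  let f : H ⧸ Subgroup.centralizer ({z} : Set H) → commutator H :=
    Quotient.lift (fun g : H => (⟨⁅g, z⁆, Subgroup.commutator_mem_commutator
      (Subgroup.mem_top g) (Subgroup.mem_top z)⟩ : commutator H)) (by
      intro a c hac
      have hac' : a⁻¹ * c ∈ Subgroup.centralizer ({z} : Set H) := QuotientGroup.leftRel_apply.1 hac
      rw [Subgroup.mem_centralizer_singleton_iff] at hac'
      apply Subtype.ext
      show ⁅a, z⁆ = ⁅c, z⁆
      rw [commutatorElement_def, commutatorElement_def]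
      have h1 : c = a * (a⁻¹ * c) := by group
      rw [h1]
      have h2 : a * (a⁻¹ * c) * z * (a * (a⁻¹ * c))⁻¹ = a * ((a⁻¹ * c) * z) * (a⁻¹ * c)⁻¹ * a⁻¹ := by
        group
      rw [h2, hac']
      group)
  have hf : Function.Injective f := by
    intro A C
    refine Quotient.inductionOn₂ A C ?_
    intro a c hfa
    apply Quotient.sound
    show QuotientGroup.leftRel _ a c
    rw [QuotientGroup.leftRel_apply, Subgroup.mem_centralizer_singleton_iff]
    have h1 : ⁅a, z⁆ = ⁅c, z⁆ := congrArg Subtype.val hfa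
    rw [commutatorElement_def, commutatorElement_def] at h1
    have h2 : a * z * a⁻¹ = c * z * c⁻¹ := mul_right_cancel h1
    calc a⁻¹ * c * z = a⁻¹ * (c * z * c⁻¹) * c := by group
      _ = a⁻¹ * (a * z * a⁻¹) * c := by rw [h2]
      _ = z * (a⁻¹ * c) := by group
  have := Nat.card_le_card_of_injective f hf
  rwa [← Subgroup.index_eq_card] at this




/-- Burnside: the derived subgroup lies in the kernel of the Sylow transfer. -/
theorem commutator_le_ker_transferSylow [Finite H] {l : ℕ} [Fact l.Prime] (P : Sylow l H)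
    (hP : Subgroup.normalizer (P : Set H) ≤ Subgroup.centralizer (P : Set H)) :
    commutator H ≤ (MonoidHom.transferSylow P hP).ker := by
  rw [commutator_def, Subgroup.commutator_le]
  intro g _ k _
  rw [MonoidHom.mem_ker, map_commutatorElement, commutatorElement_eq_one_iff_commute]
  have hcomm : ∀ a c : (P : Subgroup H), a * c = c * a := fun a c =>
    Subtype.ext (hP (Subgroup.le_normalizer c.2) a a.2)
  exact hcomm _ _

/-- If all Sylow `l`-subgroups (`l ∣ n` prime) satisfy Burnside's condition, then the order of the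
derived subgroup is prime to `n`. -/
theorem card_commutator_coprime [Finite H] (n : ℕ)
    (hB : ∀ l : ℕ, [Fact l.Prime] → l ∣ n → ∀ P : Sylow l H,
      Subgroup.normalizer (P : Set H) ≤ Subgroup.centralizer (P : Set H)) :
    Nat.Coprime (Nat.card (commutator H)) n := by
  apply Nat.coprime_of_dvd
  intro l hl hl1 hl2
  have : Fact l.Prime := ⟨hl⟩
  obtain ⟨P⟩ : Nonempty (Sylow l H) := inferInstance
  have hP := hB l hl2 P
  have h1 := commutator_le_ker_transferSylow P hP
  have h2 := MonoidHom.not_dvd_card_ker_transferSylow P hP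
  exact h2 (hl1.trans (Subgroup.card_dvd_of_le h1))



variable {G : Type*} [Group G]

/-- Orbit-stabilizer for the conjugation action of a subgroup `M ≥ C_G(x)` on `x`. -/
theorem card_eq_conj_mul_centralizer [Finite G] (M : Subgroup G) (x : G)
    (hC : Subgroup.centralizer ({x} : Set G) ≤ M) :
    Nat.card M = Nat.card {y : G // ∃ m ∈ M, m * x * m⁻¹ = y} *
      Nat.card (Subgroup.centralizer ({x} : Set G)) := by
  classical
  set C := Subgroup.centralizer ({x} : Set G) with hCdef
  have h1 := Subgroup.card_eq_card_quotient_mul_card_subgroup (C.subgroupOf M)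
  have h2 : Nat.card (C.subgroupOf M) = Nat.card C :=
    Nat.card_congr (Subgroup.subgroupOfEquivOfLe hC).toEquiv
  rw [h1, h2]
  congr 1
  let f : (↥M ⧸ C.subgroupOf M) → {y : G // ∃ m ∈ M, m * x * m⁻¹ = y} :=
    Quotient.lift (fun m : ↥M => (⟨(m : G) * x * (m : G)⁻¹, (m : G), m.2, rfl⟩ :
      {y : G // ∃ m ∈ M, m * x * m⁻¹ = y})) (by
      intro a c hac
      have hac' : a⁻¹ * c ∈ C.subgroupOf M := QuotientGroup.leftRel_apply.1 hac
      rw [Subgroup.mem_subgroupOf, hCdef, Subgroup.mem_centralizer_singleton_iff] at hac'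
      apply Subtype.ext
      show (a : G) * x * (a : G)⁻¹ = (c : G) * x * (c : G)⁻¹
      have hac'' : (a : G)⁻¹ * (c : G) * x = x * ((a : G)⁻¹ * (c : G)) := by
        simpa using hac'
      calc (a : G) * x * (a : G)⁻¹ = (a : G) * (x * ((a : G)⁻¹ * (c : G))) * (c : G)⁻¹ := by group
        _ = (a : G) * ((a : G)⁻¹ * (c : G) * x) * (c : G)⁻¹ := by rw [hac'']
        _ = (c : G) * x * (c : G)⁻¹ := by group)
  apply Nat.card_congr
  refine Equiv.ofBijective f ⟨?_, ?_⟩
  · intro A B
    refine Quotient.inductionOn₂ A B ?_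
    intro a c hfa
    apply Quotient.sound
    show QuotientGroup.leftRel _ a c
    rw [QuotientGroup.leftRel_apply, Subgroup.mem_subgroupOf, hCdef,
      Subgroup.mem_centralizer_singleton_iff]
    have h3 : (a : G) * x * (a : G)⁻¹ = (c : G) * x * (c : G)⁻¹ := congrArg Subtype.val hfa
    show ((a⁻¹ * c : ↥M) : G) * x = x * ((a⁻¹ * c : ↥M) : G)
    push_cast
    calc (a : G)⁻¹ * (c : G) * x = (a : G)⁻¹ * ((c : G) * x * (c : G)⁻¹) * (c : G) := by group
      _ = (a : G)⁻¹ * ((a : G) * x * (a : G)⁻¹) * (c : G) := by rw [h3]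
      _ = x * ((a : G)⁻¹ * (c : G)) := by group
  · rintro ⟨y, m, hm, rfl⟩
    exact ⟨QuotientGroup.mk (⟨m, hm⟩ : ↥M), rfl⟩




/-- Elements of `D ⊔ ⟨u⟩`, `u` an involution inverting `D`, lie in `D ∪ D u`. -/
theorem mem_or_mul_mem_of_mem_sup_zpowers {D : Subgroup G} {u : G} (hu2 : u * u = 1)
    (hinv : ∀ d ∈ D, u * d * u⁻¹ = d⁻¹) {g : G} (hg : g ∈ D ⊔ Subgroup.zpowers u) :
    g ∈ D ∨ g * u ∈ D := by
  have huinv : u⁻¹ = u := inv_eq_of_mul_eq_one_right hu2
  have hinv' : ∀ d ∈ D, u * d * u = d⁻¹ := by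
    intro d hd
    have := hinv d hd
    rwa [huinv] at this
  let S : Subgroup G :=
    { carrier := {g | g ∈ D ∨ g * u ∈ D}
      one_mem' := Or.inl D.one_mem
      mul_mem' := by
        rintro a c (ha | ha) (hc | hc)
        · exact Or.inl (D.mul_mem ha hc)
        · right
          have : a * c * u = a * (c * u) := by group
          rw [this]
          exact D.mul_mem ha hc
        · right
          have h1 : a * c * u = (a * u) * (u * c * u) := by
            calc a * c * u = a * (u * u) * c * u := by rw [hu2, mul_one]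
              _ = (a * u) * (u * c * u) := by group
          rw [h1, hinv' c hc]
          exact D.mul_mem ha (D.inv_mem hc)
        · left
          have h1 : a * c = (a * u) * (c * u)⁻¹ := by
            have h2 : (c * u)⁻¹ = u * (c * u) * u := by
              rw [← hinv' (c * u) hc]
            calc a * c = a * (u * u) * c * (u * u) := by rw [hu2, mul_one, mul_one]
              _ = (a * u) * (u * (c * u) * u) := by group
              _ = (a * u) * (c * u)⁻¹ := by rw [h2]
          rw [h1]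
          exact D.mul_mem ha (D.inv_mem hc)
      inv_mem' := by
        rintro a (ha | ha)
        · exact Or.inl (D.inv_mem ha)
        · right
          have h1 : a⁻¹ * u = a * u := by
            calc a⁻¹ * u = a⁻¹ * u⁻¹ := by rw [huinv]
              _ = (u * u)⁻¹ * a⁻¹ * u⁻¹ := by rw [hu2]; group
              _ = (u * (a * u) * u)⁻¹ := by group
              _ = ((a * u)⁻¹)⁻¹ := by rw [hinv' _ ha]
              _ = a * u := inv_inv _
          rw [h1]
          exact ha }
  have hDS : D ≤ S := fun d hd => Or.inl hd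
  have huS : Subgroup.zpowers u ≤ S := by
    rw [Subgroup.zpowers_le]
    right
    rw [hu2]
    exact D.one_mem
  exact (sup_le hDS huS) hg

/-- An odd-order element of `D ⊔ ⟨u⟩` lies in `D`. -/
theorem mem_of_mem_sup_zpowers_of_odd {D : Subgroup G} {u : G} (hu2 : u * u = 1)
    (hinv : ∀ d ∈ D, u * d * u⁻¹ = d⁻¹) {g : G} (hg : g ∈ D ⊔ Subgroup.zpowers u)
    (hodd : Odd (orderOf g)) : g ∈ D := by
  rcases mem_or_mul_mem_of_mem_sup_zpowers hu2 hinv hg with h | h
  · exact h
  · have huinv : u⁻¹ = u := inv_eq_of_mul_eq_one_right hu2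
    have h1 : u * (g * u) * u = (g * u)⁻¹ := by
      have := hinv _ h
      rwa [huinv] at this
    have hsq : g ^ 2 = 1 := by
      have h2 : (g * u) * (u * (g * u) * u) = 1 := by rw [h1]; group
      calc g ^ 2 = g * (u * u) * g * (u * u) := by rw [hu2, pow_two, mul_one, mul_one]
        _ = (g * u) * (u * (g * u) * u) := by group
        _ = 1 := h2
    have hdvd : orderOf g ∣ 2 := orderOf_dvd_of_pow_eq_one hsq
    have h1' : orderOf g = 1 := by
      rcases (Nat.dvd_prime Nat.prime_two).1 hdvd with h3 | h3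
      · exact h3
      · rw [h3] at hodd
        exact absurd hodd (by decide)
    rw [orderOf_eq_one_iff] at h1'
    rw [h1']
    exact D.one_mem

/-- If `C(c w c⁻¹) = C(w)` then `c` normalizes `C(w)`. -/
theorem mem_normalizer_centralizer_of_conj {w c : G}
    (hc : Subgroup.centralizer ({c * w * c⁻¹} : Set G) = Subgroup.centralizer ({w} : Set G)) :
    c ∈ Subgroup.normalizer ((Subgroup.centralizer ({w} : Set G) : Subgroup G) : Set G) := by
  rw [Subgroup.mem_normalizer_iff]
  intro a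
  constructor
  · intro ha
    rw [← hc]
    rw [Subgroup.mem_centralizer_singleton_iff] at ha ⊢
    calc c * a * c⁻¹ * (c * w * c⁻¹) = c * (a * w) * c⁻¹ := by group
      _ = c * (w * a) * c⁻¹ := by rw [ha]
      _ = c * w * c⁻¹ * (c * a * c⁻¹) := by group
  · intro ha
    rw [← hc] at ha
    rw [Subgroup.mem_centralizer_singleton_iff] at ha ⊢
    calc a * w = c⁻¹ * (c * a * c⁻¹ * (c * w * c⁻¹)) * c := by group
      _ = c⁻¹ * (c * w * c⁻¹ * (c * a * c⁻¹)) * c := by rw [ha]
      _ = w * a := by group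

/-- An odd power of an element inverting `x` inverts `x`. -/
theorem conj_pow_odd_of_inverts {g x : G} (hg : g * x * g⁻¹ = x⁻¹) (n : ℕ) :
    g ^ (2 * n + 1) * x * (g ^ (2 * n + 1))⁻¹ = x⁻¹ := by
  have h2 : Commute (g ^ 2) x := by
    show g ^ 2 * x = x * g ^ 2
    have hx : x = g * x⁻¹ * g⁻¹ := by
      have : g * x⁻¹ * g⁻¹ = (g * x * g⁻¹)⁻¹ := by group
      rw [this, hg, inv_inv]
    rw [pow_two]
    calc g * g * x = g * (g * x * g⁻¹) * g⁻¹ * (g * g) := by group
      _ = g * x⁻¹ * g⁻¹ * (g * g) := by rw [hg]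
      _ = x * (g * g) := by rw [← hx]
  have h3 : Commute (g ^ (2 * n)) x := by
    rw [pow_mul]
    exact h2.pow_left n
  calc g ^ (2 * n + 1) * x * (g ^ (2 * n + 1))⁻¹
      = g ^ (2 * n) * (g * x * g⁻¹) * (g ^ (2 * n))⁻¹ := by rw [pow_succ]; group
    _ = g ^ (2 * n) * x⁻¹ * (g ^ (2 * n))⁻¹ := by rw [hg]
    _ = x⁻¹ := by
      have := h3.inv_right
      rw [this.eq]; group

end general

section bsw

variable {G : Type*} [Group G] {t s : G} {K : Subgroup G}

open Cfsg.Agent.Lib.Helper84.BSWOuter Cfsg.Agent.Lib.Helper84.BSWReal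

/-- `g²` centralizes `x` if `g` inverts `x`. -/
theorem sq_mem_centralizer_of_inverts {g x : G} (hg : g * x * g⁻¹ = x⁻¹) :
    g ^ 2 ∈ Subgroup.centralizer ({x} : Set G) := by
  rw [Subgroup.mem_centralizer_singleton_iff]
  have hx : x = g * x⁻¹ * g⁻¹ := by
    have : g * x⁻¹ * g⁻¹ = (g * x * g⁻¹)⁻¹ := by group
    rw [this, hg, inv_inv]
  rw [pow_two]
  calc g * g * x = g * (g * x * g⁻¹) * g⁻¹ * (g * g) := by group
    _ = g * x⁻¹ * g⁻¹ * (g * g) := by rw [hg]
    _ = x * (g * g) := by rw [← hx]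

/-- The order of `G` in the case `δ = -1`, with `|K| = e + 1`. -/
theorem card_G_neg [Finite G] {Χ : G → ℂ} (p : PartI K (-1) Χ) {e : ℕ}
    (he : Nat.card K = e + 1) : Nat.card G = 2 * (e + 1) * (2 * e + 1) * e := by
  have h1 := p.hcard
  rw [he] at h1
  zify
  rw [h1]
  push_cast
  ring

theorem rinv_eq_neg {Χ : G → ℂ} (p : PartI K (-1) Χ) {x : G} (hx : IsOuter K x) :
    (rinv x : ℂ) = ((Nat.card K : ℂ) - 1) * Χ x := by
  have h1 := p.hout x hx
  rwa [if_neg (by norm_num)] at h1

/-- No involution inverts an outer element with `Χ x = 0`. -/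
theorem no_invol_inverts [Finite G] {Χ : G → ℂ} (p : PartI K (-1) Χ) {x : G} (hx : IsOuter K x)
    (hΧ : Χ x = 0) {u : G} (hu : orderOf u = 2) (hux : u * x * u⁻¹ = x⁻¹) : False := by
  have h0 : (rinv x : ℂ) = 0 := by rw [rinv_eq_neg p hx, hΧ, mul_zero]
  have h1 : rinv x = 0 := by exact_mod_cast h0
  unfold rinv at h1
  have : Nonempty {u : G // orderOf u = 2 ∧ u * x * u⁻¹ = x⁻¹} := ⟨⟨u, hu, hux⟩⟩
  exact (Nat.card_pos (α := {u : G // orderOf u = 2 ∧ u * x * u⁻¹ = x⁻¹})).ne' h1

/-- An outer element with `Χ x = 0` is not conjugate to its inverse. -/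
theorem not_isConj_inv [Finite G] (h : Hyp t s K) {Χ : G → ℂ} (p : PartI K (-1) Χ) {x : G}
    (hx : IsOuter K x) (hΧ : Χ x = 0) {n : ℕ}
    (hq : Nat.card (Subgroup.centralizer ({x} : Set G)) = 2 * n + 1) : ¬ IsConj x x⁻¹ := by
  intro hc
  obtain ⟨g, hg⟩ := isConj_iff.1 hc
  have hw : g ^ (2 * n + 1) * x * (g ^ (2 * n + 1))⁻¹ = x⁻¹ := conj_pow_odd_of_inverts hg n
  have hg2 : g ^ 2 ∈ Subgroup.centralizer ({x} : Set G) := sq_mem_centralizer_of_inverts hg
  have hw2 : (g ^ (2 * n + 1)) ^ 2 = 1 := by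
    have h1 : (⟨g ^ 2, hg2⟩ : Subgroup.centralizer ({x} : Set G)) ^
        Nat.card (Subgroup.centralizer ({x} : Set G)) = 1 := pow_card_eq_one'
    rw [hq] at h1
    have h2 := congrArg Subtype.val h1
    simp only [Subgroup.coe_pow, Subgroup.coe_one] at h2
    rw [← pow_mul, mul_comm, pow_mul]
    exact h2
  have hw1 : g ^ (2 * n + 1) ≠ 1 := by
    intro h1
    rw [h1] at hw
    apply outer_sq_ne_one h hx
    have h2 : x = x⁻¹ := by simpa using hw
    rw [pow_two]
    nth_rewrite 2 [h2]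
    exact mul_inv_cancel x
  exact no_invol_inverts p hx hΧ (orderOf_eq_prime hw2 hw1) hw

/-- For an outer element with `Χ w = 1`: some involution inverts it and `|C(w)| = |K| - 1`. -/
theorem real_data [Finite G] (h : Hyp t s K) (b : Basic t s K) {Χ : G → ℂ} (p : PartI K (-1) Χ)
    {e : ℕ} (he : Nat.card K = e + 1) (he0 : e ≠ 0) {w : G} (hw : IsOuter K w) (hΧ : Χ w = 1) :
    ∃ u : G, orderOf u = 2 ∧ u * w * u⁻¹ = w⁻¹ ∧
      Nat.card (Subgroup.centralizer ({w} : Set G)) = e := by
  have h0 : (rinv w : ℂ) = (e : ℂ) := by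
    rw [rinv_eq_neg p hw, hΧ, he]
    push_cast
    ring
  have h1 : rinv w = e := by exact_mod_cast h0
  have h2 : Nat.card {u : G // orderOf u = 2 ∧ u * w * u⁻¹ = w⁻¹} ≠ 0 := by
    show rinv w ≠ 0
    rw [h1]; exact he0
  obtain ⟨⟨u, hu, hux⟩⟩ : Nonempty {u : G // orderOf u = 2 ∧ u * w * u⁻¹ = w⁻¹} :=
    (Nat.card_ne_zero.1 h2).1
  refine ⟨u, hu, hux, ?_⟩
  rw [← (real_outer h b hw hu hux).2.2, h1]

end bsw
section bsw2

variable {G : Type*} [Group G] {t s : G} {K : Subgroup G}

open Cfsg.Agent.Lib.Helper84.BSWOuter Cfsg.Agent.Lib.Helper84.BSWReal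

/-- The order of `N(C(x))` for `x` outer with `Χ x = 0`. -/
theorem card_normalizer_neg [Finite G] {Χ : G → ℂ} {x : G} {e : ℕ}
    (hx1 : x ≠ 1)
    (hQ1 : ∀ y ∈ Subgroup.centralizer ({x} : Set G), y ≠ 1 → IsOuter K y ∧ Χ y = 0)
    (hTI : ∀ y ∈ Subgroup.centralizer ({x} : Set G), y ≠ 1 →
      Subgroup.centralizer ({y} : Set G) = Subgroup.centralizer ({x} : Set G))
    (hconj : ∀ y : G, IsOuter K y → Χ y = 0 → IsConj y x ∨ IsConj y x⁻¹)
    (hnc : ¬ IsConj x x⁻¹)
    (hcard : Nat.card (Subgroup.centralizer ({x} : Set G)) = 2 * e + 1) :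
    Nat.card (Subgroup.normalizer ((Subgroup.centralizer ({x} : Set G) : Subgroup G) : Set G)) =
      e * (2 * e + 1) := by
  classical
  set Q := Subgroup.centralizer ({x} : Set G) with hQdef
  set M := Subgroup.normalizer (Q : Set G) with hMdef
  have hxQ : x ∈ Q := by rw [hQdef, Subgroup.mem_centralizer_singleton_iff]
  let A : Set G := {y | y ∈ Q ∧ IsConj x y}
  let B : Set G := {y | y ∈ Q ∧ IsConj x⁻¹ y}
  have hAB : A ∪ B = (Q : Set G) \ {1} := by
    ext y
    simp only [Set.mem_union, Set.mem_ofPred_eq, Set.mem_sdiff, SetLike.mem_coe,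
      Set.mem_singleton_iff, A, B]
    constructor
    · rintro (⟨hy, hc⟩ | ⟨hy, hc⟩)
      · refine ⟨hy, ?_⟩
        rintro rfl
        exact hx1 (isConj_one_left.1 hc)
      · refine ⟨hy, ?_⟩
        rintro rfl
        exact hx1 (inv_eq_one.1 (isConj_one_left.1 hc))
    · rintro ⟨hy, hy1⟩
      obtain ⟨ho, hz⟩ := hQ1 y hy hy1
      rcases hconj y ho hz with hc | hc
      · exact Or.inl ⟨hy, hc.symm⟩
      · exact Or.inr ⟨hy, hc.symm⟩
  have hdisj : Disjoint A B := by
    rw [Set.disjoint_left]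
    rintro y ⟨-, hc1⟩ ⟨-, hc2⟩
    exact hnc (hc1.trans hc2.symm)
  have hBA : B = Inv.inv '' A := by
    ext y
    simp only [Set.mem_ofPred_eq, Set.mem_image, A, B]
    constructor
    · rintro ⟨hy, hc⟩
      refine ⟨y⁻¹, ⟨Q.inv_mem hy, ?_⟩, inv_inv y⟩
      obtain ⟨c, hc⟩ := isConj_iff.1 hc
      rw [isConj_iff]
      refine ⟨c, ?_⟩
      rw [← hc]; group
    · rintro ⟨z, ⟨hz, hc⟩, rfl⟩
      refine ⟨Q.inv_mem hz, ?_⟩
      obtain ⟨c, hc⟩ := isConj_iff.1 hc
      rw [isConj_iff]
      refine ⟨c, ?_⟩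
      rw [← hc]; group
  have hBcard : B.ncard = A.ncard := by
    rw [hBA]
    exact Set.ncard_image_of_injective A inv_injective
  have hQn : ((Q : Set G) \ {1}).ncard = 2 * e := by
    rw [Set.ncard_sdiff_singleton_of_mem (show (1 : G) ∈ (Q : Set G) from Q.one_mem)]
    have : (Q : Set G).ncard = Nat.card Q := (Nat.card_coe_set_eq (Q : Set G)).symm
    rw [this, hcard]
    omega
  have hAcard : A.ncard = e := by
    have h1 := Set.ncard_union_eq hdisj (Set.toFinite A) (Set.toFinite B)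
    rw [hAB, hQn, hBcard] at h1
    omega
  have hAeq : {y : G | ∃ m ∈ M, m * x * m⁻¹ = y} = A := by
    ext y
    simp only [Set.mem_ofPred_eq, A]
    constructor
    · rintro ⟨m, hm, rfl⟩
      exact ⟨(Subgroup.mem_normalizer_iff.1 hm x).1 hxQ, isConj_iff.2 ⟨m, rfl⟩⟩
    · rintro ⟨hy, hc⟩
      obtain ⟨c, rfl⟩ := isConj_iff.1 hc
      refine ⟨c, ?_, rfl⟩
      have hne : c * x * c⁻¹ ≠ 1 := by
        intro h1
        apply hx1
        have : x = c⁻¹ * (c * x * c⁻¹) * c := by group
        rw [this, h1]; group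
      exact mem_normalizer_centralizer_of_conj (hTI _ hy hne)
  have h2 := card_eq_conj_mul_centralizer M x (Subgroup.le_normalizer)
  have h3 : Nat.card {y : G // ∃ m ∈ M, m * x * m⁻¹ = y} = e := by
    rw [← hAcard, ← hAeq]
    exact Nat.card_coe_set_eq _
  rw [h2, h3, hcard]

end bsw2
section bsw3

variable {G : Type*} [Group G] {t s : G} {K : Subgroup G}

open Cfsg.Agent.Lib.Helper84.BSWOuter Cfsg.Agent.Lib.Helper84.BSWReal

/-- Elements of `N(Q) ∖ Q` have order dividing `e`. -/
theorem pow_eq_one_of_mem_normalizer [Finite G] {x : G} {e : ℕ}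
    (hTI : ∀ y ∈ Subgroup.centralizer ({x} : Set G), y ≠ 1 →
      Subgroup.centralizer ({y} : Set G) = Subgroup.centralizer ({x} : Set G))
    (hcard : Nat.card (Subgroup.centralizer ({x} : Set G)) = 2 * e + 1)
    (hM : Nat.card (Subgroup.normalizer
      ((Subgroup.centralizer ({x} : Set G) : Subgroup G) : Set G)) = e * (2 * e + 1))
    {m : G} (hm : m ∈ Subgroup.normalizer
      ((Subgroup.centralizer ({x} : Set G) : Subgroup G) : Set G))
    (hmQ : m ∉ Subgroup.centralizer ({x} : Set G)) : m ^ e = 1 := by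
  set Q := Subgroup.centralizer ({x} : Set G) with hQdef
  set M := Subgroup.normalizer (Q : Set G) with hMdef
  have hQM : Q ≤ M := Subgroup.le_normalizer
  have hn : (Q.subgroupOf M).Normal := Subgroup.normal_in_normalizer
  have h1 := Subgroup.card_mul_index (Q.subgroupOf M)
  have h2 : Nat.card (Q.subgroupOf M) = Nat.card Q :=
    Nat.card_congr (Subgroup.subgroupOfEquivOfLe hQM).toEquiv
  rw [h2, hcard, hM] at h1
  have hidx : (Q.subgroupOf M).index = e := by
    have : (2 * e + 1) * (Q.subgroupOf M).index = (2 * e + 1) * e := by rw [h1, mul_comm]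
    exact Nat.eq_of_mul_eq_mul_left (by omega) this
  have h3 := Subgroup.pow_index_mem (Q.subgroupOf M) (⟨m, hm⟩ : ↥M)
  rw [hidx, Subgroup.mem_subgroupOf] at h3
  have h4 : m ^ e ∈ Q := by simpa using h3
  by_contra hne
  apply hmQ
  have h5 := hTI _ h4 hne
  rw [← h5, Subgroup.mem_centralizer_singleton_iff]
  exact ((Commute.refl m).pow_right e).eq

/-- Elements of `N(Q) ∖ Q` are outer with `Χ = 1`. -/
theorem outer_of_mem_normalizer [Finite G] {Χ : G → ℂ} {x : G} {e : ℕ}
    (he : Nat.card K = e + 1)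
    (hA : ∀ y : G, IsOuter K y → Χ y = 0 ∨ Χ y = 1)
    (hC2 : ∀ y : G, IsOuter K y → Χ y = 0 →
      Nat.card (Subgroup.centralizer ({y} : Set G)) = 2 * Nat.card K - 1)
    (hTI : ∀ y ∈ Subgroup.centralizer ({x} : Set G), y ≠ 1 →
      Subgroup.centralizer ({y} : Set G) = Subgroup.centralizer ({x} : Set G))
    (hcard : Nat.card (Subgroup.centralizer ({x} : Set G)) = 2 * e + 1)
    (hM : Nat.card (Subgroup.normalizer
      ((Subgroup.centralizer ({x} : Set G) : Subgroup G) : Set G)) = e * (2 * e + 1))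
    {m : G} (hm : m ∈ Subgroup.normalizer
      ((Subgroup.centralizer ({x} : Set G) : Subgroup G) : Set G))
    (hmQ : m ∉ Subgroup.centralizer ({x} : Set G)) : IsOuter K m ∧ Χ m = 1 := by
  have hme : m ^ e = 1 := pow_eq_one_of_mem_normalizer hTI hcard hM hm hmQ
  have hm1 : m ≠ 1 := by
    rintro rfl
    exact hmQ (Subgroup.one_mem _)
  have hout : IsOuter K m := by
    intro g hg
    have h1 : (⟨g * m * g⁻¹, hg⟩ : ↥K) ^ Nat.card K = 1 := pow_card_eq_one'
    have h2 := congrArg Subtype.val h1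
    simp only [Subgroup.coe_pow, Subgroup.coe_one] at h2
    rw [he, conj_pow] at h2
    have h3 : m ^ (e + 1) = 1 := by
      have : m ^ (e + 1) = g⁻¹ * (g * m ^ (e + 1) * g⁻¹) * g := by group
      rw [this, h2]; group
    rw [pow_succ, hme, one_mul] at h3
    exact hm1 h3
  refine ⟨hout, ?_⟩
  rcases hA m hout with h0 | h1
  · exfalso
    have h2 := hC2 m hout h0
    have hmC : m ∈ Subgroup.centralizer ({m} : Set G) := by
      rw [Subgroup.mem_centralizer_singleton_iff]
    have h3 : (⟨m, hmC⟩ : ↥(Subgroup.centralizer ({m} : Set G))) ^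
        Nat.card (Subgroup.centralizer ({m} : Set G)) = 1 := pow_card_eq_one'
    have h4 := congrArg Subtype.val h3
    simp only [Subgroup.coe_pow, Subgroup.coe_one] at h4
    rw [h2, he] at h4
    have h5 : 2 * (e + 1) - 1 = e * 2 + 1 := by omega
    rw [h5, pow_succ, pow_mul, hme, one_pow, one_mul] at h4
    exact hm1 h4
  · exact h1

end bsw3
section bsw4

variable {G : Type*} [Group G] {t s : G} {K : Subgroup G}

open Cfsg.Agent.Lib.Helper84.BSWOuter Cfsg.Agent.Lib.Helper84.BSWReal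

/-- Data for an outer `w` with `Χ w = 1`: `C(w)` is abelian of order `e`, a T.I. set, and contains
the odd-order elements of its normalizer. -/
theorem D_data [Finite G] (h : Hyp t s K) (b : Basic t s K) {Χ : G → ℂ} (p : PartI K (-1) Χ)
    {e : ℕ} (he : Nat.card K = e + 1) (he0 : e ≠ 0)
    (hB : ∀ {x₁ u : G}, IsOuter K x₁ → orderOf u = 2 → u * x₁ * u⁻¹ = x₁⁻¹ →
      Nat.card (Subgroup.centralizer ({x₁} : Set G)) + 1 = Nat.card K →
      Subgroup.normalizer ((Subgroup.centralizer ({x₁} : Set G) : Subgroup G) : Set G) =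
        Subgroup.centralizer ({x₁} : Set G) ⊔ Subgroup.zpowers u)
    {w : G} (hw : IsOuter K w) (hΧ : Χ w = 1) :
    Nat.card (Subgroup.centralizer ({w} : Set G)) = e ∧
    (∀ c ∈ Subgroup.centralizer ({w} : Set G), ∀ d ∈ Subgroup.centralizer ({w} : Set G),
      c * d = d * c) ∧
    (∀ y ∈ Subgroup.centralizer ({w} : Set G), y ≠ 1 →
      Subgroup.centralizer ({y} : Set G) = Subgroup.centralizer ({w} : Set G)) ∧
    (∀ g ∈ Subgroup.normalizer ((Subgroup.centralizer ({w} : Set G) : Subgroup G) : Set G),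
      Odd (orderOf g) → g ∈ Subgroup.centralizer ({w} : Set G)) := by
  obtain ⟨u, hu, hux, hcard⟩ := real_data h b p he he0 hw hΧ
  obtain ⟨hinv, hcomm⟩ := inverts_and_comm h b hw hu hux
  have hTI := (real_outer h b hw hu hux).2.1
  have hN := hB hw hu hux (by rw [hcard, he])
  have hu2 : u * u = 1 := by rw [← pow_two, ← hu, pow_orderOf_eq_one]
  refine ⟨hcard, hcomm, hTI, ?_⟩
  intro g hg hodd
  rw [hN] at hg
  exact mem_of_mem_sup_zpowers_of_odd hu2 hinv hg hodd

/-- Burnside's condition for the Sylow `l`-subgroups (`l ∣ e`) of `M = N(Q)`. -/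
theorem burnside_cond [Finite G] {Χ : G → ℂ} (Q M : Subgroup G) {e : ℕ}
    (hcard : Nat.card Q = 2 * e + 1)
    (hModd : Odd (Nat.card M))
    (hOut : ∀ m ∈ M, m ∉ Q → IsOuter K m ∧ Χ m = 1)
    (hD : ∀ w : G, IsOuter K w → Χ w = 1 →
      (∀ c ∈ Subgroup.centralizer ({w} : Set G), ∀ d ∈ Subgroup.centralizer ({w} : Set G),
        c * d = d * c) ∧
      (∀ y ∈ Subgroup.centralizer ({w} : Set G), y ≠ 1 →
        Subgroup.centralizer ({y} : Set G) = Subgroup.centralizer ({w} : Set G)) ∧
      (∀ g ∈ Subgroup.normalizer ((Subgroup.centralizer ({w} : Set G) : Subgroup G) : Set G),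
        Odd (orderOf g) → g ∈ Subgroup.centralizer ({w} : Set G)))
    (l : ℕ) [Fact l.Prime] (hl : l ∣ e) (P : Sylow l ↥M) :
    Subgroup.normalizer (P : Set ↥M) ≤ Subgroup.centralizer (P : Set ↥M) := by
  classical
  intro n hn
  rw [Subgroup.mem_centralizer_iff]
  intro a ha
  by_cases hPbot : (P : Subgroup ↥M) = ⊥
  · have ha' : a ∈ (P : Subgroup ↥M) := ha
    rw [hPbot, Subgroup.mem_bot] at ha'
    rw [ha', one_mul, mul_one]
  · have hPp : IsPGroup l (P : Subgroup ↥M) := P.isPGroup'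
    have : Nontrivial (P : Subgroup ↥M) := (Subgroup.nontrivial_iff_ne_bot _).2 hPbot
    have : Nontrivial (Subgroup.center ↥(P : Subgroup ↥M)) := hPp.center_nontrivial
    obtain ⟨zc, hzc⟩ := exists_ne (1 : Subgroup.center ↥(P : Subgroup ↥M))
    -- the element `z`
    set z' : ↥M := ((zc : ↥(P : Subgroup ↥M)) : ↥M) with hz'def
    set z : G := (z' : G) with hzdef
    have hz'P : z' ∈ (P : Subgroup ↥M) := (zc : ↥(P : Subgroup ↥M)).2
    have hz1 : z ≠ 1 := by
      intro h1
      apply hzc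
      apply Subtype.ext
      apply Subtype.ext
      apply Subtype.ext
      exact h1
    -- elements of `P` commute with `z`
    have hcen : ∀ a' : ↥M, a' ∈ (P : Subgroup ↥M) → (a' : G) * z = z * (a' : G) := by
      intro a' ha'
      have h1 := Subgroup.mem_center_iff.1 zc.2 ⟨a', ha'⟩
      have h2 := congrArg (fun y : ↥(P : Subgroup ↥M) => ((y : ↥M) : G)) h1
      exact h2
    -- `z ∉ Q`
    have hzQ : z ∉ Q := by
      intro hzQ
      obtain ⟨j, hj⟩ := hPp ⟨z', hz'P⟩
      have hj' : z ^ (l ^ j) = 1 := by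
        have := congrArg (fun y : ↥(P : Subgroup ↥M) => ((y : ↥M) : G)) hj
        simpa using this
      have hq : z ^ (2 * e + 1) = 1 := by
        have h1 : (⟨z, hzQ⟩ : ↥Q) ^ Nat.card Q = 1 := pow_card_eq_one'
        have h2 := congrArg Subtype.val h1
        simp only [Subgroup.coe_pow, Subgroup.coe_one] at h2
        rwa [hcard] at h2
      have hcop : Nat.Coprime (l ^ j) (2 * e + 1) := by
        apply Nat.Coprime.pow_left
        obtain ⟨c, hc⟩ := hl
        rw [hc]
        have : 2 * (l * c) + 1 = l * (2 * c) + 1 := by ring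
        rw [this]
        simp
      exact hz1 ((pow_eq_one_iff_of_coprime hcop).1 ⟨hj', hq⟩)
    obtain ⟨hzout, hzΧ⟩ := hOut z z'.2 hzQ
    obtain ⟨hcomm, hTI, hoddD⟩ := hD z hzout hzΧ
    -- `n` normalizes `C(z)`
    have hnz : n * z' * n⁻¹ ∈ (P : Subgroup ↥M) := (Subgroup.mem_normalizer_iff.1 hn z').1 hz'P
    have hy : (n : G) * z * (n : G)⁻¹ ∈ Subgroup.centralizer ({z} : Set G) := by
      rw [Subgroup.mem_centralizer_singleton_iff]
      have h1 := hcen _ hnz
      have h2 : ((n * z' * n⁻¹ : ↥M) : G) = (n : G) * z * (n : G)⁻¹ := by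
        rw [hzdef]; push_cast; rfl
      rw [h2] at h1
      exact h1
    have hy1 : (n : G) * z * (n : G)⁻¹ ≠ 1 := by
      intro h1
      apply hz1
      have : z = (n : G)⁻¹ * ((n : G) * z * (n : G)⁻¹) * (n : G) := by group
      rw [this, h1]; group
    have hnN := mem_normalizer_centralizer_of_conj (hTI _ hy hy1)
    have hnodd : Odd (orderOf (n : G)) := by
      have h1 : orderOf (n : G) ∣ Nat.card M := by
        rw [Subgroup.orderOf_coe]
        exact orderOf_dvd_natCard n
      exact hModd.of_dvd_nat h1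
    have hnD := hoddD _ hnN hnodd
    have haD : (a : G) ∈ Subgroup.centralizer ({z} : Set G) := by
      rw [Subgroup.mem_centralizer_singleton_iff]
      exact hcen a ha
    apply Subtype.ext
    exact hcomm _ haD _ hnD

end bsw4
section bsw5

variable {G : Type*} [Group G] {t s : G} {K : Subgroup G}

open Cfsg.Agent.Lib.Helper84.BSWOuter Cfsg.Agent.Lib.Helper84.BSWReal

/-- [F2g], with the other modules of the case `δ = -1` as hypotheses. -/
theorem neg_normalizer_aux [Finite G] (h : Hyp t s K) (b : Basic t s K) (hk : 4 ≤ Nat.card K)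
    {Χ : G → ℂ} (p : PartI K (-1) Χ)
    (hA : ∀ y : G, IsOuter K y → Χ y = 0 ∨ Χ y = 1)
    (hC1 : ∀ x : G, IsOuter K x → Χ x = 0 → ∀ y ∈ Subgroup.centralizer ({x} : Set G), y ≠ 1 →
      IsOuter K y ∧ Χ y = 0)
    (hC2 : ∀ x : G, IsOuter K x → Χ x = 0 →
      Nat.card (Subgroup.centralizer ({x} : Set G)) = 2 * Nat.card K - 1)
    (hC3 : ∀ x y : G, IsOuter K x → Χ x = 0 → IsOuter K y → Χ y = 0 →
      IsConj y x ∨ IsConj y x⁻¹)
    (hF : ∀ x : G, IsOuter K x → Χ x = 0 → ∀ y ∈ Subgroup.centralizer ({x} : Set G), y ≠ 1 →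
      Subgroup.centralizer ({y} : Set G) = Subgroup.centralizer ({x} : Set G))
    (hB : ∀ {x₁ u : G}, IsOuter K x₁ → orderOf u = 2 → u * x₁ * u⁻¹ = x₁⁻¹ →
      Nat.card (Subgroup.centralizer ({x₁} : Set G)) + 1 = Nat.card K →
      Subgroup.normalizer ((Subgroup.centralizer ({x₁} : Set G) : Subgroup G) : Set G) =
        Subgroup.centralizer ({x₁} : Set G) ⊔ Subgroup.zpowers u)
    {x : G} (hx : IsOuter K x) (hΧ : Χ x = 0) :
    ∃ w : G, IsOuter K w ∧ Χ w = 1 ∧
      Subgroup.normalizer ((Subgroup.centralizer ({x} : Set G) : Subgroup G) : Set G) =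
        Subgroup.centralizer ({x} : Set G) ⊔ Subgroup.centralizer ({w} : Set G) := by
  classical
  obtain ⟨e, he⟩ : ∃ e, Nat.card K = e + 1 := ⟨Nat.card K - 1, by omega⟩
  have he3 : 3 ≤ e := by omega
  have heodd : Odd e := by
    have h1 := b.even_K
    rw [he, Nat.even_add_one, Nat.not_even_iff_odd] at h1
    exact h1
  have hx1 : x ≠ 1 := by
    rintro rfl
    apply hx 1
    simp
  have hcard : Nat.card (Subgroup.centralizer ({x} : Set G)) = 2 * e + 1 := by
    rw [hC2 x hx hΧ, he]; omega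
  have hnc := not_isConj_inv h p hx hΧ hcard
  have hM := card_normalizer_neg hx1 (hC1 x hx hΧ) (hF x hx hΧ)
    (fun y hy hy0 => hC3 x y hx hΧ hy hy0) hnc hcard
  have hModd : Odd (Nat.card (Subgroup.normalizer
      ((Subgroup.centralizer ({x} : Set G) : Subgroup G) : Set G))) := by
    rw [hM]
    exact heodd.mul ⟨e, rfl⟩
  have hOut : ∀ m ∈ Subgroup.normalizer
      ((Subgroup.centralizer ({x} : Set G) : Subgroup G) : Set G),
      m ∉ Subgroup.centralizer ({x} : Set G) → IsOuter K m ∧ Χ m = 1 :=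
    fun m hm hmQ => outer_of_mem_normalizer he hA hC2 (hF x hx hΧ) hcard hM hm hmQ
  have hD := fun (w : G) (hw : IsOuter K w) (hw1 : Χ w = 1) =>
    D_data h b p he (by omega) hB hw hw1
  have hcop := card_commutator_coprime (H := ↥(Subgroup.normalizer
      ((Subgroup.centralizer ({x} : Set G) : Subgroup G) : Set G))) e
    (fun l _ hl P => burnside_cond _ _ hcard hModd hOut (fun w hw hw1 => (hD w hw hw1).2) l hl P)
  have hdvd : Nat.card (commutator ↥(Subgroup.normalizer
      ((Subgroup.centralizer ({x} : Set G) : Subgroup G) : Set G))) ∣ 2 * e + 1 := by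
    have h1 := Subgroup.card_subgroup_dvd_card (commutator ↥(Subgroup.normalizer
      ((Subgroup.centralizer ({x} : Set G) : Subgroup G) : Set G)))
    rw [hM] at h1
    exact hcop.dvd_of_dvd_mul_left h1
  have hle := Nat.le_of_dvd (by omega) hdvd
  -- an element of `M ∖ Q`
  obtain ⟨z, hzM, hzQ⟩ : ∃ z ∈ Subgroup.normalizer
      ((Subgroup.centralizer ({x} : Set G) : Subgroup G) : Set G),
      z ∉ Subgroup.centralizer ({x} : Set G) := by
    by_contra hcon
    have h1 : Subgroup.normalizer ((Subgroup.centralizer ({x} : Set G) : Subgroup G) : Set G) ≤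
        Subgroup.centralizer ({x} : Set G) := by
      intro m hm
      by_contra hmQ
      exact hcon ⟨m, hm, hmQ⟩
    have h2 := Subgroup.card_le_of_le h1
    rw [hM, hcard] at h2
    nlinarith
  obtain ⟨hzout, hzΧ⟩ := hOut z hzM hzQ
  obtain ⟨hDcard, hDcomm, hDTI, hDodd⟩ := hD z hzout hzΧ
  -- the centralizer of `z` in `M` has order at least `e`
  have h1 := index_centralizer_le_card_commutator (⟨z, hzM⟩ : ↥(Subgroup.normalizer
      ((Subgroup.centralizer ({x} : Set G) : Subgroup G) : Set G)))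
  have h2 := Subgroup.card_mul_index (Subgroup.centralizer ({(⟨z, hzM⟩ : ↥(Subgroup.normalizer
      ((Subgroup.centralizer ({x} : Set G) : Subgroup G) : Set G)))} : Set _))
  rw [hM] at h2
  have h3 : e ≤ Nat.card (Subgroup.centralizer ({(⟨z, hzM⟩ : ↥(Subgroup.normalizer
      ((Subgroup.centralizer ({x} : Set G) : Subgroup G) : Set G)))} : Set _)) := by
    have h4 := h1.trans hle
    have h5 : e * (2 * e + 1) ≤ Nat.card (Subgroup.centralizer
        ({(⟨z, hzM⟩ : ↥(Subgroup.normalizer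
          ((Subgroup.centralizer ({x} : Set G) : Subgroup G) : Set G)))} : Set _)) *
        (2 * e + 1) := by
      rw [← h2]
      exact Nat.mul_le_mul_left _ h4
    exact Nat.le_of_mul_le_mul_right h5 (by omega)
  let f : ↥(Subgroup.centralizer ({(⟨z, hzM⟩ : ↥(Subgroup.normalizer
      ((Subgroup.centralizer ({x} : Set G) : Subgroup G) : Set G)))} : Set _)) →
      ↥(Subgroup.centralizer ({z} : Set G)) := fun c => ⟨((c : ↥(Subgroup.normalizer
      ((Subgroup.centralizer ({x} : Set G) : Subgroup G) : Set G))) : G), by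
        have hc := Subgroup.mem_centralizer_singleton_iff.1 c.2
        rw [Subgroup.mem_centralizer_singleton_iff]
        exact congrArg Subtype.val hc⟩
  have hf : Function.Injective f := by
    intro c d hcd
    apply Subtype.ext
    apply Subtype.ext
    exact congrArg (fun y : ↥(Subgroup.centralizer ({z} : Set G)) => (y : G)) hcd
  have hbij : Function.Bijective f :=
    hf.bijective_of_nat_card_le (by rw [hDcard]; exact h3)
  have hDM : Subgroup.centralizer ({z} : Set G) ≤ Subgroup.normalizer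
      ((Subgroup.centralizer ({x} : Set G) : Subgroup G) : Set G) := by
    intro d hd
    obtain ⟨c, hc⟩ := hbij.2 ⟨d, hd⟩
    have h4 : ((c : ↥(Subgroup.normalizer
      ((Subgroup.centralizer ({x} : Set G) : Subgroup G) : Set G))) : G) = d :=
      congrArg Subtype.val hc
    rw [← h4]
    exact (c : ↥(Subgroup.normalizer
      ((Subgroup.centralizer ({x} : Set G) : Subgroup G) : Set G))).2
  refine ⟨z, hzout, hzΧ, ?_⟩
  symm
  apply Subgroup.eq_of_le_of_card_ge (sup_le Subgroup.le_normalizer hDM)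
  have d1 : Nat.card (Subgroup.centralizer ({x} : Set G)) ∣
      Nat.card ↥(Subgroup.centralizer ({x} : Set G) ⊔ Subgroup.centralizer ({z} : Set G)) :=
    Subgroup.card_dvd_of_le le_sup_left
  have d2 : Nat.card (Subgroup.centralizer ({z} : Set G)) ∣
      Nat.card ↥(Subgroup.centralizer ({x} : Set G) ⊔ Subgroup.centralizer ({z} : Set G)) :=
    Subgroup.card_dvd_of_le le_sup_right
  rw [hcard] at d1
  rw [hDcard] at d2
  have hcop2 : Nat.Coprime (2 * e + 1) e := by simp
  have h6 := hcop2.mul_dvd_of_dvd_of_dvd d1 d2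
  rw [hM, mul_comm]
  exact Nat.le_of_dvd Nat.card_pos h6

end bsw5
section final

variable {G : Type*} [Group G] {t s : G} {K : Subgroup G}

/-- **[F2g]** (statement verbatim from helper30's board post #3833). -/
theorem neg_normalizer [Finite G] (h : Hyp t s K) (b : Basic t s K) (hk : 4 ≤ Nat.card K)
    {Χ : G → ℂ} (p : PartI K (-1) Χ) {x : G} (hx : IsOuter K x) (hΧ : Χ x = 0) :
    ∃ w : G, IsOuter K w ∧ Χ w = 1 ∧
      Subgroup.normalizer ((Subgroup.centralizer ({x} : Set G) : Subgroup G) : Set G) =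
        Subgroup.centralizer ({x} : Set G) ⊔ Subgroup.centralizer ({w} : Set G) := by
  obtain ⟨hA, -, -⟩ := Cfsg.Agent.Lib.Helper51.BSW.neg_values h b hk p
  obtain ⟨hC1, hC2, hC3⟩ := Cfsg.Agent.Lib.Helper26.BSWF2c.neg_nonreal h b hk p
  have hF := Cfsg.Agent.Lib.Helper62.BSW.neg_TI h b hk p
  exact neg_normalizer_aux h b hk p hA hC1 hC2 hC3 hF
    (fun hx₁ hu hux hc => (Cfsg.Agent.Lib.Helper45.BSW.neg_D h b hx₁ hu hux hc).1) hx hΧ

end final

end Cfsg.Agent.Lib.Helper47.BSWNegNormalizer
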