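import Mathlib
import Cfsg.Prelude.Def_LocalStructure
import Cfsg.Agent.Lib.Helper47.BasicProperty
import Cfsg.Agent.S2824

/-!
# Existence of subgroups with the basic property (helper47)
-/

set_option autoImplicit false

namespace Cfsg.Agent.Lib.Helper47

open Cfsg
open scoped Pointwise

variable {G : Type*} [Group G]

/-- The family over which the maximal choice is made. -/
def frakK (p : ℕ) (T L : Subgroup G) : Set (Subgroup G) :=
  {K | T ≤ K ∧ K ∈ charPSubgroups p G ∧ largestPReducedOf p L ≤ largestPReducedOf p K ∧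
    ∀ l ∈ L, ∃ k ∈ K, ∃ c ∈ Subgroup.centralizer ((largestPReducedOf p L : Subgroup G) : Set G),
      l = k * c}

theorem frakK_up [Finite G] {p : ℕ} [Fact p.Prime] (T : Sylow p G) {L K X : Subgroup G}
    (hK : K ∈ frakK p (T : Subgroup G) L) (hKX : K ≤ X) (hX : X ∈ charPSubgroups p G) :
    X ∈ frakK p (T : Subgroup G) L ∧ largestPReducedOf p K ≤ largestPReducedOf p X := by
  have hmono := largestPReducedOf_mono T hK.1 hKX (charP_of_mem_charPSubgroups hX)
  refine ⟨⟨hK.1.trans hKX, hX, hK.2.2.1.trans hmono, fun l hl => ?_⟩, hmono⟩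
  obtain ⟨k, hk, c, hc, e⟩ := hK.2.2.2 l hl
  exact ⟨k, hKX hk, c, hc, e⟩

/-- Maximal choice in `frakK`. -/
theorem exists_max_frakK [Finite G] {p : ℕ} [Fact p.Prime] (T : Sylow p G) {L : Subgroup G}
    (hL : L ∈ frakK p (T : Subgroup G) L) :
    ∃ K ∈ frakK p (T : Subgroup G) L,
      (∀ X ∈ frakK p (T : Subgroup G) L, largestPReducedOf p K ≤ largestPReducedOf p X →
        largestPReducedOf p X = largestPReducedOf p K) ∧
      (∀ X ∈ frakK p (T : Subgroup G) L, K ≤ X →
        largestPReducedOf p K ≤ largestPReducedOf p X → X = K) := by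
  classical
  let f : Subgroup G → ℕ := fun K =>
    Nat.card (largestPReducedOf p K) * (Nat.card G + 1) + Nat.card K
  obtain ⟨K, hK, hKmax⟩ := Set.exists_max_image (frakK p (T : Subgroup G) L) f
    (Set.toFinite _) ⟨L, hL⟩
  have hmax1 : ∀ X ∈ frakK p (T : Subgroup G) L,
      largestPReducedOf p K ≤ largestPReducedOf p X →
      largestPReducedOf p X = largestPReducedOf p K := by
    intro X hX hle
    have h1 : f X ≤ f K := hKmax X hX
    have hc1 : Nat.card (largestPReducedOf p K) ≤ Nat.card (largestPReducedOf p X) :=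
      Subgroup.card_le_of_le hle
    have hKG : Nat.card K ≤ Nat.card G := Subgroup.card_le_card_group K
    have hc2 : Nat.card (largestPReducedOf p X) ≤ Nat.card (largestPReducedOf p K) := by
      by_contra hcon
      have hlt : Nat.card (largestPReducedOf p K) + 1 ≤ Nat.card (largestPReducedOf p X) := by
        omega
      have h2 : (Nat.card (largestPReducedOf p K) + 1) * (Nat.card G + 1) ≤
          Nat.card (largestPReducedOf p X) * (Nat.card G + 1) := Nat.mul_le_mul_right _ hlt
      simp only [f] at h1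
      nlinarith
    exact (Subgroup.eq_of_le_of_card_ge hle hc2).symm
  refine ⟨K, hK, hmax1, ?_⟩
  intro X hX hKX hle
  have hY := hmax1 X hX hle
  have h1 : f X ≤ f K := hKmax X hX
  simp only [f] at h1
  rw [hY] at h1
  have : Nat.card X ≤ Nat.card K := by omega
  exact (Subgroup.eq_of_le_of_card_ge hKX this).symm

/-- A maximal member `K` of `frakK` satisfies `K† = K` and is a maximal member of `𝓛_H`. -/
theorem frakK_max_props [Finite G] {p : ℕ} [Fact p.Prime]
    (hG : IsOfParabolicCharacteristic p G) (T : Sylow p G) {L K : Subgroup G}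
    (hK : K ∈ frakK p (T : Subgroup G) L)
    (hmax2 : ∀ X ∈ frakK p (T : Subgroup G) L, K ≤ X →
      largestPReducedOf p K ≤ largestPReducedOf p X → X = K) :
    Subgroup.centralizer ((largestPReducedOf p K : Subgroup G) : Set G) ≤ K ∧
      K ∈ maxCharPSubgroups p G := by
  constructor
  · have hd := dagger_mem_charPSubgroups hG T hK.1 hK.2.1
    have h1 := frakK_up T hK le_sup_left hd
    have h2 := hmax2 _ h1.1 le_sup_left h1.2
    calc Subgroup.centralizer ((largestPReducedOf p K : Subgroup G) : Set G)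
        ≤ K ⊔ Subgroup.centralizer ((largestPReducedOf p K : Subgroup G) : Set G) := le_sup_right
      _ = K := h2
  · refine ⟨hK.2.1, ?_⟩
    intro X hX hKX
    have h1 := frakK_up T hK hKX hX
    exact hmax2 X h1.1 hKX h1.2

/-- Minimal choice of `M`. -/
theorem exists_min_supplement [Finite G] (T K C : Subgroup G) (hTK : T ≤ K) (hCK : C ≤ K) :
    ∃ M : Subgroup G, T ≤ M ∧ M ≤ K ∧ M ⊔ C = K ∧
      ∀ M' : Subgroup G, T ≤ M' → M' ≤ M → M' ⊔ C = K → M' = M := by
  classical
  let 𝒮 : Set (Subgroup G) := {M | T ≤ M ∧ M ≤ K ∧ M ⊔ C = K}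
  have hK𝒮 : K ∈ 𝒮 := ⟨hTK, le_rfl, sup_eq_left.mpr hCK⟩
  obtain ⟨M, hM, hMmin⟩ := Set.exists_min_image 𝒮 (fun M => Nat.card M) (Set.toFinite _) ⟨K, hK𝒮⟩
  refine ⟨M, hM.1, hM.2.1, hM.2.2, ?_⟩
  intro M' hTM' hM'M hsup
  have h1 : Nat.card M ≤ Nat.card M' := hMmin M' ⟨hTM', hM'M.trans hM.2.1, hsup⟩
  exact Subgroup.eq_of_le_of_card_ge hM'M h1

/-- The subgroup `M` chosen minimally inside a maximal `K` has the basic property. -/
theorem isInFrakM_of_min [Finite G] {p : ℕ} [Fact p.Prime]
    (hG : IsOfParabolicCharacteristic p G) (T : Sylow p G) {L K M : Subgroup G}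
    (hK : K ∈ frakK p (T : Subgroup G) L)
    (hmax1 : ∀ X ∈ frakK p (T : Subgroup G) L, largestPReducedOf p K ≤ largestPReducedOf p X →
        largestPReducedOf p X = largestPReducedOf p K)
    (hCK : Subgroup.centralizer ((largestPReducedOf p K : Subgroup G) : Set G) ≤ K)
    (hKmax : K ∈ maxCharPSubgroups p G)
    (hTM : (T : Subgroup G) ≤ M) (hMK : M ≤ K)
    (hMsup : M ⊔ Subgroup.centralizer ((largestPReducedOf p K : Subgroup G) : Set G) = K)
    (hMmin : ∀ M' : Subgroup G, (T : Subgroup G) ≤ M' → M' ≤ M →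
      M' ⊔ Subgroup.centralizer ((largestPReducedOf p K : Subgroup G) : Set G) = K → M' = M) :
    IsInFrakM p M ∧ largestPReducedOf p M = largestPReducedOf p K ∧
      (∀ k ∈ K, ∃ m ∈ M, ∃ c ∈ Subgroup.centralizer ((largestPReducedOf p K : Subgroup G) : Set G),
        k = m * c) := by
  classical
  have hTK : (T : Subgroup G) ≤ K := hK.1
  have hKc := charP_of_mem_charPSubgroups hK.2.1
  set YK := largestPReducedOf p K with hYK
  set CK := Subgroup.centralizer (YK : Set G) with hCKdef
  have hOKne : pCoreOf p K ≠ ⊥ := pCoreOf_ne_bot_of_mem_charPSubgroups hK.2.1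
  have hOKM : pCoreOf p K ≤ pCoreOf p M := by
    apply le_pCoreOf ((pCoreOf_le_sylow_of_le T hTK).trans hTM) _ (pCoreOf_isPGroup p K)
    exact hMK.trans (Subgroup.le_normalizer.trans (normalizer_le_normalizer_pCoreOf p K))
  have hOMne : pCoreOf p M ≠ ⊥ := by
    intro h0
    rw [h0] at hOKM
    exact hOKne (le_bot_iff.mp hOKM)
  have hM𝓛 : M ∈ charPSubgroups p G := mem_charPSubgroups_of_parabolic hG T hTM hOMne
  have hMc := charP_of_mem_charPSubgroups hM𝓛
  have hYKM : YK ≤ largestPReducedOf p M := by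
    apply largestPReducedOf_le_of_sup_centralizer_eq T M K hTM hTK
    rw [hMsup]
    exact (sup_eq_left.mpr hCK).symm
  have hYMK : largestPReducedOf p M ≤ YK := largestPReducedOf_mono T hTM hMK hKc
  have hYeq : largestPReducedOf p M = YK := le_antisymm hYMK hYKM
  have hMd : M ⊔ Subgroup.centralizer ((largestPReducedOf p M : Subgroup G) : Set G) = K := by
    rw [hYeq]
    exact hMsup
  have hKNY : K ≤ Subgroup.normalizer (YK : Set G) := le_normalizer_largestPReducedOf p K
  have hKNC : K ≤ Subgroup.normalizer (CK : Set G) :=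
    hKNY.trans (normalizer_le_normalizer_centralizer YK)
  -- product decomposition of `K`
  have hprod : ∀ k ∈ K, ∃ m ∈ M, ∃ c ∈ CK, k = m * c := by
    intro k hk
    have hk' : k ∈ ((M ⊔ CK : Subgroup G) : Set G) := by
      rw [hMsup]
      exact hk
    rw [Subgroup.coe_mul_of_left_le_normalizer_right M CK (hMK.trans hKNC)] at hk'
    obtain ⟨m, hm, c, hc, e⟩ := hk'
    exact ⟨m, hm, c, hc, e.symm⟩
  refine ⟨⟨hM𝓛, ?_, ?_, ?_, ?_, ?_⟩, hYeq, hprod⟩
  · rw [hMd]
    exact hKmax
  · -- uniqueness
    rw [hMd]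
    intro X hX hMX
    have hTX : (T : Subgroup G) ≤ X := hTM.trans hMX
    have hXc := charP_of_mem_charPSubgroups hX.1
    have hYMX : largestPReducedOf p M ≤ largestPReducedOf p X :=
      largestPReducedOf_mono T hTM hMX hXc
    have hYKX : YK ≤ largestPReducedOf p X := by
      rw [← hYeq]
      exact hYMX
    have hXfrak : X ∈ frakK p (T : Subgroup G) L := by
      refine ⟨hTX, hX.1, hK.2.2.1.trans hYKX, fun l hl => ?_⟩
      obtain ⟨k, hk, c, hc, e⟩ := hK.2.2.2 l hl
      obtain ⟨m, hm, c', hc', e'⟩ := hprod k hk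
      refine ⟨m, hMX hm, c' * c, ?_, ?_⟩
      · exact Subgroup.mul_mem _ (Subgroup.centralizer_le hK.2.2.1 hc') hc
      · rw [e, e', mul_assoc]
    have hYX : largestPReducedOf p X = YK := hmax1 X hXfrak hYKX
    have hXd := dagger_mem_charPSubgroups hG T hTX hX.1
    have hXdX := hX.2 _ hXd le_sup_left
    have hCX : CK ≤ X := by
      have : Subgroup.centralizer ((largestPReducedOf p X : Subgroup G) : Set G) ≤ X := by
        calc Subgroup.centralizer ((largestPReducedOf p X : Subgroup G) : Set G)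
            ≤ X ⊔ Subgroup.centralizer ((largestPReducedOf p X : Subgroup G) : Set G) :=
              le_sup_right
          _ = X := hXdX
      rwa [hYX] at this
    have hKX : K ≤ X := by
      rw [← hMsup]
      exact sup_le hMX hCX
    exact hKmax.2 X hX.1 hKX
  · rw [hMd]
    exact hYeq
  all_goals
    -- common setup for (5) and (6)
    set YM := largestPReducedOf p M with hYM
    set C₀ : Subgroup G := M ⊓ Subgroup.centralizer (YM : Set G) with hC₀
    have hMNC : M ≤ Subgroup.normalizer
        ((Subgroup.centralizer (YM : Set G) : Subgroup G) : Set G) :=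
      (le_normalizer_largestPReducedOf p M).trans (normalizer_le_normalizer_centralizer YM)
    have hMC₀ : M ≤ Subgroup.normalizer (C₀ : Set G) := by
      refine le_trans ?_ Subgroup.inf_normalizer_le_normalizer_inf
      exact le_inf Subgroup.le_normalizer hMNC
    have hTnT₁ : (T : Subgroup G) ≤ Subgroup.normalizer
        ((((T : Subgroup G) ⊓ C₀ : Subgroup G)) : Set G) := by
      refine le_trans ?_ Subgroup.inf_normalizer_le_normalizer_inf
      exact le_inf Subgroup.le_normalizer (hTM.trans hMC₀)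
    have hfr := exists_mul_of_sylow_inf T hTM hMC₀
    have hC₀CK : C₀ ≤ CK := by
      rw [hC₀, hYeq]
      exact inf_le_right
    have hM₁ : M ⊓ Subgroup.normalizer ((((T : Subgroup G) ⊓ C₀ : Subgroup G)) : Set G) = M := by
      apply hMmin _ (le_inf hTM hTnT₁) inf_le_left
      apply le_antisymm
      · exact sup_le (inf_le_left.trans hMK) hCK
      · rw [← hMsup]
        apply sup_le _ le_sup_right
        intro m hm
        obtain ⟨a, ha, c, hc, e⟩ := hfr m hm
        rw [e]
        exact Subgroup.mul_mem_sup ha (hC₀CK hc.2)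
    have hMnT₁ : M ≤ Subgroup.normalizer ((((T : Subgroup G) ⊓ C₀ : Subgroup G)) : Set G) := by
      rw [← hM₁]
      exact inf_le_right
    have hT₁O : (T : Subgroup G) ⊓ C₀ = pCoreOf p M := by
      apply le_antisymm
      · exact le_pCoreOf (inf_le_left.trans hTM) hMnT₁ (T.isPGroup'.to_le inf_le_left)
      · refine le_inf (pCoreOf_le_sylow_of_le T hTM) (le_inf (pCoreOf_le p M) ?_)
        exact pCoreOf_le_centralizer_largestPReducedOf p M
  · -- (5) `C_M(Y_M)` is `p`-closed
    obtain ⟨P', hP'⟩ := exists_sylow_eq_subgroupOf_of_le_normalizer T C₀ (hTM.trans hMC₀)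
    apply isPClosed_of_normal_sylow P'
    rw [hP', ← Subgroup.inf_subgroupOf_right]
    exact Subgroup.normal_subgroupOf_of_le_normalizer (inf_le_left.trans hMnT₁)
  · -- (6) Frattini
    have hn : (C₀.subgroupOf M).Normal := Subgroup.normal_subgroupOf_of_le_normalizer hMC₀
    have htopmap : (⊤ : Subgroup ↥M).map M.subtype = M := by
      rw [← MonoidHom.range_eq_map, Subgroup.range_subtype]
    have hTmap : ((T.subtype hTM : Sylow p ↥M) : Subgroup ↥M).map M.subtype = (T : Subgroup G) := by
      rw [Sylow.coe_subtype, Subgroup.subgroupOf_map_subtype, inf_of_le_left hTM]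
    apply map_le_frattini_of_minimal (T.subtype hTM) (C₀.subgroupOf M)
    · intro X' hTX' hsup
      have hX : X'.map M.subtype = M := by
        apply hMmin
        · rw [← hTmap]
          exact Subgroup.map_mono hTX'
        · exact Subgroup.map_subtype_le X'
        · apply le_antisymm
          · exact sup_le ((Subgroup.map_subtype_le X').trans hMK) hCK
          · rw [← hMsup]
            apply sup_le _ le_sup_right
            intro m hm
            have hmem : (⟨m, hm⟩ : ↥M) ∈ C₀.subgroupOf M ⊔ X' := by rw [hsup]; trivial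
            rw [Subgroup.mem_sup_of_normal_left] at hmem
            obtain ⟨d, hd, x, hx, e⟩ := hmem
            have e' : m = (d : G) * (x : G) := by
              have := congrArg Subtype.val e
              simpa using this.symm
            rw [e', sup_comm]
            exact Subgroup.mul_mem_sup (hC₀CK (Subgroup.mem_subgroupOf.mp hd))
              (Subgroup.mem_map_of_mem M.subtype hx)
      apply Subgroup.map_injective M.subtype_injective
      rw [hX, htopmap]
    · obtain ⟨Q, hQ⟩ := exists_sylow_eq_subgroupOf_of_normal (T.subtype hTM) (C₀.subgroupOf M)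
      have h1 := Q.not_dvd_index
      have hcore : pCore p ↥M = (pCoreOf p M).subgroupOf M := by
        unfold pCoreOf Subgroup.subgroupOf
        rw [Subgroup.comap_map_eq_self_of_injective M.subtype_injective]
      have h2 : (Q : Subgroup ↥(C₀.subgroupOf M)) =
          (pCore p ↥M).subgroupOf (C₀.subgroupOf M) := by
        rw [hQ]
        ext ⟨x, hxD⟩
        have hxC : (x : G) ∈ C₀ := Subgroup.mem_subgroupOf.mp hxD
        simp only [Subgroup.mem_subgroupOf]
        rw [hcore, Sylow.coe_subtype, Subgroup.mem_subgroupOf, Subgroup.mem_subgroupOf, ← hT₁O,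
          Subgroup.mem_inf]
        tauto
      rw [h2] at h1
      exact h1

/-- **Existence of subgroups with the basic property.** In a finite group of parabolic
characteristic `p`, for every `L ∈ 𝓛_H` containing the Sylow `p`-subgroup `T` there are `M ∈ 𝔐_H`
and `L* ≤ M` in `𝓛_H`, both containing `T`, with `Y_L = Y_{L*} ≤ Y_M` and
`L C_H(Y_L) = L* C_H(Y_L)`. -/
theorem exists_frakM [Finite G] {p : ℕ} [Fact p.Prime]
    (hG : IsOfParabolicCharacteristic p G) (T : Sylow p G) (L : Subgroup G)
    (hTL : (T : Subgroup G) ≤ L) (hL : L ∈ charPSubgroups p G) :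
    ∃ M Ls : Subgroup G, (T : Subgroup G) ≤ M ∧ IsInFrakM p M ∧ (T : Subgroup G) ≤ Ls ∧ Ls ≤ M ∧
      Ls ∈ charPSubgroups p G ∧ largestPReducedOf p L = largestPReducedOf p Ls ∧
      largestPReducedOf p L ≤ largestPReducedOf p M ∧
      L ⊔ Subgroup.centralizer ((largestPReducedOf p L : Subgroup G) : Set G) =
        Ls ⊔ Subgroup.centralizer ((largestPReducedOf p L : Subgroup G) : Set G) := by
  classical
  set YL := largestPReducedOf p L with hYL
  have hL𝒦 : L ∈ frakK p (T : Subgroup G) L :=
    ⟨hTL, hL, le_rfl, fun l hl => ⟨l, hl, 1, Subgroup.one_mem _, by simp⟩⟩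
  obtain ⟨K, hK, hmax1, hmax2⟩ := exists_max_frakK T hL𝒦
  obtain ⟨hCK, hKmax⟩ := frakK_max_props hG T hK hmax2
  obtain ⟨M, hTM, hMK, hMsup, hMmin⟩ := exists_min_supplement (T : Subgroup G) K
    (Subgroup.centralizer ((largestPReducedOf p K : Subgroup G) : Set G)) hK.1 hCK
  obtain ⟨hfrak, hYeq, hprod⟩ := isInFrakM_of_min hG T hK hmax1 hCK hKmax hTM hMK hMsup hMmin
  have hM𝓛 := hfrak.1
  have hLc := charP_of_mem_charPSubgroups hL
  have hLNY : L ≤ Subgroup.normalizer (YL : Set G) := le_normalizer_largestPReducedOf p L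
  -- `M' = M ∩ L C(Y_L)`
  set M' : Subgroup G := M ⊓ (L ⊔ Subgroup.centralizer (YL : Set G)) with hM'
  have hTM' : (T : Subgroup G) ≤ M' := le_inf hTM (hTL.trans le_sup_left)
  have hfac : M' ⊔ Subgroup.centralizer (YL : Set G) = L ⊔ Subgroup.centralizer (YL : Set G) := by
    apply le_antisymm
    · exact sup_le inf_le_right le_sup_right
    · apply sup_le _ le_sup_right
      intro l hl
      obtain ⟨k, hk, c, hc, e⟩ := hK.2.2.2 l hl
      obtain ⟨m, hm, c', hc', e'⟩ := hprod k hk
      have hc'' : c' * c ∈ Subgroup.centralizer (YL : Set G) :=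
        Subgroup.mul_mem _ (Subgroup.centralizer_le hK.2.2.1 hc') hc
      have el : l = m * (c' * c) := by rw [e, e', mul_assoc]
      have hm' : m ∈ M' := by
        refine ⟨hm, ?_⟩
        have : m = l * (c' * c)⁻¹ := by rw [el]; group
        rw [this]
        exact Subgroup.mul_mem_sup hl (Subgroup.inv_mem _ hc'')
      rw [el]
      exact Subgroup.mul_mem_sup hm' hc''
  have hOMne : pCoreOf p M ≠ ⊥ := pCoreOf_ne_bot_of_mem_charPSubgroups hM𝓛
  have hOM' : pCoreOf p M ≤ pCoreOf p M' := by
    apply le_pCoreOf ((pCoreOf_le_sylow_of_le T hTM).trans hTM') _ (pCoreOf_isPGroup p M)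
    exact inf_le_left.trans (Subgroup.le_normalizer.trans (normalizer_le_normalizer_pCoreOf p M))
  have hOM'ne : pCoreOf p M' ≠ ⊥ := by
    intro h0
    rw [h0] at hOM'
    exact hOMne (le_bot_iff.mp hOM')
  have hM'𝓛 : M' ∈ charPSubgroups p G := mem_charPSubgroups_of_parabolic hG T hTM' hOM'ne
  have hM'c := charP_of_mem_charPSubgroups hM'𝓛
  set T₀ : Subgroup G := (T : Subgroup G) ⊓ Subgroup.centralizer (YL : Set G) with hT₀
  set Ls : Subgroup G := M' ⊓ Subgroup.normalizer (T₀ : Set G) with hLs
  obtain ⟨hY1, hfac2⟩ := Cfsg.Agent.S2824.result T L M' hTL hTM' hLc hM'c T₀ hT₀ hfac Ls hLs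
  have hTnT₀ : (T : Subgroup G) ≤ Subgroup.normalizer (T₀ : Set G) := by
    refine le_trans ?_ Subgroup.inf_normalizer_le_normalizer_inf
    exact le_inf Subgroup.le_normalizer
      (hTL.trans (hLNY.trans (normalizer_le_normalizer_centralizer YL)))
  have hTLs : (T : Subgroup G) ≤ Ls := le_inf hTM' hTnT₀
  have hOLs : pCoreOf p M' ≤ pCoreOf p Ls := by
    apply le_pCoreOf ((pCoreOf_le_sylow_of_le T hTM').trans hTLs) _ (pCoreOf_isPGroup p M')
    exact inf_le_left.trans (Subgroup.le_normalizer.trans (normalizer_le_normalizer_pCoreOf p M'))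
  have hOLsne : pCoreOf p Ls ≠ ⊥ := by
    intro h0
    rw [h0] at hOLs
    exact hOM'ne (le_bot_iff.mp hOLs)
  refine ⟨M, Ls, hTM, hfrak, hTLs, inf_le_left.trans inf_le_left,
    mem_charPSubgroups_of_parabolic hG T hTLs hOLsne, hY1.symm, ?_, hfac2⟩
  rw [hYeq]
  exact hK.2.2.1

end Cfsg.Agent.Lib.Helper47
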