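/-
helper47: project S1329 (helper55), module S1329-[LIFT]: quotient transport for Theorem T.
If Theorem T holds for all smaller groups, then modulo an `A`-invariant normal subgroup `N ≠ ⊥` of `Y`:
`C_Y(A) ⊓ ⁅Y,A⁆ ≤ ZStar A Y ⊔ C_N(A)`.
-/
import Mathlib
import Cfsg.Agent.Lib.Helper55.CfgDefs
import Cfsg.Agent.S0022
import Cfsg.Agent.S0030

set_option autoImplicit false

namespace Cfsg.Agent.Lib.Helper47.CFG

open Cfsg.Agent.Lib.Helper55.CFG
open scoped IsMulCommutative
open scoped commutatorElement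

/-- the image of `ZStar A Y` under a homomorphism lies in `ZStar` of the images. -/
theorem map_ZStar_le {G H : Type*} [Group G] [Group H] (f : G →* H) (A Y : Subgroup G) :
    (ZStar A Y).map f ≤ ZStar (A.map f) (Y.map f) := by
  unfold ZStar
  rw [Subgroup.map_iSup]
  apply iSup_le; intro B
  rw [Subgroup.map_iSup]
  apply iSup_le; intro hB
  have hB' : B.map f ∈ Cocyc (A.map f) := by
    obtain ⟨hBA, a, ha, hsup⟩ := hB
    refine ⟨Subgroup.map_mono hBA, f a, Subgroup.mem_map_of_mem f ha, ?_⟩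
    rw [← MonoidHom.map_zpowers, ← Subgroup.map_sup, hsup]
  refine le_trans ?_ (le_ZStar (A.map f) (Y.map f) hB')
  refine le_trans (Subgroup.map_inf_le _ _ f) (inf_le_inf ?_ ?_)
  · refine le_trans (Subgroup.map_inf_le _ _ f) (inf_le_inf le_rfl ?_)
    have := Subgroup.map_centralizer_le_centralizer_image (A : Set G) f
    rwa [← Subgroup.coe_map] at this
  · rw [Subgroup.map_commutator]
    apply Subgroup.commutator_mono _ le_rfl
    refine le_trans (Subgroup.map_inf_le _ _ f) (inf_le_inf le_rfl ?_)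
    have := Subgroup.map_centralizer_le_centralizer_image (B : Set G) f
    rwa [← Subgroup.coe_map] at this

/-- `A` normalizes `⁅K, A⁆` if it normalizes `K`. -/
theorem le_normalizer_commutator' {G : Type*} [Group G] (K A : Subgroup G)
    (h : A ≤ Subgroup.normalizer (K : Set G)) :
    A ≤ Subgroup.normalizer ((⁅K, A⁆ : Subgroup G) : Set G) := by
  intro a ha
  rw [Subgroup.mem_normalizer_iff_map_conj_eq, Subgroup.map_commutator,
    Subgroup.mem_normalizer_iff_map_conj_eq.1 (h ha),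
    Subgroup.mem_normalizer_iff_map_conj_eq.1 (Subgroup.le_normalizer ha)]

/-- `⁅K, A⁆ ≤ K` if `A` normalizes `K`. -/
theorem commutator_le_of_le_normalizer {G : Type*} [Group G] (K A : Subgroup G)
    (h : A ≤ Subgroup.normalizer (K : Set G)) : ⁅K, A⁆ ≤ K := by
  rw [Subgroup.commutator_le]
  intro k hk a ha
  have h1 : a * k⁻¹ * a⁻¹ ∈ K := (Subgroup.mem_normalizer_iff.1 (h ha) k⁻¹).1 (K.inv_mem hk)
  have h2 : ⁅k, a⁆ = k * (a * k⁻¹ * a⁻¹) := by rw [commutatorElement_def]; group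
  rw [h2]
  exact K.mul_mem hk h1

/-- `A` abelian normalizes the centralizer of any of its subgroups. -/
theorem le_normalizer_centralizer_of_le {G : Type*} [Group G] (A B : Subgroup G)
    (hAab : IsMulCommutative A) (hBA : B ≤ A) :
    A ≤ Subgroup.normalizer ((Subgroup.centralizer (B : Set G) : Subgroup G) : Set G) := by
  have _ := hAab
  refine le_trans ?_ Subgroup.le_normalizer
  intro a ha
  rw [Subgroup.mem_centralizer_iff]
  intro t ht
  have := mul_comm (⟨t, hBA ht⟩ : A) ⟨a, ha⟩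
  exact congrArg Subtype.val this

theorem le_normalizer_inf {G : Type*} [Group G] (A K₁ K₂ : Subgroup G)
    (h1 : A ≤ Subgroup.normalizer (K₁ : Set G)) (h2 : A ≤ Subgroup.normalizer (K₂ : Set G)) :
    A ≤ Subgroup.normalizer ((K₁ ⊓ K₂ : Subgroup G) : Set G) := by
  intro a ha
  rw [Subgroup.mem_normalizer_iff]
  intro h
  rw [Subgroup.mem_inf, Subgroup.mem_inf]
  exact and_congr (Subgroup.mem_normalizer_iff.1 (h1 ha) h) (Subgroup.mem_normalizer_iff.1 (h2 ha) h)

theorem le_normalizer_sup {G : Type*} [Group G] (A K₁ K₂ : Subgroup G)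
    (h1 : A ≤ Subgroup.normalizer (K₁ : Set G)) (h2 : A ≤ Subgroup.normalizer (K₂ : Set G)) :
    A ≤ Subgroup.normalizer ((K₁ ⊔ K₂ : Subgroup G) : Set G) := by
  intro a ha
  rw [Subgroup.mem_normalizer_iff_map_conj_eq, Subgroup.map_sup,
    Subgroup.mem_normalizer_iff_map_conj_eq.1 (h1 ha),
    Subgroup.mem_normalizer_iff_map_conj_eq.1 (h2 ha)]

/-- The quotient transport for a normal subgroup `N` of the ambient group. -/
theorem lift_quot_normal {X : Type*} [Group X] [Finite X] (A Y N : Subgroup X) [hNn : N.Normal]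
    (hAab : IsMulCommutative A) (hAY : A ≤ Subgroup.normalizer (Y : Set X))
    (hcop : (Nat.card A).Coprime (Nat.card Y)) (hNY : N ≤ Y)
    (H : (Y.map (QuotientGroup.mk' N) ⊓
          Subgroup.centralizer ((A.map (QuotientGroup.mk' N) : Subgroup (X ⧸ N)) : Set (X ⧸ N))) ⊓
        ⁅Y.map (QuotientGroup.mk' N), A.map (QuotientGroup.mk' N)⁆ ≤
          ZStar (A.map (QuotientGroup.mk' N)) (Y.map (QuotientGroup.mk' N))) :
    (Y ⊓ Subgroup.centralizer (A : Set X)) ⊓ ⁅Y, A⁆ ≤
      ZStar A Y ⊔ (N ⊓ Subgroup.centralizer (A : Set X)) := by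
  classical
  have _ := hAab
  set q : X →* X ⧸ N := QuotientGroup.mk' N with hq
  have hker : ∀ x : X, q x = 1 ↔ x ∈ N := fun x => by rw [hq]; exact QuotientGroup.eq_one_iff x
  have hNtop : ∀ K : Subgroup X, K ≤ Subgroup.normalizer (N : Set X) := fun K => by
    rw [Subgroup.normalizer_eq_top]; exact le_top
  have hsolvA : Group.IsSolvable A := Group.isSolvable_of_comm (fun a b => mul_comm a b)
  -- the claim: `ZStar` of the quotient is the image of `ZStar`
  have claim : ZStar (A.map q) (Y.map q) ≤ (ZStar A Y).map q := by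
    apply iSup₂_le
    intro B' hB'
    obtain ⟨hB'A, a', ha', hsup'⟩ := hB'
    obtain ⟨a, ha, rfl⟩ := Subgroup.mem_map.1 ha'
    set B : Subgroup X := A ⊓ B'.comap q with hB
    have hBA : B ≤ A := inf_le_left
    have haz : Subgroup.zpowers a ≤ A := by rw [Subgroup.zpowers_le]; exact ha
    have hBmap : B.map q = B' := by
      apply le_antisymm
      · rintro _ ⟨b, hb, rfl⟩; exact hb.2
      · intro b' hb'
        obtain ⟨c, hc, rfl⟩ := Subgroup.mem_map.1 (hB'A hb')
        exact Subgroup.mem_map_of_mem q ⟨hc, hb'⟩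
    have hBcoc : B ∈ Cocyc A := by
      refine ⟨hBA, a, ha, le_antisymm (sup_le hBA haz) ?_⟩
      intro c hc
      have h1 : q c ∈ (B ⊔ Subgroup.zpowers a).map q := by
        rw [Subgroup.map_sup, hBmap, MonoidHom.map_zpowers, hsup']
        exact Subgroup.mem_map_of_mem q hc
      obtain ⟨d, hd, hdc⟩ := Subgroup.mem_map.1 h1
      have hdA : d ∈ A := (sup_le hBA haz) hd
      have h2 : d⁻¹ * c ∈ B := by
        refine ⟨A.mul_mem (A.inv_mem hdA) hc, ?_⟩
        show q (d⁻¹ * c) ∈ B'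
        rw [map_mul, map_inv, hdc, inv_mul_cancel]
        exact B'.one_mem
      have h3 : c = d * (d⁻¹ * c) := by group
      rw [h3]
      exact Subgroup.mul_mem _ hd (Subgroup.mem_sup_left h2)
    have hBY : B ≤ Subgroup.normalizer (Y : Set X) := hBA.trans hAY
    have hcopB : (Nat.card B).Coprime (Nat.card Y) :=
      Nat.Coprime.coprime_dvd_left (Subgroup.card_dvd_of_le hBA) hcop
    have hsolvB : Group.IsSolvable B := by
      apply Group.isSolvable_of_comm
      intro x y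
      apply Subtype.ext
      have := mul_comm (⟨x, hBA x.2⟩ : A) ⟨y, hBA y.2⟩
      show (x : X) * (y : X) = (y : X) * (x : X)
      exact congrArg (Subtype.val : A → X) this
    -- (ii) centralizers lift
    have hii : Y.map q ⊓ Subgroup.centralizer (B' : Set (X ⧸ N)) ≤
        (Y ⊓ Subgroup.centralizer (B : Set X)).map q := by
      rintro y' ⟨hy'Y, hy'C⟩
      obtain ⟨y, hy, rfl⟩ := Subgroup.mem_map.1 hy'Y
      have hfix : ∀ b ∈ B, b * y * b⁻¹ * y⁻¹ ∈ N := by
        intro b hb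
        rw [← hker]
        have hqb : q b ∈ B' := hb.2
        have h1 : q b * q y = q y * q b := (Subgroup.mem_centralizer_iff.1 hy'C) (q b) hqb
        rw [map_mul, map_mul, map_mul, map_inv, map_inv, h1]
        group
      obtain ⟨c, hc, hcN⟩ := Cfsg.Agent.S0022.result B Y hBY hcopB (Or.inl hsolvB) N hNY (hNtop Y) (hNtop B)
        y hy hfix
      refine ⟨c, hc, ?_⟩
      have h2 := (hker _).2 hcN
      rw [map_mul, map_inv] at h2
      exact (inv_mul_eq_one.1 h2).symm
    -- the subgroup `V`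
    set V : Subgroup X := ⁅Y ⊓ Subgroup.centralizer (B : Set X), A⁆ with hV
    have hAYB : A ≤ Subgroup.normalizer ((Y ⊓ Subgroup.centralizer (B : Set X) : Subgroup X) : Set X) :=
      le_normalizer_inf A _ _ hAY (le_normalizer_centralizer_of_le A B hAab hBA)
    have hAV : A ≤ Subgroup.normalizer (V : Set X) := le_normalizer_commutator' _ A hAYB
    have hVY : V ≤ Y :=
      (Subgroup.commutator_mono inf_le_left le_rfl).trans (commutator_le_of_le_normalizer Y A hAY)
    have hVle : V ≤ Y ⊓ Subgroup.centralizer (B : Set X) := commutator_le_of_le_normalizer _ A hAYB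
    have hKY : V ⊔ N ≤ Y := sup_le hVY hNY
    have hAK : A ≤ Subgroup.normalizer ((V ⊔ N : Subgroup X) : Set X) :=
      le_normalizer_sup A V N hAV (hNtop A)
    have hcopK : (Nat.card A).Coprime (Nat.card (V ⊔ N : Subgroup X)) :=
      Nat.Coprime.coprime_dvd_right (Subgroup.card_dvd_of_le hKY) hcop
    have hXY : ∀ k ∈ V ⊔ N, ∃ x ∈ V, ∃ y ∈ N, k = x * y := by
      intro k hk
      have h1 : k ∈ ((V ⊔ N : Subgroup X) : Set X) := hk
      rw [Subgroup.mul_normal V N] at h1
      obtain ⟨x, hx, y, hy, hxy⟩ := Set.mem_mul.1 h1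
      exact ⟨x, hx, y, hy, hxy.symm⟩
    have h3 : ⁅Y.map q ⊓ Subgroup.centralizer (B' : Set (X ⧸ N)), A.map q⁆ ≤ V.map q := by
      rw [hV, Subgroup.map_commutator]
      exact Subgroup.commutator_mono hii le_rfl
    rintro t' ⟨⟨ht'Y, ht'C⟩, ht'comm⟩
    obtain ⟨v, hv, rfl⟩ := Subgroup.mem_map.1 (h3 ht'comm)
    have hfix : ∀ a ∈ A, a * v * a⁻¹ * v⁻¹ ∈ N := by
      intro a ha
      rw [← hker]
      have h1 : q a * q v = q v * q a :=
        (Subgroup.mem_centralizer_iff.1 ht'C) (q a) (Subgroup.mem_map_of_mem q ha)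
      rw [map_mul, map_mul, map_mul, map_inv, map_inv, h1]
      group
    obtain ⟨c, hc, hcN⟩ := Cfsg.Agent.S0022.result A (V ⊔ N) hAK hcopK (Or.inl hsolvA) N le_sup_right
      (hNtop _) (hNtop A) v (Subgroup.mem_sup_left hv) hfix
    obtain ⟨v₁, hv₁, n₁, hn₁, hcvn⟩ := Cfsg.Agent.S0030.result A (V ⊔ N) hAK hcopK (Or.inl hsolvA) V N
      le_sup_left le_sup_right hAV (hNtop A) hXY c hc
    refine ⟨v₁, le_ZStar A Y hBcoc ⟨⟨hVY hv₁.1, hv₁.2⟩, hv₁.1⟩, ?_⟩
    have h4 : q c = q v := by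
      have h2 := (hker _).2 hcN
      rw [map_mul, map_inv] at h2
      exact (inv_mul_eq_one.1 h2).symm
    have h5 : q n₁ = 1 := (hker _).2 hn₁.1
    rw [← h4, hcvn, map_mul, h5, mul_one]
  -- conclusion
  intro x hx
  have hqx : q x ∈ ZStar (A.map q) (Y.map q) := by
    apply H
    refine Subgroup.mem_inf.2 ⟨Subgroup.mem_inf.2 ⟨Subgroup.mem_map_of_mem q hx.1.1, ?_⟩, ?_⟩
    · rw [Subgroup.mem_centralizer_iff]
      rintro _ ⟨a, ha, rfl⟩
      rw [← map_mul, ← map_mul, (Subgroup.mem_centralizer_iff.1 hx.1.2) a ha]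
    · rw [← Subgroup.map_commutator]; exact Subgroup.mem_map_of_mem q hx.2
  obtain ⟨z, hz, hzx⟩ := Subgroup.mem_map.1 (claim hqx)
  have hzN : z⁻¹ * x ∈ N := by rw [← hker, map_mul, map_inv, hzx, inv_mul_cancel]
  have hzC : z ∈ Subgroup.centralizer (A : Set X) := (ZStar_le A Y hz).2
  have h6 : x = z * (z⁻¹ * x) := by group
  rw [h6]
  exact Subgroup.mul_mem _ (Subgroup.mem_sup_left hz)
    (Subgroup.mem_sup_right ⟨hzN, Subgroup.mul_mem _ (Subgroup.inv_mem _ hzC) hx.1.2⟩)

universe u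

theorem lift_quot {G : Type u} [Group G] [Finite G] (A Y N : Subgroup G)
    (hAab : IsMulCommutative A) (hAY : A ≤ Subgroup.normalizer (Y : Set G))
    (hcop : (Nat.card A).Coprime (Nat.card Y)) (hsolv : Group.IsSolvable Y)
    (hNY : N ≤ Y) (hNn : Y ≤ Subgroup.normalizer (N : Set G))
    (hNA : A ≤ Subgroup.normalizer (N : Set G)) (hN : N ≠ ⊥)
    (IH : ∀ (G' : Type u) [Group G'] [Finite G'] (A' Y' : Subgroup G'),
      Nat.card Y' < Nat.card Y → IsMulCommutative A' →
      A' ≤ Subgroup.normalizer (Y' : Set G') → (Nat.card A').Coprime (Nat.card Y') →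
      Group.IsSolvable Y' →
      (Y' ⊓ Subgroup.centralizer (A' : Set G')) ⊓ ⁅Y', A'⁆ ≤ ZStar A' Y') :
    (Y ⊓ Subgroup.centralizer (A : Set G)) ⊓ ⁅Y, A⁆ ≤
      ZStar A Y ⊔ (N ⊓ Subgroup.centralizer (A : Set G)) := by
  classical
  set X : Subgroup G := Subgroup.normalizer (N : Set G) with hX
  have hNX : N ≤ X := Subgroup.le_normalizer
  set f : X →* G := X.subtype with hf
  have hfinj : Function.Injective f := X.subtype_injective
  set A₀ : Subgroup X := A.subgroupOf X with hA₀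
  set Y₀ : Subgroup X := Y.subgroupOf X with hY₀
  set N₀ : Subgroup X := N.subgroupOf X with hN₀
  have hN₀n : N₀.Normal := Subgroup.normal_in_normalizer
  have hmapA : A₀.map f = A := Subgroup.map_subgroupOf_eq_of_le hNA
  have hmapY : Y₀.map f = Y := Subgroup.map_subgroupOf_eq_of_le hNn
  have hmapN : N₀.map f = N := Subgroup.map_subgroupOf_eq_of_le hNX
  have _ : IsMulCommutative A := hAab
  have hA₀ab : IsMulCommutative A₀ := inferInstance
  have hAY₀ : A₀ ≤ Subgroup.normalizer (Y₀ : Set X) := by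
    intro a ha
    rw [Subgroup.mem_normalizer_iff]
    intro h
    exact Subgroup.mem_normalizer_iff.1 (hAY ha) (h : G)
  have hcardA : Nat.card A₀ = Nat.card A := Nat.card_congr (Subgroup.subgroupOfEquivOfLe hNA).toEquiv
  have hcardY : Nat.card Y₀ = Nat.card Y := Nat.card_congr (Subgroup.subgroupOfEquivOfLe hNn).toEquiv
  have hcop₀ : (Nat.card A₀).Coprime (Nat.card Y₀) := by rw [hcardA, hcardY]; exact hcop
  have hNY₀ : N₀ ≤ Y₀ := fun n hn => hNY hn
  set q : X →* X ⧸ N₀ := QuotientGroup.mk' N₀ with hq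
  -- the hypotheses of `IH`
  have hlt : Nat.card (Y₀.map q) < Nat.card Y := by
    rw [← hcardY]
    obtain ⟨⟨n, hn⟩, hn1⟩ := (Subgroup.ne_bot_iff_exists_ne_one.1 hN)
    have hnX : n ∈ X := hNX hn
    let n₀ : Y₀ := ⟨⟨n, hnX⟩, hNY hn⟩
    have hninj : ¬ Function.Injective (q.subgroupMap Y₀) := by
      intro hinj
      have h1 : q.subgroupMap Y₀ n₀ = q.subgroupMap Y₀ 1 := by
        apply Subtype.ext
        show q ⟨n, hnX⟩ = q 1
        rw [map_one, hq]
        exact (QuotientGroup.eq_one_iff _).2 hn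
      have h2 := hinj h1
      apply hn1
      apply Subtype.ext
      exact congrArg (fun y : Y₀ => ((y : X) : G)) h2
    let _ : Fintype Y₀ := Fintype.ofFinite _
    let _ : Fintype (Y₀.map q) := Fintype.ofFinite _
    rw [Nat.card_eq_fintype_card, Nat.card_eq_fintype_card]
    exact Fintype.card_lt_of_surjective_not_injective _ (q.subgroupMap_surjective Y₀) hninj
  have hsolvY₀ : Group.IsSolvable Y₀ :=
    Group.isSolvable_of_isSolvable_injective (f := (Subgroup.subgroupOfEquivOfLe hNn).toMonoidHom)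
      (Subgroup.subgroupOfEquivOfLe hNn).injective
  have hsolv' : Group.IsSolvable (Y₀.map q) := Group.isSolvable_of_surjective (q.subgroupMap_surjective Y₀)
  have hnorm' : A₀.map q ≤ Subgroup.normalizer ((Y₀.map q : Subgroup (X ⧸ N₀)) : Set (X ⧸ N₀)) :=
    (Subgroup.map_mono hAY₀).trans (Subgroup.le_normalizer_map q)
  have hcop' : (Nat.card (A₀.map q)).Coprime (Nat.card (Y₀.map q)) :=
    Nat.Coprime.coprime_dvd_left (A₀.card_map_dvd q)
      (Nat.Coprime.coprime_dvd_right (Y₀.card_map_dvd q) hcop₀)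
  have key := lift_quot_normal A₀ Y₀ N₀ hA₀ab hAY₀ hcop₀ hNY₀
    (IH (X ⧸ N₀) (A₀.map q) (Y₀.map q) hlt inferInstance hnorm' hcop' hsolv')
  -- transport back to `G`
  intro x hx
  have hxX : x ∈ X := hNn hx.1.1
  have hx₀ : (⟨x, hxX⟩ : X) ∈ (Y₀ ⊓ Subgroup.centralizer (A₀ : Set X)) ⊓ ⁅Y₀, A₀⁆ := by
    refine Subgroup.mem_inf.2 ⟨Subgroup.mem_inf.2 ⟨hx.1.1, ?_⟩, ?_⟩
    · rw [Subgroup.mem_centralizer_iff]
      intro a ha
      apply Subtype.ext
      exact (Subgroup.mem_centralizer_iff.1 hx.1.2) (a : G) ha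
    · have h1 : x ∈ (⁅Y₀, A₀⁆).map f := by
        rw [Subgroup.map_commutator, hmapA, hmapY]; exact hx.2
      obtain ⟨w, hw, hwx⟩ := Subgroup.mem_map.1 h1
      have : w = ⟨x, hxX⟩ := hfinj hwx
      rwa [this] at hw
  have h2 : f ⟨x, hxX⟩ ∈ (ZStar A₀ Y₀ ⊔ (N₀ ⊓ Subgroup.centralizer (A₀ : Set X))).map f :=
    Subgroup.mem_map_of_mem f (key hx₀)
  rw [Subgroup.map_sup] at h2
  have hle : (ZStar A₀ Y₀).map f ⊔ (N₀ ⊓ Subgroup.centralizer (A₀ : Set X)).map f ≤
      ZStar A Y ⊔ (N ⊓ Subgroup.centralizer (A : Set G)) := by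
    apply sup_le_sup
    · calc (ZStar A₀ Y₀).map f ≤ ZStar (A₀.map f) (Y₀.map f) := map_ZStar_le f A₀ Y₀
        _ = ZStar A Y := by rw [hmapA, hmapY]
    · refine le_trans (Subgroup.map_inf_le _ _ f) (inf_le_inf hmapN.le ?_)
      have := Subgroup.map_centralizer_le_centralizer_image (A₀ : Set X) f
      rwa [← Subgroup.coe_map, hmapA] at this
  exact hle h2

end Cfsg.Agent.Lib.Helper47.CFG
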