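import Mathlib
import Cfsg.Agent.Lib.Helper76.GOut.QFDefs
import Cfsg.Agent.Lib.Helper98.GOutQFInv
import Cfsg.Agent.Lib.Helper47.GOutQFK
import Cfsg.Agent.Lib.Helper47.GOutQFT
import Cfsg.Agent.Lib.Helper47.GOutQFSurj

/-!
# Project GOUT (S3066, helper76's sheet), block QF: module [QF-C4] (hedge)

No element of order four: `s ^ 4 = 1 ⇒ ρ (s ^ 2) = 1`.
-/

set_option autoImplicit false
set_option linter.unusedSectionVars false

namespace Cfsg.Agent.Lib.Helper76.GOut

variable {V : Type*} [AddCommGroup V] [Module (ZMod 2) V] [Finite V]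
variable {R : Type*} [Group R]

namespace H47

omit [Finite V] in
theorem add_cancel_mid (p q r : V) : p + q + (q + r) = p + r := by
  have hq : q + q = 0 := add_self' q
  calc p + q + (q + r) = p + (q + q) + r := by abel
    _ = p + r := by rw [hq, add_zero]

/-- [QF-C4] with the name primed (hedge copy) -/
theorem sq_eq_one_of_pow_four' {ρ : R →* (V ≃ₗ[ZMod 2] V)} (h : Hyp ρ)
    (s : R) (hs : s ^ 4 = 1) : ρ (s ^ 2) = 1 := by
  by_contra hne
  have hg : s ^ 2 * s ^ 2 = 1 := by rw [← pow_add]; exact hs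
  have hσ2 : ∀ x : V, ρ s (ρ s x) = ρ (s ^ 2) x := by
    intro x
    rw [pow_two, map_mul]
    rfl
  have hgg : ∀ x : V, ρ (s ^ 2) (ρ (s ^ 2) x) = x := by
    intro x
    have : ρ (s ^ 2) (ρ (s ^ 2) x) = (ρ (s ^ 2) * ρ (s ^ 2)) x := rfl
    rw [this, ← map_mul, hg, map_one]
    rfl
  have hσg : ∀ x : V, ρ s (ρ (s ^ 2) x) = ρ (s ^ 2) (ρ s x) := by
    intro x
    rw [← hσ2, ← hσ2]
  -- `σ` preserves `I`
  have hσI : ∀ w ∈ commRange ρ (s ^ 2), ρ s w ∈ commRange ρ (s ^ 2) := by
    intro w hw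
    obtain ⟨u, rfl⟩ := mem_commRange_iff_h98.1 hw
    rw [map_add, hσg]
    exact add_apply_mem_commRange_h98 ρ (s ^ 2) (ρ s u)
  -- `σ` fixes `I` pointwise
  have hfix : ∀ w ∈ commRange ρ (s ^ 2), ρ s w = w := by
    intro w hw
    by_cases hw0 : w = 0
    · rw [hw0, map_zero]
    obtain ⟨a, ha, hav⟩ := commRange_eq_comm_smul' h (s ^ 2) hg hne w hw hw0 (ρ s w) (hσI w hw)
    have hσa : ∀ x : V, ρ s (a x) = a (ρ s x) := fun x => (ha s x).symm
    have h2 : ρ s (ρ s w) = a (a w) := by rw [hav, hσa, hav]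
    have h4 : a (a (a (a w))) = w := by
      have e : ρ s (ρ s (ρ s (ρ s w))) = a (a (a (a w))) := by
        rw [h2, hσa, hσa, hσa, hσa, h2]
      rw [← e, hσ2, hσ2, hgg]
    -- `c = a + 1`
    have hc : a + 1 ∈ Comm ρ := add_mem_comm ha (one_mem_comm ρ)
    have hcx : ∀ x : V, (a + 1) x = a x + x := fun x => rfl
    have hc2 : ∀ x : V, (a + 1) ((a + 1) x) = a (a x) + x := by
      intro x
      rw [hcx, hcx, map_add]
      exact add_cancel_mid _ _ _
    have hc4 : (a + 1) ((a + 1) ((a + 1) ((a + 1) w))) = 0 := by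
      rw [hc2 w, hc2, map_add, map_add, h4, add_cancel_mid, add_self']
    by_cases hc0 : a + 1 = 0
    · have : a w + w = 0 := by rw [← hcx, hc0]; rfl
      have haw : a w = w := by
        have e : a w = a w + (w + w) := by rw [add_self', add_zero]
        rw [e, ← add_assoc, this, zero_add]
      rw [hav, haw]
    · exfalso
      have hinj := comm_injective h.irr hc hc0
      have z1 : (a + 1) ((a + 1) ((a + 1) w)) = 0 := hinj (by rw [hc4, map_zero])
      have z2 : (a + 1) ((a + 1) w) = 0 := hinj (by rw [z1, map_zero])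
      have z3 : (a + 1) w = 0 := hinj (by rw [z2, map_zero])
      exact hw0 (hinj (by rw [z3, map_zero]))
  -- `N u = 0` for all `u`
  have hN : ∀ u : V, u + ρ (s ^ 2) u = 0 := by
    intro u
    by_contra hNu
    obtain ⟨q, hq, hqN⟩ := h.aniso _ hNu
    apply hqN
    set Nu := u + ρ (s ^ 2) u with hNu_def
    have hNI : Nu ∈ commRange ρ (s ^ 2) := add_apply_mem_commRange_h98 ρ (s ^ 2) u
    -- `q (N u) = β(u, N u)`
    have e1 : q Nu = polar q u Nu := by
      have h1 := hq.map_add_apply (s ^ 2) u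
      have h2 : ρ (s ^ 2) u = u + Nu := by
        rw [hNu_def, ← add_assoc, add_self', zero_add]
      have h3 : polar q u (ρ (s ^ 2) u) = polar q u Nu := by
        conv_lhs => rw [h2]
        rw [hq.1.polar_add_right, hq.1.polar_self, zero_add]
      rw [← h3]
      exact h1
    -- `q (N u) = β(M u, N u)`
    set Mu := u + ρ s u with hMu_def
    have hMM : Mu + ρ s Mu = Nu := by
      rw [hMu_def, map_add, hσ2, hNu_def]
      exact add_cancel_mid _ _ _
    have e2 : q Nu = polar q Mu Nu := by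
      have h1 := hq.map_add_apply s Mu
      rw [hMM] at h1
      have h2 : ρ s Mu = Mu + Nu := by
        rw [← hMM, ← add_assoc, add_self', zero_add]
      have h3 : polar q Mu (ρ s Mu) = polar q Mu Nu := by
        conv_lhs => rw [h2]
        rw [hq.1.polar_add_right, hq.1.polar_self, zero_add]
      rw [← h3]
      exact h1
    -- `β(σ u, N u) = 0`
    have e3 : polar q (ρ s u) Nu = 0 := by
      have h1 : polar q Mu Nu = polar q u Nu + polar q (ρ s u) Nu := by
        rw [hMu_def, hq.1.polar_add_left]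
      have h2 : polar q u Nu = polar q u Nu + polar q (ρ s u) Nu := by
        rw [← h1, ← e1, e2]
      have h3 : ∀ x y : ZMod 2, x = x + y → y = 0 := by decide
      exact h3 _ _ h2
    -- `β(σ u, N u) = β(σ u, σ (N u)) = β(u, N u) = q (N u)`
    have e4 : polar q (ρ s u) Nu = polar q u Nu := by
      conv_lhs => rw [← hfix Nu hNI]
      exact hq.polar_map s u Nu
    rw [e1, ← e4, e3]
  apply hne
  ext u
  have := hN u
  show ρ (s ^ 2) u = u
  have e : ρ (s ^ 2) u = u + (u + ρ (s ^ 2) u) := by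
    rw [← add_assoc, add_self', zero_add]
  rw [e, this, add_zero]

end H47

end Cfsg.Agent.Lib.Helper76.GOut
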