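/-
helper47: module S5259-[HEIS-MAT] (project of helper87).
A Sylow `p`-subgroup of `SL₃(K)`, `K` a finite field of characteristic `p`, is of Heisenberg type
with parameter `|K|` (in the sense of `Cfsg.Agent.Lib.Helper87.Heis.IsHeis`).
-/
import Cfsg.Agent.Lib.Helper87.Heis.Defs
import Cfsg.Agent.Lib.Helper45.PSLAut.Unitri

set_option autoImplicit false
set_option linter.unusedSectionVars false

namespace Cfsg.Agent.Lib.Helper47.Heis

/-- The abstract Heisenberg group over a commutative ring: triples `(a, b, c)` standing for the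
upper unitriangular matrix with entries `a = (0,1)`, `b = (1,2)`, `c = (0,2)`. -/
@[ext] structure HeisK (K : Type*) where
  a : K
  b : K
  c : K

namespace HeisK

variable {K : Type*} [CommRing K]

instance instMulHeisK : Mul (HeisK K) := ⟨fun x y => ⟨x.a + y.a, x.b + y.b, x.c + y.c + x.a * y.b⟩⟩
instance instOneHeisK : One (HeisK K) := ⟨⟨0, 0, 0⟩⟩
instance instInvHeisK : Inv (HeisK K) := ⟨fun x => ⟨-x.a, -x.b, -x.c + x.a * x.b⟩⟩

@[simp] theorem mul_a (x y : HeisK K) : (x * y).a = x.a + y.a := rfl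
@[simp] theorem mul_b (x y : HeisK K) : (x * y).b = x.b + y.b := rfl
@[simp] theorem mul_c (x y : HeisK K) : (x * y).c = x.c + y.c + x.a * y.b := rfl
@[simp] theorem one_a : (1 : HeisK K).a = 0 := rfl
@[simp] theorem one_b : (1 : HeisK K).b = 0 := rfl
@[simp] theorem one_c : (1 : HeisK K).c = 0 := rfl
@[simp] theorem inv_a (x : HeisK K) : (x⁻¹).a = -x.a := rfl
@[simp] theorem inv_b (x : HeisK K) : (x⁻¹).b = -x.b := rfl
@[simp] theorem inv_c (x : HeisK K) : (x⁻¹).c = -x.c + x.a * x.b := rfl

instance instGroupHeisK : Group (HeisK K) :=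
  Group.ofLeftAxioms
    (fun x y z => by ext <;> simp <;> ring)
    (fun x => by ext <;> simp)
    (fun x => by ext <;> simp)

theorem mem_center_iff_ab (x : HeisK K) : x ∈ Subgroup.center (HeisK K) ↔ x.a = 0 ∧ x.b = 0 := by
  rw [Subgroup.mem_center_iff]
  constructor
  · intro h
    have h1 := congrArg HeisK.c (h ⟨1, 0, 0⟩)
    have h2 := congrArg HeisK.c (h ⟨0, 1, 0⟩)
    simp at h1 h2
    exact ⟨h2, h1⟩
  · rintro ⟨ha, hb⟩ g
    ext <;> simp [ha, hb, add_comm]

theorem mem_centralizer_iff_ab (x y : HeisK K) :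
    y ∈ Subgroup.centralizer ({x} : Set (HeisK K)) ↔ x.a * y.b = y.a * x.b := by
  rw [Subgroup.mem_centralizer_singleton_iff]
  constructor
  · intro h
    have h1 := congrArg HeisK.c h
    simp at h1
    have : x.c + y.c + x.a * y.b = x.c + y.c + y.a * x.b := by rw [← h1]; ring
    exact (add_left_cancel this)
  · intro h
    ext
    · simp [add_comm]
    · simp [add_comm]
    · simp only [mul_c]; rw [h]; ring

section field

variable {K : Type*} [Field K] [Fintype K]

/-- Coordinates. -/
def equivProd : HeisK K ≃ K × K × K where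
  toFun x := (x.a, x.b, x.c)
  invFun t := ⟨t.1, t.2.1, t.2.2⟩
  left_inv _ := rfl
  right_inv _ := rfl

omit [Field K] in
theorem card_HeisK : Nat.card (HeisK K) = Fintype.card K ^ 3 := by
  rw [Nat.card_congr equivProd, Nat.card_prod, Nat.card_prod, Nat.card_eq_fintype_card]
  ring

instance instFiniteHeisK : Finite (HeisK K) := Finite.of_equiv _ equivProd.symm

/-- The centre is the set of `(0, 0, c)`. -/
def centerEquiv : Subgroup.center (HeisK K) ≃ K where
  toFun z := z.1.c
  invFun t := ⟨⟨0, 0, t⟩, (mem_center_iff_ab _).2 ⟨rfl, rfl⟩⟩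
  left_inv z := by
    obtain ⟨ha, hb⟩ := (mem_center_iff_ab _).1 z.2
    apply Subtype.ext
    ext <;> simp [ha, hb]
  right_inv _ := rfl

/-- The homomorphism `y ↦ x.a * y.b - y.a * x.b`, whose kernel is `C(x)`. -/
def commHom (x : HeisK K) : HeisK K →* Multiplicative K where
  toFun y := Multiplicative.ofAdd (x.a * y.b - y.a * x.b)
  map_one' := by simp
  map_mul' y z := by
    rw [← ofAdd_add]
    congr 1
    simp only [mul_a, mul_b]
    ring

omit [Fintype K] in
theorem commHom_apply (x y : HeisK K) :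
    commHom x y = Multiplicative.ofAdd (x.a * y.b - y.a * x.b) := rfl

theorem commHom_ker (x : HeisK K) :
    (commHom x).ker = Subgroup.centralizer ({x} : Set (HeisK K)) := by
  ext y
  rw [MonoidHom.mem_ker, mem_centralizer_iff_ab, commHom_apply, ofAdd_eq_one, sub_eq_zero]

theorem commHom_surjective (x : HeisK K) (hx : x ∉ Subgroup.center (HeisK K)) :
    Function.Surjective (commHom x) := by
  intro t
  have hx' : ¬ (x.a = 0 ∧ x.b = 0) := fun h => hx ((mem_center_iff_ab x).2 h)
  by_cases ha : x.a = 0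
  · have hb : x.b ≠ 0 := fun hb => hx' ⟨ha, hb⟩
    refine ⟨⟨- (Multiplicative.toAdd t) / x.b, 0, 0⟩, ?_⟩
    rw [commHom_apply]
    apply Multiplicative.toAdd.injective
    rw [toAdd_ofAdd]
    field_simp
    ring
  · refine ⟨⟨0, Multiplicative.toAdd t / x.a, 0⟩, ?_⟩
    rw [commHom_apply]
    apply Multiplicative.toAdd.injective
    rw [toAdd_ofAdd]
    field_simp
    ring

theorem card_centralizer_HeisK (x : HeisK K) (hx : x ∉ Subgroup.center (HeisK K)) :
    Nat.card (Subgroup.centralizer ({x} : Set (HeisK K))) = Fintype.card K ^ 2 := by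
  have h1 := Subgroup.card_mul_index (commHom x).ker
  rw [Subgroup.index_ker, MonoidHom.range_eq_top.2 (commHom_surjective x hx), Subgroup.card_top,
    card_HeisK, commHom_ker, Nat.card_congr (Multiplicative.toAdd (α := K)),
    Nat.card_eq_fintype_card (α := K)] at h1
  have hq : 0 < Fintype.card K := Fintype.card_pos
  apply Nat.eq_of_mul_eq_mul_right hq
  rw [h1]
  ring

theorem isHeis_HeisK : Cfsg.Agent.Lib.Helper87.Heis.IsHeis (Fintype.card K) (HeisK K) where
  card := card_HeisK
  card_center := by rw [Nat.card_congr centerEquiv, Nat.card_eq_fintype_card]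
  comm_mem x y := (mem_center_iff_ab _).2 ⟨by simp, by simp⟩
  card_centralizer := card_centralizer_HeisK
  comm_centralizer := by
    intro x hx y hy z hz
    rw [mem_centralizer_iff_ab] at hy hz
    have hx' : ¬ (x.a = 0 ∧ x.b = 0) := fun h => hx ((mem_center_iff_ab x).2 h)
    have key : y.a * z.b = z.a * y.b := by
      by_cases ha : x.a = 0
      · have hb : x.b ≠ 0 := fun hb => hx' ⟨ha, hb⟩
        rw [ha, zero_mul] at hy hz
        have hya : y.a = 0 := by
          rcases mul_eq_zero.1 hy.symm with h | h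
          · exact h
          · exact absurd h hb
        have hza : z.a = 0 := by
          rcases mul_eq_zero.1 hz.symm with h | h
          · exact h
          · exact absurd h hb
        rw [hya, hza, zero_mul, zero_mul]
      · apply mul_left_cancel₀ ha
        calc x.a * (y.a * z.b) = y.a * (x.a * z.b) := by ring
          _ = y.a * (z.a * x.b) := by rw [hz]
          _ = z.a * (y.a * x.b) := by ring
          _ = z.a * (x.a * y.b) := by rw [hy]
          _ = x.a * (z.a * y.b) := by ring
    ext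
    · simp [add_comm]
    · simp [add_comm]
    · simp only [mul_c]
      rw [key]
      ring

end field

end HeisK

section matrix

open Matrix Cfsg.Agent.Lib.Helper45.PSLAut

variable {K : Type*} [Field K] [Fintype K]

/-- The entries on and below the diagonal of an upper unitriangular `3 × 3` matrix. -/
theorem UU3_entries {s : SpecialLinearGroup (Fin 3) K} (hs : s ∈ UU 3 K) :
    (s : Matrix (Fin 3) (Fin 3) K) 0 0 = 1 ∧ (s : Matrix (Fin 3) (Fin 3) K) 1 1 = 1 ∧
    (s : Matrix (Fin 3) (Fin 3) K) 2 2 = 1 ∧ (s : Matrix (Fin 3) (Fin 3) K) 1 0 = 0 ∧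
    (s : Matrix (Fin 3) (Fin 3) K) 2 0 = 0 ∧ (s : Matrix (Fin 3) (Fin 3) K) 2 1 = 0 := by
  rw [mem_UU] at hs
  refine ⟨?_, ?_, ?_, ?_, ?_, ?_⟩
  · simpa using hs 0 0 (by decide)
  · simpa using hs 1 1 (by decide)
  · simpa using hs 2 2 (by decide)
  · simpa using hs 1 0 (by decide)
  · simpa using hs 2 0 (by decide)
  · simpa using hs 2 1 (by decide)

/-- The coordinate homomorphism from the unitriangular group to the abstract Heisenberg group. -/
def UU3Hom : UU 3 K →* HeisK K where
  toFun s := ⟨(s.1 : Matrix (Fin 3) (Fin 3) K) 0 1, (s.1 : Matrix (Fin 3) (Fin 3) K) 1 2,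
    (s.1 : Matrix (Fin 3) (Fin 3) K) 0 2⟩
  map_one' := by
    ext <;> simp
  map_mul' s t := by
    obtain ⟨s00, s11, s22, s10, s20, s21⟩ := UU3_entries s.2
    obtain ⟨t00, t11, t22, t10, t20, t21⟩ := UU3_entries t.2
    ext
    · simp only [HeisK.mul_a, Subgroup.coe_mul, Matrix.SpecialLinearGroup.coe_mul, Matrix.mul_apply,
        Fin.sum_univ_three, s00, t11, t21]
      ring
    · simp only [HeisK.mul_b, Subgroup.coe_mul, Matrix.SpecialLinearGroup.coe_mul, Matrix.mul_apply,
        Fin.sum_univ_three, s10, s11, t22]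
      ring
    · simp only [HeisK.mul_c, Subgroup.coe_mul, Matrix.SpecialLinearGroup.coe_mul, Matrix.mul_apply,
        Fin.sum_univ_three, s00, t22]
      ring

theorem UU3Hom_injective : Function.Injective (UU3Hom (K := K)) := by
  intro s t h
  obtain ⟨s00, s11, s22, s10, s20, s21⟩ := UU3_entries s.2
  obtain ⟨t00, t11, t22, t10, t20, t21⟩ := UU3_entries t.2
  have ha : (s.1 : Matrix (Fin 3) (Fin 3) K) 0 1 = (t.1 : Matrix (Fin 3) (Fin 3) K) 0 1 :=
    congrArg HeisK.a h
  have hb : (s.1 : Matrix (Fin 3) (Fin 3) K) 1 2 = (t.1 : Matrix (Fin 3) (Fin 3) K) 1 2 :=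
    congrArg HeisK.b h
  have hc : (s.1 : Matrix (Fin 3) (Fin 3) K) 0 2 = (t.1 : Matrix (Fin 3) (Fin 3) K) 0 2 :=
    congrArg HeisK.c h
  apply Subtype.ext
  apply sl_ext
  ext i j
  fin_cases i <;> fin_cases j <;> simp_all

theorem card_UU3 : Nat.card (UU 3 K) = Fintype.card K ^ 3 := by
  rw [card_UU, Fin.prod_univ_three]
  simp only [Fin.val_zero, Fin.val_one, Fin.val_two]
  ring

/-- The unitriangular group of degree 3 is the abstract Heisenberg group. -/
noncomputable def UU3Equiv : UU 3 K ≃* HeisK K :=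
  MulEquiv.ofBijective UU3Hom
    (UU3Hom_injective.bijective_of_nat_card_le (by rw [card_UU3, HeisK.card_HeisK]))

theorem isHeis_UU3 : Cfsg.Agent.Lib.Helper87.Heis.IsHeis (Fintype.card K) (UU 3 K) :=
  HeisK.isHeis_HeisK.of_mulEquiv UU3Equiv.symm

/-- **S5259-[HEIS-MAT]**: a Sylow `p`-subgroup of `SL₃(K)`, `K` a finite field of characteristic `p`,
is of Heisenberg type with parameter `|K|`. -/
theorem isHeis_sylow_SL3 (p : Nat) [Fact p.Prime] {K : Type*} [Field K] [Fintype K] [CharP K p]
    (T : Sylow p (Matrix.SpecialLinearGroup (Fin 3) K)) :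
    Cfsg.Agent.Lib.Helper87.Heis.IsHeis (Fintype.card K)
      (T : Subgroup (Matrix.SpecialLinearGroup (Fin 3) K)) := by
  obtain ⟨n, -, hn⟩ := FiniteField.card K p
  have hP : IsPGroup p (UU 3 K) := isPGroup_UU hn
  have hidx : ¬ p ∣ (UU 3 K).index := not_dvd_index_UU hn n.pos
  have e : (hP.toSylow hidx) ≃* T := Sylow.equiv _ _
  exact (isHeis_UU3 (K := K)).of_mulEquiv e

end matrix

end Cfsg.Agent.Lib.Helper47.Heis
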