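import Mathlib
import Cfsg.Prelude.Def_CaseTheorems
import Cfsg.Prelude.Def_Transfer
import Cfsg.Agent.Lib.Helper47.Basic
import Cfsg.Agent.Lib.Helper47.Quot
import Cfsg.Agent.Lib.Helper47.PClosed
import Cfsg.Agent.Lib.Helper47.Subnormal
import Cfsg.Agent.Lib.Helper47.SylowCenter
import Cfsg.Agent.Lib.Helper21.Quasisimple

/-!
# Quasisimple quotients, perfect `p`-quotients, central-by-`p` groups (helper47)
-/

set_option autoImplicit false

namespace Cfsg.Agent.Lib.Helper47

open Cfsg
open scoped commutatorElement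

variable {G : Type*} [Group G]

/-- A perfect finite group has no nontrivial `p`-quotient. -/
theorem eq_top_of_isPerfect_of_isPGroup_quotient {p : ℕ} [Fact p.Prime] [Finite G]
    [Group.IsPerfect G] (M : Subgroup G) [M.Normal] (h : IsPGroup p (G ⧸ M)) : M = ⊤ := by
  apply QuotientGroup.subgroup_eq_top_of_subsingleton
  by_contra hs
  rw [not_subsingleton_iff_nontrivial] at hs
  exact Group.IsPerfect.not_isNilpotent (G ⧸ M) h.isNilpotent

/-- In a central-by-`p` finite group every Sylow `p`-subgroup is normal. -/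
theorem sylow_normal_of_central_of_isPGroup_quotient {p : ℕ} [Fact p.Prime] [Finite G]
    (A : Subgroup G) [A.Normal] (hA : A ≤ Subgroup.center G) (h : IsPGroup p (G ⧸ A))
    (S : Sylow p G) : (S : Subgroup G).Normal := by
  have h1 : A ⊔ (S : Subgroup G) = ⊤ := sup_sylow_eq_top_of_isPGroup_quotient A h S
  rw [← Subgroup.normalizer_eq_top_iff, eq_top_iff, ← h1]
  apply sup_le
  · exact hA.trans (Subgroup.center_le_normalizer _)
  · exact Subgroup.le_normalizer

/-- A normal Sylow `p`-subgroup contains every `p`-subgroup. -/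
theorem le_sylow_of_isPGroup_of_normal {p : ℕ} [Fact p.Prime] [Finite G] (S : Sylow p G)
    (hS : (S : Subgroup G).Normal) {T : Subgroup G} (hT : IsPGroup p ↥T) :
    T ≤ (S : Subgroup G) := by
  obtain ⟨S', hS'⟩ := hT.exists_le_sylow
  obtain ⟨g, rfl⟩ := MulAction.exists_smul_eq G S S'
  rwa [Sylow.smul_eq_of_normal] at hS'

/-- If `O_p(G) = 1`, `K ⊴ G` and `G/K` is a `p`-group, then `C_G(K)` contains no nontrivial
`p`-subgroup. -/
theorem eq_bot_of_isPGroup_of_le_centralizer_of_pCore_eq_bot {p : ℕ} [Fact p.Prime] [Finite G]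
    (hred : pCore p G = ⊥) (K : Subgroup G) [hKn : K.Normal] (hK : IsPGroup p (G ⧸ K))
    {T : Subgroup G} (hT : IsPGroup p ↥T) (hTK : T ≤ Subgroup.centralizer (K : Set G)) :
    T = ⊥ := by
  set B := Subgroup.centralizer (K : Set G) with hB
  have hBn : B.Normal := by
    rw [← Subgroup.normalizer_eq_top_iff, eq_top_iff]
    refine le_trans ?_ (normalizer_le_normalizer_centralizer K)
    rw [Subgroup.normalizer_eq_top_iff.mpr hKn]
  have hAc : K.subgroupOf B ≤ Subgroup.center ↥B := by
    intro a ha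
    rw [Subgroup.mem_center_iff]
    intro b
    have hb : (b : G) ∈ Subgroup.centralizer (K : Set G) := b.2
    rw [Subgroup.mem_centralizer_iff] at hb
    have h2 := hb a.1 (Subgroup.mem_subgroupOf.mp ha)
    exact Subtype.ext h2.symm
  have hq : IsPGroup p (↥B ⧸ K.subgroupOf B) := by
    intro x
    obtain ⟨b, rfl⟩ := QuotientGroup.mk_surjective x
    obtain ⟨k, hk⟩ := hK (QuotientGroup.mk (b : G))
    refine ⟨k, ?_⟩
    rw [← QuotientGroup.mk_pow, QuotientGroup.eq_one_iff] at hk ⊢
    rw [Subgroup.mem_subgroupOf]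
    simpa using hk
  obtain ⟨S, hS⟩ := (hT.comap_subtype : IsPGroup p ↥(T.subgroupOf B)).exists_le_sylow
  have hSn := sylow_normal_of_central_of_isPGroup_quotient (K.subgroupOf B) hAc hq S
  have h1 : (S : Subgroup ↥B).map B.subtype ≤ pCoreOf p B :=
    Subgroup.map_mono (le_pCore hSn S.isPGroup')
  have h2 : pCoreOf p B ≤ pCore p G := pCoreOf_le_pCore_of_isSubnormal p hBn.isSubnormal
  rw [hred] at h2
  rw [eq_bot_iff]
  intro t ht
  have htB : t ∈ B := hTK ht
  have h3 : (⟨t, htB⟩ : ↥B) ∈ (S : Subgroup ↥B) := hS (Subgroup.mem_subgroupOf.mpr ht)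
  exact h2 (h1 ⟨⟨t, htB⟩, h3, rfl⟩)

/-! ### Commutators -/

/-- `[H, K]` is normalized by `H`. -/
theorem le_normalizer_commutator_left (H K : Subgroup G) :
    H ≤ Subgroup.normalizer ((⁅H, K⁆ : Subgroup G) : Set G) := by
  intro h' hh'
  rw [Subgroup.mem_normalizer_iff_map_conj_eq]
  have key : ∀ x : G, x ∈ H → (⁅H, K⁆).map (MulAut.conj x).toMonoidHom ≤ ⁅H, K⁆ := by
    intro x hx
    rw [Subgroup.map_le_iff_le_comap, Subgroup.commutator_le]
    intro h hh k hk
    rw [Subgroup.mem_comap]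
    have e : (MulAut.conj x).toMonoidHom ⁅h, k⁆ = ⁅x * h, k⁆ * ⁅x, k⁆⁻¹ := by
      simp only [MulEquiv.coe_toMonoidHom, MulAut.conj_apply, commutatorElement_def]
      group
    rw [e]
    exact (⁅H, K⁆).mul_mem (Subgroup.commutator_mem_commutator (H.mul_mem hx hh) hk)
      ((⁅H, K⁆).inv_mem (Subgroup.commutator_mem_commutator hx hk))
  apply le_antisymm (key h' hh')
  have h2 := Subgroup.map_mono (f := (MulAut.conj h').toMonoidHom) (key h'⁻¹ (H.inv_mem hh'))
  rw [Subgroup.map_map] at h2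
  have e2 : (MulAut.conj h').toMonoidHom.comp (MulAut.conj h'⁻¹).toMonoidHom = MonoidHom.id G := by
    ext x; simp; group
  rwa [e2, Subgroup.map_id] at h2

/-- `[H, K]` is normalized by `K`. -/
theorem le_normalizer_commutator_right (H K : Subgroup G) :
    K ≤ Subgroup.normalizer ((⁅H, K⁆ : Subgroup G) : Set G) := by
  rw [Subgroup.commutator_comm]
  exact le_normalizer_commutator_left K H

/-- For a normal subgroup `P`, the elements centralizing `H` modulo `P` form a subgroup. -/
theorem exists_centralizerMod (H P : Subgroup G) [P.Normal] :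
    ∃ D : Subgroup G, ∀ A : Subgroup G, A ≤ D ↔ ⁅H, A⁆ ≤ P := by
  refine ⟨(Subgroup.centralizer ((H.map (QuotientGroup.mk' P) : Subgroup (G ⧸ P)) :
    Set (G ⧸ P))).comap (QuotientGroup.mk' P), ?_⟩
  intro A
  rw [← Subgroup.map_le_iff_le_comap, ← Subgroup.commutator_eq_bot_iff_le_centralizer,
    Subgroup.commutator_comm, ← Subgroup.map_commutator, Subgroup.map_eq_bot_iff,
    QuotientGroup.ker_mk']

/-- If `[N₁, G] ≤ P` with `M`, `P` normal, then `[M ⊔ N₁, G] ≤ M ⊔ P`. -/
theorem sup_commutator_top_le (M N₁ P : Subgroup G) [M.Normal] [P.Normal]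
    (h : ⁅N₁, (⊤ : Subgroup G)⁆ ≤ P) : ⁅M ⊔ N₁, (⊤ : Subgroup G)⁆ ≤ M ⊔ P := by
  have : (M ⊔ P).Normal := inferInstance
  obtain ⟨D, hD⟩ := exists_centralizerMod (⊤ : Subgroup G) (M ⊔ P)
  rw [Subgroup.commutator_comm, ← hD]
  apply sup_le
  · rw [hD, Subgroup.commutator_comm]
    exact (Subgroup.commutator_le_left M ⊤).trans le_sup_left
  · rw [hD, Subgroup.commutator_comm]
    exact h.trans le_sup_right

/-! ### Quasisimple quotients in lattice form -/

/-- If `G/N` is quasisimple, every normal subgroup `M` of `G` satisfies `MN = G` or `[M, G] ≤ N`. -/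
theorem sup_eq_top_or_commutator_le_of_isQuasisimple_quotient (N : Subgroup G) [N.Normal]
    (h : IsQuasisimple (G ⧸ N)) (M : Subgroup G) [hM : M.Normal] :
    M ⊔ N = ⊤ ∨ ⁅M, (⊤ : Subgroup G)⁆ ≤ N := by
  have hMn : (M.map (QuotientGroup.mk' N)).Normal :=
    Subgroup.Normal.map hM _ (QuotientGroup.mk'_surjective N)
  rcases Helper21.qs_normal_eq_top_or_le_center h (M.map (QuotientGroup.mk' N)) with h1 | h1
  · left
    rw [sup_comm]; exact sup_eq_top_of_map_mk'_eq_top h1
  · right
    rw [← QuotientGroup.ker_mk' N, ← Subgroup.map_eq_bot_iff, Subgroup.map_commutator,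
      Subgroup.commutator_eq_bot_iff_le_centralizer]
    intro x hx
    rw [Subgroup.mem_centralizer_iff]
    intro y _
    exact (Subgroup.mem_center_iff.mp (h1 hx) y)

/-- Lattice criterion for `G/P` to be quasisimple, `G` perfect. -/
theorem isQuasisimple_quotient_of_lattice [Group.IsPerfect G] (P : Subgroup G) [P.Normal]
    (hP : P ≠ ⊤)
    (hmax : ∀ M : Subgroup G, M.Normal → P ≤ M → M = ⊤ ∨ ⁅M, (⊤ : Subgroup G)⁆ ≤ P) :
    IsQuasisimple (G ⧸ P) := by
  refine ⟨inferInstance, ?_⟩
  set Z := Subgroup.center (G ⧸ P) with hZ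
  -- `[M, G] ≤ P` means the image of `M` is central
  have hcent : ∀ M : Subgroup G, ⁅M, (⊤ : Subgroup G)⁆ ≤ P → M.map (QuotientGroup.mk' P) ≤ Z := by
    intro M hM x hx
    rw [hZ, Subgroup.mem_center_iff]
    intro y
    rw [← QuotientGroup.ker_mk' P, ← Subgroup.map_eq_bot_iff, Subgroup.map_commutator,
      Subgroup.commutator_eq_bot_iff_le_centralizer] at hM
    have hy : y ∈ (⊤ : Subgroup G).map (QuotientGroup.mk' P) := by
      rw [map_mk'_top]; trivial
    exact (Subgroup.mem_centralizer_iff.mp (hM hx) y hy).symm ▸ rfl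
  have hnt : Nontrivial ((G ⧸ P) ⧸ Z) := by
    by_contra hs
    rw [not_nontrivial_iff_subsingleton] at hs
    have hZtop : Z = ⊤ := QuotientGroup.subgroup_eq_top_of_subsingleton Z hs
    apply hP
    have h1 : (⊤ : Subgroup G) = ⁅(⊤ : Subgroup G), (⊤ : Subgroup G)⁆ := by
      have := Group.IsPerfect.commutator_eq_top (G := G)
      rw [commutator_def] at this
      exact this.symm
    rw [eq_top_iff, h1, ← QuotientGroup.ker_mk' P, ← Subgroup.map_eq_bot_iff,
      Subgroup.map_commutator, Subgroup.commutator_eq_bot_iff_le_centralizer]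
    intro x _
    rw [Subgroup.mem_centralizer_iff]
    intro y _
    have hy : y ∈ Z := by rw [hZtop]; trivial
    exact (Subgroup.mem_center_iff.mp hy x).symm
  refine { toNontrivial := hnt, eq_bot_or_eq_top_of_normal := ?_ }
  · intro H hH
    set H₁ := H.comap (QuotientGroup.mk' Z) with hH₁
    have hH₁n : H₁.Normal := hH.comap _
    set M := H₁.comap (QuotientGroup.mk' P) with hM
    have hMn : M.Normal := hH₁n.comap _
    have hPM : P ≤ M := le_comap_mk' P H₁
    have hmapM : M.map (QuotientGroup.mk' P) = H₁ := map_comap_mk' P H₁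
    have hmapH : H₁.map (QuotientGroup.mk' Z) = H := map_comap_mk' Z H
    rcases hmax M hMn hPM with h1 | h1
    · right
      rw [← hmapH, ← hmapM, h1, map_mk'_top, map_mk'_top]
    · left
      have h2 : H₁ ≤ Z := by rw [← hmapM]; exact hcent M h1
      rw [← hmapH, eq_bot_iff]
      exact (Subgroup.map_mono h2).trans (map_mk'_self Z).le

/-- A perfect group which is quasisimple modulo `N`, with `[N, G] ≤ P ≠ G`, is quasisimple
modulo `P`. -/
theorem isQuasisimple_quotient_of_commutator_le [Group.IsPerfect G] (N P : Subgroup G)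
    [N.Normal] [P.Normal] (hNP : ⁅N, (⊤ : Subgroup G)⁆ ≤ P) (hqs : IsQuasisimple (G ⧸ N))
    (hP : P ≠ ⊤) : IsQuasisimple (G ⧸ P) := by
  have htop : (⊤ : Subgroup G) = ⁅(⊤ : Subgroup G), (⊤ : Subgroup G)⁆ := by
    have := Group.IsPerfect.commutator_eq_top (G := G)
    rw [commutator_def] at this
    exact this.symm
  apply isQuasisimple_quotient_of_lattice P hP
  intro M hM hPM
  have := hM
  rcases sup_eq_top_or_commutator_le_of_isQuasisimple_quotient N hqs M with h1 | h1
  · left
    have h2 := sup_commutator_top_le M N P hNP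
    rw [h1, ← htop, sup_of_le_left hPM] at h2
    exact eq_top_iff.mpr h2
  · right
    -- three subgroups lemma modulo `P`
    have h3 : ⁅⁅M, (⊤ : Subgroup G)⁆, (⊤ : Subgroup G)⁆ ≤ P :=
      (Subgroup.commutator_mono h1 le_rfl).trans hNP
    set π := QuotientGroup.mk' P with hπ
    have h4 : ⁅⁅M.map π, (⊤ : Subgroup (G ⧸ P))⁆, (⊤ : Subgroup (G ⧸ P))⁆ = ⊥ := by
      rw [← map_mk'_top P, ← Subgroup.map_commutator, ← Subgroup.map_commutator,
        Subgroup.map_eq_bot_iff, QuotientGroup.ker_mk']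
      exact h3
    have h5 : ⁅(⊤ : Subgroup (G ⧸ P)), (⊤ : Subgroup (G ⧸ P))⁆ = ⊤ := by
      have := Group.IsPerfect.commutator_eq_top (G := G ⧸ P)
      rw [commutator_def] at this
      exact this
    have h6 := Helper21.commutator_eq_bot_of_perfect h5 h4
    rw [Subgroup.commutator_comm, ← map_mk'_top P, ← Subgroup.map_commutator,
      Subgroup.map_eq_bot_iff, QuotientGroup.ker_mk'] at h6
    exact h6

/-- A quasisimple normal subgroup `L`: for any subgroup `H`, `[L, H] = L` or `[L, H] = 1`. -/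
theorem commutator_eq_self_or_eq_bot_of_isQuasisimple {L : Subgroup G} [hLn : L.Normal]
    (hL : IsQuasisimple ↥L) (H : Subgroup G) : ⁅L, H⁆ = L ∨ ⁅L, H⁆ = ⊥ := by
  have h1 : ⁅L, H⁆ ≤ L := Subgroup.commutator_le_left L H
  rcases Helper21.qs_eq_or_commutator_eq_bot hL h1 (le_normalizer_commutator_left L H) with h2 | h2
  · left; exact h2
  · right
    apply Helper21.commutator_eq_bot_of_perfect (Helper21.qs_commutator_eq_self hL)
    rw [Subgroup.commutator_comm H L, Subgroup.commutator_comm]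
    exact h2

end Cfsg.Agent.Lib.Helper47
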