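import Mathlib
import Cfsg.Prelude.Def_CaseTheorems
import Cfsg.Prelude.Def_Transfer
import Cfsg.Agent.Lib.Helper47.QSQuot
import Cfsg.Agent.Lib.Helper29.Iso

/-!
# The quasisimple section generated by a family of `p`-subgroups (helper47)

Abstract form of the MSS lemma on a large subgroup `Q ≤ E ≤ N(U)`: `X` plays the role of `E`,
`N` of `C_E(U)`, `W` of the weak closure of `Q` in `E`, and `Y = O^p(W)`.
-/

set_option autoImplicit false
set_option linter.unusedSectionVars false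

namespace Cfsg.Agent.Lib.Helper47

open Cfsg
open scoped commutatorElement

variable {X : Type*} [Group X]

/-- `O^p(O^p(B)) = O^p(B)`. -/
theorem opOf_opOf (p : ℕ) (B : Subgroup X) : opOf p (opOf p B) = opOf p B := by
  apply le_antisymm (opOf_le p _)
  rw [opOf_le_iff]
  intro x hx hco
  rw [opOf_eq_closure p (opOf p B)]
  apply Subgroup.subset_closure
  refine ⟨?_, hco⟩
  rw [opOf_eq_closure]
  exact Subgroup.subset_closure ⟨hx, hco⟩

/-- `W / O^p(W)` is a `p`-group, elementwise. -/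
theorem exists_pow_mem_opOf {p : ℕ} [Fact p.Prime] [Finite X] (W : Subgroup X) {w : X}
    (hw : w ∈ W) : ∃ k : ℕ, w ^ (p ^ k) ∈ opOf p W := by
  have := pResidual_normal p ↥W
  obtain ⟨k, hk⟩ := isPGroup_quotient_pResidual p ↥W (pResidual p ↥W) le_rfl
    (QuotientGroup.mk ⟨w, hw⟩)
  refine ⟨k, ?_⟩
  rw [← QuotientGroup.mk_pow, QuotientGroup.eq_one_iff] at hk
  exact ⟨_, hk, rfl⟩

/-- If every element of `W` has a `p`-power in `D` then `O^p(W) ≤ D`. -/
theorem opOf_le_of_forall_pow_mem {p : ℕ} (W D : Subgroup X)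
    (h : ∀ w ∈ W, ∃ k : ℕ, w ^ (p ^ k) ∈ D) : opOf p W ≤ D := by
  rw [opOf_le_iff]
  intro x hx hco
  obtain ⟨k, hk⟩ := h x hx
  have hco' : Nat.Coprime (p ^ k) (orderOf x) := (Nat.Coprime.pow_right k hco).symm
  obtain ⟨m, hm⟩ := exists_pow_eq_self_of_coprime hco'
  rw [← hm]
  exact D.pow_mem hk m

/-- If `H ≤ N(K)` then `[H, K] ≤ K`. -/
theorem commutator_le_right_of_le_normalizer {H K : Subgroup X}
    (h : H ≤ Subgroup.normalizer (K : Set X)) : ⁅H, K⁆ ≤ K := by
  rw [Subgroup.commutator_le]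
  intro x hx k hk
  rw [commutatorElement_def]
  exact K.mul_mem (conj_mem_of_le_normalizer h hx hk) (K.inv_mem hk)

/-- Hypotheses of the abstract lemma. -/
structure LQSData (p : ℕ) (N W Q Y : Subgroup X) [N.Normal] : Prop where
  hred : pCore p (X ⧸ N) = ⊥
  hqs : IsQuasisimple ↥((pResidual p X ⊔ N).map (QuotientGroup.mk' N))
  hWn : W.Normal
  hgen : ∀ D : Subgroup X, (∀ A : Subgroup X, A ≤ W → IsPGroup p ↥A →
    N ≤ Subgroup.normalizer (A : Set X) → A ≤ D) → W ≤ D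
  hQW : Q ≤ W
  hQp : IsPGroup p ↥Q
  hQN : ¬ Q ≤ N
  hY : Y = opOf p W

namespace LQSData

variable {p : ℕ} [Fact p.Prime] [Finite X] {N W Q Y : Subgroup X} [hN : N.Normal]

theorem kbar_normal (_h : LQSData p N W Q Y) :
    ((pResidual p X ⊔ N).map (QuotientGroup.mk' N)).Normal := by
  have := pResidual_normal p X
  exact Subgroup.Normal.map inferInstance _ (QuotientGroup.mk'_surjective N)

theorem Y_normal (h : LQSData p N W Q Y) : Y.Normal := by
  have := h.hWn
  rw [h.hY, ← Subgroup.normalizer_eq_top_iff, eq_top_iff]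
  refine le_trans ?_ (normalizer_le_normalizer_opOf p W)
  rw [Subgroup.normalizer_eq_top_iff.mpr h.hWn]

theorem kbar_quot (_h : LQSData p N W Q Y)
    [((pResidual p X ⊔ N).map (QuotientGroup.mk' N)).Normal] :
    IsPGroup p ((X ⧸ N) ⧸ (pResidual p X ⊔ N).map (QuotientGroup.mk' N)) := by
  have := pResidual_normal p X
  intro x
  obtain ⟨y, rfl⟩ := QuotientGroup.mk_surjective x
  obtain ⟨x, rfl⟩ := QuotientGroup.mk_surjective y
  obtain ⟨k, hk⟩ := isPGroup_quotient_pResidual p X (pResidual p X) le_rfl (QuotientGroup.mk x)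
  refine ⟨k, ?_⟩
  rw [← QuotientGroup.mk_pow, QuotientGroup.eq_one_iff] at hk ⊢
  rw [← QuotientGroup.mk_pow]
  exact Subgroup.mem_map_of_mem _ (Subgroup.mem_sup_left hk)

/-- A `p`-subgroup whose image centralizes `K̄` lies in `N`. -/
theorem le_of_map_le_centralizer (h : LQSData p N W Q Y) (T : Subgroup X) (hT : IsPGroup p ↥T)
    (hc : T.map (QuotientGroup.mk' N) ≤ Subgroup.centralizer
      (((pResidual p X ⊔ N).map (QuotientGroup.mk' N) : Subgroup (X ⧸ N)) : Set (X ⧸ N))) :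
    T ≤ N := by
  have := h.kbar_normal
  have h1 := eq_bot_of_isPGroup_of_le_centralizer_of_pCore_eq_bot h.hred
    ((pResidual p X ⊔ N).map (QuotientGroup.mk' N)) h.kbar_quot (hT.map _) hc
  rwa [Subgroup.map_eq_bot_iff, QuotientGroup.ker_mk'] at h1

/-- `K̄` lies in the image of `W`. -/
theorem kbar_le_map_W (h : LQSData p N W Q Y) :
    (pResidual p X ⊔ N).map (QuotientGroup.mk' N) ≤ W.map (QuotientGroup.mk' N) := by
  have := h.kbar_normal
  have hWn : (W.map (QuotientGroup.mk' N)).Normal :=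
    Subgroup.Normal.map h.hWn _ (QuotientGroup.mk'_surjective N)
  rcases commutator_eq_self_or_eq_bot_of_isQuasisimple h.hqs (W.map (QuotientGroup.mk' N))
    with h1 | h1
  · rw [← h1]
    exact Subgroup.commutator_le_right _ _
  · exfalso
    apply h.hQN
    apply h.le_of_map_le_centralizer Q h.hQp
    rw [Subgroup.commutator_comm, Subgroup.commutator_eq_bot_iff_le_centralizer] at h1
    exact (Subgroup.map_mono h.hQW).trans h1

/-- `K̄` lies in the image of `Y`. -/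
theorem kbar_le_map_Y (h : LQSData p N W Q Y) :
    (pResidual p X ⊔ N).map (QuotientGroup.mk' N) ≤ Y.map (QuotientGroup.mk' N) := by
  have hYn : (Y.map (QuotientGroup.mk' N)).Normal :=
    Subgroup.Normal.map h.Y_normal _ (QuotientGroup.mk'_surjective N)
  set Kb := (pResidual p X ⊔ N).map (QuotientGroup.mk' N) with hKb
  have hperf : Group.IsPerfect ↥Kb := h.hqs.1
  have hq : IsPGroup p (↥Kb ⧸ (Y.map (QuotientGroup.mk' N)).subgroupOf Kb) := by
    intro x
    obtain ⟨a, rfl⟩ := QuotientGroup.mk_surjective x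
    obtain ⟨w, hw, hwa⟩ := h.kbar_le_map_W a.2
    obtain ⟨k, hk⟩ := exists_pow_mem_opOf (p := p) W hw
    refine ⟨k, ?_⟩
    rw [← QuotientGroup.mk_pow, QuotientGroup.eq_one_iff, Subgroup.mem_subgroupOf]
    rw [Subgroup.coe_pow, ← hwa, ← map_pow, h.hY]
    exact Subgroup.mem_map_of_mem _ hk
  have h1 := eq_top_of_isPerfect_of_isPGroup_quotient _ hq
  rwa [Subgroup.subgroupOf_eq_top] at h1

theorem Y_le_pResidual (h : LQSData p N W Q Y) : Y ≤ pResidual p X := by
  rw [h.hY, opOf_le_iff]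
  intro x _ hco
  exact mem_pResidual_of_coprime hco

/-- Conclusion (1). -/
theorem sup_eq (h : LQSData p N W Q Y) : pResidual p X ⊔ N = Y ⊔ N := by
  apply le_antisymm
  · have h1 := Subgroup.comap_mono (f := QuotientGroup.mk' N) h.kbar_le_map_Y
    rw [comap_map_mk' N le_sup_right, Subgroup.comap_map_eq, QuotientGroup.ker_mk'] at h1
    exact h1
  · exact sup_le_sup_right h.Y_le_pResidual N

theorem map_Y_eq (h : LQSData p N W Q Y) :
    Y.map (QuotientGroup.mk' N) = (pResidual p X ⊔ N).map (QuotientGroup.mk' N) := by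
  rw [h.sup_eq, Subgroup.map_sup, map_mk'_self, sup_bot_eq]

/-! ### `Y` is perfect -/

theorem pCoreOf_normal (_h : LQSData p N W Q Y) : (pCoreOf p N).Normal := by
  rw [← Subgroup.normalizer_eq_top_iff, eq_top_iff]
  refine le_trans ?_ (normalizer_le_normalizer_pCoreOf p N)
  rw [Subgroup.normalizer_eq_top_iff.mpr hN]

/-- `[N, W] ≤ O_p(N)`. -/
theorem commutator_N_W_le (h : LQSData p N W Q Y) : ⁅N, W⁆ ≤ pCoreOf p N := by
  have := h.pCoreOf_normal
  obtain ⟨D, hD⟩ := exists_centralizerMod N (pCoreOf p N)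
  rw [← hD]
  apply h.hgen
  intro A _ hAp hNA
  rw [hD]
  apply le_pCoreOf (Subgroup.commutator_le_left N A) (le_normalizer_commutator_left N A)
  exact hAp.to_le (commutator_le_right_of_le_normalizer hNA)

theorem Y_le_commutator_sup (h : LQSData p N W Q Y) : Y ≤ ⁅Y, Y⁆ ⊔ N := by
  have h1 := Helper21.qs_commutator_eq_self h.hqs
  rw [← h.map_Y_eq, ← Subgroup.map_commutator] at h1
  have h2 : Y ≤ (Y.map (QuotientGroup.mk' N)).comap (QuotientGroup.mk' N) :=
    Subgroup.le_comap_map _ _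
  rw [← h1, Subgroup.comap_map_eq, QuotientGroup.ker_mk'] at h2
  exact h2

/-- If `Y ≤ D ⊔ N` with `D ≤ Y` then `Y ≤ D ⊔ (Y ⊓ N)`. -/
theorem le_sup_inf_of_le_sup (_h : LQSData p N W Q Y) {D : Subgroup X} (hDY : D ≤ Y)
    (hY : Y ≤ D ⊔ N) : Y ≤ D ⊔ (Y ⊓ N) := by
  intro y hy
  obtain ⟨c, hc, n, hn, rfl⟩ := Helper21.exists_mul_of_mem_sup_normal (hY hy)
  have hnY : n ∈ Y := by
    have := Y.mul_mem (Y.inv_mem (hDY hc)) hy
    simpa using this
  exact Subgroup.mul_mem_sup hc ⟨hnY, hn⟩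

theorem commutator_W_inf_le (h : LQSData p N W Q Y) : ⁅W, Y ⊓ N⁆ ≤ pCoreOf p N ⊓ Y := by
  have := h.Y_normal
  apply le_inf
  · rw [Subgroup.commutator_comm]
    exact (Subgroup.commutator_mono inf_le_right le_rfl).trans h.commutator_N_W_le
  · exact (Subgroup.commutator_mono le_rfl inf_le_left).trans (Subgroup.commutator_le_right W Y)

theorem Y_le_Y4 (h : LQSData p N W Q Y) : Y ≤ ⁅Y, Y⁆ ⊔ (pCoreOf p N ⊓ Y) := by
  have hYn := h.Y_normal
  have hPn := h.pCoreOf_normal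
  have hWn := h.hWn
  set Y₄ := ⁅Y, Y⁆ ⊔ (pCoreOf p N ⊓ Y) with hY₄
  have hY₄n : Y₄.Normal := inferInstance
  -- `[W, Y] ≤ Y₄`
  have hWY : ⁅W, Y⁆ ≤ Y₄ := by
    obtain ⟨D', hD'⟩ := exists_centralizerMod W Y₄
    rw [← hD']
    refine le_trans (h.le_sup_inf_of_le_sup (Subgroup.commutator_le_left Y Y)
      h.Y_le_commutator_sup) ?_
    apply sup_le
    · rw [hD']
      exact (Subgroup.commutator_le_right W ⁅Y, Y⁆).trans le_sup_left
    · rw [hD']
      exact h.commutator_W_inf_le.trans le_sup_right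
  -- pass to `X ⧸ Y₄`
  set π₄ := QuotientGroup.mk' Y₄ with hπ₄
  set Wt := W.map π₄ with hWt
  set Yt := Y.map π₄ with hYt
  have hYtn : Yt.Normal := Subgroup.Normal.map hYn _ (QuotientGroup.mk'_surjective Y₄)
  have hcomm : ⁅Wt, Yt⁆ = ⊥ := by
    rw [hWt, hYt, ← Subgroup.map_commutator, Subgroup.map_eq_bot_iff, QuotientGroup.ker_mk']
    exact hWY
  rw [Subgroup.commutator_eq_bot_iff_le_centralizer] at hcomm
  have hAc : Yt.subgroupOf Wt ≤ Subgroup.center ↥Wt := by
    intro a ha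
    rw [Subgroup.mem_center_iff]
    intro b
    have hb := Subgroup.mem_centralizer_iff.mp (hcomm b.2) a.1 (Subgroup.mem_subgroupOf.mp ha)
    exact Subtype.ext hb.symm
  have hq : IsPGroup p (↥Wt ⧸ Yt.subgroupOf Wt) := by
    intro x
    obtain ⟨v, rfl⟩ := QuotientGroup.mk_surjective x
    obtain ⟨w, hw, hwv⟩ := v.2
    obtain ⟨k, hk⟩ := exists_pow_mem_opOf (p := p) W hw
    refine ⟨k, ?_⟩
    rw [← QuotientGroup.mk_pow, QuotientGroup.eq_one_iff, Subgroup.mem_subgroupOf,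
      Subgroup.coe_pow, ← hwv, ← map_pow, hYt, h.hY]
    exact Subgroup.mem_map_of_mem _ hk
  obtain ⟨S⟩ := (inferInstance : Nonempty (Sylow p ↥Wt))
  have hSn := sylow_normal_of_central_of_isPGroup_quotient (Yt.subgroupOf Wt) hAc hq S
  have hWD : W ≤ ((S : Subgroup ↥Wt).map Wt.subtype).comap π₄ := by
    apply h.hgen
    intro A hAW hAp _ a ha
    rw [Subgroup.mem_comap]
    have haW : π₄ a ∈ Wt := Subgroup.mem_map_of_mem _ (hAW ha)
    have hAp' : IsPGroup p ↥((A.map π₄).subgroupOf Wt) := (hAp.map π₄).comap_subtype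
    have h1 := le_sylow_of_isPGroup_of_normal S hSn hAp'
    have h2 : (⟨π₄ a, haW⟩ : ↥Wt) ∈ (A.map π₄).subgroupOf Wt := by
      rw [Subgroup.mem_subgroupOf]
      exact Subgroup.mem_map_of_mem _ ha
    exact ⟨⟨π₄ a, haW⟩, h1 h2, rfl⟩
  rw [h.hY]
  apply opOf_le_of_forall_pow_mem
  intro w hw
  obtain ⟨s, hs, hsw⟩ := hWD hw
  obtain ⟨k, hk⟩ := S.isPGroup' ⟨s, hs⟩
  refine ⟨k, ?_⟩
  rw [← QuotientGroup.ker_mk' Y₄, MonoidHom.mem_ker, map_pow]
  change π₄ w ^ p ^ k = 1
  rw [← hsw]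
  have hk' : (s ^ p ^ k : ↥Wt) = 1 := by
    have := congrArg Subtype.val hk
    simpa using this
  have := congrArg Subtype.val hk'
  simpa using this

/-- Conclusion (2): `Y` is perfect. -/
theorem perfect (h : LQSData p N W Q Y) : ⁅Y, Y⁆ = Y := by
  have hYn := h.Y_normal
  have hPn := h.pCoreOf_normal
  apply le_antisymm (Subgroup.commutator_le_left Y Y)
  have h1 : opOf p Y ≤ ⁅Y, Y⁆ := by
    apply opOf_le_of_forall_pow_mem
    intro y hy
    have : (pCoreOf p N ⊓ Y).Normal := inferInstance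
    obtain ⟨c, hc, z, hz, rfl⟩ := Helper21.exists_mul_of_mem_sup_normal (h.Y_le_Y4 hy)
    obtain ⟨k, hk⟩ := pCoreOf_isPGroup p N ⟨z, hz.1⟩
    refine ⟨k, ?_⟩
    have hk' : z ^ p ^ k = 1 := by
      have := congrArg Subtype.val hk
      simpa using this
    rw [← QuotientGroup.ker_mk' ⁅Y, Y⁆, MonoidHom.mem_ker, map_pow, map_mul]
    have hc1 : (QuotientGroup.mk' ⁅Y, Y⁆) c = 1 := by
      rw [← MonoidHom.mem_ker, QuotientGroup.ker_mk']; exact hc
    rw [hc1, one_mul, ← map_pow, hk', map_one]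
  have h2 : opOf p Y = Y := by
    conv_lhs => rw [h.hY]
    rw [opOf_opOf, ← h.hY]
  rwa [h2] at h1

/-! ### The quasisimple quotients -/

/-- Conclusion (4): `Y / (N ∩ Y)` is quasisimple. -/
theorem isQuasisimple_quotient_inf (h : LQSData p N W Q Y) :
    IsQuasisimple (↥Y ⧸ N.subgroupOf Y) := by
  let φ : ↥Y →* X ⧸ N := (QuotientGroup.mk' N).comp Y.subtype
  have hker : φ.ker = N.subgroupOf Y := by
    ext y
    rw [MonoidHom.mem_ker, Subgroup.mem_subgroupOf]
    change (QuotientGroup.mk' N) (y : X) = 1 ↔ _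
    rw [← MonoidHom.mem_ker, QuotientGroup.ker_mk']
  have hrange : φ.range = (pResidual p X ⊔ N).map (QuotientGroup.mk' N) := by
    rw [← h.map_Y_eq]
    change ((QuotientGroup.mk' N).comp Y.subtype).range = _
    rw [← MonoidHom.map_range, Subgroup.range_subtype]
  have e1 : ↥Y ⧸ N.subgroupOf Y ≃* ↥Y ⧸ φ.ker := QuotientGroup.quotientMulEquivOfEq hker.symm
  have e2 : ↥Y ⧸ φ.ker ≃* φ.range := QuotientGroup.quotientKerEquivRange φ
  have e3 : φ.range ≃* ↥((pResidual p X ⊔ N).map (QuotientGroup.mk' N)) :=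
    MulEquiv.subgroupCongr hrange
  exact Helper29.isQuasisimple_of_mulEquiv (e1.trans (e2.trans e3)).symm h.hqs

theorem commutator_subgroupOf_le_pCore (h : LQSData p N W Q Y) :
    ⁅N.subgroupOf Y, (⊤ : Subgroup ↥Y)⁆ ≤ pCore p ↥Y := by
  have hYn := h.Y_normal
  have hPn := h.pCoreOf_normal
  have hle : ⁅N.subgroupOf Y, (⊤ : Subgroup ↥Y)⁆ ≤ (pCoreOf p N ⊓ Y).subgroupOf Y := by
    rw [Subgroup.commutator_le]
    intro n hn y _
    rw [Subgroup.mem_subgroupOf]
    have h2 : ((⁅n, y⁆ : ↥Y) : X) = ((y : X) * ⁅(y : X)⁻¹, (n : X)⁆ * (y : X)⁻¹) := by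
      simp only [commutatorElement_def, Subgroup.coe_mul, Subgroup.coe_inv]
      group
    have h3 : ⁅(y : X)⁻¹, (n : X)⁆ ∈ pCoreOf p N ⊓ Y :=
      h.commutator_W_inf_le (Subgroup.commutator_mem_commutator
        (W.inv_mem ((h.hY ▸ opOf_le p W : Y ≤ W) y.2)) ⟨n.2, Subgroup.mem_subgroupOf.mp hn⟩)
    rw [h2]
    have : (pCoreOf p N ⊓ Y).Normal := inferInstance
    exact this.conj_mem _ h3 _
  refine hle.trans (le_pCore inferInstance ?_)
  exact ((pCoreOf_isPGroup p N).to_le inf_le_left).comap_subtype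

/-- Conclusion (5): `Y / O_p(Y)` is quasisimple. -/
theorem isQuasisimple_quotient_pCore (h : LQSData p N W Q Y) :
    IsQuasisimple (↥Y ⧸ pCore p ↥Y) := by
  have hperf : Group.IsPerfect ↥Y := Subgroup.isPerfect_iff.mpr h.perfect
  have hYn := h.Y_normal
  apply isQuasisimple_quotient_of_commutator_le (N.subgroupOf Y) (pCore p ↥Y)
    h.commutator_subgroupOf_le_pCore h.isQuasisimple_quotient_inf
  intro htop
  have hp : IsPGroup p ↥Y := by
    have h1 := pCore_isPGroup p ↥Y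
    rw [htop] at h1
    exact h1.of_equiv Subgroup.topEquiv
  have hq : IsPGroup p (↥Y ⧸ N.subgroupOf Y) := hp.to_quotient _
  have hnil : Group.IsNilpotent (↥Y ⧸ N.subgroupOf Y) := hq.isNilpotent
  exact Helper21.qs_not_isSolvable h.isQuasisimple_quotient_inf IsNilpotent.to_isSolvable

/-- Conclusion (6): `[Y, T] = Y` for every `p`-subgroup `T ≰ N`. -/
theorem commutator_eq (h : LQSData p N W Q Y) (T : Subgroup X) (hT : IsPGroup p ↥T)
    (hTN : ¬ T ≤ N) : ⁅Y, T⁆ = Y := by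
  have hYn := h.Y_normal
  have hKn := h.kbar_normal
  have hY2Y : ⁅Y, T⁆ ≤ Y := Subgroup.commutator_le_left Y T
  apply le_antisymm hY2Y
  -- `[K̄, T̄] = K̄`
  have hK1 : ⁅(pResidual p X ⊔ N).map (QuotientGroup.mk' N), T.map (QuotientGroup.mk' N)⁆ =
      (pResidual p X ⊔ N).map (QuotientGroup.mk' N) := by
    rcases commutator_eq_self_or_eq_bot_of_isQuasisimple h.hqs (T.map (QuotientGroup.mk' N))
      with h1 | h1
    · exact h1
    · exfalso
      apply hTN
      apply h.le_of_map_le_centralizer T hT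
      rw [Subgroup.commutator_comm, Subgroup.commutator_eq_bot_iff_le_centralizer] at h1
      exact h1
  have hY2 : Y ≤ ⁅Y, T⁆ ⊔ N := by
    rw [← h.map_Y_eq, ← Subgroup.map_commutator] at hK1
    have h2 : Y ≤ (Y.map (QuotientGroup.mk' N)).comap (QuotientGroup.mk' N) :=
      Subgroup.le_comap_map _ _
    rw [← hK1, Subgroup.comap_map_eq, QuotientGroup.ker_mk'] at h2
    exact h2
  have hperf : Group.IsPerfect ↥Y := Subgroup.isPerfect_iff.mpr h.perfect
  have hMn : ((⁅Y, T⁆ : Subgroup X).subgroupOf Y).Normal :=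
    (Subgroup.normal_subgroupOf_iff_le_normalizer hY2Y).mpr (le_normalizer_commutator_left Y T)
  have hsup : (⁅Y, T⁆ : Subgroup X).subgroupOf Y ⊔ N.subgroupOf Y = ⊤ := by
    have h3 := h.le_sup_inf_of_le_sup hY2Y hY2
    rw [← Subgroup.subgroupOf_eq_top, Subgroup.subgroupOf_sup hY2Y inf_le_left] at h3
    rw [← h3]
    congr 1
    ext y
    simp only [Subgroup.mem_subgroupOf, Subgroup.mem_inf]
    exact ⟨fun hy => ⟨y.2, hy⟩, fun hy => hy.2⟩
  have h2 := sup_commutator_top_le ((⁅Y, T⁆ : Subgroup X).subgroupOf Y) (N.subgroupOf Y)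
    (pCore p ↥Y) h.commutator_subgroupOf_le_pCore
  have htop : (⊤ : Subgroup ↥Y) = ⁅(⊤ : Subgroup ↥Y), (⊤ : Subgroup ↥Y)⁆ := by
    have := Group.IsPerfect.commutator_eq_top (G := ↥Y)
    rw [commutator_def] at this
    exact this.symm
  rw [hsup, ← htop] at h2
  have hq : IsPGroup p (↥Y ⧸ (⁅Y, T⁆ : Subgroup X).subgroupOf Y) :=
    isPGroup_quotient_of_sup_eq_top (pCore_isPGroup p ↥Y) (eq_top_iff.mpr h2)
  have h4 := eq_top_of_isPerfect_of_isPGroup_quotient _ hq
  rwa [Subgroup.subgroupOf_eq_top] at h4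

end LQSData

end Cfsg.Agent.Lib.Helper47
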