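import Mathlib
import Cfsg.Agent.Lib.Helper41.N22.Defs

set_option autoImplicit false

/-!
# S4346 (`n_3 ≠ 22`), Part A modules [A-IDX], [A-FIX], [A-CUBE], [A-NORM] (helper47)

Statements verbatim from `notes/helper41_N22_modules.lean.txt` (helper41's project).
-/

namespace Cfsg.Agent.Lib.Helper47.N22
open Cfsg.Agent.Lib.Helper41.N22

section A
variable {G : Type*} [Group G] [Finite G]

/-- [A-FIX] -/
theorem smul_eq_iff_of_mem_diff
    (hidx : ∀ P Q : Sylow 3 G, P ≠ Q → Nat.card (P : Subgroup G) =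
      3 * Nat.card ((P : Subgroup G) ⊓ (Q : Subgroup G) : Subgroup G))
    (hcore : ∀ P Q R : Sylow 3 G, P ≠ Q → (P : Subgroup G) ⊓ (Q : Subgroup G) ≤ (R : Subgroup G))
    (P Q : Sylow 3 G) (hPQ : P ≠ Q) (p₀ : G) (hP : p₀ ∈ P) (hQ : p₀ ∉ Q) (R : Sylow 3 G) :
    p₀ • R = R ↔ R = P := by
  constructor
  · intro h
    by_contra hRP
    rw [Sylow.smul_eq_iff_mem_normalizer] at h
    have h1 : p₀ ∈ (P : Subgroup G) ⊓ Subgroup.normalizer (R : Set G) := ⟨hP, h⟩
    rw [IsPGroup.inf_normalizer_sylow P.isPGroup' R] at h1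
    exact hQ (hcore P R Q (fun h2 => hRP h2.symm) h1)
  · rintro rfl
    rw [Sylow.smul_eq_iff_mem_normalizer]
    exact Subgroup.le_normalizer hP

/-- the index of `P ⊓ Q` in `P` -/
theorem index_inf_subgroupOf
    (hidx : ∀ P Q : Sylow 3 G, P ≠ Q → Nat.card (P : Subgroup G) =
      3 * Nat.card ((P : Subgroup G) ⊓ (Q : Subgroup G) : Subgroup G))
    (P Q : Sylow 3 G) (hPQ : P ≠ Q) :
    (((P : Subgroup G) ⊓ (Q : Subgroup G)).subgroupOf (P : Subgroup G)).index = 3 := by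
  have hDP : (P : Subgroup G) ⊓ (Q : Subgroup G) ≤ (P : Subgroup G) := inf_le_left
  have h1 := Subgroup.card_mul_index
    (((P : Subgroup G) ⊓ (Q : Subgroup G)).subgroupOf (P : Subgroup G))
  have h2 : Nat.card (((P : Subgroup G) ⊓ (Q : Subgroup G)).subgroupOf (P : Subgroup G)) =
      Nat.card ((P : Subgroup G) ⊓ (Q : Subgroup G) : Subgroup G) :=
    Nat.card_congr (Subgroup.subgroupOfEquivOfLe hDP).toEquiv
  rw [h2, hidx P Q hPQ, mul_comm] at h1
  exact Nat.eq_of_mul_eq_mul_right Nat.card_pos h1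

/-- `P ⊓ Q` is normal in `P` -/
theorem normal_inf_subgroupOf
    (hidx : ∀ P Q : Sylow 3 G, P ≠ Q → Nat.card (P : Subgroup G) =
      3 * Nat.card ((P : Subgroup G) ⊓ (Q : Subgroup G) : Subgroup G))
    (P Q : Sylow 3 G) (hPQ : P ≠ Q) :
    (((P : Subgroup G) ⊓ (Q : Subgroup G)).subgroupOf (P : Subgroup G)).Normal := by
  apply Subgroup.normal_of_index_eq_minFac_card
  rw [index_inf_subgroupOf hidx P Q hPQ]
  obtain ⟨n, hn⟩ := IsPGroup.iff_card.1 P.isPGroup'
  have hn0 : n ≠ 0 := by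
    rintro rfl
    have h1 := hidx P Q hPQ
    rw [hn] at h1
    omega
  rw [hn, Nat.Prime.pow_minFac Nat.prime_three hn0]

/-- [A-CUBE] -/
theorem cube_mem_inf
    (hidx : ∀ P Q : Sylow 3 G, P ≠ Q → Nat.card (P : Subgroup G) =
      3 * Nat.card ((P : Subgroup G) ⊓ (Q : Subgroup G) : Subgroup G))
    (P Q : Sylow 3 G) (hPQ : P ≠ Q) (p₀ : G) (hP : p₀ ∈ P) :
    p₀ ^ 3 ∈ (P : Subgroup G) ⊓ (Q : Subgroup G) := by
  have hn := normal_inf_subgroupOf hidx P Q hPQ
  have h1 := Subgroup.pow_index_mem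
    (((P : Subgroup G) ⊓ (Q : Subgroup G)).subgroupOf (P : Subgroup G))
    (⟨p₀, hP⟩ : ↥(P : Subgroup G))
  rw [index_inf_subgroupOf hidx P Q hPQ, Subgroup.mem_subgroupOf] at h1
  simpa using h1

/-- in a group of order `3`, every element is `1`, `a` or `a⁻¹` (for `a ≠ 1`) -/
theorem eq_one_or_eq_or_eq_inv_of_card_three {A : Type*} [Group A] (hA : Nat.card A = 3)
    {a : A} (ha : a ≠ 1) (c : A) : c = 1 ∨ c = a ∨ c = a⁻¹ := by
  have : Fact (Nat.Prime 3) := ⟨Nat.prime_three⟩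
  have h1 : c ∈ Subgroup.zpowers a := mem_zpowers_of_prime_card hA ha
  obtain ⟨k, rfl⟩ := Subgroup.mem_zpowers_iff.1 h1
  have h2 : a ^ (k % 3) = a ^ k := by
    have := zpow_mod_natCard a k
    rwa [hA] at this
  rw [← h2]
  have h3 : 0 ≤ k % 3 := Int.emod_nonneg k (by norm_num)
  have h4 : k % 3 < 3 := Int.emod_lt_of_pos k (by norm_num)
  have h5 : a ^ (3 : ℤ) = 1 := by
    have : a ^ (Nat.card A) = 1 := pow_card_eq_one'
    rw [hA] at this
    exact_mod_cast this
  have h6 : k % 3 = 0 ∨ k % 3 = 1 ∨ k % 3 = 2 := by omega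
  rcases h6 with h | h | h
  · left; rw [h, zpow_zero]
  · right; left; rw [h, zpow_one]
  · right; right
    rw [h]
    have : a ^ (2 : ℤ) * a = 1 := by
      rw [← zpow_add_one]; exact h5
    exact eq_inv_of_mul_eq_one_left this

/-- conjugation preserves `P ⊓ Q` (which is the intersection of all Sylow subgroups) -/
theorem conj_mem_inf
    (hcore : ∀ P Q R : Sylow 3 G, P ≠ Q → (P : Subgroup G) ⊓ (Q : Subgroup G) ≤ (R : Subgroup G))
    (P Q : Sylow 3 G) (hPQ : P ≠ Q) (g d : G) (hd : d ∈ (P : Subgroup G) ⊓ (Q : Subgroup G)) :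
    g * d * g⁻¹ ∈ (P : Subgroup G) ⊓ (Q : Subgroup G) := by
  have key : ∀ R : Sylow 3 G, g * d * g⁻¹ ∈ (R : Subgroup G) := by
    intro R
    have h1 : d ∈ ((g⁻¹ • R : Sylow 3 G) : Subgroup G) := hcore P Q (g⁻¹ • R) hPQ hd
    rw [Sylow.coe_subgroup_smul] at h1
    obtain ⟨r, hr, hrd⟩ := h1
    have h2 : d = g⁻¹ * r * g := by
      rw [← hrd]
      simp
    rw [h2]
    have : g * (g⁻¹ * r * g) * g⁻¹ = r := by group
    rw [this]
    exact hr
  exact ⟨key P, key Q⟩

/-- [A-NORM] -/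
theorem conj_mem_cases
    (hidx : ∀ P Q : Sylow 3 G, P ≠ Q → Nat.card (P : Subgroup G) =
      3 * Nat.card ((P : Subgroup G) ⊓ (Q : Subgroup G) : Subgroup G))
    (hcore : ∀ P Q R : Sylow 3 G, P ≠ Q → (P : Subgroup G) ⊓ (Q : Subgroup G) ≤ (R : Subgroup G))
    (P Q : Sylow 3 G) (hPQ : P ≠ Q) (p₀ : G) (hP : p₀ ∈ P) (hQ : p₀ ∉ Q) (g : G)
    (hg : g • P = P) :
    ∃ d ∈ (P : Subgroup G) ⊓ (Q : Subgroup G),
      g * p₀ * g⁻¹ = p₀ * d ∨ g * p₀ * g⁻¹ = p₀⁻¹ * d := by
  have hgN : g ∈ Subgroup.normalizer (P : Set G) := Sylow.smul_eq_iff_mem_normalizer.1 hg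
  have huP : g * p₀ * g⁻¹ ∈ (P : Subgroup G) := (Subgroup.mem_set_normalizer_iff.1 hgN p₀).1 hP
  have huD : g * p₀ * g⁻¹ ∉ (P : Subgroup G) ⊓ (Q : Subgroup G) := by
    intro h
    have h1 := conj_mem_inf hcore P Q hPQ g⁻¹ _ h
    have e : g⁻¹ * (g * p₀ * g⁻¹) * g⁻¹⁻¹ = p₀ := by group
    rw [e] at h1
    exact hQ h1.2
  have hp₀D : p₀ ∉ (P : Subgroup G) ⊓ (Q : Subgroup G) := fun h => hQ h.2
  have hn := normal_inf_subgroupOf hidx P Q hPQ
  have hcard : Nat.card (↥(P : Subgroup G) ⧸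
      ((P : Subgroup G) ⊓ (Q : Subgroup G)).subgroupOf (P : Subgroup G)) = 3 := by
    rw [← Subgroup.index_eq_card]
    exact index_inf_subgroupOf hidx P Q hPQ
  have ha : (QuotientGroup.mk (⟨p₀, hP⟩ : ↥(P : Subgroup G)) : ↥(P : Subgroup G) ⧸
      ((P : Subgroup G) ⊓ (Q : Subgroup G)).subgroupOf (P : Subgroup G)) ≠ 1 := by
    intro h
    rw [QuotientGroup.eq_one_iff] at h
    exact hp₀D (Subgroup.mem_subgroupOf.1 h)
  rcases eq_one_or_eq_or_eq_inv_of_card_three hcard ha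
    (QuotientGroup.mk (⟨g * p₀ * g⁻¹, huP⟩ : ↥(P : Subgroup G))) with h | h | h
  · exfalso
    rw [QuotientGroup.eq_one_iff] at h
    exact huD (Subgroup.mem_subgroupOf.1 h)
  · have h1 := QuotientGroup.eq.1 h.symm
    rw [Subgroup.mem_subgroupOf] at h1
    refine ⟨p₀⁻¹ * (g * p₀ * g⁻¹), ?_, Or.inl (by group)⟩
    simpa using h1
  · rw [← QuotientGroup.mk_inv] at h
    have h1 := QuotientGroup.eq.1 h.symm
    rw [Subgroup.mem_subgroupOf] at h1
    refine ⟨p₀ * (g * p₀ * g⁻¹), ?_, Or.inr (by group)⟩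
    simpa using h1

/-- conjugate pairs of Sylow subgroups have intersections of the same order -/
theorem card_smul_inf_smul (g : G) (P Q : Sylow 3 G) :
    Nat.card (((g • P : Sylow 3 G) : Subgroup G) ⊓ ((g • Q : Sylow 3 G) : Subgroup G) :
      Subgroup G) = Nat.card ((P : Subgroup G) ⊓ (Q : Subgroup G) : Subgroup G) := by
  rw [Sylow.coe_subgroup_smul, Sylow.coe_subgroup_smul, ← Subgroup.smul_inf]
  exact (Nat.card_congr (Subgroup.equivSMul (MulAut.conj g)
    ((P : Subgroup G) ⊓ (Q : Subgroup G))).toEquiv).symm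

/-- the stabilizer in `P` of a Sylow subgroup `R` is `P ⊓ R` -/
theorem card_stabilizer_sylow (P R : Sylow 3 G) :
    Nat.card (MulAction.stabilizer ↥(P : Subgroup G) R) =
      Nat.card ((P : Subgroup G) ⊓ (R : Subgroup G) : Subgroup G) := by
  have h1 : MulAction.stabilizer ↥(P : Subgroup G) R =
      ((P : Subgroup G) ⊓ (R : Subgroup G)).subgroupOf (P : Subgroup G) := by
    ext p
    rw [MulAction.mem_stabilizer_iff, Subgroup.mem_subgroupOf]
    have h2 : p • R = R ↔ (p : G) • R = R := Iff.rfl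
    rw [h2, Sylow.smul_eq_iff_mem_normalizer, ← IsPGroup.inf_normalizer_sylow P.isPGroup' R]
    exact ⟨fun h => ⟨p.2, h⟩, fun h => h.2⟩
  rw [h1]
  exact Nat.card_congr (Subgroup.subgroupOfEquivOfLe inf_le_left).toEquiv

/-- [A-IDX] -/
theorem card_eq_three_mul_card_inf (h22 : Nat.card (Sylow 3 G) = 22)
    (h2t : ∀ P Q P' Q' : Sylow 3 G, P ≠ Q → P' ≠ Q' → ∃ g : G, g • P = P' ∧ g • Q = Q')
    (P Q : Sylow 3 G) (hPQ : P ≠ Q) :
    Nat.card (P : Subgroup G) = 3 * Nat.card ((P : Subgroup G) ⊓ (Q : Subgroup G) : Subgroup G) := by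
  classical
  set d := Nat.card ((P : Subgroup G) ⊓ (Q : Subgroup G) : Subgroup G) with hd
  -- all intersections `P ⊓ R`, `R ≠ P`, have order `d`
  have hconst : ∀ R : Sylow 3 G, R ≠ P →
      Nat.card ((P : Subgroup G) ⊓ (R : Subgroup G) : Subgroup G) = d := by
    intro R hR
    obtain ⟨g, hg1, hg2⟩ := h2t P Q P R hPQ (fun h => hR h.symm)
    have := card_smul_inf_smul g P Q
    rw [hg1, hg2] at this
    exact this
  have hdpos : 0 < d := Nat.card_pos
  have hddvd : d ∣ Nat.card (P : Subgroup G) := Subgroup.card_dvd_of_le inf_le_left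
  obtain ⟨s, hs⟩ := hddvd
  -- the class formula
  have : Fintype (Sylow 3 G) := Fintype.ofFinite _
  have : Fintype ↥(P : Subgroup G) := Fintype.ofFinite _
  have : Fintype (Quotient (MulAction.orbitRel ↥(P : Subgroup G) (Sylow 3 G))) :=
    Fintype.ofFinite _
  have hclass := MulAction.card_eq_sum_card_group_div_card_stabilizer
    ↥(P : Subgroup G) (Sylow 3 G)
  have hterm : ∀ ω : Quotient (MulAction.orbitRel ↥(P : Subgroup G) (Sylow 3 G)),
      Fintype.card ↥(P : Subgroup G) /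
        Fintype.card (MulAction.stabilizer ↥(P : Subgroup G) ω.out) =
      if ω = Quotient.mk'' P then 1 else s := by
    intro ω
    rw [← Nat.card_eq_fintype_card, ← Nat.card_eq_fintype_card, card_stabilizer_sylow]
    split_ifs with hω
    · have hout : ω.out = P := by
        have h1 : MulAction.orbitRel ↥(P : Subgroup G) (Sylow 3 G) ω.out P := by
          apply Quotient.exact'
          rw [Quotient.out_eq', hω]
        rw [MulAction.orbitRel_apply] at h1
        obtain ⟨p, hp⟩ := h1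
        have h2 : p • P = P := by
          show (p : G) • P = P
          rw [Sylow.smul_eq_iff_mem_normalizer]
          exact Subgroup.le_normalizer p.2
        rw [← hp]
        exact h2
      rw [hout, inf_idem]
      exact Nat.div_self Nat.card_pos
    · have hout : ω.out ≠ P := by
        intro h
        apply hω
        have h3 := Quotient.out_eq' ω
        rw [h] at h3
        exact h3.symm
      rw [hconst _ hout, hs]
      exact Nat.mul_div_cancel_left s hdpos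
  rw [← Nat.card_eq_fintype_card, h22] at hclass
  rw [Finset.sum_congr rfl (fun ω _ => hterm ω)] at hclass
  rw [← Finset.add_sum_erase Finset.univ _ (Finset.mem_univ (Quotient.mk'' P :
    Quotient (MulAction.orbitRel ↥(P : Subgroup G) (Sylow 3 G))))] at hclass
  rw [if_pos rfl] at hclass
  have hsum : ∑ x ∈ (Finset.univ.erase (Quotient.mk'' P :
      Quotient (MulAction.orbitRel ↥(P : Subgroup G) (Sylow 3 G)))),
      (if x = Quotient.mk'' P then 1 else s) =
      (Finset.univ.erase (Quotient.mk'' P :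
      Quotient (MulAction.orbitRel ↥(P : Subgroup G) (Sylow 3 G)))).card * s := by
    apply Finset.sum_const_nat
    intro x hx
    rw [if_neg (Finset.ne_of_mem_erase hx)]
  rw [hsum] at hclass
  have hs21 : s ∣ 21 := ⟨(Finset.univ.erase (Quotient.mk'' P :
      Quotient (MulAction.orbitRel ↥(P : Subgroup G) (Sylow 3 G)))).card, by
      rw [mul_comm]; omega⟩
  -- `s` is a power of `3`
  obtain ⟨n, hn⟩ := IsPGroup.iff_card.1 P.isPGroup'
  have hs3 : s ∣ 3 ^ n := ⟨d, by rw [← hn, hs, mul_comm]⟩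
  obtain ⟨j, -, hj⟩ := (Nat.dvd_prime_pow Nat.prime_three).1 hs3
  have hj1 : j ≤ 1 := by
    by_contra hj2
    have h9 : 9 ∣ s := by
      rw [hj]
      exact (show (9 : ℕ) = 3 ^ 2 by norm_num) ▸ pow_dvd_pow 3 (by omega)
    have := h9.trans hs21
    omega
  have hj0 : j ≠ 0 := by
    rintro rfl
    rw [pow_zero] at hj
    rw [hj, mul_one] at hs
    -- `P ⊓ Q = P`
    have h1 : (P : Subgroup G) ⊓ (Q : Subgroup G) = (P : Subgroup G) :=
      Subgroup.eq_of_le_of_card_ge inf_le_left (by rw [hs])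
    have h2 : (P : Subgroup G) ≤ (Q : Subgroup G) := inf_eq_left.1 h1
    exact hPQ (Sylow.ext (P.3 Q.2 h2).symm)
  have hj' : j = 1 := by omega
  rw [hj', pow_one] at hj
  rw [hs, hj, mul_comm]

end A

end Cfsg.Agent.Lib.Helper47.N22
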