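/-
helper47: ASCHOE-[T-HALFISO], abstract core.  In a hyperbolic quadratic space of dimension `2m`, a family
`u` of `m` independent vectors whose Gram data are the negatives of those of a family `w` admits a
family `p` orthogonal to all `u i` carrying the Gram data of `w` (Witt's theorem + an explicit embedding
of any `m`-dimensional quadratic space and of its negative into the hyperbolic space of dimension `2m`).
-/
import Mathlib
import Cfsg.Agent.Lib.Helper13.QuadWitt
import Cfsg.Agent.Lib.Helper94.OrthBasic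
import Cfsg.Agent.Lib.Helper94.OrthSiegel

set_option autoImplicit false
set_option linter.unusedSimpArgs false
set_option linter.unusedVariables false

namespace Cfsg.Agent.Lib.Helper47.OeTHalfIso

open LinearMap (BilinForm)
open Module
open Cfsg.Agent.Lib.Helper94

variable {K V : Type*} [Field K] [AddCommGroup V] [Module K V] {B : BilinForm K V} {Q : V → K}

/-- `Q` vanishes on the combinations of a totally singular, pairwise orthogonal family. -/
lemma Q_sum_eq_zero (hQ : QuadData B Q) {ι : Type*} (s : Finset ι) (v : ι → V)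
    (hv : ∀ i, Q (v i) = 0) (hB : ∀ i j, B (v i) (v j) = 0) (x : ι → K) :
    Q (∑ i ∈ s, x i • v i) = 0 := by
  classical
  induction s using Finset.induction_on with
  | empty => simp [hQ.zero]
  | insert a s ha ih =>
    rw [Finset.sum_insert ha, hQ.polar, ih, hQ.smul, hv]
    simp only [map_sum, map_smul, LinearMap.smul_apply, hB, smul_zero, Finset.sum_const_zero,
      mul_zero, add_zero]

/-- A quadratic-form-preserving criterion on a spanning family. -/
lemma Q_eq_of_span (hQ : QuadData B Q) {V' : Type*} [AddCommGroup V'] [Module K V']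
    {B' : BilinForm K V'} {Q' : V' → K} (hQ' : QuadData B' Q') (T : V' →ₗ[K] V)
    (hBB : ∀ x y, B (T x) (T y) = B' x y) (S : Set V') (hS : ∀ v ∈ S, Q (T v) = Q' v) :
    ∀ x ∈ Submodule.span K S, Q (T x) = Q' x := by
  intro x hx
  induction hx using Submodule.span_induction with
  | mem v hv => exact hS v hv
  | zero => rw [map_zero, hQ.zero, hQ'.zero]
  | add u v _ _ hu hv => rw [map_add, hQ.polar, hQ'.polar, hu, hv, hBB]
  | smul a u _ hu => rw [map_smul, hQ.smul, hQ'.smul, hu]

/-- A hyperbolic partner frame of a totally singular independent family. -/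
lemma exists_frame [FiniteDimensional K V] (hQ : QuadData B Q)
    (hnd : ∀ x, (∀ y, B x y = 0) → x = 0) {m : ℕ} (e : Fin m → V) (he : LinearIndependent K e)
    (hQe : ∀ i, Q (e i) = 0) (hBe : ∀ i j, B (e i) (e j) = 0) :
    ∃ f : Fin m → V, (∀ j, Q (f j) = 0) ∧ (∀ i j, B (f i) (f j) = 0) ∧
      ∀ i j, B (e i) (f j) = if i = j then 1 else 0 := by
  classical
  have hex : ∀ j : Fin m, ∃ y : V, (∀ i, i ≠ j → B (e i) y = 0) ∧ B (e j) y = 1 := by
    intro j
    have hj : e j ∉ Submodule.span K (e '' {i | i ≠ j}) :=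
      he.notMem_span_image (by simp)
    obtain ⟨y, hy1, hy2⟩ := hQ.exists_dual_vec hnd _ hj
    exact ⟨y, fun i hi => hy1 _ (Submodule.subset_span ⟨i, hi, rfl⟩), hy2⟩
  choose f' hf'0 hf'1 using hex
  have hef' : ∀ i j, B (e i) (f' j) = if i = j then 1 else 0 := by
    intro i j
    by_cases h : i = j
    · subst h; rw [if_pos rfl]; exact hf'1 i
    · rw [if_neg h]; exact hf'0 j i h
  have hf'e : ∀ i j, B (f' j) (e i) = if i = j then 1 else 0 := by
    intro i j; rw [hQ.symm]; exact hef' i j
  obtain ⟨c, hc⟩ : ∃ c : Fin m → Fin m → K, c = fun j k =>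
      if j < k then B (f' j) (f' k) else if j = k then Q (f' j) else 0 := ⟨_, rfl⟩
  have hcjj : ∀ j, c j j = Q (f' j) := by
    intro j; rw [hc]; simp
  have hcij : ∀ i j, i ≠ j → c i j + c j i = B (f' i) (f' j) := by
    intro i j hij
    rw [hc]
    rcases lt_or_gt_of_ne hij with h | h
    · simp only [if_pos h, if_neg (not_lt.2 h.le), if_neg (Ne.symm hij), add_zero]
    · simp only [if_neg (not_lt.2 h.le), if_neg hij, if_pos h, zero_add]
      exact hQ.symm _ _
  have hQs : ∀ j, Q (∑ k, c j k • e k) = 0 := fun j =>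
    Q_sum_eq_zero hQ Finset.univ e hQe hBe (c j)
  refine ⟨fun j => f' j - ∑ k, c j k • e k, ?_, ?_, ?_⟩
  · intro j
    show Q (f' j - ∑ k, c j k • e k) = 0
    rw [hQ.sub, hQs, map_sum]
    simp only [map_smul, smul_eq_mul, hf'e, mul_ite, mul_one, mul_zero, Finset.sum_ite_eq',
      Finset.mem_univ, if_true, hcjj]
    ring
  · have hmain : ∀ i j, i ≠ j →
        B (f' i - ∑ k, c i k • e k) (f' j - ∑ k, c j k • e k) = 0 := by
      intro i j hij
      simp only [map_sub, LinearMap.sub_apply, map_sum, LinearMap.sum_apply, map_smul,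
        LinearMap.smul_apply, smul_eq_mul, hf'e, hef', hBe, mul_zero, Finset.sum_const_zero,
        mul_ite, mul_one, Finset.sum_ite_eq', Finset.sum_ite_eq, Finset.mem_univ, if_true,
        sub_zero]
      rw [← hcij i j hij]
      ring
    intro i j
    by_cases hij : i = j
    · subst hij
      show B (f' i - ∑ k, c i k • e k) (f' i - ∑ k, c i k • e k) = 0
      rw [hQ.self, hQ.sub, hQs, map_sum]
      simp only [map_smul, smul_eq_mul, hf'e, mul_ite, mul_one, mul_zero, Finset.sum_ite_eq',
        Finset.mem_univ, if_true, hcjj]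
      ring
    · exact hmain i j hij
  · intro i j
    show B (e i) (f' j - ∑ k, c j k • e k) = _
    rw [map_sub, map_sum, hef']
    simp only [map_smul, smul_eq_mul, hBe, mul_zero, Finset.sum_const_zero, sub_zero]

/-- The embedding family `e i + ∑ j, a i j • f j`. -/
def cc {m : ℕ} (e f : Fin m → V) (a : Fin m → Fin m → K) (i : Fin m) : V :=
  e i + ∑ j, a i j • f j

lemma Q_cc (hQ : QuadData B Q) {m : ℕ} (e f : Fin m → V) (hQe : ∀ i, Q (e i) = 0)
    (hQf : ∀ j, Q (f j) = 0) (hBf : ∀ i j, B (f i) (f j) = 0)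
    (hef : ∀ i j, B (e i) (f j) = if i = j then 1 else 0) (a : Fin m → Fin m → K) (i : Fin m) :
    Q (cc e f a i) = a i i := by
  classical
  unfold cc
  rw [hQ.polar, hQe, Q_sum_eq_zero hQ Finset.univ f hQf hBf (a i), map_sum]
  simp only [map_smul, smul_eq_mul, hef, mul_ite, mul_one, mul_zero, Finset.sum_ite_eq,
    Finset.mem_univ, if_true]
  ring

lemma B_cc (hQ : QuadData B Q) {m : ℕ} (e f : Fin m → V) (hBe : ∀ i j, B (e i) (e j) = 0)
    (hBf : ∀ i j, B (f i) (f j) = 0)
    (hef : ∀ i j, B (e i) (f j) = if i = j then 1 else 0) (a b : Fin m → Fin m → K)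
    (i k : Fin m) : B (cc e f a i) (cc e f b k) = a i k + b k i := by
  classical
  have hfe : ∀ i j, B (f j) (e i) = if i = j then 1 else 0 := by
    intro i j; rw [hQ.symm]; exact hef i j
  unfold cc
  simp only [map_add, LinearMap.add_apply, map_sum, LinearMap.sum_apply, map_smul,
    LinearMap.smul_apply, smul_eq_mul, hBe, hBf, hef, hfe, mul_zero, Finset.sum_const_zero,
    mul_ite, mul_one, Finset.sum_ite_eq', Finset.sum_ite_eq, Finset.mem_univ, if_true,
    zero_add, add_zero]

lemma B_cc_f (hQ : QuadData B Q) {m : ℕ} (e f : Fin m → V)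
    (hBf : ∀ i j, B (f i) (f j) = 0)
    (hef : ∀ i j, B (e i) (f j) = if i = j then 1 else 0) (a : Fin m → Fin m → K)
    (i k : Fin m) : B (cc e f a i) (f k) = if i = k then 1 else 0 := by
  classical
  unfold cc
  simp only [map_add, LinearMap.add_apply, map_sum, LinearMap.sum_apply, map_smul,
    LinearMap.smul_apply, smul_eq_mul, hBf, hef, mul_zero, Finset.sum_const_zero, add_zero]

lemma linearIndependent_cc (hQ : QuadData B Q) {m : ℕ} (e f : Fin m → V)
    (hBf : ∀ i j, B (f i) (f j) = 0)
    (hef : ∀ i j, B (e i) (f j) = if i = j then 1 else 0) (a : Fin m → Fin m → K) :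
    LinearIndependent K (cc e f a) := by
  classical
  rw [Fintype.linearIndependent_iff]
  intro g hg k
  have h1 : B (∑ i, g i • cc e f a i) (f k) = 0 := by
    rw [hg]; simp
  rw [map_sum, LinearMap.sum_apply] at h1
  simp only [map_smul, LinearMap.smul_apply, smul_eq_mul, B_cc_f hQ e f hBf hef, mul_ite, mul_one,
    mul_zero, Finset.sum_ite_eq', Finset.mem_univ, if_true] at h1
  exact h1

/-- **Core.**  In a non-degenerate quadratic space containing a totally singular independent family
`e` of `m` vectors: if `u` (independent) carries the negatives of the Gram data of `w`, then some family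
`p`, orthogonal to all the `u i`, carries the Gram data of `w`. -/
theorem exists_perp_copy [FiniteDimensional K V] (hQ : QuadData B Q)
    (hnd : ∀ x, (∀ y, B x y = 0) → x = 0) {m : ℕ} (e : Fin m → V) (he : LinearIndependent K e)
    (hQe : ∀ i, Q (e i) = 0) (hBe : ∀ i j, B (e i) (e j) = 0) (w u : Fin m → V)
    (hu : LinearIndependent K u) (hQu : ∀ i, Q (u i) = -Q (w i))
    (hBu : ∀ i j, B (u i) (u j) = -B (w i) (w j)) :
    ∃ p : Fin m → V, (∀ k, Q (p k) = Q (w k)) ∧ (∀ k l, B (p k) (p l) = B (w k) (w l)) ∧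
      ∀ k i, B (p k) (u i) = 0 := by
  classical
  obtain ⟨f, hQf, hBf, hef⟩ := exists_frame hQ hnd e he hQe hBe
  obtain ⟨a, ha⟩ : ∃ a : Fin m → Fin m → K, a = fun i j =>
      if i < j then B (w i) (w j) else if i = j then Q (w i) else 0 := ⟨_, rfl⟩
  have haii : ∀ i, a i i = Q (w i) := by
    intro i; rw [ha]; simp
  have haij : ∀ i j, a i j + a j i = B (w i) (w j) := by
    intro i j
    by_cases hij : i = j
    · subst hij
      rw [haii, hQ.self]; ring
    · rw [ha]
      rcases lt_or_gt_of_ne hij with h | h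
      · simp only [if_pos h, if_neg (not_lt.2 h.le), if_neg (Ne.symm hij), add_zero]
      · simp only [if_neg (not_lt.2 h.le), if_neg hij, if_pos h, zero_add]
        exact hQ.symm _ _
  -- the two embedded families
  obtain ⟨c, hc⟩ : ∃ c : Fin m → V, c = cc e f (fun i j => -a i j) := ⟨_, rfl⟩
  obtain ⟨c', hc'⟩ : ∃ c' : Fin m → V, c' = cc e f (fun i j => a j i) := ⟨_, rfl⟩
  have hQc : ∀ i, Q (c i) = Q (u i) := by
    intro i; rw [hc, Q_cc hQ e f hQe hQf hBf hef, hQu, haii]
  have hBc : ∀ i j, B (c i) (c j) = B (u i) (u j) := by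
    intro i j
    rw [hc, B_cc hQ e f hBe hBf hef, hBu, ← haij i j]; ring
  have hQc' : ∀ k, Q (c' k) = Q (w k) := by
    intro k; rw [hc', Q_cc hQ e f hQe hQf hBf hef, haii]
  have hBc' : ∀ k l, B (c' k) (c' l) = B (w k) (w l) := by
    intro k l
    rw [hc', B_cc hQ e f hBe hBf hef, ← haij k l]; ring
  have hBc'c : ∀ k i, B (c' k) (c i) = 0 := by
    intro k i
    rw [hc', hc, B_cc hQ e f hBe hBf hef]; ring
  have hcli : LinearIndependent K c := by
    rw [hc]; exact linearIndependent_cc hQ e f hBf hef _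
  obtain ⟨T, hT, hTc⟩ := Cfsg.Agent.Lib.Helper13.witt_families_quad hQ.toQF (hQ.nondeg_toQF hnd)
    m c u hcli hu (fun i => hQc i) (fun i j => by
      rw [hQ.polar_toQF, hQ.polar_toQF]; exact hBc i j)
  have hTO : T ∈ OG Q := fun z => hT z
  refine ⟨fun k => T (c' k), ?_, ?_, ?_⟩
  · intro k
    show Q (T (c' k)) = _
    rw [hTO (c' k), hQc']
  · intro k l
    show B (T (c' k)) (T (c' l)) = _
    rw [hQ.B_map hTO, hBc']
  · intro k i
    show B (T (c' k)) (u i) = 0
    rw [← hTc i, hQ.B_map hTO, hBc'c]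

end Cfsg.Agent.Lib.Helper47.OeTHalfIso
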