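/-
helper47: ASCHOE-[T-HALFISO].  In a quadratic space of plus type, two complementary orthogonal
non-degenerate subspaces of the same even dimension are isometric.
-/
import Mathlib
import Cfsg.Prelude.Def_GeometricClasses
import Cfsg.Agent.Lib.Helper99.AschDefs
import Cfsg.Agent.Lib.Helper55.Oe.Defs
import Cfsg.Agent.Lib.Helper94.OrthBridge
import Cfsg.Agent.Lib.Helper94.OmegaSwap
import Cfsg.Agent.Lib.Helper47.OeTHalfIsoCore

set_option autoImplicit false
set_option linter.unusedSimpArgs false
set_option linter.unusedVariables false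

namespace Cfsg.Agent.Lib.Helper55.Oe

open Cfsg Cfsg.Geo Cfsg.Agent.Lib.Helper99.Asch
open scoped MatrixGroups Matrix Kronecker
open Module

variable {n : ℕ} {F : Type*} [Field F] [Fintype F]

/-- ASCHOE-[T-HALFISO]. -/
theorem areIsometricFor_halves_of_plus {Q : (Fin n → F) → F} (hQ : IsNondegenerateQuadraticForm Q)
    (hp : IsPlusTypeOn Q ⊤) (W W' : Submodule F (Fin n → F))
    (hW : IsNondegenerateOn (QuadraticMap.polar Q) W) (hW' : IsNondegenerateOn (QuadraticMap.polar Q) W')
    (horth : AreOrthogonalFor (QuadraticMap.polar Q) W W') (hsup : W ⊔ W' = ⊤)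
    (hdim : Module.finrank F W = Module.finrank F W') (hev : Even (Module.finrank F W)) :
    AreIsometricFor Q W W' := by
  classical
  have hD := Cfsg.Agent.Lib.Helper94.quadData_polarBilin hQ
  have hnd := Cfsg.Agent.Lib.Helper94.nondeg_polarBilin hQ
  obtain ⟨B, hB⟩ : ∃ B : LinearMap.BilinForm F (Fin n → F),
      B = Cfsg.Agent.Lib.Helper94.polarBilin hQ := ⟨_, rfl⟩
  rw [← hB] at hD hnd
  have hBpol : ∀ x y, B x y = QuadraticMap.polar Q x y := by
    intro x y; rw [hB]; rfl
  -- non-degeneracy of `W` in the form we need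
  have hWnd : ∀ p ∈ W, (∀ p' ∈ W, B p p' = 0) → p = 0 := by
    intro p hp' h
    by_contra h0
    obtain ⟨x, hx, hx0⟩ := (hW p hp' h0).2
    exact hx0 (by rw [← hBpol]; exact h x hx)
  have hndP : ∀ x : W, (∀ y : W, B.restrict W x y = 0) → x = 0 := by
    intro x hx
    exact Subtype.ext (hWnd x x.2 (fun p' hp' => hx ⟨p', hp'⟩))
  -- `W ⊓ W' = ⊥`, dimensions
  have hinf : W ⊓ W' = ⊥ := by
    rw [eq_bot_iff]
    intro v hv
    rw [Submodule.mem_inf] at hv
    rw [Submodule.mem_bot]
    apply hWnd v hv.1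
    intro p' hp'
    rw [hD.symm, hBpol]
    exact horth p' hp' v hv.2
  obtain ⟨m, hm⟩ : ∃ m, m = finrank F W := ⟨_, rfl⟩
  have hn : n = 2 * m := by
    have h1 := Submodule.finrank_sup_add_finrank_inf_eq W W'
    rw [hsup, hinf, finrank_bot, finrank_top, Module.finrank_fin_fun, ← hdim, ← hm] at h1
    omega
  -- the totally singular subspace
  obtain ⟨U, -, hUs, hUd⟩ := hp
  have hUm : finrank F U = m := by
    rw [finrank_top, Module.finrank_fin_fun] at hUd
    omega
  obtain ⟨bU⟩ : Nonempty (Basis (Fin m) F U) := ⟨Module.finBasisOfFinrankEq F U hUm⟩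
  obtain ⟨bW⟩ : Nonempty (Basis (Fin m) F W) := ⟨Module.finBasisOfFinrankEq F W hm.symm⟩
  have he : LinearIndependent F (fun i => (bU i : Fin n → F)) :=
    bU.linearIndependent.map' U.subtype (Submodule.ker_subtype U)
  have hQe : ∀ i, Q (bU i : Fin n → F) = 0 := fun i => hUs _ (bU i).2
  have hBe : ∀ i j, B (bU i : Fin n → F) (bU j : Fin n → F) = 0 := by
    intro i j
    have h1 := hD.polar (bU i : Fin n → F) (bU j : Fin n → F)
    rw [hQe, hQe, hUs _ (U.add_mem (bU i).2 (bU j).2)] at h1
    linear_combination -h1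
  -- the anti-isometry of `W`
  obtain ⟨A, hA⟩ : ∃ A : W →ₗ[F] W, ∀ x : W, Q ((A x : W) : Fin n → F) = -Q (x : Fin n → F) := by
    by_cases h2 : (2 : F) = 0
    · refine ⟨LinearMap.id, fun x => ?_⟩
      rw [LinearMap.id_apply]
      linear_combination Q (x : Fin n → F) * h2
    · exact (hD.restrict W).exists_anti_isometry hndP h2 (by rw [← hm] at hev; rw [← hm]; exact hev)
  have hAB : ∀ x y : W, B (A x : Fin n → F) (A y : Fin n → F) = -B (x : Fin n → F) (y : Fin n → F) := by
    intro x y
    have h1 := hD.polar (A x : Fin n → F) (A y : Fin n → F)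
    have h2 := hD.polar (x : Fin n → F) (y : Fin n → F)
    have h3 := hA (x + y)
    rw [map_add] at h3
    simp only [Submodule.coe_add] at h3
    rw [hA, hA] at h1
    linear_combination -h1 + h3 - h2
  have hAinj : Function.Injective A := by
    rw [← LinearMap.ker_eq_bot, LinearMap.ker_eq_bot']
    intro x hx
    apply hndP x
    intro y
    show B (x : Fin n → F) (y : Fin n → F) = 0
    have := hAB x y
    rw [hx] at this
    simp only [Submodule.coe_zero, map_zero, LinearMap.zero_apply] at this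
    linear_combination this
  have hAsurj : Function.Surjective A := LinearMap.injective_iff_surjective.1 hAinj
  have hu : LinearIndependent F (fun i => ((A (bW i) : W) : Fin n → F)) := by
    have h1 := bW.linearIndependent.map' A (LinearMap.ker_eq_bot.2 hAinj)
    exact h1.map' W.subtype (Submodule.ker_subtype W)
  -- apply the core
  obtain ⟨p, hQp, hBp, hpu⟩ := Cfsg.Agent.Lib.Helper47.OeTHalfIso.exists_perp_copy hD hnd
    (fun i => (bU i : Fin n → F)) he hQe hBe (fun i => (bW i : Fin n → F))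
    (fun i => ((A (bW i) : W) : Fin n → F)) hu (fun i => hA (bW i)) (fun i j => hAB (bW i) (bW j))
  -- `p k` is orthogonal to `W`, hence in `W'`
  have hpW : ∀ k, ∀ y ∈ W, B (p k) y = 0 := by
    intro k y hy
    obtain ⟨x, hx⟩ := hAsurj ⟨y, hy⟩
    have hy' : y = ((A x : W) : Fin n → F) := by rw [hx]
    rw [hy', ← bW.sum_repr x, map_sum]
    simp only [map_smul]
    rw [Submodule.coe_sum, map_sum]
    apply Finset.sum_eq_zero
    intro i _
    rw [Submodule.coe_smul, map_smul, hpu, smul_zero]
  have hperp : ∀ v : Fin n → F, (∀ y ∈ W, B v y = 0) → v ∈ W' := by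
    intro v hv
    have hvtop : v ∈ W ⊔ W' := by rw [hsup]; exact Submodule.mem_top
    obtain ⟨w₁, hw₁, w₂, hw₂, rfl⟩ := Submodule.mem_sup.1 hvtop
    have hw₁0 : w₁ = 0 := by
      apply hWnd w₁ hw₁
      intro y hy
      have h1 := hv y hy
      rw [map_add, LinearMap.add_apply] at h1
      have h2 : B w₂ y = 0 := by
        rw [hD.symm, hBpol]; exact horth y hy w₂ hw₂
      rw [h2, add_zero] at h1
      exact h1
    rw [hw₁0, zero_add]
    exact hw₂
  have hpW' : ∀ k, p k ∈ W' := fun k => hperp _ (hpW k)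
  -- the linear map
  obtain ⟨Φ, hΦ⟩ : ∃ Φ : W →ₗ[F] (Fin n → F), ∀ k, Φ (bW k) = p k :=
    ⟨bW.constr F p, fun k => bW.constr_basis F p k⟩
  have hΦW' : ∀ x, Φ x ∈ W' := by
    intro x
    rw [← bW.sum_repr x, map_sum]
    apply Submodule.sum_mem
    intro i _
    rw [map_smul, hΦ]
    exact W'.smul_mem _ (hpW' i)
  have hDW := hD.restrict W
  have hΦB : ∀ x y : W, B (Φ x) (Φ y) = B.restrict W x y := by
    intro x y
    have h1 : (B.compl₁₂ Φ Φ) = B.restrict W := by
      apply LinearMap.ext_basis bW bW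
      intro i j
      rw [LinearMap.compl₁₂_apply, hΦ, hΦ, hBp]
      rfl
    rw [← h1, LinearMap.compl₁₂_apply]
  have hΦQ : ∀ x : W, Q (Φ x) = Q (x : Fin n → F) := by
    intro x
    have h1 := Cfsg.Agent.Lib.Helper47.OeTHalfIso.Q_eq_of_span hD hDW Φ hΦB (Set.range bW)
      (by
        rintro _ ⟨k, rfl⟩
        rw [hΦ]; exact hQp k) x (by rw [bW.span_eq]; exact Submodule.mem_top)
    exact h1
  have hΦinj : Function.Injective (LinearMap.codRestrict W' Φ hΦW') := by
    rw [← LinearMap.ker_eq_bot, LinearMap.ker_eq_bot']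
    intro x hx
    have hx0 : Φ x = 0 := by
      have := congrArg (fun z : W' => (z : Fin n → F)) hx
      simpa using this
    apply hndP x
    intro y
    rw [← hΦB, hx0, map_zero, LinearMap.zero_apply]
  refine ⟨LinearMap.linearEquivOfInjective _ hΦinj hdim, fun w => ?_⟩
  rw [LinearMap.linearEquivOfInjective_apply]
  exact hΦQ w

end Cfsg.Agent.Lib.Helper55.Oe
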