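/-
helper47: ASCHOE-[T-HALVES], abstract pieces.
* `exists_perp_neg`: in a non-degenerate quadratic space with a totally singular independent family of
  `m` vectors, every independent family `u` of `m` vectors has an orthogonal "negative copy".
* `iso_iff_disc`: (q odd) two non-degenerate quadratic spaces of the same dimension are isometric iff the
  product of their Gram determinants is a square (S2623 in basis form).
* `isSquare_neg_iff`: `IsSquare (-x) ↔ (IsSquare x ↔ IsSquare (-1))` for `x ≠ 0` in a finite field.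
-/
import Mathlib
import Cfsg.Agent.S2623
import Cfsg.Agent.Lib.Helper47.OeTHalfIsoCore

set_option autoImplicit false
set_option linter.unusedSimpArgs false
set_option linter.unusedVariables false

namespace Cfsg.Agent.Lib.Helper47.OeTHalves

open LinearMap (BilinForm)
open Module
open Cfsg.Agent.Lib.Helper94
open Cfsg.Agent.Lib.Helper47.OeTHalfIso

section abstract

variable {K V : Type*} [Field K] [AddCommGroup V] [Module K V] {B : BilinForm K V} {Q : V → K}

/-- The negative of a quadratic datum. -/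
lemma quadData_neg (hQ : QuadData B Q) : QuadData (-B) (fun v => -Q v) where
  smul := fun c v => by rw [hQ.smul]; ring
  polar := fun u v => by
    rw [hQ.polar, LinearMap.neg_apply, LinearMap.neg_apply]; ring

/-- In a non-degenerate quadratic space containing a totally singular independent family `e` of `m`
vectors, every independent family `u` of `m` vectors has a family `p`, orthogonal to all the `u i`,
carrying the negatives of the Gram data of `u`. -/
theorem exists_perp_neg [FiniteDimensional K V] (hQ : QuadData B Q)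
    (hnd : ∀ x, (∀ y, B x y = 0) → x = 0) {m : ℕ} (e : Fin m → V) (he : LinearIndependent K e)
    (hQe : ∀ i, Q (e i) = 0) (hBe : ∀ i j, B (e i) (e j) = 0) (u : Fin m → V)
    (hu : LinearIndependent K u) :
    ∃ p : Fin m → V, (∀ k, Q (p k) = -Q (u k)) ∧ (∀ k l, B (p k) (p l) = -B (u k) (u l)) ∧
      ∀ k i, B (p k) (u i) = 0 := by
  classical
  obtain ⟨f, hQf, hBf, hef⟩ := exists_frame hQ hnd e he hQe hBe
  obtain ⟨a, ha⟩ : ∃ a : Fin m → Fin m → K, a = fun i j =>
      if i < j then B (u i) (u j) else if i = j then Q (u i) else 0 := ⟨_, rfl⟩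
  have haii : ∀ i, a i i = Q (u i) := by
    intro i; rw [ha]; simp
  have haij : ∀ i j, a i j + a j i = B (u i) (u j) := by
    intro i j
    by_cases hij : i = j
    · subst hij
      rw [haii, hQ.self]; ring
    · rw [ha]
      rcases lt_or_gt_of_ne hij with h | h
      · simp only [if_pos h, if_neg (not_lt.2 h.le), if_neg (Ne.symm hij), add_zero]
      · simp only [if_neg (not_lt.2 h.le), if_neg hij, if_pos h, zero_add]
        exact hQ.symm _ _
  obtain ⟨c, hc⟩ : ∃ c : Fin m → V, c = cc e f a := ⟨_, rfl⟩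
  obtain ⟨c', hc'⟩ : ∃ c' : Fin m → V, c' = cc e f (fun i j => -a j i) := ⟨_, rfl⟩
  have hQc : ∀ i, Q (c i) = Q (u i) := by
    intro i; rw [hc, Q_cc hQ e f hQe hQf hBf hef, haii]
  have hBc : ∀ i j, B (c i) (c j) = B (u i) (u j) := by
    intro i j
    rw [hc, B_cc hQ e f hBe hBf hef, ← haij i j]
  have hQc' : ∀ k, Q (c' k) = -Q (u k) := by
    intro k; rw [hc', Q_cc hQ e f hQe hQf hBf hef, haii]
  have hBc' : ∀ k l, B (c' k) (c' l) = -B (u k) (u l) := by
    intro k l
    rw [hc', B_cc hQ e f hBe hBf hef, ← haij k l]; ring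
  have hBc'c : ∀ k i, B (c' k) (c i) = 0 := by
    intro k i
    rw [hc', hc, B_cc hQ e f hBe hBf hef]; ring
  have hcli : LinearIndependent K c := by
    rw [hc]; exact linearIndependent_cc hQ e f hBf hef _
  obtain ⟨T, hT, hTc⟩ := Cfsg.Agent.Lib.Helper13.witt_families_quad hQ.toQF (hQ.nondeg_toQF hnd)
    m c u hcli hu (fun i => hQc i) (fun i j => by
      rw [hQ.polar_toQF, hQ.polar_toQF]; exact hBc i j)
  have hTO : T ∈ OG Q := fun z => hT z
  refine ⟨fun k => T (c' k), ?_, ?_, ?_⟩
  · intro k
    show Q (T (c' k)) = _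
    rw [hTO (c' k), hQc']
  · intro k l
    show B (T (c' k)) (T (c' l)) = _
    rw [hQ.B_map hTO, hBc']
  · intro k i
    show B (T (c' k)) (u i) = 0
    rw [← hTc i, hQ.B_map hTO, hBc'c]

end abstract

section disc

variable {F : Type*} [Field F]

/-- S2623 in basis form: isometric iff the product of the Gram determinants is a square. -/
theorem iso_iff_disc [Finite F] (h2 : (2 : F) ≠ 0) {m : ℕ} {V₁ V₂ : Type*}
    [AddCommGroup V₁] [Module F V₁] [AddCommGroup V₂] [Module F V₂]
    (Q₁ : QuadraticForm F V₁) (Q₂ : QuadraticForm F V₂)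
    (h₁ : (QuadraticMap.polarBilin Q₁).Nondegenerate) (h₂ : (QuadraticMap.polarBilin Q₂).Nondegenerate)
    (b₁ : Basis (Fin m) F V₁) (b₂ : Basis (Fin m) F V₂) :
    (∃ g : V₁ ≃ₗ[F] V₂, ∀ v, Q₂ (g v) = Q₁ v) ↔
      IsSquare ((LinearMap.BilinForm.toMatrix b₁ (QuadraticMap.polarBilin Q₁)).det *
        (LinearMap.BilinForm.toMatrix b₂ (QuadraticMap.polarBilin Q₂)).det) := by
  classical
  have : FiniteDimensional F V₁ := Module.Finite.of_basis b₁
  have : FiniteDimensional F V₂ := Module.Finite.of_basis b₂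
  have hf₁ : finrank F V₁ = m := by rw [finrank_eq_card_basis b₁, Fintype.card_fin]
  have hf₂ : finrank F V₂ = m := by rw [finrank_eq_card_basis b₂, Fintype.card_fin]
  constructor
  · rintro ⟨g, hg⟩
    have hmat : LinearMap.BilinForm.toMatrix (b₁.map g) (QuadraticMap.polarBilin Q₂) =
        LinearMap.BilinForm.toMatrix b₁ (QuadraticMap.polarBilin Q₁) := by
      ext i j
      rw [LinearMap.BilinForm.toMatrix_apply, LinearMap.BilinForm.toMatrix_apply,
        Basis.map_apply, Basis.map_apply]
      exact Cfsg.Agent.S2623.polar_isometry Q₁ Q₂ (g : V₁ →ₗ[F] V₂) hg (b₁ i) (b₁ j)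
    obtain ⟨s, hs, hdet⟩ := Cfsg.Agent.S2623.gram_change (QuadraticMap.polarBilin Q₂) (b₁.map g) b₂
    rw [hmat] at hdet
    rw [hdet]
    exact ⟨s * (LinearMap.BilinForm.toMatrix b₁ (QuadraticMap.polarBilin Q₁)).det, by ring⟩
  · intro hsq
    exact Cfsg.Agent.S2623.iso_of_disc h2 m V₁ V₂ Q₁ Q₂ h₁ h₂ hf₁ hf₂ b₁ b₂ hsq

/-- In a finite field: `-x` is a square iff (`x` is a square iff `-1` is a square), `x ≠ 0`. -/
theorem isSquare_neg_iff [Fintype F] (x : F) (hx : x ≠ 0) :
    IsSquare (-x) ↔ (IsSquare x ↔ IsSquare (-1 : F)) := by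
  classical
  have hm1 : (-1 : F) ≠ 0 := neg_ne_zero.2 one_ne_zero
  have hnx : -x ≠ 0 := neg_ne_zero.2 hx
  have hmul : quadraticChar F (-x) = quadraticChar F (-1) * quadraticChar F x := by
    rw [← map_mul]; congr 1; ring
  rw [← quadraticChar_one_iff_isSquare hnx, ← quadraticChar_one_iff_isSquare hx,
    ← quadraticChar_one_iff_isSquare hm1, hmul]
  rcases quadraticChar_dichotomy hx with h | h <;> rcases quadraticChar_dichotomy hm1 with h' | h' <;>
    rw [h, h'] <;> norm_num

end disc

end Cfsg.Agent.Lib.Helper47.OeTHalves
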