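/-
helper47: ASCHOE-[T-HALVES].  `q` odd, `V = D 0 ⊥ D 1` with two non-degenerate halves of odd dimension `m`:
`V` is of plus type iff (`D 0 ≅ D 1` iff `q ≡ 1 mod 4`).
Route: `V` plus ⇔ there is an anti-isometry `D 0 → D 1` (any field, any `m`: `plus_iff_antiIso`), and both
"isometric" and "anti-isometric" are read off the discriminants (S2623).
-/
import Mathlib
import Cfsg.Prelude.Def_GeometricClasses
import Cfsg.Agent.Lib.Helper99.AschDefs
import Cfsg.Agent.Lib.Helper55.Oe.Defs
import Cfsg.Agent.Lib.Helper94.OrthBridge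
import Cfsg.Agent.Lib.Helper94.QuadExist
import Cfsg.Agent.Lib.Helper47.OeTHalvesCore

set_option autoImplicit false
set_option linter.unusedSimpArgs false
set_option linter.unusedVariables false

namespace Cfsg.Agent.Lib.Helper47.OeTHalves

open Cfsg Cfsg.Geo
open Module

variable {n : ℕ} {F : Type*} [Field F]

/-- `V = W ⊥ W'` with `W` non-degenerate and `dim W = dim W'`: `V` is of plus type iff there is an
anti-isometry `W → W'`. -/
theorem plus_iff_antiIso {Q : (Fin n → F) → F} (hQ : IsNondegenerateQuadraticForm Q)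
    (W W' : Submodule F (Fin n → F)) (hW : IsNondegenerateOn (QuadraticMap.polar Q) W)
    (horth : AreOrthogonalFor (QuadraticMap.polar Q) W W') (hsup : W ⊔ W' = ⊤)
    (hdim : finrank F W = finrank F W') :
    IsPlusTypeOn Q ⊤ ↔
      ∃ g : W ≃ₗ[F] W', ∀ w : W, Q ((g w : W') : Fin n → F) = -Q (w : Fin n → F) := by
  classical
  have hD := Cfsg.Agent.Lib.Helper94.quadData_polarBilin hQ
  have hnd := Cfsg.Agent.Lib.Helper94.nondeg_polarBilin hQ
  obtain ⟨B, hB⟩ : ∃ B : LinearMap.BilinForm F (Fin n → F),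
      B = Cfsg.Agent.Lib.Helper94.polarBilin hQ := ⟨_, rfl⟩
  rw [← hB] at hD hnd
  have hBpol : ∀ x y, B x y = QuadraticMap.polar Q x y := by
    intro x y; rw [hB]; rfl
  have hWnd : ∀ p ∈ W, (∀ p' ∈ W, B p p' = 0) → p = 0 := by
    intro p hp' h
    by_contra h0
    obtain ⟨x, hx, hx0⟩ := (hW p hp' h0).2
    exact hx0 (by rw [← hBpol]; exact h x hx)
  have hndP : ∀ x : W, (∀ y : W, B.restrict W x y = 0) → x = 0 := by
    intro x hx
    exact Subtype.ext (hWnd x x.2 (fun p' hp' => hx ⟨p', hp'⟩))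
  have hinf : W ⊓ W' = ⊥ := by
    rw [eq_bot_iff]
    intro v hv
    rw [Submodule.mem_inf] at hv
    rw [Submodule.mem_bot]
    apply hWnd v hv.1
    intro p' hp'
    rw [hD.symm, hBpol]
    exact horth p' hp' v hv.2
  obtain ⟨m, hm⟩ : ∃ m, m = finrank F W := ⟨_, rfl⟩
  have hn : n = 2 * m := by
    have h1 := Submodule.finrank_sup_add_finrank_inf_eq W W'
    rw [hsup, hinf, finrank_bot, finrank_top, Module.finrank_fin_fun, ← hdim, ← hm] at h1
    omega
  have hDW := hD.restrict W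
  constructor
  · -- plus type gives an anti-isometry
    rintro ⟨U, -, hUs, hUd⟩
    have hUm : finrank F U = m := by
      rw [finrank_top, Module.finrank_fin_fun] at hUd
      omega
    obtain ⟨bU⟩ : Nonempty (Basis (Fin m) F U) := ⟨Module.finBasisOfFinrankEq F U hUm⟩
    obtain ⟨bW⟩ : Nonempty (Basis (Fin m) F W) := ⟨Module.finBasisOfFinrankEq F W hm.symm⟩
    have he : LinearIndependent F (fun i => (bU i : Fin n → F)) :=
      bU.linearIndependent.map' U.subtype (Submodule.ker_subtype U)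
    have hQe : ∀ i, Q (bU i : Fin n → F) = 0 := fun i => hUs _ (bU i).2
    have hBe : ∀ i j, B (bU i : Fin n → F) (bU j : Fin n → F) = 0 := by
      intro i j
      have h1 := hD.polar (bU i : Fin n → F) (bU j : Fin n → F)
      rw [hQe, hQe, hUs _ (U.add_mem (bU i).2 (bU j).2)] at h1
      linear_combination -h1
    have hu : LinearIndependent F (fun i => (bW i : Fin n → F)) :=
      bW.linearIndependent.map' W.subtype (Submodule.ker_subtype W)
    obtain ⟨p, hQp, hBp, hpu⟩ := exists_perp_neg hD hnd (fun i => (bU i : Fin n → F)) he hQe hBe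
      (fun i => (bW i : Fin n → F)) hu
    have hpW : ∀ k, ∀ y ∈ W, B (p k) y = 0 := by
      intro k y hy
      have hy' : y = (((⟨y, hy⟩ : W)) : Fin n → F) := rfl
      rw [hy', ← bW.sum_repr ⟨y, hy⟩, Submodule.coe_sum, map_sum]
      apply Finset.sum_eq_zero
      intro i _
      rw [Submodule.coe_smul, map_smul, hpu, smul_zero]
    have hperp : ∀ v : Fin n → F, (∀ y ∈ W, B v y = 0) → v ∈ W' := by
      intro v hv
      have hvtop : v ∈ W ⊔ W' := by rw [hsup]; exact Submodule.mem_top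
      obtain ⟨w₁, hw₁, w₂, hw₂, rfl⟩ := Submodule.mem_sup.1 hvtop
      have hw₁0 : w₁ = 0 := by
        apply hWnd w₁ hw₁
        intro y hy
        have h1 := hv y hy
        rw [map_add, LinearMap.add_apply] at h1
        have h2 : B w₂ y = 0 := by
          rw [hD.symm, hBpol]; exact horth y hy w₂ hw₂
        rw [h2, add_zero] at h1
        exact h1
      rw [hw₁0, zero_add]
      exact hw₂
    have hpW' : ∀ k, p k ∈ W' := fun k => hperp _ (hpW k)
    obtain ⟨Φ, hΦ⟩ : ∃ Φ : W →ₗ[F] (Fin n → F), ∀ k, Φ (bW k) = p k :=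
      ⟨bW.constr F p, fun k => bW.constr_basis F p k⟩
    have hΦW' : ∀ x, Φ x ∈ W' := by
      intro x
      rw [← bW.sum_repr x, map_sum]
      apply Submodule.sum_mem
      intro i _
      rw [map_smul, hΦ]
      exact W'.smul_mem _ (hpW' i)
    have hΦB : ∀ x y : W, B (Φ x) (Φ y) = (-(B.restrict W)) x y := by
      intro x y
      have h1 : (B.compl₁₂ Φ Φ) = -(B.restrict W) := by
        apply LinearMap.ext_basis bW bW
        intro i j
        rw [LinearMap.compl₁₂_apply, hΦ, hΦ, hBp]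
        rfl
      rw [← h1, LinearMap.compl₁₂_apply]
    have hΦQ : ∀ x : W, Q (Φ x) = -Q (x : Fin n → F) := by
      intro x
      have h1 := Cfsg.Agent.Lib.Helper47.OeTHalfIso.Q_eq_of_span hD (quadData_neg hDW) Φ hΦB
        (Set.range bW)
        (by
          rintro _ ⟨k, rfl⟩
          rw [hΦ]; exact hQp k) x (by rw [bW.span_eq]; exact Submodule.mem_top)
      exact h1
    have hΦinj : Function.Injective (LinearMap.codRestrict W' Φ hΦW') := by
      rw [← LinearMap.ker_eq_bot, LinearMap.ker_eq_bot']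
      intro x hx
      have hx0 : Φ x = 0 := by
        have := congrArg (fun z : W' => (z : Fin n → F)) hx
        simpa using this
      apply hndP x
      intro y
      have h1 := hΦB x y
      rw [hx0, map_zero, LinearMap.zero_apply, LinearMap.neg_apply, LinearMap.neg_apply] at h1
      linear_combination h1
    refine ⟨LinearMap.linearEquivOfInjective _ hΦinj hdim, fun w => ?_⟩
    rw [LinearMap.linearEquivOfInjective_apply]
    exact hΦQ w
  · -- an anti-isometry gives a totally singular graph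
    rintro ⟨g, hg⟩
    obtain ⟨ψ, hψ⟩ : ∃ ψ : W →ₗ[F] (Fin n → F), ∀ w : W, ψ w = (w : Fin n → F) + ((g w : W') : Fin n → F) :=
      ⟨W.subtype + W'.subtype ∘ₗ g.toLinearMap, fun w => rfl⟩
    have hψinj : Function.Injective ψ := by
      rw [← LinearMap.ker_eq_bot, LinearMap.ker_eq_bot']
      intro w hw
      rw [hψ] at hw
      have h1 : (w : Fin n → F) ∈ W ⊓ W' := by
        refine Submodule.mem_inf.2 ⟨w.2, ?_⟩
        have : (w : Fin n → F) = -((g w : W') : Fin n → F) := by
          linear_combination (exp := 1) hw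
        rw [this]
        exact W'.neg_mem (g w).2
      rw [hinf, Submodule.mem_bot] at h1
      exact Subtype.ext h1
    refine ⟨LinearMap.range ψ, le_top, ?_, ?_⟩
    · rintro _ ⟨w, rfl⟩
      rw [hψ, hD.polar, hg, hBpol, horth _ w.2 _ (g w).2]
      ring
    · rw [LinearMap.finrank_range_of_inj hψinj, finrank_top, Module.finrank_fin_fun, ← hm, hn]

end Cfsg.Agent.Lib.Helper47.OeTHalves

namespace Cfsg.Agent.Lib.Helper55.Oe

open Cfsg Cfsg.Geo Cfsg.Agent.Lib.Helper99.Asch
open scoped MatrixGroups Matrix Kronecker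
open Module

variable {n : ℕ} {F : Type*} [Field F] [Fintype F]

/-- ASCHOE-[T-HALVES]. -/
theorem isPlusTypeOn_top_halves_iff {Q : (Fin n → F) → F} (hQ : IsNondegenerateQuadraticForm Q)
    (hodd : Odd (Fintype.card F)) (m : ℕ) (hm : Odd m) (D : Fin 2 → Submodule F (Fin n → F))
    (hD : IsNondegenerateMDecomposition (QuadraticMap.polar Q) m D) :
    IsPlusTypeOn Q ⊤ ↔ (AreIsometricFor Q (D 0) (D 1) ↔ Fintype.card F % 4 = 1) := by
  classical
  have h2 : (2 : F) ≠ 0 := by
    intro h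
    have := CharTwo.of_one_ne_zero_of_two_eq_zero (one_ne_zero (α := F)) h
    have h1 := FiniteField.even_card_of_char_two (ringChar.eq F 2)
    rcases hodd with ⟨k, hk⟩
    omega
  have hDat := Cfsg.Agent.Lib.Helper94.quadData_polarBilin hQ
  obtain ⟨B, hB⟩ : ∃ B : LinearMap.BilinForm F (Fin n → F),
      B = Cfsg.Agent.Lib.Helper94.polarBilin hQ := ⟨_, rfl⟩
  rw [← hB] at hDat
  have hBpol : ∀ x y, B x y = QuadraticMap.polar Q x y := by
    intro x y; rw [hB]; rfl
  have hsup : D 0 ⊔ D 1 = ⊤ := by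
    rw [← hD.decomp.iSup_eq_top]
    apply le_antisymm
    · exact sup_le (le_iSup D 0) (le_iSup D 1)
    · apply iSup_le
      intro i
      fin_cases i
      · exact le_sup_left
      · exact le_sup_right
  have hdim : finrank F (D 0) = finrank F (D 1) := by
    rw [hD.decomp.finrank_eq, hD.decomp.finrank_eq]
  have horth := hD.orthogonal 0 1 (by decide)
  have key := Cfsg.Agent.Lib.Helper47.OeTHalves.plus_iff_antiIso hQ (D 0) (D 1) (hD.nondegenerate 0)
    horth hsup hdim
  -- non-degeneracy in restricted form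
  have hndP : ∀ i : Fin 2, ∀ x : D i, (∀ y : D i, B.restrict (D i) x y = 0) → x = 0 := by
    intro i x hx
    by_contra h0
    have h0' : (x : Fin n → F) ≠ 0 := fun h => h0 (Subtype.ext h)
    obtain ⟨y, hy, hy0⟩ := (hD.nondegenerate i x x.2 h0').2
    exact hy0 (by rw [← hBpol]; exact hx ⟨y, hy⟩)
  have hD0 := hDat.restrict (D 0)
  have hD1 := hDat.restrict (D 1)
  have hD0n := Cfsg.Agent.Lib.Helper47.OeTHalves.quadData_neg hD0
  have hndPn : ∀ x : D 0, (∀ y : D 0, (-(B.restrict (D 0))) x y = 0) → x = 0 := by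
    intro x hx
    apply hndP 0 x
    intro y
    have := hx y
    rw [LinearMap.neg_apply, LinearMap.neg_apply, neg_eq_zero] at this
    exact this
  obtain ⟨b0⟩ : Nonempty (Basis (Fin m) F (D 0)) :=
    ⟨Module.finBasisOfFinrankEq F (D 0) (hD.decomp.finrank_eq 0)⟩
  obtain ⟨b1⟩ : Nonempty (Basis (Fin m) F (D 1)) :=
    ⟨Module.finBasisOfFinrankEq F (D 1) (hD.decomp.finrank_eq 1)⟩
  have hiso := Cfsg.Agent.Lib.Helper47.OeTHalves.iso_iff_disc h2 hD0.toQF hD1.toQF
    (hD0.nondeg_toQF (hndP 0)) (hD1.nondeg_toQF (hndP 1)) b0 b1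
  have hanti := Cfsg.Agent.Lib.Helper47.OeTHalves.iso_iff_disc h2 hD0n.toQF hD1.toQF
    (hD0n.nondeg_toQF hndPn) (hD1.nondeg_toQF (hndP 1)) b0 b1
  rw [hD0.polarBilin_toQF, hD1.polarBilin_toQF] at hiso
  have hnegmat : LinearMap.BilinForm.toMatrix b0 (-(B.restrict (D 0))) =
      -LinearMap.BilinForm.toMatrix b0 (B.restrict (D 0)) := by
    ext i j
    rw [Matrix.neg_apply, LinearMap.BilinForm.toMatrix_apply, LinearMap.BilinForm.toMatrix_apply,
      LinearMap.neg_apply, LinearMap.neg_apply]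
  rw [hD0n.polarBilin_toQF, hD1.polarBilin_toQF, hnegmat, Matrix.det_neg, Fintype.card_fin,
    hm.neg_one_pow] at hanti
  obtain ⟨d0, hd0⟩ : ∃ d0, d0 = (LinearMap.BilinForm.toMatrix b0 (B.restrict (D 0))).det := ⟨_, rfl⟩
  obtain ⟨d1, hd1⟩ : ∃ d1, d1 = (LinearMap.BilinForm.toMatrix b1 (B.restrict (D 1))).det := ⟨_, rfl⟩
  rw [← hd0, ← hd1] at hiso hanti
  have hd0ne : d0 ≠ 0 := by
    rw [hd0, ← LinearMap.BilinForm.nondegenerate_iff_det_ne_zero b0, ← hD0.polarBilin_toQF]
    exact hD0.nondeg_toQF (hndP 0)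
  have hd1ne : d1 ≠ 0 := by
    rw [hd1, ← LinearMap.BilinForm.nondegenerate_iff_det_ne_zero b1, ← hD1.polarBilin_toQF]
    exact hD1.nondeg_toQF (hndP 1)
  have hprod : -1 * d0 * d1 = -(d0 * d1) := by ring
  rw [hprod, Cfsg.Agent.Lib.Helper47.OeTHalves.isSquare_neg_iff (d0 * d1) (mul_ne_zero hd0ne hd1ne),
    ← hiso] at hanti
  have hm1 : IsSquare (-1 : F) ↔ Fintype.card F % 4 = 1 := by
    rw [FiniteField.isSquare_neg_one_iff]
    rcases hodd with ⟨k, hk⟩
    omega
  rw [key]
  have e1 : (∃ g : (D 0) ≃ₗ[F] (D 1), ∀ w : D 0, Q ((g w : D 1) : Fin n → F) = -Q (w : Fin n → F)) ↔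
      ∃ g : (D 0) ≃ₗ[F] (D 1), ∀ v, hD1.toQF (g v) = hD0n.toQF v := Iff.rfl
  have e2 : AreIsometricFor Q (D 0) (D 1) ↔
      ∃ g : (D 0) ≃ₗ[F] (D 1), ∀ v, hD1.toQF (g v) = hD0.toQF v := Iff.rfl
  rw [e1, hanti, e2, hm1]

end Cfsg.Agent.Lib.Helper55.Oe
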