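/-
helper47: module RU-[C] of helper58's project RU (S4751): the centralizer of `Q`.
Exact statement of Cfsg/Agent/Lib/Helper58/RU/MODULES.md.
-/
import Mathlib
import Cfsg.Agent.Lib.Helper58.RU.Defs
import Cfsg.Agent.Lib.Helper80.GalProd
import Cfsg.Agent.Lib.Helper77.CenterIrr
import Cfsg.Agent.Lib.Helper26.IrrFactsInst

set_option autoImplicit false

namespace Cfsg.Agent.Lib.Helper47.RU

open Cfsg Cfsg.Agent.Lib.Helper58.RU
open scoped commutatorElement

universe u

variable {G : Type u} [Group G]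

/-- the dual of a finite commutative subgroup has the same order -/
theorem card_homs (Q : Subgroup G) [Finite Q] (hcomm : ∀ x ∈ Q, ∀ y ∈ Q, x * y = y * x) :
    Nat.card (Q →* ℂˣ) = Nat.card Q := by
  let _ : CommGroup Q :=
    { (inferInstance : Group Q) with mul_comm := fun a b => Subtype.ext (hcomm a a.2 b b.2) }
  have : NeZero (Monoid.exponent Q) := ⟨Monoid.exponent_ne_zero_of_finite⟩
  exact CommGroup.card_monoidHom_of_hasEnoughRootsOfUnity Q ℂ

/-- a central element has `‖χ z‖ = ‖χ 1‖` for irreducible `χ` -/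
theorem norm_eq_of_mem_center [Finite G] {χ : G → ℂ} (hχ : IsIrrCharacter G χ) {z : G}
    (hz : z ∈ Subgroup.center G) : ‖χ z‖ = ‖χ 1‖ := by
  let X : IrrCharacter G := ⟨χ, hχ⟩
  apply (Cfsg.Agent.Lib.Helper77.mem_irrCenter X z).1
  rw [Cfsg.Agent.Lib.Helper77.mem_irrCenter_iff_commutator]
  intro h
  have h1 : ⁅z, h⁆ = 1 := by
    rw [commutatorElement_eq_one_iff_mul_comm]
    exact (Subgroup.mem_center_iff.1 hz h).symm
  rw [h1]
  exact Subgroup.one_mem _

/-- **MODULE RU-[C]** (helper58's sheet), exact statement. -/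
theorem centralizer_eq [Finite G] {p : ℕ} [Fact p.Prime] (Q : Subgroup G) [Q.Normal] [Fintype Q]
    (hQp : IsPGroup p Q) {χ : G → ℂ} (hχ : IsIrrCharacter G χ)
    (hfaith : ∀ g : G, χ g = χ 1 → g = 1) (hnl : χ 1 ≠ 1)
    (hroot : ∀ g : G, p ∣ orderOf g → ‖χ g‖ = 1) (hcore : Core Q χ)
    (hA : ∀ y : G, ∑ x : Q, ‖χ (y * x)‖ ^ 2 = (Nat.card Q : ℝ) * ((fixedHoms Q y).ncard : ℝ)) :
    Subgroup.centralizer (Q : Set G) = Q ⊔ Subgroup.center G ∧ Q ⊓ Subgroup.center G = ⊥ ∧
      ∀ c ∈ Subgroup.centralizer (Q : Set G), (∃ k : ℕ, orderOf c = p ^ k) → c ∈ Q := by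
  classical
  have hp := (Fact.out : p.Prime)
  let _ : Fintype G := Fintype.ofFinite G
  set n := Nat.card Q with hn
  -- the degree
  obtain ⟨d, hd0, hd⟩ := (Cfsg.Agent.Lib.Helper26.irrFacts G).deg_pos χ hχ
  have hnd : n = d + 1 := by
    have h1 : (n : ℂ) - 1 = d := by rw [← hcore.deg, hd]
    have h2 : (n : ℂ) = ((d + 1 : ℕ) : ℂ) := by
      push_cast
      linear_combination h1
    exact_mod_cast h2
  have hd2 : 2 ≤ d := by
    rcases Nat.lt_or_ge d 2 with h | h
    · exfalso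
      have h1 : d = 1 := by omega
      apply hnl
      rw [hd, h1]
      simp
    · exact h
  have hn3 : 3 ≤ n := by omega
  have hn3' : (3 : ℝ) ≤ (n : ℝ) := by exact_mod_cast hn3
  have hnorm1 : ‖χ 1‖ = (n : ℝ) - 1 := by
    rw [hd, Complex.norm_natCast, hnd]
    push_cast
    ring
  -- `Q ≤ C`, `Z ≤ C`
  have hQC : Q ≤ Subgroup.centralizer (Q : Set G) := by
    intro x hx
    rw [Subgroup.mem_centralizer_iff]
    intro h hh
    exact hcore.comm h hh x hx
  have hZC : Subgroup.center G ≤ Subgroup.centralizer (Q : Set G) :=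
    Subgroup.center_le_centralizer _
  -- the homomorphisms fixed by an element of `C`
  have hΛ : Nat.card (Q →* ℂˣ) = n := card_homs Q hcore.comm
  have hΛfin : Finite (Q →* ℂˣ) := Nat.finite_of_card_ne_zero (by rw [hΛ]; omega)
  have hfixC : ∀ c ∈ Subgroup.centralizer (Q : Set G), fixedHoms Q c = {φ | φ ≠ 1} := by
    intro c hc
    ext φ
    constructor
    · exact fun h => h.1
    · intro h
      refine ⟨h, ?_⟩
      apply MonoidHom.ext
      intro x
      rw [conjHom_apply]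
      congr 1
      apply Subtype.ext
      have h1 := (Subgroup.mem_centralizer_iff.1 hc) x x.2
      show c * (x : G) * c⁻¹ = x
      rw [← h1]
      group
  have hncard : ({φ : Q →* ℂˣ | φ ≠ 1} : Set (Q →* ℂˣ)).ncard = n - 1 := by
    have h1 : ({φ : Q →* ℂˣ | φ ≠ 1} : Set (Q →* ℂˣ)) = {1}ᶜ := by
      ext φ
      simp
    rw [h1, Set.ncard_compl, Set.ncard_singleton, hΛ]
  have hsumC : ∀ c ∈ Subgroup.centralizer (Q : Set G),
      ∑ x : Q, ‖χ (c * x)‖ ^ 2 = (n : ℝ) * ((n : ℝ) - 1) := by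
    intro c hc
    rw [hA c, hfixC c hc, hncard, Nat.cast_sub (by omega)]
    simp
  -- orders of the elements of `Q`
  have hpQ : ∀ x ∈ Q, ∃ j : ℕ, orderOf x = p ^ j := by
    intro x hx
    obtain ⟨k, hk⟩ := hQp ⟨x, hx⟩
    have h1 : x ^ (p ^ k) = 1 := by
      have h2 := congrArg Subtype.val hk
      rw [Subgroup.coe_pow, Subgroup.coe_one] at h2
      exact h2
    obtain ⟨j, -, hj⟩ := (Nat.dvd_prime_pow hp).1 (orderOf_dvd_of_pow_eq_one h1)
    exact ⟨j, hj⟩
  have hpQ' : ∀ x ∈ Q, x ≠ 1 → p ∣ orderOf x := by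
    intro x hx hx1
    obtain ⟨j, hj⟩ := hpQ x hx
    have hj0 : j ≠ 0 := by
      intro h0
      rw [h0, pow_zero, orderOf_eq_one_iff] at hj
      exact hx1 hj
    rw [hj]
    exact dvd_pow_self p hj0
  -- (i) `p`-elements of `C` lie in `Q`
  have step_i : ∀ c ∈ Subgroup.centralizer (Q : Set G), (∃ k : ℕ, orderOf c = p ^ k) → c ∈ Q := by
    rintro c hc ⟨k, hk⟩
    by_contra hcQ
    have hall : ∀ x : Q, ‖χ (c * x)‖ = 1 := by
      intro x
      apply hroot
      obtain ⟨j, hj⟩ := hpQ x x.2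
      have hcomm : Commute c (x : G) := ((Subgroup.mem_centralizer_iff.1 hc) x x.2).symm
      have hdvd : orderOf (c * x) ∣ p ^ (max k j) := by
        refine (hcomm.orderOf_mul_dvd_lcm).trans ?_
        rw [hk, hj]
        exact Nat.lcm_dvd (pow_dvd_pow p (le_max_left _ _)) (pow_dvd_pow p (le_max_right _ _))
      obtain ⟨i, -, hi⟩ := (Nat.dvd_prime_pow hp).1 hdvd
      have hne : c * x ≠ 1 := by
        intro h
        apply hcQ
        have h1 : c = (x : G)⁻¹ := eq_inv_of_mul_eq_one_left h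
        rw [h1]
        exact Q.inv_mem x.2
      have hi0 : i ≠ 0 := by
        intro h0
        rw [h0, pow_zero, orderOf_eq_one_iff] at hi
        exact hne hi
      rw [hi]
      exact dvd_pow_self p hi0
    have h1 := hsumC c hc
    simp only [hall, one_pow, Finset.sum_const, Finset.card_univ, nsmul_eq_mul, mul_one] at h1
    rw [← Nat.card_eq_fintype_card] at h1
    nlinarith
  -- (ii) `p'`-elements of `C` are central
  have step_ii : ∀ c ∈ Subgroup.centralizer (Q : Set G), ¬ p ∣ orderOf c →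
      c ∈ Subgroup.center G := by
    intro c hc hpc
    apply Cfsg.Agent.Lib.Helper80GP.mem_center_of_norm_eq hχ hfaith
    have hall : ∀ x : Q, x ≠ 1 → ‖χ (c * x)‖ = 1 := by
      intro x hx1
      apply hroot
      obtain ⟨j, hj⟩ := hpQ x x.2
      have hx1' : (x : G) ≠ 1 := fun h => hx1 (Subtype.ext h)
      have hcomm : Commute c (x : G) := ((Subgroup.mem_centralizer_iff.1 hc) x x.2).symm
      have hcop : Nat.Coprime (orderOf c) (orderOf (x : G)) := by
        rw [hj]
        exact Nat.Coprime.pow_right j ((Nat.Prime.coprime_iff_not_dvd hp).2 hpc).symm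
      rw [hcomm.orderOf_mul_eq_mul_orderOf_of_coprime hcop]
      exact Dvd.dvd.mul_left (hpQ' x x.2 hx1') _
    have h1 := hsumC c hc
    rw [← Finset.add_sum_erase Finset.univ _ (Finset.mem_univ (1 : Q))] at h1
    have h2 : ∑ x ∈ Finset.univ.erase (1 : Q), ‖χ (c * x)‖ ^ 2 = (n : ℝ) - 1 := by
      have h21 : ∀ x ∈ Finset.univ.erase (1 : Q), ‖χ (c * x)‖ ^ 2 = 1 := by
        intro x hx
        rw [hall x (Finset.ne_of_mem_erase hx), one_pow]
      have h22 : Fintype.card Q = n := (Nat.card_eq_fintype_card).symm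
      rw [Finset.sum_congr rfl h21, Finset.sum_const, Finset.card_erase_of_mem (Finset.mem_univ _),
        Finset.card_univ, nsmul_eq_mul, mul_one, h22, Nat.cast_sub (by omega)]
      simp
    rw [h2] at h1
    simp only [Subgroup.coe_one, mul_one] at h1
    have h3 : ‖χ c‖ ^ 2 = ((n : ℝ) - 1) ^ 2 := by nlinarith
    have h4 : ‖χ c‖ = (n : ℝ) - 1 :=
      (sq_eq_sq₀ (norm_nonneg _) (by linarith)).1 h3
    rw [h4, hnorm1]
  -- (iii) `C ≤ Q Z`
  have step_iii : Subgroup.centralizer (Q : Set G) ≤ Q ⊔ Subgroup.center G := by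
    intro c hc
    have ho : orderOf c ≠ 0 := (orderOf_pos c).ne'
    obtain ⟨a, m, hm, hom⟩ := Nat.exists_eq_pow_mul_and_not_dvd ho p hp.ne_one
    have hcop : IsCoprime ((p ^ a : ℕ) : ℤ) (m : ℤ) :=
      Nat.isCoprime_iff_coprime.2
        (Nat.Coprime.pow_left a ((Nat.Prime.coprime_iff_not_dvd hp).2 hm))
    obtain ⟨α, β, hαβ⟩ := hcop
    set w := c ^ (α * ((p ^ a : ℕ) : ℤ)) with hw
    set y := c ^ (β * (m : ℤ)) with hy
    have hcwy : c = w * y := by
      rw [hw, hy, ← zpow_add, hαβ, zpow_one]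
    have hwC : w ∈ Subgroup.centralizer (Q : Set G) := Subgroup.zpow_mem _ hc _
    have hyC : y ∈ Subgroup.centralizer (Q : Set G) := Subgroup.zpow_mem _ hc _
    have hym : y ^ (p ^ a) = 1 := by
      have h1 : β * (m : ℤ) * ((p ^ a : ℕ) : ℤ) = ((orderOf c : ℕ) : ℤ) * β := by
        rw [hom]
        push_cast
        ring
      rw [hy, ← zpow_natCast, ← zpow_mul, h1, zpow_mul, zpow_natCast, pow_orderOf_eq_one,
        one_zpow]
    have hwm : w ^ m = 1 := by
      have h1 : α * ((p ^ a : ℕ) : ℤ) * (m : ℤ) = ((orderOf c : ℕ) : ℤ) * α := by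
        rw [hom]
        push_cast
        ring
      rw [hw, ← zpow_natCast, ← zpow_mul, h1, zpow_mul, zpow_natCast, pow_orderOf_eq_one,
        one_zpow]
    have hyQ : y ∈ Q := by
      apply step_i y hyC
      obtain ⟨j, -, hj⟩ := (Nat.dvd_prime_pow hp).1 (orderOf_dvd_of_pow_eq_one hym)
      exact ⟨j, hj⟩
    have hwZ : w ∈ Subgroup.center G :=
      step_ii w hwC (fun h => hm (h.trans (orderOf_dvd_of_pow_eq_one hwm)))
    rw [hcwy]
    exact Subgroup.mul_mem _ (Subgroup.mem_sup_right hwZ) (Subgroup.mem_sup_left hyQ)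
  -- (iv) `Q ∩ Z = 1`
  have step_iv : Q ⊓ Subgroup.center G = ⊥ := by
    rw [Subgroup.eq_bot_iff_forall]
    intro z hz
    obtain ⟨hzQ, hzZ⟩ := Subgroup.mem_inf.1 hz
    by_contra hz1
    have h1 : ‖χ z‖ = 1 := hroot z (hpQ' z hzQ hz1)
    have h2 : ‖χ z‖ = ‖χ 1‖ := norm_eq_of_mem_center hχ hzZ
    rw [h1, hnorm1] at h2
    linarith
  exact ⟨le_antisymm step_iii (sup_le hQC hZC), step_iv, step_i⟩

end Cfsg.Agent.Lib.Helper47.RU
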