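/-
helper47: module RU-[G] of helper58's project RU (S4751): the complement `S₄`.
Exact statement of Cfsg/Agent/Lib/Helper58/RU/MODULES.md.
-/
import Mathlib
import Cfsg.Agent.Lib.Helper58.RU.Defs
import Cfsg.Agent.Lib.Helper14.FCRecogB
import Cfsg.Agent.Lib.Helper54.Coprime

set_option autoImplicit false

namespace Cfsg.Agent.Lib.Helper47.RU

open Cfsg Cfsg.Agent.Lib.Helper58.RU

universe u

/-! ### Facts about `S₃`, transported to `Perm X` for any `X` with three elements -/

theorem perm3_fix_unique : ∀ x : Equiv.Perm (Fin 3), x ≠ 1 → x ^ 2 = 1 →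
    ∀ i j : Fin 3, x i = i → x j = j → i = j := by decide

set_option maxRecDepth 10000 in
theorem perm3_inv : ∀ x y : Equiv.Perm (Fin 3), x ≠ 1 → x ^ 2 = 1 → y ≠ 1 → y ^ 3 = 1 →
    x * y * x⁻¹ = y⁻¹ := by decide

theorem perm3_no_fix : ∀ y : Equiv.Perm (Fin 3), y ≠ 1 → y ^ 3 = 1 → ∀ i, y i ≠ i := by decide

section transport

variable {X : Type*} [Finite X]

theorem permX_fix_unique (hX : Nat.card X = 3) (x : Equiv.Perm X) (hx1 : x ≠ 1) (hx2 : x ^ 2 = 1)
    (i j : X) (hi : x i = i) (hj : x j = j) : i = j := by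
  let e : X ≃ Fin 3 := Finite.equivFinOfCardEq hX
  have h1 : e.permCongrHom x ≠ 1 := fun h => hx1 (e.permCongrHom.injective (h.trans (map_one _).symm))
  have h2 : (e.permCongrHom x) ^ 2 = 1 := by rw [← map_pow, hx2, map_one]
  have hi' : e.permCongrHom x (e i) = e i := by
    show e (x (e.symm (e i))) = e i
    rw [Equiv.symm_apply_apply, hi]
  have hj' : e.permCongrHom x (e j) = e j := by
    show e (x (e.symm (e j))) = e j
    rw [Equiv.symm_apply_apply, hj]
  exact e.injective (perm3_fix_unique _ h1 h2 _ _ hi' hj')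

theorem permX_inv (hX : Nat.card X = 3) (x y : Equiv.Perm X) (hx1 : x ≠ 1) (hx2 : x ^ 2 = 1)
    (hy1 : y ≠ 1) (hy3 : y ^ 3 = 1) : x * y * x⁻¹ = y⁻¹ := by
  let e : X ≃ Fin 3 := Finite.equivFinOfCardEq hX
  have h1 : e.permCongrHom x ≠ 1 := fun h => hx1 (e.permCongrHom.injective (h.trans (map_one _).symm))
  have h2 : (e.permCongrHom x) ^ 2 = 1 := by rw [← map_pow, hx2, map_one]
  have h3 : e.permCongrHom y ≠ 1 := fun h => hy1 (e.permCongrHom.injective (h.trans (map_one _).symm))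
  have h4 : (e.permCongrHom y) ^ 3 = 1 := by rw [← map_pow, hy3, map_one]
  have h5 := perm3_inv _ _ h1 h2 h3 h4
  apply e.permCongrHom.injective
  rw [map_mul, map_mul, map_inv, map_inv]
  exact h5

theorem permX_no_fix (hX : Nat.card X = 3) (y : Equiv.Perm X) (hy1 : y ≠ 1) (hy3 : y ^ 3 = 1)
    (i : X) : y i ≠ i := by
  let e : X ≃ Fin 3 := Finite.equivFinOfCardEq hX
  have h3 : e.permCongrHom y ≠ 1 := fun h => hy1 (e.permCongrHom.injective (h.trans (map_one _).symm))
  have h4 : (e.permCongrHom y) ^ 3 = 1 := by rw [← map_pow, hy3, map_one]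
  intro hi
  apply perm3_no_fix _ h3 h4 (e i)
  show e (y (e.symm (e i))) = e i
  rw [Equiv.symm_apply_apply, hi]

end transport

section action

open Cfsg.Agent.Lib.Helper14

variable {G : Type u} [Group G]

/-- the kernel of the action on `Q ∖ 1` is the centralizer of `Q` -/
theorem conjPermHom_ker_eq (Q : Subgroup G) [Q.Normal] :
    (conjPermHom Q).ker = Subgroup.centralizer (Q : Set G) := by
  ext y
  rw [MonoidHom.mem_ker, Subgroup.mem_centralizer_iff]
  constructor
  · intro hy v hv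
    by_cases h1 : v = 1
    · subst h1; simp
    · have hv' : v ∈ Q := hv
      have hne : (⟨v, hv'⟩ : Q) ≠ 1 := by
        intro h; apply h1; exact congrArg Subtype.val h
      have h2 := conjPermHom_apply_coe Q y ⟨⟨v, hv'⟩, hne⟩
      rw [hy] at h2
      simp only [Equiv.Perm.coe_one, id_eq] at h2
      calc v * y = (y * v * y⁻¹) * y := by rw [← h2]
        _ = y * v := by group
  · intro hy
    ext ⟨⟨v, hv⟩, hne⟩
    rw [conjPermHom_apply_coe]
    simp only [Equiv.Perm.coe_one, id_eq]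
    have := hy v hv
    calc y * v * y⁻¹ = (v * y) * y⁻¹ := by rw [this]
      _ = v := by group

/-- a nonidentity element of `Q` fixed under conjugation by `g` is a fixed point of the permutation -/
theorem conjPermHom_fix (Q : Subgroup G) [Q.Normal] (g q : G) (hq : q ∈ Q) (hq1 : q ≠ 1)
    (hfix : g * q * g⁻¹ = q) :
    conjPermHom Q g ⟨⟨q, hq⟩, fun h => hq1 (congrArg Subtype.val h)⟩ =
      ⟨⟨q, hq⟩, fun h => hq1 (congrArg Subtype.val h)⟩ := by
  apply Subtype.ext
  apply Subtype.ext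
  rw [conjPermHom_apply_coe]
  exact hfix

/-- `Q` of exponent two is commutative -/
theorem comm_of_exp_two (Q : Subgroup G) (hexp : ∀ x ∈ Q, x * x = 1) :
    ∀ a ∈ Q, ∀ b ∈ Q, a * b = b * a := by
  intro a ha b hb
  have h1 := hexp a ha
  have h2 := hexp b hb
  have h3 := hexp (a * b) (Q.mul_mem ha hb)
  calc a * b = (a * b)⁻¹ := (inv_eq_of_mul_eq_one_right h3).symm
    _ = b⁻¹ * a⁻¹ := mul_inv_rev a b
    _ = b * a := by rw [inv_eq_of_mul_eq_one_right h1, inv_eq_of_mul_eq_one_right h2]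

/-- a central element of odd order whose square is trivial is trivial -/
theorem eq_one_of_sq_of_odd [Finite G] {z : G} (hz : z ∈ Subgroup.center G)
    (hodd : Odd (Nat.card (Subgroup.center G))) (hz2 : z * z = 1) : z = 1 := by
  obtain ⟨k, hk⟩ := hodd
  have h1 : (⟨z, hz⟩ : Subgroup.center G) ^ Nat.card (Subgroup.center G) = 1 := pow_card_eq_one'
  have h2 : z ^ Nat.card (Subgroup.center G) = 1 := by
    have h3 := congrArg Subtype.val h1
    rw [Subgroup.coe_pow, Subgroup.coe_one] at h3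
    exact h3
  rw [hk, pow_succ, pow_mul, pow_two, hz2, one_pow, one_mul] at h2
  exact h2

/-- Step 1: an involution outside `C_G(Q)`. -/
theorem exists_involution_not_mem_centralizer [Finite G] (Q : Subgroup G) [Q.Normal]
    (hQ4 : Nat.card Q = 4) (hexp : ∀ x ∈ Q, x * x = 1)
    (hC : Subgroup.centralizer (Q : Set G) = Q ⊔ Subgroup.center G)
    (hodd : Odd (Nat.card (Subgroup.center G)))
    (s₀ : G) (hs₀ : s₀ ∉ Subgroup.centralizer (Q : Set G))
    (hs₀2 : s₀ ^ 2 ∈ Subgroup.centralizer (Q : Set G)) :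
    ∃ s : G, s * s = 1 ∧ s ∉ Subgroup.centralizer (Q : Set G) := by
  classical
  have hab := comm_of_exp_two Q hexp
  have hQC : Q ≤ Subgroup.centralizer (Q : Set G) := by rw [hC]; exact le_sup_left
  obtain ⟨k, hk⟩ := hodd
  set m := Nat.card (Subgroup.center G) with hm
  -- `s₁ = s₀ ^ m` has its square in `Q`
  rw [hC] at hs₀2
  obtain ⟨q, hq, z, hz, hqz⟩ := Subgroup.mem_sup_of_normal_left.1 hs₀2
  have hzm : z ^ m = 1 := by
    have h1 : (⟨z, hz⟩ : Subgroup.center G) ^ Nat.card (Subgroup.center G) = 1 := pow_card_eq_one'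
    have h3 := congrArg Subtype.val h1
    rw [Subgroup.coe_pow, Subgroup.coe_one] at h3
    exact h3
  have hqm : q ^ m = q := by
    rw [hk, pow_succ, pow_mul, pow_two, hexp q hq, one_pow, one_mul]
  have hcomm : Commute q z := (Subgroup.mem_center_iff.1 hz q)
  set s₁ := s₀ ^ m with hs₁
  have hs₁sq : s₁ * s₁ = q := by
    calc s₁ * s₁ = (s₀ ^ 2) ^ m := by rw [hs₁, ← pow_mul, mul_comm, pow_mul, pow_two]
      _ = (q * z) ^ m := by rw [hqz]
      _ = q ^ m * z ^ m := hcomm.mul_pow m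
      _ = q := by rw [hqm, hzm, mul_one]
  have hs₁C : s₁ ∉ Subgroup.centralizer (Q : Set G) := by
    intro h
    apply hs₀
    have h2 : (s₀ ^ 2) ^ k ∈ Subgroup.centralizer (Q : Set G) := by
      apply Subgroup.pow_mem
      rw [hC]; exact hs₀2
    have h3 : s₁ = (s₀ ^ 2) ^ k * s₀ := by rw [hs₁, hk, pow_succ, pow_mul]
    have h4 : s₀ = ((s₀ ^ 2) ^ k)⁻¹ * s₁ := by rw [h3]; group
    rw [h4]
    exact Subgroup.mul_mem _ (Subgroup.inv_mem _ h2) h
  -- `s₁` commutes with `q`
  have hs₁q : s₁ * q * s₁⁻¹ = q := by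
    rw [← hs₁sq]; group
  -- an element of `Q` moved by `s₁`
  obtain ⟨b, hb, hbs⟩ : ∃ b ∈ Q, b * s₁ ≠ s₁ * b := by
    by_contra hcon
    apply hs₁C
    rw [Subgroup.mem_centralizer_iff]
    intro h hh
    by_contra hne
    exact hcon ⟨h, hh, hne⟩
  set c := s₁ * b * s₁⁻¹ with hc
  have hcQ : c ∈ Q := ‹Q.Normal›.conj_mem b hb s₁
  have hcb : c ≠ b := by
    intro h
    apply hbs
    calc b * s₁ = c * s₁ := by rw [h]
      _ = s₁ * b := by rw [hc]; group
  have hsc : s₁ * c * s₁⁻¹ = b := by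
    calc s₁ * c * s₁⁻¹ = (s₁ * s₁) * b * (s₁ * s₁)⁻¹ := by rw [hc]; group
      _ = q * b * q⁻¹ := by rw [hs₁sq]
      _ = b := by rw [hab q hq b hb]; group
  set a := b * c with ha
  have haQ : a ∈ Q := Q.mul_mem hb hcQ
  have ha1 : a ≠ 1 := by
    intro h
    apply hcb
    have hb2 := hexp b hb
    calc c = (b * b) * c := by rw [hb2, one_mul]
      _ = b * (b * c) := by group
      _ = b := by rw [← ha, h, mul_one]
  have hsa : s₁ * a * s₁⁻¹ = a := by
    calc s₁ * a * s₁⁻¹ = (s₁ * b * s₁⁻¹) * (s₁ * c * s₁⁻¹) := by rw [ha]; group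
      _ = c * b := by rw [← hc, hsc]
      _ = a := by rw [ha, hab c hcQ b hb]
  by_cases hq1 : q = 1
  · exact ⟨s₁, by rw [hs₁sq, hq1], hs₁C⟩
  · -- `q = a` since the permutation induced by `s₁` has exactly one fixed point
    have hX : Nat.card {v : Q // v ≠ 1} = 3 := card_ne_one_subtype 3 hQ4
    have hx1 : conjPermHom Q s₁ ≠ 1 := by
      intro h
      apply hs₁C
      rw [← conjPermHom_ker_eq, MonoidHom.mem_ker, h]
    have hx2 : (conjPermHom Q s₁) ^ 2 = 1 := by
      rw [← map_pow, pow_two, hs₁sq, ← MonoidHom.mem_ker, conjPermHom_ker_eq]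
      exact hQC hq
    have hfq := conjPermHom_fix Q s₁ q hq hq1 hs₁q
    have hfa := conjPermHom_fix Q s₁ a haQ ha1 hsa
    have heq := permX_fix_unique hX _ hx1 hx2 _ _ hfq hfa
    have hqa : q = a := congrArg (fun v : {v : Q // v ≠ 1} => ((v : Q) : G)) heq
    refine ⟨s₁ * b, ?_, ?_⟩
    · calc s₁ * b * (s₁ * b) = (s₁ * b * s₁⁻¹) * (s₁ * s₁) * b := by group
        _ = c * (b * c) * b := by rw [← hc, hs₁sq, hqa, ha]
        _ = (c * b) * (c * b) := by group
        _ = 1 := hexp _ (Q.mul_mem hcQ hb)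
    · intro h
      apply hs₁C
      have h4 : s₁ = (s₁ * b) * b⁻¹ := by group
      rw [h4]
      exact Subgroup.mul_mem _ h (Subgroup.inv_mem _ (hQC hb))

/-- Step 2: an element of order three outside `C_G(Q)` inverted by the involution `s`. -/
theorem exists_inverted_cube_one [Finite G] (Q : Subgroup G) [Q.Normal]
    (hQ4 : Nat.card Q = 4) (hexp : ∀ x ∈ Q, x * x = 1)
    (hC : Subgroup.centralizer (Q : Set G) = Q ⊔ Subgroup.center G)
    (hQZ : Q ⊓ Subgroup.center G = ⊥)
    (hodd : Odd (Nat.card (Subgroup.center G)))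
    (s : G) (hs : s * s = 1) (hsC : s ∉ Subgroup.centralizer (Q : Set G))
    (t₀ : G) (ht₀ : t₀ ∉ Subgroup.centralizer (Q : Set G))
    (ht₀3 : t₀ ^ 3 ∈ Subgroup.centralizer (Q : Set G)) :
    ∃ u : G, u ^ 3 = 1 ∧ u ∉ Subgroup.centralizer (Q : Set G) ∧ s * u * s⁻¹ = u⁻¹ := by
  classical
  have hab := comm_of_exp_two Q hexp
  have hQC : Q ≤ Subgroup.centralizer (Q : Set G) := by rw [hC]; exact le_sup_left
  have hX : Nat.card {v : Q // v ≠ 1} = 3 := card_ne_one_subtype 3 hQ4
  have hsinv : s⁻¹ = s := inv_eq_of_mul_eq_one_right hs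
  set f := conjPermHom Q with hf
  have hker : ∀ g : G, f g = 1 ↔ g ∈ Subgroup.centralizer (Q : Set G) := by
    intro g
    rw [← conjPermHom_ker_eq, MonoidHom.mem_ker]
  have hx1 : f s ≠ 1 := fun h => hsC ((hker s).1 h)
  have hx2 : (f s) ^ 2 = 1 := by rw [← map_pow, pow_two, hs, map_one]
  have hy1 : f t₀ ≠ 1 := fun h => ht₀ ((hker t₀).1 h)
  have hy3 : (f t₀) ^ 3 = 1 := by rw [← map_pow]; exact (hker _).2 ht₀3
  have hinv := permX_inv hX (f s) (f t₀) hx1 hx2 hy1 hy3
  set u := t₀ * (s * t₀ * s⁻¹)⁻¹ with hu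
  have hfu : f u = f t₀ * f t₀ := by
    rw [hu, map_mul, map_inv, map_mul, map_mul, map_inv, hinv, inv_inv]
  have hfu1 : f u ≠ 1 := by
    intro h
    apply hy1
    rw [hfu] at h
    -- y * y = 1 and y ^ 3 = 1 give y = 1
    have h3 : f t₀ ^ 3 = (f t₀ * f t₀) * f t₀ := by rw [pow_succ, pow_two]
    rw [h3, h, one_mul] at hy3
    exact hy3
  have hfu3 : (f u) ^ 3 = 1 := by
    rw [hfu]
    calc (f t₀ * f t₀) ^ 3 = (f t₀ ^ 3) ^ 2 := by rw [← pow_two, ← pow_mul, ← pow_mul]
      _ = 1 := by rw [hy3, one_pow]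
  have huC : u ∉ Subgroup.centralizer (Q : Set G) := fun h => hfu1 ((hker u).2 h)
  have hu3C : u ^ 3 ∈ Subgroup.centralizer (Q : Set G) := by
    rw [← hker, map_pow]; exact hfu3
  have hsu : s * u * s⁻¹ = u⁻¹ := by
    rw [hu, hsinv]
    calc s * (t₀ * (s * t₀ * s)⁻¹) * s = s * t₀ * s⁻¹ * t₀⁻¹ * (s⁻¹ * s) := by group
      _ = s * t₀ * s * t₀⁻¹ := by rw [hsinv, hs, mul_one]
      _ = (t₀ * (s * t₀ * s)⁻¹)⁻¹ := by group
  -- decompose `u ^ 3`
  rw [hC] at hu3C
  obtain ⟨q, hq, z, hz, hqz⟩ := Subgroup.mem_sup_of_normal_left.1 hu3C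
  have hzc : ∀ g : G, g * z = z * g := Subgroup.mem_center_iff.1 hz
  have hsu3 : s * (u ^ 3) * s⁻¹ = (u ^ 3)⁻¹ := by
    calc s * (u ^ 3) * s⁻¹ = (s * u * s⁻¹) ^ 3 := by
          rw [pow_succ, pow_two, pow_succ, pow_two]; group
      _ = (u ^ 3)⁻¹ := by rw [hsu, inv_pow]
  have hqinv : q⁻¹ = q := inv_eq_of_mul_eq_one_right (hexp q hq)
  have hz2 : z * z = (s * q * s⁻¹)⁻¹ * q := by
    have h1 : s * (q * z) * s⁻¹ = (q * z)⁻¹ := by rw [hqz]; exact hsu3
    have h2 : s * (q * z) * s⁻¹ = (s * q * s⁻¹) * z := by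
      calc s * (q * z) * s⁻¹ = s * q * (z * s⁻¹) := by group
        _ = s * q * (s⁻¹ * z) := by rw [hzc s⁻¹]
        _ = (s * q * s⁻¹) * z := by group
    have h3 : (q * z)⁻¹ = q * z⁻¹ := by
      rw [mul_inv_rev, hqinv]
      have := hzc q
      calc z⁻¹ * q = z⁻¹ * (q * z) * z⁻¹ := by group
        _ = z⁻¹ * (z * q) * z⁻¹ := by rw [this]
        _ = q * z⁻¹ := by group
    have h4 : (s * q * s⁻¹) * z = q * z⁻¹ := by rw [← h2, h1, h3]
    calc z * z = (s * q * s⁻¹)⁻¹ * ((s * q * s⁻¹) * z) * z := by group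
      _ = (s * q * s⁻¹)⁻¹ * (q * z⁻¹) * z := by rw [h4]
      _ = (s * q * s⁻¹)⁻¹ * q := by group
  have hz1 : z = 1 := by
    apply eq_one_of_sq_of_odd hz hodd
    have hmemQ : z * z ∈ Q := by
      rw [hz2]
      exact Q.mul_mem (Q.inv_mem (‹Q.Normal›.conj_mem q hq s)) hq
    have hmemZ : z * z ∈ Subgroup.center G := Subgroup.mul_mem _ hz hz
    have : z * z ∈ Q ⊓ Subgroup.center G := Subgroup.mem_inf.2 ⟨hmemQ, hmemZ⟩
    rw [hQZ, Subgroup.mem_bot] at this
    exact this
  have hu3q : u ^ 3 = q := by rw [← hqz, hz1, mul_one]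
  have huq : u * q * u⁻¹ = q := by
    rw [← hu3q]; group
  have hq1 : q = 1 := by
    by_contra hq1
    exact permX_no_fix hX (f u) hfu1 hfu3 _ (conjPermHom_fix Q u q hq hq1 huq)
  exact ⟨u, by rw [hu3q, hq1], huC, hsu⟩

/-- Step 3: from an involution `s` and an element `u` of order three inverted by `s`, both outside
`C_G(Q)`, the subgroup `Q ⟨u⟩ ⟨s⟩` is a complement of the centre isomorphic to `S₄`. -/
theorem complement_of_pair [Finite G] (Q : Subgroup G) [Q.Normal]
    (hQ4 : Nat.card Q = 4) (hexp : ∀ x ∈ Q, x * x = 1)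
    (hC : Subgroup.centralizer (Q : Set G) = Q ⊔ Subgroup.center G)
    (hQZ : Q ⊓ Subgroup.center G = ⊥)
    (hcard : Nat.card G = 24 * Nat.card (Subgroup.center G))
    (s : G) (hs : s * s = 1) (hsC : s ∉ Subgroup.centralizer (Q : Set G))
    (u : G) (hu3 : u ^ 3 = 1) (huC : u ∉ Subgroup.centralizer (Q : Set G))
    (hsu : s * u * s⁻¹ = u⁻¹) :
    ∃ H : Subgroup G, Nonempty (H ≃* Equiv.Perm (Fin 4)) ∧ H ⊓ Subgroup.center G = ⊥ ∧
      H ⊔ Subgroup.center G = ⊤ := by
  classical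
  have : Fact (Nat.Prime 2) := ⟨Nat.prime_two⟩
  have : Fact (Nat.Prime 3) := ⟨Nat.prime_three⟩
  have hQC : Q ≤ Subgroup.centralizer (Q : Set G) := by rw [hC]; exact le_sup_left
  have hZC : Subgroup.center G ≤ Subgroup.centralizer (Q : Set G) := by rw [hC]; exact le_sup_right
  have hsinv : s⁻¹ = s := inv_eq_of_mul_eq_one_right hs
  set f := conjPermHom Q with hf
  have hker : ∀ g : G, f g = 1 ↔ g ∈ Subgroup.centralizer (Q : Set G) := by
    intro g
    rw [← conjPermHom_ker_eq, MonoidHom.mem_ker]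
  have hu1 : u ≠ 1 := fun h => huC (h ▸ Subgroup.one_mem _)
  have hs1 : s ≠ 1 := fun h => hsC (h ▸ Subgroup.one_mem _)
  have hou : orderOf u = 3 := orderOf_eq_prime hu3 hu1
  have hos : orderOf s = 2 := orderOf_eq_prime (by rw [pow_two]; exact hs) hs1
  have hofu : orderOf (f u) = 3 :=
    orderOf_eq_prime (by rw [← map_pow, hu3, map_one]) (fun h => huC ((hker u).1 h))
  have hofs : orderOf (f s) = 2 :=
    orderOf_eq_prime (by rw [← map_pow, pow_two, hs, map_one]) (fun h => hsC ((hker s).1 h))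
  -- the subgroup `L = ⟨u⟩ ⟨s⟩` of order six
  set U := Subgroup.zpowers u with hU
  set S2 := Subgroup.zpowers s with hS2
  have hUcard : Nat.card U = 3 := by rw [hU, Nat.card_zpowers, hou]
  have hScard : Nat.card S2 = 2 := by rw [hS2, Nat.card_zpowers, hos]
  have key : ∀ h, h ∈ U → s * h * s⁻¹ ∈ U := by
    intro h hh
    obtain ⟨n, rfl⟩ := Subgroup.mem_zpowers_iff.1 hh
    have h1 : s * u ^ n * s⁻¹ = (s * u * s⁻¹) ^ n := by
      have h0 := map_zpow (MulAut.conj s) u n
      rw [MulAut.conj_apply, MulAut.conj_apply] at h0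
      exact h0
    rw [h1, hsu]
    exact Subgroup.zpow_mem _ (Subgroup.inv_mem _ (Subgroup.mem_zpowers u)) n
  have hSnorm : S2 ≤ Subgroup.normalizer (U : Set G) := by
    rw [hS2, Subgroup.zpowers_le, Subgroup.mem_normalizer_iff]
    intro h
    constructor
    · exact key h
    · intro hh
      have h2 := key _ hh
      have h3 : s * (s * h * s⁻¹) * s⁻¹ = h := by
        rw [hsinv]
        calc s * (s * h * s) * s = (s * s) * h * (s * s) := by group
          _ = h := by rw [hs, one_mul, mul_one]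
      rwa [h3] at h2
  have hUS : U ⊓ S2 = ⊥ :=
    (Subgroup.disjoint_of_coprime_natCard (by rw [hUcard, hScard]; decide)).eq_bot
  set L := U ⊔ S2 with hL
  have hLcard : Nat.card L = 6 := by
    rw [hL, Cfsg.Agent.Lib.Helper54.card_sup_of_le_normalizer hSnorm hUS, hUcard, hScard]
  have huL : u ∈ L := Subgroup.mem_sup_left (Subgroup.mem_zpowers u)
  have hsL : s ∈ L := Subgroup.mem_sup_right (Subgroup.mem_zpowers s)
  -- `f` is injective on `L`
  have hLf : Nat.card (L.map f) = 6 := by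
    have h3 : 3 ∣ Nat.card (L.map f) := by
      have hmem : f u ∈ L.map f := Subgroup.mem_map_of_mem f huL
      have h := orderOf_dvd_natCard (⟨f u, hmem⟩ : L.map f)
      rw [← Subgroup.orderOf_coe] at h
      rwa [hofu] at h
    have h2 : 2 ∣ Nat.card (L.map f) := by
      have hmem : f s ∈ L.map f := Subgroup.mem_map_of_mem f hsL
      have h := orderOf_dvd_natCard (⟨f s, hmem⟩ : L.map f)
      rw [← Subgroup.orderOf_coe] at h
      rwa [hofs] at h
    have h6 : 2 * 3 ∣ Nat.card (L.map f) :=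
      Nat.Coprime.mul_dvd_of_dvd_of_dvd (by decide) h2 h3
    have hle : Nat.card (L.map f) ∣ 6 := by
      have := Subgroup.card_map_dvd L f
      rwa [hLcard] at this
    exact Nat.dvd_antisymm hle h6
  have hLC : L ⊓ Subgroup.centralizer (Q : Set G) = ⊥ := by
    set g := f.domRestrict L with hg
    have hr : g.range = L.map f := MonoidHom.domRestrict_range L f
    have h1 := Subgroup.card_mul_index g.ker
    rw [Subgroup.index_ker, hr, hLf, hLcard] at h1
    have hk1 : Nat.card g.ker = 1 := by omega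
    have hkb : g.ker = ⊥ := Subgroup.card_eq_one.1 hk1
    rw [Subgroup.eq_bot_iff_forall]
    intro x hx
    obtain ⟨hxL, hxC⟩ := Subgroup.mem_inf.1 hx
    have hxk : (⟨x, hxL⟩ : L) ∈ g.ker := by
      rw [MonoidHom.mem_ker, hg, MonoidHom.domRestrict_apply]
      exact (hker x).2 hxC
    rw [hkb, Subgroup.mem_bot] at hxk
    exact congrArg Subtype.val hxk
  have hQL : Q ⊓ L = ⊥ := by
    rw [Subgroup.eq_bot_iff_forall]
    intro x hx
    obtain ⟨h1, h2⟩ := Subgroup.mem_inf.1 hx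
    have h3 : x ∈ L ⊓ Subgroup.centralizer (Q : Set G) := Subgroup.mem_inf.2 ⟨h2, hQC h1⟩
    rwa [hLC, Subgroup.mem_bot] at h3
  -- the complement
  set H := Q ⊔ L with hH
  have hQH : Q ≤ H := le_sup_left
  have hHcard : Nat.card H = 24 := by
    rw [hH, Cfsg.Agent.Lib.Helper54.card_sup_of_le_normalizer (A := L) (K := Q)
      (by rw [Subgroup.normalizer_eq_top]; exact le_top) hQL, hQ4, hLcard]
  have hHZ : H ⊓ Subgroup.center G = ⊥ := by
    rw [Subgroup.eq_bot_iff_forall]
    intro x hx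
    obtain ⟨h1, h2⟩ := Subgroup.mem_inf.1 hx
    obtain ⟨q, hq, l, hl, rfl⟩ := Subgroup.mem_sup_of_normal_left.1 h1
    have hlC : l ∈ Subgroup.centralizer (Q : Set G) := by
      have h3 : l = q⁻¹ * (q * l) := by group
      rw [h3]
      exact Subgroup.mul_mem _ (Subgroup.inv_mem _ (hQC hq)) (hZC h2)
    have hl1 : l = 1 := by
      have h3 : l ∈ L ⊓ Subgroup.centralizer (Q : Set G) := Subgroup.mem_inf.2 ⟨hl, hlC⟩
      rwa [hLC, Subgroup.mem_bot] at h3
    rw [hl1, mul_one] at h2 ⊢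
    have h4 : q ∈ Q ⊓ Subgroup.center G := Subgroup.mem_inf.2 ⟨hq, h2⟩
    rwa [hQZ, Subgroup.mem_bot] at h4
  have hHZtop : H ⊔ Subgroup.center G = ⊤ := by
    rw [sup_comm]
    apply (Subgroup.card_eq_iff_eq_top _).1
    rw [Cfsg.Agent.Lib.Helper54.card_sup_of_le_normalizer (A := H) (K := Subgroup.center G)
      (by rw [Subgroup.normalizer_eq_top]; exact le_top) (by rw [inf_comm]; exact hHZ),
      hHcard, hcard, mul_comm]
  -- recognition
  set V : Subgroup H := Q.subgroupOf H with hV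
  have : V.Normal := Subgroup.normal_subgroupOf
  have hV4 : Nat.card V = 4 := by
    rw [Nat.card_congr (Subgroup.subgroupOfEquivOfLe hQH).toEquiv, hQ4]
  have hVexp : ∀ v ∈ V, v * v = 1 := by
    intro v hv
    apply Subtype.ext
    exact hexp v (Subgroup.mem_subgroupOf.1 hv)
  have hVcent : Subgroup.centralizer (V : Set H) ≤ V := by
    intro y hy
    rw [hV, Subgroup.mem_subgroupOf]
    have hyC : (y : G) ∈ Subgroup.centralizer (Q : Set G) := by
      rw [Subgroup.mem_centralizer_iff]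
      intro h hh
      have h1 := (Subgroup.mem_centralizer_iff.1 hy) ⟨h, hQH hh⟩ (Subgroup.mem_subgroupOf.2 hh)
      exact congrArg Subtype.val h1
    rw [hC] at hyC
    obtain ⟨q, hq, z, hz, hqz⟩ := Subgroup.mem_sup_of_normal_left.1 hyC
    have hzH : z ∈ H := by
      have h3 : z = q⁻¹ * (y : G) := by rw [← hqz]; group
      rw [h3]
      exact H.mul_mem (H.inv_mem (hQH hq)) y.2
    have hz1 : z = 1 := by
      have h3 : z ∈ H ⊓ Subgroup.center G := Subgroup.mem_inf.2 ⟨hzH, hz⟩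
      rwa [hHZ, Subgroup.mem_bot] at h3
    rw [← hqz, hz1, mul_one]
    exact hq
  have h8 : Nat.card H ≠ 8 := by rw [hHcard]; decide
  rcases recog_v4_a4_s4 V hV4 hVexp hVcent h8 with he | he | he
  · exfalso
    obtain ⟨e⟩ := he
    have h1 := Nat.card_congr e.toEquiv
    rw [hHcard, DihedralGroup.nat_card] at h1
    omega
  · exfalso
    obtain ⟨e⟩ := he
    have h1 := Nat.card_congr e.toEquiv
    have h2 : 2 * Fintype.card (alternatingGroup (Fin 4)) = Fintype.card (Equiv.Perm (Fin 4)) :=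
      two_mul_card_alternatingGroup
    rw [Fintype.card_perm, Fintype.card_fin] at h2
    rw [hHcard, Nat.card_eq_fintype_card] at h1
    have h3 : Nat.factorial 4 = 24 := by decide
    omega
  · exact ⟨H, he, hHZ, hHZtop⟩

/-- **MODULE RU-[G]** (helper58's sheet), exact statement. -/
theorem exists_S4_complement [Finite G] (Q : Subgroup G) [Q.Normal] (hQ4 : Nat.card Q = 4)
    (hexp : ∀ x ∈ Q, x * x = 1)
    (hC : Subgroup.centralizer (Q : Set G) = Q ⊔ Subgroup.center G)
    (hQZ : Q ⊓ Subgroup.center G = ⊥)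
    (hcard : Nat.card G = 24 * Nat.card (Subgroup.center G))
    (hodd : Odd (Nat.card (Subgroup.center G))) :
    ∃ H : Subgroup G, Nonempty (H ≃* Equiv.Perm (Fin 4)) ∧ H ⊓ Subgroup.center G = ⊥ ∧
      H ⊔ Subgroup.center G = ⊤ := by
  classical
  have : Fact (Nat.Prime 2) := ⟨Nat.prime_two⟩
  have : Fact (Nat.Prime 3) := ⟨Nat.prime_three⟩
  set f := conjPermHom Q with hf
  have hker : f.ker = Subgroup.centralizer (Q : Set G) := conjPermHom_ker_eq Q
  have hCcard : Nat.card (Subgroup.centralizer (Q : Set G)) = 4 * Nat.card (Subgroup.center G) := by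
    rw [hC, ← hQ4]
    exact Cfsg.Agent.Lib.Helper54.card_sup_of_le_normalizer (A := Subgroup.center G) (K := Q)
      (by rw [Subgroup.normalizer_eq_top]; exact le_top) hQZ
  have hrange : Nat.card f.range = 6 := by
    have h1 := Subgroup.card_mul_index f.ker
    rw [Subgroup.index_ker, hker, hCcard, hcard] at h1
    have hZpos : 0 < Nat.card (Subgroup.center G) := Nat.card_pos
    have h2 : Nat.card (Subgroup.center G) * (4 * Nat.card f.range) =
        Nat.card (Subgroup.center G) * 24 := by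
      calc Nat.card (Subgroup.center G) * (4 * Nat.card f.range)
          = 4 * Nat.card (Subgroup.center G) * Nat.card f.range := by ring
        _ = 24 * Nat.card (Subgroup.center G) := h1
        _ = Nat.card (Subgroup.center G) * 24 := by ring
    have h3 := Nat.eq_of_mul_eq_mul_left hZpos h2
    omega
  -- elements of order two and three of the image
  obtain ⟨⟨x, s₀, rfl⟩, hx⟩ := exists_prime_orderOf_dvd_card' (G := f.range) 2
    (by rw [hrange]; decide)
  obtain ⟨⟨y, t₀, rfl⟩, hy⟩ := exists_prime_orderOf_dvd_card' (G := f.range) 3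
    (by rw [hrange]; decide)
  rw [← Subgroup.orderOf_coe] at hx hy
  simp only at hx hy
  have hs₀ : s₀ ∉ Subgroup.centralizer (Q : Set G) := by
    intro h
    rw [← hker, MonoidHom.mem_ker] at h
    rw [h, orderOf_one] at hx
    omega
  have hs₀2 : s₀ ^ 2 ∈ Subgroup.centralizer (Q : Set G) := by
    rw [← hker, MonoidHom.mem_ker, map_pow, ← hx]
    exact pow_orderOf_eq_one _
  have ht₀ : t₀ ∉ Subgroup.centralizer (Q : Set G) := by
    intro h
    rw [← hker, MonoidHom.mem_ker] at h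
    rw [h, orderOf_one] at hy
    omega
  have ht₀3 : t₀ ^ 3 ∈ Subgroup.centralizer (Q : Set G) := by
    rw [← hker, MonoidHom.mem_ker, map_pow, ← hy]
    exact pow_orderOf_eq_one _
  obtain ⟨s, hs, hsC⟩ := exists_involution_not_mem_centralizer Q hQ4 hexp hC hodd s₀ hs₀ hs₀2
  obtain ⟨u, hu3, huC, hsu⟩ :=
    exists_inverted_cube_one Q hQ4 hexp hC hQZ hodd s hs hsC t₀ ht₀ ht₀3
  exact complement_of_pair Q hQ4 hexp hC hQZ hcard s hs hsC u hu3 huC hsu

end action

end Cfsg.Agent.Lib.Helper47.RU
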