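import Mathlib

set_option autoImplicit false

/-!
Relative trace argument (helper47): if `T` is a `p`-group normalizing `D`, `T ∩ D` has index prime
to `p` in `D`, both acting on a finite abelian group `A` of exponent `p`, and every `T`-fixed point
of `A` is `D`-fixed, then every `T ∩ D`-fixed point is `D`-fixed.
-/

namespace Cfsg.Agent.Lib.Helper47

open scoped Pointwise

section
variable {Γ : Type*} [Group Γ] {A : Type*} [CommGroup A] [MulDistribMulAction Γ A]

/-- The relative trace `A → A` over the cosets of `S` in `D` (with chosen representatives). -/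
noncomputable def relTr (D S : Subgroup Γ) [Fintype (↥D ⧸ S.subgroupOf D)] : A →* A :=
  ∏ q : ↥D ⧸ S.subgroupOf D, MulDistribMulAction.toMonoidHom A (((q.out : ↥D)) : Γ)

theorem relTr_apply (D S : Subgroup Γ) [Fintype (↥D ⧸ S.subgroupOf D)] (a : A) :
    relTr D S a = ∏ q : ↥D ⧸ S.subgroupOf D, (((q.out : ↥D)) : Γ) • a := by
  unfold relTr
  rw [MonoidHom.finsetProd_apply]
  rfl

/-- Independence of representatives on fixed points. -/
theorem out_smul_eq (D S : Subgroup Γ) {a : A}
    (ha : ∀ s ∈ S, s • a = a) (x : ↥D) :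
    ((((x : ↥D ⧸ S.subgroupOf D).out : ↥D)) : Γ) • a = (x : Γ) • a := by
  obtain ⟨h, hh⟩ := QuotientGroup.mk_out_eq_mul (S.subgroupOf D) x
  rw [hh, Subgroup.coe_mul, mul_smul, ha _ (Subgroup.mem_subgroupOf.mp h.2)]

/-- The relative trace of a fixed point of `S` is `D`-invariant. -/
theorem smul_relTr (D S : Subgroup Γ) [Fintype (↥D ⧸ S.subgroupOf D)] {a : A}
    (ha : ∀ s ∈ S, s • a = a) (d : ↥D) :
    (d : Γ) • relTr D S a = relTr D S a := by
  rw [relTr_apply, Finset.smul_prod']
  have h1 : ∀ q : ↥D ⧸ S.subgroupOf D, (d : Γ) • ((((q.out : ↥D)) : Γ) • a) =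
      (((((d • q : ↥D ⧸ S.subgroupOf D)).out : ↥D)) : Γ) • a := by
    intro q
    rw [← mul_smul, ← Subgroup.coe_mul, ← out_smul_eq D S ha (d * q.out)]
    congr 3
    show ((d * q.out : ↥D) : ↥D ⧸ S.subgroupOf D) = d • q
    conv_rhs => rw [← QuotientGroup.out_eq' q]
    rfl
  rw [Finset.prod_congr rfl (fun q _ => h1 q)]
  exact Equiv.prod_comp (MulAction.toPerm d)
    (fun q : ↥D ⧸ S.subgroupOf D => (((q.out : ↥D)) : Γ) • a)

/-- The relative trace of a `D`-fixed point is its `n`-th power, `n` the index. -/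
theorem relTr_of_fixed (D S : Subgroup Γ) [Fintype (↥D ⧸ S.subgroupOf D)] {c : A}
    (hc : ∀ d ∈ D, d • c = c) : relTr D S c = c ^ (S.subgroupOf D).index := by
  rw [relTr_apply, Finset.prod_congr rfl (fun q _ => hc _ q.out.2), Finset.prod_const,
    Finset.card_univ, Subgroup.index_eq_card, Nat.card_eq_fintype_card]

/-- Equivariance of the relative trace under elements normalizing `D` and `S`. -/
theorem smul_relTr_of_normalizes (D S : Subgroup Γ) [Fintype (↥D ⧸ S.subgroupOf D)] {a : A}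
    (ha : ∀ s ∈ S, s • a = a) {t : Γ}
    (htD : t ∈ Subgroup.normalizer (D : Set Γ)) (htS : t ∈ Subgroup.normalizer (S : Set Γ)) :
    (∀ s ∈ S, s • (t • a) = t • a) ∧ t • relTr D S a = relTr D S (t • a) := by
  have hta : ∀ s ∈ S, s • (t • a) = t • a := by
    intro s hs
    have h1 : t⁻¹ * s * t ∈ S := (Subgroup.mem_normalizer_iff''.mp htS s).mp hs
    have h2 : s * t = t * (t⁻¹ * s * t) := by group
    rw [← mul_smul, h2, mul_smul, ha _ h1]
  refine ⟨hta, ?_⟩
  let c : ↥D → ↥D := fun x => ⟨t * x * t⁻¹, (Subgroup.mem_normalizer_iff.mp htD x).mp x.2⟩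
  let σ : ↥D ⧸ S.subgroupOf D → ↥D ⧸ S.subgroupOf D := fun q => ((c q.out : ↥D) : ↥D ⧸ S.subgroupOf D)
  have hσinj : Function.Injective σ := by
    intro q q' h
    have h1 : (c q.out)⁻¹ * c q'.out ∈ S.subgroupOf D := QuotientGroup.eq.mp h
    rw [Subgroup.mem_subgroupOf] at h1
    have h2 : (((c q.out)⁻¹ * c q'.out : ↥D) : Γ) = t * ((q.out : Γ)⁻¹ * (q'.out : Γ)) * t⁻¹ := by
      simp only [c, Subgroup.coe_mul, Subgroup.coe_inv]
      group
    rw [h2] at h1
    have h3 : (q.out : Γ)⁻¹ * (q'.out : Γ) ∈ S := (Subgroup.mem_normalizer_iff.mp htS _).mpr h1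
    have h4 : ((q.out : ↥D) : ↥D ⧸ S.subgroupOf D) = (q'.out : ↥D) := by
      rw [QuotientGroup.eq, Subgroup.mem_subgroupOf]
      simpa using h3
    rwa [QuotientGroup.out_eq', QuotientGroup.out_eq'] at h4
  have hσ : Function.Bijective σ := Finite.injective_iff_bijective.mp hσinj
  rw [relTr_apply, relTr_apply, Finset.smul_prod']
  have h1 : ∀ q : ↥D ⧸ S.subgroupOf D, t • ((((q.out : ↥D)) : Γ) • a) =
      ((((σ q).out : ↥D)) : Γ) • (t • a) := by
    intro q
    rw [out_smul_eq D S hta (c q.out), ← mul_smul, ← mul_smul]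
    congr 1
    simp [c]
  rw [Finset.prod_congr rfl (fun q _ => h1 q)]
  exact Function.Bijective.prod_comp hσ (fun q : ↥D ⧸ S.subgroupOf D => (((q.out : ↥D)) : Γ) • (t • a))

end

/-- **Relative trace argument.** -/
theorem fixed_of_inf_fixed {Γ : Type*} [Group Γ] {A : Type*} [CommGroup A] [Finite A]
    [MulDistribMulAction Γ A] {p : ℕ} [hp : Fact p.Prime] (hA : ∀ a : A, a ^ p = 1)
    (D T : Subgroup Γ) (hTD : T ≤ Subgroup.normalizer (D : Set Γ)) (hT : IsPGroup p ↥T)
    (hidx : ¬ p ∣ ((T ⊓ D).subgroupOf D).index)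
    (hfix : ∀ a : A, (∀ t ∈ T, t • a = a) → ∀ d ∈ D, d • a = a) :
    ∀ a : A, (∀ s ∈ T ⊓ D, s • a = a) → ∀ d ∈ D, d • a = a := by
  classical
  set S := T ⊓ D with hS
  have : (S.subgroupOf D).FiniteIndex := ⟨fun h => hidx (h ▸ dvd_zero p)⟩
  let _ : Fintype (↥D ⧸ S.subgroupOf D) := Subgroup.fintypeQuotientOfFiniteIndex
  have hTS : T ≤ Subgroup.normalizer (S : Set Γ) := by
    intro t ht
    rw [Subgroup.mem_normalizer_iff]
    intro x
    have h1 := Subgroup.mem_normalizer_iff.mp (hTD ht) x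
    have h2 : x ∈ T ↔ t * x * t⁻¹ ∈ T := by
      constructor
      · intro hx; exact T.mul_mem (T.mul_mem ht hx) (T.inv_mem ht)
      · intro hx
        have : x = t⁻¹ * (t * x * t⁻¹) * t := by group
        rw [this]; exact T.mul_mem (T.mul_mem (T.inv_mem ht) hx) ht
    rw [hS, Subgroup.mem_inf, Subgroup.mem_inf, h1, h2]
  set n := (S.subgroupOf D).index with hn
  have hn_cop : Nat.Coprime n p :=
    (Nat.Coprime.symm ((Nat.Prime.coprime_iff_not_dvd hp.out).mpr hidx))
  -- the kernel of the trace on the `S`-fixed points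
  let K : Subgroup A :=
    { carrier := {a | (∀ s ∈ S, s • a = a) ∧ relTr D S a = 1}
      one_mem' := ⟨fun s _ => smul_one s, map_one _⟩
      mul_mem' := by
        rintro a b ⟨ha1, ha2⟩ ⟨hb1, hb2⟩
        refine ⟨fun s hs => ?_, ?_⟩
        · rw [smul_mul', ha1 s hs, hb1 s hs]
        · rw [map_mul, ha2, hb2, one_mul]
      inv_mem' := by
        rintro a ⟨ha1, ha2⟩
        refine ⟨fun s hs => ?_, ?_⟩
        · rw [smul_inv', ha1 s hs]
        · rw [map_inv, ha2, inv_one] }
  have hKmem : ∀ a : A, a ∈ K ↔ (∀ s ∈ S, s • a = a) ∧ relTr D S a = 1 := fun a => Iff.rfl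
  -- `K` is trivial
  have hK : K = ⊥ := by
    by_contra hne
    let P : SubMulAction ↥T A :=
      { carrier := {a | a ∈ K}
        smul_mem' := by
          intro t a ha
          have ha' := (hKmem a).mp ha
          obtain ⟨h1, h2⟩ := smul_relTr_of_normalizes D S ha'.1 (hTD t.2) (hTS t.2)
          show (t : Γ) • a ∈ K
          rw [hKmem]
          refine ⟨h1, ?_⟩
          rw [← h2, ha'.2, smul_one] }
    have hcard : Nat.card ↥P = Nat.card ↥K := Nat.card_congr (Equiv.refl _)
    have hKp : IsPGroup p ↥K := by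
      intro a
      refine ⟨1, ?_⟩
      apply Subtype.ext
      simpa using hA (a : A)
    have hdvd : p ∣ Nat.card ↥P := by
      rw [hcard]
      rcases hKp.card_eq_or_dvd with h | h
      · exact absurd (Subgroup.card_eq_one.mp h) hne
      · exact h
    have hone : (⟨1, K.one_mem⟩ : ↥P) ∈ MulAction.fixedPoints ↥T ↥P := by
      intro t
      apply Subtype.ext
      show (t : Γ) • (1 : A) = 1
      exact smul_one _
    obtain ⟨b, hb, hb1⟩ := hT.exists_fixed_point_of_prime_dvd_card_of_fixed_point ↥P hdvd hone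
    have hbK : (b : A) ∈ K := b.2
    have hbT : ∀ t ∈ T, t • (b : A) = b := by
      intro t ht
      have := hb ⟨t, ht⟩
      exact congrArg Subtype.val this
    have hbD := hfix _ hbT
    have h1 : relTr D S (b : A) = (b : A) ^ n := relTr_of_fixed D S hbD
    rw [((hKmem _).mp hbK).2] at h1
    have h2 : orderOf (b : A) ∣ n := orderOf_dvd_of_pow_eq_one h1.symm
    have h3 : orderOf (b : A) ∣ p := orderOf_dvd_of_pow_eq_one (hA _)
    have h4 : orderOf (b : A) = 1 := Nat.eq_one_of_dvd_coprimes hn_cop h2 h3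
    apply hb1
    apply Subtype.ext
    exact (orderOf_eq_one_iff.mp h4).symm
  intro a ha
  obtain ⟨m, -, hm⟩ := Nat.exists_mul_mod_eq_one_of_coprime hn_cop hp.out.one_lt
  have hpow : ∀ z : A, z ^ (n * m) = z := by
    intro z
    have h1 : n * m = p * (n * m / p) + 1 := by
      have := Nat.div_add_mod (n * m) p
      rw [hm] at this
      exact this.symm
    rw [h1, pow_succ, pow_mul, hA, one_pow, one_mul]
  set c := (relTr D S a) ^ m with hc
  have hcD : ∀ d ∈ D, d • c = c := by
    intro d hd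
    rw [hc, smul_pow']
    congr 1
    exact smul_relTr D S ha ⟨d, hd⟩
  have hk : a * c⁻¹ ∈ K := by
    rw [hKmem]
    refine ⟨fun s hs => ?_, ?_⟩
    · rw [smul_mul', smul_inv', ha s hs, hcD s (hS ▸ hs).2]
    · rw [map_mul, map_inv, relTr_of_fixed D S hcD, hc, ← pow_mul, mul_comm m n, hpow, mul_inv_cancel]
  rw [hK, Subgroup.mem_bot, mul_inv_eq_one] at hk
  rw [hk]
  exact hcD

end Cfsg.Agent.Lib.Helper47
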