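/-
helper47: S1936-[ZJ], step E2.  If conjugation inside a Sylow `p`-subgroup `P` is always induced from
`N(Z(J(P)))` (the conclusion of S0118) and the 2-subgroups of `N(Z(J(P)))` have order at most 2, then every
2-subgroup `V` normalizing a `p`-subgroup `Q` has `|V : C_V(Q)| ≤ 2`.
-/
import Mathlib
import Cfsg.Prelude.Def_Transfer

set_option autoImplicit false

namespace Cfsg.Agent.Lib.Helper47.S1936ZJ

open Subgroup

variable {G : Type*} [Group G] [Finite G]

/-- E2. -/
theorem relIndex_centralizer_le_two {p : ℕ} [Fact p.Prime]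
    (hctrl : ∀ (P : Sylow p G) (A : Set G), A ⊆ (P : Set G) → ∀ g : G,
      (fun a => g⁻¹ * a * g) '' A ⊆ (P : Set G) →
      ∃ n ∈ Subgroup.normalizer (Cfsg.centerThompsonOf p (P : Subgroup G) : Set G),
        ∀ a ∈ A, n⁻¹ * a * n = g⁻¹ * a * g)
    (hMZ : ∀ (P : Sylow p G) (V : Subgroup G), IsPGroup 2 V →
      V ≤ Subgroup.normalizer (Cfsg.centerThompsonOf p (P : Subgroup G) : Set G) → Nat.card V ≤ 2)
    (Q V : Subgroup G) (hQ : IsPGroup p Q) (hV : IsPGroup 2 V)
    (hVQ : V ≤ Subgroup.normalizer (Q : Set G)) :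
    (Subgroup.centralizer (Q : Set G)).relIndex V ≤ 2 := by
  classical
  obtain ⟨P, hQP⟩ := hQ.exists_le_sylow
  obtain ⟨MZ, hMZdef⟩ : ∃ MZ : Subgroup G,
      MZ = Subgroup.normalizer (Cfsg.centerThompsonOf p (P : Subgroup G) : Set G) := ⟨_, rfl⟩
  obtain ⟨X, hX⟩ : ∃ X : Subgroup G, X = MZ ⊓ Subgroup.normalizer (Q : Set G) := ⟨_, rfl⟩
  have hXN : X ≤ Subgroup.normalizer (Q : Set G) := by rw [hX]; exact inf_le_right
  have hXMZ : X ≤ MZ := by rw [hX]; exact inf_le_left
  obtain ⟨φ, hφ⟩ : ∃ φ : V →* MulAut Q, φ = Q.normalizerMonoidHom.comp (Subgroup.inclusion hVQ) :=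
    ⟨_, rfl⟩
  obtain ⟨ψ, hψ⟩ : ∃ ψ : X →* MulAut Q, ψ = Q.normalizerMonoidHom.comp (Subgroup.inclusion hXN) :=
    ⟨_, rfl⟩
  have hφapp : ∀ (v : V) (a : Q), ((φ v) a : G) = (v : G) * (a : G) * (v : G)⁻¹ := by
    intro v a; rw [hφ]; rfl
  have hψapp : ∀ (x : X) (a : Q), ((ψ x) a : G) = (x : G) * (a : G) * (x : G)⁻¹ := by
    intro x a; rw [hψ]; rfl
  -- every automorphism induced by `V` is induced by `X`
  have hrange : φ.range ≤ ψ.range := by
    rintro _ ⟨v, rfl⟩
    have hvN : (v : G) ∈ Subgroup.normalizer (Q : Set G) := hVQ v.2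
    have hconj : ∀ a ∈ Q, (v : G) * a * (v : G)⁻¹ ∈ Q := by
      intro a ha
      exact (Subgroup.mem_normalizer_iff.1 hvN a).1 ha
    obtain ⟨n, hn, hna⟩ := hctrl P (Q : Set G) hQP ((v : G)⁻¹) (by
      rintro _ ⟨a, ha, rfl⟩
      rw [inv_inv]
      exact hQP (hconj a ha))
    have hna' : ∀ a ∈ Q, n⁻¹ * a * n = (v : G) * a * (v : G)⁻¹ := by
      intro a ha
      have := hna a ha
      rw [inv_inv] at this
      exact this
    have hninvN : n⁻¹ ∈ Subgroup.normalizer (Q : Set G) := by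
      apply Subgroup.mem_normalizer_fintype
      intro a ha
      rw [inv_inv, hna' a ha]
      exact hconj a ha
    have hninvX : n⁻¹ ∈ X := by
      rw [hX]
      refine Subgroup.mem_inf.2 ⟨?_, hninvN⟩
      rw [hMZdef]
      exact inv_mem hn
    refine ⟨⟨n⁻¹, hninvX⟩, ?_⟩
    apply MulEquiv.ext
    intro a
    apply Subtype.ext
    rw [hψapp, hφapp]
    show n⁻¹ * (a : G) * (n⁻¹)⁻¹ = _
    rw [inv_inv]
    exact hna' a a.2
  -- the range of `φ` is a 2-group of order at most 2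
  have h2 : IsPGroup 2 φ.range :=
    hV.of_surjective φ.rangeRestrict φ.rangeRestrict_surjective
  obtain ⟨m, hm⟩ := (IsPGroup.iff_card).1 h2
  have hdvd : 2 ^ m ∣ Nat.card X := by
    rw [← hm]
    exact (Subgroup.card_dvd_of_le hrange).trans (Subgroup.card_range_dvd ψ)
  obtain ⟨K, hK⟩ := Sylow.exists_subgroup_card_pow_prime 2 hdvd
  have hKG : Nat.card (K.map X.subtype) = 2 ^ m := by
    rw [Subgroup.card_map_of_injective (Subgroup.subtype_injective X), hK]
  have hK2 : IsPGroup 2 (K.map X.subtype) := IsPGroup.of_card hKG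
  have hKle : K.map X.subtype ≤ MZ := by
    rintro _ ⟨x, _, rfl⟩
    exact hXMZ x.2
  have hle2 : 2 ^ m ≤ 2 := by
    rw [← hKG]
    exact hMZ P _ hK2 (by rw [← hMZdef]; exact hKle)
  -- the kernel of `φ` is `C_V(Q)`
  have hker : φ.ker = (Subgroup.centralizer (Q : Set G)).subgroupOf V := by
    ext v
    rw [MonoidHom.mem_ker, Subgroup.mem_subgroupOf, Subgroup.mem_centralizer_iff]
    constructor
    · intro h a ha
      have h1 := hφapp v ⟨a, ha⟩
      rw [h] at h1
      simp only [MulAut.one_apply] at h1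
      have h2 : a * (v : G) = (v : G) * a * (v : G)⁻¹ * (v : G) := by rw [← h1]
      rw [h2]
      group
    · intro h
      apply MulEquiv.ext
      intro a
      apply Subtype.ext
      rw [hφapp, MulAut.one_apply, ← h a a.2]
      group
  show ((Subgroup.centralizer (Q : Set G)).subgroupOf V).index ≤ 2
  rw [← hker, Subgroup.index_ker, hm]
  exact hle2

end Cfsg.Agent.Lib.Helper47.S1936ZJ
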