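/-
helper47: `Z(J(P)) ≠ 1` for a non-trivial finite `p`-group `P ≤ G` (Prelude's `centerThompsonOf`).
-/
import Mathlib
import Cfsg.Prelude.Def_Transfer

set_option autoImplicit false

namespace Cfsg.Agent.Lib.Helper47.ZJNeBot

open Subgroup

variable {G : Type*} [Group G]

/-- The Thompson subgroup of a non-trivial finite `p`-group is non-trivial. -/
theorem thompsonSubgroup_ne_bot {P : Type*} [Group P] [Finite P] {p : ℕ} [Fact p.Prime]
    (hP : IsPGroup p P) (hne : Nontrivial P) : Cfsg.thompsonSubgroup p P ≠ ⊥ := by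
  classical
  -- a maximal elementary abelian subgroup exists
  have hbot : Cfsg.IsElementaryAbelian p (⊥ : Subgroup P) := by
    refine ⟨⟨⟨fun a b => ?_⟩⟩, fun a ha => ?_⟩
    · apply Subtype.ext
      have ha := Subgroup.mem_bot.1 a.2
      have hb := Subgroup.mem_bot.1 b.2
      simp [ha, hb]
    · rw [Subgroup.mem_bot.1 ha, one_pow]
  have : Nonempty {A : Subgroup P // Cfsg.IsElementaryAbelian p A} := ⟨⟨⊥, hbot⟩⟩
  obtain ⟨A, hA⟩ := Finite.exists_max
    (fun A : {A : Subgroup P // Cfsg.IsElementaryAbelian p A} => Nat.card (A : Subgroup P))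
  have hAmax : (A : Subgroup P) ∈ Cfsg.maxElementaryAbelianSubgroups p P :=
    ⟨A.2, fun B hB => hA ⟨B, hB⟩⟩
  -- an element of order `p`
  have hcard : p ∣ Nat.card P := by
    obtain ⟨n, hn⟩ := (IsPGroup.iff_card).1 hP
    rw [hn]
    have : n ≠ 0 := by
      intro h0
      rw [h0, pow_zero] at hn
      have := Finite.one_lt_card_iff_nontrivial.2 hne
      omega
    exact dvd_pow_self p this
  obtain ⟨x, hx⟩ := exists_prime_orderOf_dvd_card' p hcard
  have hZ : Cfsg.IsElementaryAbelian p (Subgroup.zpowers x) := by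
    refine ⟨⟨⟨fun a b => ?_⟩⟩, fun a ha => ?_⟩
    · apply Subtype.ext
      obtain ⟨i, hi⟩ := Subgroup.mem_zpowers_iff.1 a.2
      obtain ⟨j, hj⟩ := Subgroup.mem_zpowers_iff.1 b.2
      show (a : P) * (b : P) = (b : P) * (a : P)
      rw [← hi, ← hj, ← zpow_add, ← zpow_add, add_comm]
    · obtain ⟨i, hi⟩ := Subgroup.mem_zpowers_iff.1 ha
      rw [← hi, ← zpow_natCast, ← zpow_mul, mul_comm, zpow_mul, zpow_natCast, ← hx, pow_orderOf_eq_one,
        one_zpow]
  have hle : Nat.card (Subgroup.zpowers x) ≤ Nat.card (A : Subgroup P) := hA ⟨_, hZ⟩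
  rw [Nat.card_zpowers, hx] at hle
  have hp2 : 2 ≤ p := (Fact.out : p.Prime).two_le
  intro hJ
  have hAJ : (A : Subgroup P) ≤ Cfsg.thompsonSubgroup p P := le_sSup hAmax
  rw [hJ, le_bot_iff] at hAJ
  rw [hAJ, Subgroup.card_bot] at hle
  omega

/-- `Z(J(P)) ≠ 1` for a non-trivial finite `p`-subgroup `P` of `G`. -/
theorem centerThompsonOf_ne_bot [Finite G] {p : ℕ} [Fact p.Prime] (P : Subgroup G)
    (hP : IsPGroup p P) (hne : P ≠ ⊥) : Cfsg.centerThompsonOf p P ≠ ⊥ := by
  classical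
  have hnt : Nontrivial P := (Subgroup.nontrivial_iff_ne_bot P).2 hne
  have hJ := thompsonSubgroup_ne_bot hP hnt
  obtain ⟨J, hJdef⟩ : ∃ J : Subgroup P, J = Cfsg.thompsonSubgroup p P := ⟨_, rfl⟩
  rw [← hJdef] at hJ
  have : Nontrivial J := (Subgroup.nontrivial_iff_ne_bot J).2 hJ
  have hJp : IsPGroup p J := hP.to_subgroup J
  have := hJp.center_nontrivial
  obtain ⟨z, hz⟩ := exists_ne (1 : Subgroup.center J)
  have hz1 : (((z : J) : P) : G) ≠ 1 := by
    intro h
    apply hz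
    apply Subtype.ext
    apply Subtype.ext
    apply Subtype.ext
    exact h
  intro hbot
  apply hz1
  have hmem : (((z : J) : P) : G) ∈ Cfsg.centerThompsonOf p P := by
    unfold Cfsg.centerThompsonOf Cfsg.thompsonSubgroupOf
    rw [← hJdef]
    refine Subgroup.mem_inf.2 ⟨⟨((z : J) : P), (z : J).2, rfl⟩, ?_⟩
    rw [Subgroup.mem_centralizer_iff]
    rintro _ ⟨y, hy, rfl⟩
    have hcomm := Subgroup.mem_center_iff.1 z.2 ⟨y, hy⟩
    have := congrArg (fun w : J => ((w : P) : G)) hcomm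
    simpa using this
  rw [hbot] at hmem
  exact Subgroup.mem_bot.1 hmem

end Cfsg.Agent.Lib.Helper47.ZJNeBot
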