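/-
helper47: S1936-ZJ-[AUT] (E1 + E2) in `_of` form: the DICH modules [D2i] [D2iii] [AP] [OUT] are hypotheses
(their exact skeleton statements, specialised to the given `T`, `M`).
-/
import Mathlib
import Cfsg.Agent.S0118
import Cfsg.Agent.Lib.Helper22.S1936Defs
import Cfsg.Agent.Lib.Helper81.S1936Q8
import Cfsg.Agent.Lib.Helper29.ZJE1
import Cfsg.Agent.Lib.Helper47.S1936ZJAut
import Cfsg.Agent.Lib.Helper47.ZJNeBot

set_option autoImplicit false
set_option linter.unusedSectionVars false
universe u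

namespace Cfsg.Agent.Lib.Helper47.S1936ZJ

open Cfsg.Agent.Lib.Helper22.S1936

variable {G : Type u} [Group G] [Finite G] {p : ℕ} [Fact p.Prime]

theorem mem_conjSub {M : Subgroup G} {g x : G} : x ∈ conjSub M g ↔ g⁻¹ * x * g ∈ M := by
  constructor
  · rintro ⟨m, hm, rfl⟩
    have : g⁻¹ * ((MulAut.conj g).toMonoidHom m) * g = m := by
      simp only [MulEquiv.coe_toMonoidHom, MulAut.conj_apply]
      group
    rw [this]
    exact hm
  · intro h
    refine ⟨g⁻¹ * x * g, h, ?_⟩
    simp only [MulEquiv.coe_toMonoidHom, MulAut.conj_apply]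
    group

theorem apart_conj {M : Subgroup G} {a u : G} (h : Apart M a u) (g : G) :
    Apart M (g * a * g⁻¹) (g * u * g⁻¹) := by
  intro k hk
  apply h (g⁻¹ * k)
  rw [mem_conjSub, mem_conjSub] at hk ⊢
  constructor
  · have : (g⁻¹ * k)⁻¹ * a * (g⁻¹ * k) = k⁻¹ * (g * a * g⁻¹) * k := by group
    rw [this]; exact hk.1
  · have : (g⁻¹ * k)⁻¹ * u * (g⁻¹ * k) = k⁻¹ * (g * u * g⁻¹) * k := by group
    rw [this]; exact hk.2

theorem conj_mem_normalizer_smul (P₀ : Sylow p G) {x : G}
    (hx : x ∈ Subgroup.normalizer ((P₀ : Subgroup G) : Set G)) (g : G) :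
    g * x * g⁻¹ ∈ Subgroup.normalizer (((g • P₀ : Sylow p G) : Subgroup G) : Set G) := by
  have hx' : x • P₀ = P₀ := Sylow.smul_eq_iff_mem_normalizer.2 hx
  apply Sylow.smul_eq_iff_mem_normalizer.1
  rw [smul_smul]
  have : g * x * g⁻¹ * g = g * x := by group
  rw [this, mul_smul, hx']

/-- a group of even order with `HP` for an odd prime `p` that is not solvable has non-trivial Sylow `p`-subgroups -/
theorem sylow_ne_bot (hG : MinCE p G) (P : Sylow p G) : (P : Subgroup G) ≠ ⊥ := by
  intro hbot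
  apply hG.nonsolv
  have hcard : Nat.card (P : Subgroup G) = 1 := by rw [hbot, Subgroup.card_bot]
  have hcop : (Nat.card G).Coprime p := by
    have hpp : p.Prime := Fact.out
    rw [Nat.coprime_comm, Nat.Prime.coprime_iff_not_dvd hpp]
    intro hdvd
    have h1 := P.card_eq_multiplicity
    rw [hcard] at h1
    have hG0 : Nat.card G ≠ 0 := Nat.card_pos.ne'
    have hpos : 0 < (Nat.card G).factorization p :=
      (hpp.factorization_pos_of_dvd hG0 hdvd)
    have : 1 < p ^ (Nat.card G).factorization p := Nat.one_lt_pow hpos.ne' hpp.one_lt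
    omega
  have htop : (Nat.card (⊤ : Subgroup G)).Coprime p := by
    rw [Subgroup.card_top]; exact hcop
  obtain ⟨hc, -⟩ := hG.hp ⊤ htop
  have hcomm : ∀ a b : G, a * b = b * a := by
    intro a b
    have := hc.is_comm.comm (⟨a, Subgroup.mem_top a⟩ : (⊤ : Subgroup G)) ⟨b, Subgroup.mem_top b⟩
    exact congrArg Subtype.val this
  exact Group.isSolvable_of_comm hcomm

/-- ZJ-[AUT] (E1, E2), `_of` form. -/
theorem two_group_centralizer_index_le_of (hG : MinCE p G) {T : Sylow 2 G} {M : Subgroup G}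
    (hD : SEDatum T M)
    (hD2i : ∀ {a u : G}, orderOf a = 2 → orderOf u = 2 → Apart M a u →
      ∀ L : Subgroup G, L ≠ ⊤ → a ∈ L → u ∈ L → ¬ 4 ∣ Nat.card ↥L)
    (hD2iii : ∀ {a u : G}, orderOf a = 2 → orderOf u = 2 → Apart M a u →
      ∃ P : Sylow p G, a ∈ Subgroup.normalizer ((P : Subgroup G) : Set G) ∧
        u ∈ Subgroup.normalizer ((P : Subgroup G) : Set G))
    (hAP : ∀ {a u : G}, orderOf a = 2 → a ∈ M → u ∉ M → Apart M a u)
    (hOUT : ∃ u : G, orderOf u = 2 ∧ u ∉ M)
    (Q V : Subgroup G) (hQ : IsPGroup p ↥Q) (hV : IsPGroup 2 ↥V)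
    (hVQ : V ≤ Subgroup.normalizer (Q : Set G)) :
    (V ⊓ Subgroup.centralizer (Q : Set G)).relIndex V ≤ 2 := by
  classical
  have hpp : p.Prime := Fact.out
  have hp2 : p ≠ 2 := by have := hG.hp5; omega
  have hfree := Cfsg.Agent.Lib.Helper81.S1936Q8.hfree_of_HP (G := G) hp2 hG.hp
  -- an involution `a ∈ T` and an involution `u ∉ M`
  obtain ⟨a, haT, ha1⟩ : ∃ a ∈ (T : Subgroup G), a ≠ 1 := by
    have h8 := hD.card8
    rcases Subgroup.bot_or_exists_ne_one (T : Subgroup G) with h | h
    · rw [h, Subgroup.card_bot] at h8; omega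
    · exact h
  have ha : orderOf a = 2 := orderOf_eq_prime (hD.elem a haT) ha1
  have haM : a ∈ M := hD.normT (Subgroup.le_normalizer haT)
  obtain ⟨u, hu, huM⟩ := hOUT
  have hau : Apart M a u := hAP ha haM huM
  obtain ⟨P₀, haP₀, huP₀⟩ := hD2iii ha hu hau
  -- 2-subgroups of `N(Z(J(P)))` have order at most 2, for every Sylow `p`-subgroup `P`
  have hMZ : ∀ (P : Sylow p G) (W : Subgroup G), IsPGroup 2 W →
      W ≤ Subgroup.normalizer (Cfsg.centerThompsonOf p (P : Subgroup G) : Set G) → Nat.card W ≤ 2 := by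
    intro P W hW hWle
    obtain ⟨g, hg⟩ := MulAction.exists_smul_eq G P₀ P
    have ha' : orderOf (g * a * g⁻¹) = 2 := by
      have := (MulAut.conj g).orderOf_eq a
      rw [MulAut.conj_apply] at this
      rw [this, ha]
    have hu' : orderOf (g * u * g⁻¹) = 2 := by
      have := (MulAut.conj g).orderOf_eq u
      rw [MulAut.conj_apply] at this
      rw [this, hu]
    have hau' := apart_conj hau g
    have haP : g * a * g⁻¹ ∈ Subgroup.normalizer ((P : Subgroup G) : Set G) := by
      rw [← hg]; exact conj_mem_normalizer_smul P₀ haP₀ g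
    have huP : g * u * g⁻¹ ∈ Subgroup.normalizer ((P : Subgroup G) : Set G) := by
      rw [← hg]; exact conj_mem_normalizer_smul P₀ huP₀ g
    have hNle := Cfsg.Agent.Lib.Helper29.normalizer_le_normalizer_centerThompsonOf p (P : Subgroup G)
    obtain ⟨MZ, hMZdef⟩ : ∃ MZ : Subgroup G,
        MZ = Subgroup.normalizer (Cfsg.centerThompsonOf p (P : Subgroup G) : Set G) := ⟨_, rfl⟩
    rw [← hMZdef] at hWle hNle
    have hMZtop : MZ ≠ ⊤ := by
      intro htop
      have hZne := Cfsg.Agent.Lib.Helper47.ZJNeBot.centerThompsonOf_ne_bot (P : Subgroup G) P.isPGroup'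
        (sylow_ne_bot hG P)
      have hnormal : (Cfsg.centerThompsonOf p (P : Subgroup G)).Normal :=
        Subgroup.normalizer_eq_top_iff.1 (by rw [← hMZdef]; exact htop)
      have := hG.simple
      rcases hnormal.eq_bot_or_eq_top with h | h
      · exact hZne h
      · -- then `G` is a `p`-group of even order
        have hle : Cfsg.centerThompsonOf p (P : Subgroup G) ≤ (P : Subgroup G) :=
          Cfsg.Agent.Lib.Helper29.centerThompsonOf_le p (P : Subgroup G)
        have hPtop : (P : Subgroup G) = ⊤ := top_le_iff.1 (h ▸ hle)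
        have hGp : IsPGroup p G := by
          have := P.isPGroup'
          rw [hPtop] at this
          exact this.of_equiv Subgroup.topEquiv
        obtain ⟨n, hn⟩ := (IsPGroup.iff_card).1 hGp
        have heven := hG.even
        rw [hn] at heven
        have h2p : 2 ∣ p := by
          have := (Nat.Prime.dvd_of_dvd_pow Nat.prime_two heven.two_dvd)
          exact this
        have := (Nat.prime_dvd_prime_iff_eq Nat.prime_two hpp).1 h2p
        exact hp2 this.symm
    have h4 := hD2i ha' hu' hau' MZ hMZtop (hNle haP) (hNle huP)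
    obtain ⟨m, hm⟩ := (IsPGroup.iff_card).1 hW
    have hdvd : Nat.card W ∣ Nat.card MZ := Subgroup.card_dvd_of_le hWle
    rw [hm] at hdvd ⊢
    by_contra hgt
    have hm2 : 2 ≤ m := by
      by_contra hlt
      have : m ≤ 1 := by omega
      have : 2 ^ m ≤ 2 ^ 1 := Nat.pow_le_pow_right (by norm_num) this
      omega
    apply h4
    exact (pow_dvd_pow 2 hm2).trans hdvd
  have hmain := relIndex_centralizer_le_two (p := p)
    (fun P A hA g hAg => Cfsg.Agent.S0118.result hp2 hfree P A hA g hAg) hMZ Q V hQ hV hVQ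
  rw [Subgroup.inf_relIndex_left]
  exact hmain

end Cfsg.Agent.Lib.Helper47.S1936ZJ
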