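/-
S1936 project (helper22's sheet), ZJ-[AUT] and ZJ-[CENT]: the exact skeleton statements
`two_group_centralizer_index_le` and `sylow_two_centralizes_theta`
(`notes/helper22_S1936_modules.lean.txt`, section ZJ), from the `_of` forms and the landed DICH / BAL modules.
-/
import Mathlib
import Cfsg.Agent.Lib.Helper22.S1936Defs
import Cfsg.Agent.Lib.Helper22.S1936Dich
import Cfsg.Agent.Lib.Helper52.S1936Bal
import Cfsg.Agent.Lib.Helper47.S1936ZJAutOf
import Cfsg.Agent.Lib.Helper47.S1936ZJCentOf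

set_option autoImplicit false

universe u

namespace Cfsg.Agent.Lib.Helper47.S1936ZJ

open Cfsg.Agent.Lib.Helper22.S1936

variable {G : Type u} [Group G] [Finite G] {p : ℕ} [Fact p.Prime]

/-- ZJ-[AUT] (E1, E2): a 2-group acting on a `p`-subgroup has a centralizer of index at most 2
(S0118 + DICH). -/
theorem two_group_centralizer_index_le (hG : MinCE p G) {T : Sylow 2 G} {M : Subgroup G}
    (hD : SEDatum T M) (Q V : Subgroup G) (hQ : IsPGroup p ↥Q) (hV : IsPGroup 2 ↥V)
    (hVQ : V ≤ Subgroup.normalizer (Q : Set G)) :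
    (V ⊓ Subgroup.centralizer (Q : Set G)).relIndex V ≤ 2 :=
  two_group_centralizer_index_le_of hG hD
    (fun ha hu hau L hL haL huL =>
      Cfsg.Agent.Lib.Helper22.S1936.not_four_dvd_of_apart hG hD ha hu hau L hL haL huL)
    (fun ha hu hau => Cfsg.Agent.Lib.Helper22.S1936.exists_sylow_of_apart hG hD ha hu hau)
    (fun ha haM huM => Cfsg.Agent.Lib.Helper22.S1936.apart_of_mem_of_not_mem hD ha haM huM)
    (Cfsg.Agent.Lib.Helper22.S1936.exists_involution_not_mem hG hD) Q V hQ hV hVQ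

/-- ZJ-[CENT] (E3, E4): `T` centralizes `θ(a)`. -/
theorem sylow_two_centralizes_theta (hG : MinCE p G) {T : Sylow 2 G} {M : Subgroup G}
    (hD : SEDatum T M)
    (htr : ∀ a ∈ (T : Subgroup G), ∀ b ∈ (T : Subgroup G), a ≠ 1 → b ≠ 1 →
      ∃ n ∈ Subgroup.normalizer ((T : Subgroup G) : Set G), n * a * n⁻¹ = b)
    {a : G} (haT : a ∈ (T : Subgroup G)) (ha1 : a ≠ 1) :
    (T : Subgroup G) ≤ Subgroup.centralizer ((theta p a : Subgroup G) : Set G) :=
  sylow_two_centralizes_theta_of hD (two_group_centralizer_index_le hG hD)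
    (fun ha hb hab => Cfsg.Agent.Lib.Helper52.S1936.theta_balance hG ha hb hab) htr haT ha1

end Cfsg.Agent.Lib.Helper47.S1936ZJ
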