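import Mathlib
import Cfsg.Agent.Lib.Helper53.SL2Pres.Defs

/-!
# S2286 (helper53's sheet): module [BRAID] `sq_comm_of_braid`
-/

set_option autoImplicit false

namespace Cfsg.Agent.Lib.Helper47.SL2Pres

open Cfsg.Agent.Lib.Helper53 Cfsg.Agent.Lib.Helper53.Steinberg Cfsg.Agent.Lib.Helper53.SL2Pres

variable {G : Type*} [Group G] {K : Type*} [Field K]

/-- S2286-[BRAID] -/
theorem sq_comm_of_braid (u t : G) (h1 : u * (t * u * t⁻¹) * u = t)
    (h2 : (t * u * t⁻¹) * u * (t * u * t⁻¹) = t) : (t * t) * u = u * (t * t) := by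
  set v := t * u * t⁻¹ with hv
  -- `t v t⁻¹ = u`
  have key : t * v * t⁻¹ = u := by
    have e1 : t * v * t⁻¹ = (u * v * u) * v * (u * v * u)⁻¹ := by rw [h1]
    have e2 : (u * v * u) * v * (u * v * u)⁻¹ = u * (v * u * v) * u⁻¹ * v⁻¹ * u⁻¹ := by group
    have e3 : u * (v * u * v) * u⁻¹ * v⁻¹ * u⁻¹ = u * (u * v * u) * u⁻¹ * v⁻¹ * u⁻¹ := by
      rw [h2, h1]
    have e4 : u * (u * v * u) * u⁻¹ * v⁻¹ * u⁻¹ = u := by group
    rw [e1, e2, e3, e4]
  have : t * (t * u * t⁻¹) * t⁻¹ = u := key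
  calc t * t * u = (t * (t * u * t⁻¹) * t⁻¹) * (t * t) := by group
    _ = u * (t * t) := by rw [this]

end Cfsg.Agent.Lib.Helper47.SL2Pres
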