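import Mathlib
import Cfsg.Agent.Lib.Helper53.SL2Pres.Defs

/-!
# S2286 (helper53's sheet): modules [WSQ] `W_sq_mem_center`, [CENTER] `center_le_ker`,
[PSLCHAR2] `psl_equiv_sl_of_char_two`
-/

set_option autoImplicit false

namespace Cfsg.Agent.Lib.Helper47.SL2Pres

open Cfsg.Agent.Lib.Helper53 Cfsg.Agent.Lib.Helper53.Steinberg Cfsg.Agent.Lib.Helper53.SL2Pres

variable {G : Type*} [Group G] {K : Type*} [Field K]

/-- the matrix of `W xM yM a * W xM yM a` is `-1` -/
theorem W_sq_val {a : K} (ha : a ≠ 0) :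
    (W (xM : K → _) yM a * W xM yM a).1 = Matrix.scalar (Fin 2) (-1 : K) := by
  rw [Matrix.SpecialLinearGroup.coe_mul, wM_val ha]
  ext i j
  fin_cases i <;> fin_cases j <;> simp [ha]

/-- S2286-[WSQ] -/
theorem W_sq_mem_center {a : K} (ha : a ≠ 0) :
    W (xM : K → _) yM a * W xM yM a ∈ Subgroup.center (Matrix.SpecialLinearGroup (Fin 2) K) := by
  rw [Matrix.SpecialLinearGroup.mem_center_iff]
  refine ⟨-1, ?_, ?_⟩
  · simp
  · exact (W_sq_val ha).symm

/-- S2286-[CENTER] -/
theorem center_le_ker {Γ : Type*} [Group Γ] {X Y : K → Γ}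
    (Φ : Matrix.SpecialLinearGroup (Fin 2) K →* Γ) (hX : ∀ a, Φ (xM a) = X a)
    (hY : ∀ a, Φ (yM a) = Y a) (hw : W X Y 1 * W X Y 1 = 1) :
    Subgroup.center (Matrix.SpecialLinearGroup (Fin 2) K) ≤ Φ.ker := by
  intro z hz
  rw [MonoidHom.mem_ker]
  rw [Matrix.SpecialLinearGroup.mem_center_iff] at hz
  obtain ⟨r, hr, hzr⟩ := hz
  have hr2 : r ^ 2 = 1 := by simpa using hr
  have hr' : r = 1 ∨ r = -1 := by
    have : (r - 1) * (r + 1) = 0 := by
      have e : (r - 1) * (r + 1) = r ^ 2 - 1 := by ring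
      rw [e, hr2, sub_self]
    rcases mul_eq_zero.1 this with h | h
    · left; exact sub_eq_zero.1 h
    · right; exact eq_neg_of_add_eq_zero_left h
  have hΦW : Φ (W xM yM 1) = W X Y 1 := by
    unfold W
    rw [map_mul, map_mul, hX, hY]
  rcases hr' with rfl | rfl
  · have : z = 1 := by
      apply Subtype.ext
      rw [← hzr]
      simp
    rw [this, map_one]
  · have : z = W (xM : K → _) yM 1 * W xM yM 1 := by
      apply Subtype.ext
      rw [← hzr, W_sq_val one_ne_zero]
    rw [this, map_mul, hΦW, hw]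

/-- S2286-[PSLCHAR2] -/
theorem psl_equiv_sl_of_char_two [CharP K 2] :
    Nonempty (Matrix.ProjectiveSpecialLinearGroup (Fin 2) K ≃* Matrix.SpecialLinearGroup (Fin 2) K) := by
  have hbot : Subgroup.center (Matrix.SpecialLinearGroup (Fin 2) K) = ⊥ := by
    rw [eq_bot_iff]
    intro z hz
    rw [Matrix.SpecialLinearGroup.mem_center_iff] at hz
    obtain ⟨r, hr, hzr⟩ := hz
    have hr2 : r ^ 2 = 1 := by simpa using hr
    have h2 : (2 : K) = 0 := by
      have := CharP.cast_eq_zero K 2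
      exact_mod_cast this
    have : (r - 1) ^ 2 = 0 := by
      have e : (r - 1) ^ 2 = r ^ 2 - 2 * r + (1 + 1) - 1 := by ring
      have h11 : (1 : K) + 1 = 0 := by rw [one_add_one_eq_two, h2]
      rw [e, hr2, h2, h11]; ring
    have hr1 : r = 1 := by
      have := pow_eq_zero_iff (n := 2) (by norm_num) |>.1 this
      exact sub_eq_zero.1 this
    rw [Subgroup.mem_bot]
    apply Subtype.ext
    rw [← hzr, hr1]
    simp
  exact ⟨(QuotientGroup.quotientMulEquivOfEq hbot).trans QuotientGroup.quotientBot⟩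

end Cfsg.Agent.Lib.Helper47.SL2Pres
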