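import Mathlib
import Cfsg.Agent.Lib.Helper53.SL2Pres.Defs

/-!
# S2286 (helper53's sheet): module [COMM1] `comm_of_cyclic`
-/

set_option autoImplicit false

namespace Cfsg.Agent.Lib.Helper47.SL2Pres

open Cfsg.Agent.Lib.Helper53 Cfsg.Agent.Lib.Helper53.Steinberg Cfsg.Agent.Lib.Helper53.SL2Pres

variable {G : Type*} [Group G] {K : Type*} [Field K]

/-- S2286-[COMM1]: if `h u h⁻¹ = u ^ n` then all `h^i u h^-i` are powers of `u` -/
theorem uc_eq_pow_of_cyclic (h u : G) (n : ℕ) (rel : uc h u 1 = u ^ n) (i : ℕ) :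
    uc h u i = u ^ (n ^ i) := by
  have hconj : h * u * h⁻¹ = u ^ n := by
    have := uc_succ h u 0
    rw [uc_zero] at this
    rw [← this]
    exact rel
  induction i with
  | zero => simp [uc_zero]
  | succ i ih =>
    rw [uc_succ, ih, pow_succ, pow_mul]
    have : h * u ^ n ^ i * h⁻¹ = (h * u * h⁻¹) ^ n ^ i := by
      rw [conj_pow]
    rw [this, hconj, ← pow_mul, ← pow_mul, mul_comm]

/-- S2286-[COMM1] -/
theorem comm_of_cyclic (h u : G) (n : ℕ) (rel : uc h u 1 = u ^ n) :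
    ∀ i j : ℕ, Commute (uc h u i) (uc h u j) := by
  intro i j
  rw [uc_eq_pow_of_cyclic h u n rel i, uc_eq_pow_of_cyclic h u n rel j]
  exact (Commute.refl u).pow_pow _ _

end Cfsg.Agent.Lib.Helper47.SL2Pres
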