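import Mathlib
import Cfsg.Agent.Lib.Helper47.SlmdA1B
import Cfsg.Agent.Lib.Helper42.SlmdNMult

/-!
# SLMD-[N-A1B] (helper47): exact Skel statement
-/

set_option autoImplicit false
set_option linter.unusedSectionVars false
set_option linter.unusedVariables false

namespace Cfsg.Agent.Lib.Helper32.SLMD

open Matrix Cfsg.Agent.Lib.Helper41 Cfsg.Agent.Lib.Helper39 Module
open scoped LinearAlgebra.Projectivization

variable {F : Type*} [Field F] [Fintype F] [DecidableEq F] {k : ℕ}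

section gg

variable {V : Type*} [AddCommGroup V] [Module ℂ V] [FiniteDimensional ℂ V]

/-- [N-A1B] -/
theorem a1b [NeZero k] (ρ : Representation ℂ (GG F k) V) (hM : M1 ρ)
    (ψ : Multiplicative F →* ℂˣ) (hψ : ψ ≠ 1) (j : Fin k) :
    finrank ℂ ↥(eigenSub ρ (a1Hom : _ →* GG F k) (prChar ψ j) ⊓
      eigenSub ρ (x2Hom j : _ →* GG F k) 1) = 1 :=
  A1B.a1b_of ρ (m1_char ρ hM) (m1_dim ρ hM) ψ hψ j

end gg

end Cfsg.Agent.Lib.Helper32.SLMD
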