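/-
helper47: module ST-[KER] of helper35's project STEINBERG: the kernel of the projection of a Steinberg model onto the
matrix group is central (given `InjPos`, monomiality of `M̄`, the Bruhat decomposition and generation).
-/
import Cfsg.Agent.Lib.Helper47.StKerCore
import Cfsg.Agent.Lib.Helper18.Order1
import Cfsg.Agent.S1040
import Cfsg.Agent.S1024
import Cfsg.Agent.S1023

set_option autoImplicit false

namespace Cfsg.Agent.Lib.Helper47.St

open Cfsg.Lie Cfsg.Agent.Lib.Helper35.St Cfsg.Agent.Lib.Helper18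

universe u v

variable {D : ChevalleyDatum} {K : Type u} [Field K] {Γ : Type v} [Group Γ]

/-- Matrix side: `x_s(1) = x_{s'}(c)` forces `s' = s` and `c = 1`. -/
theorem x_one_inj (hD : D ∈ [chevG2, chevB2, chevD4, chevF4, chevE6, chevE7, chevE8]) (s s' : ℕ)
    (hs : s < D.nroots) (hs' : s' < D.nroots) (c : K) (h : D.x K s 1 = D.x K s' c) : s' = s ∧ c = 1 := by
  have h1 : xG hD s (1 : K) = xG hD s' c := Units.ext h
  have h2 : s' = s := xG_inj_root hD s s' hs hs' 1 c one_ne_zero h1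
  subst h2
  refine ⟨rfl, ?_⟩
  have h3 : D.x K s' (1 - c) = 1 := by
    have e1 : D.x K s' 1 * D.x K s' (-c) = D.x K s' (1 + -c) := Cfsg.Agent.S1023.result D hD s' hs 1 (-c)
    have e2 : D.x K s' c * D.x K s' (-c) = D.x K s' (c + -c) := Cfsg.Agent.S1023.result D hD s' hs c (-c)
    have e3 : D.x K s' (c + -c) = 1 := by
      rw [add_neg_cancel]
      exact (Cfsg.Agent.S1024.result D hD s' hs 0).2 rfl
    rw [sub_eq_add_neg, ← e1, h, e2, e3]
  have h4 := (Cfsg.Agent.S1024.result D hD s' hs (1 - c)).1 h3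
  exact (sub_eq_zero.mp h4).symm

/-- **ST-[KER]**. -/
theorem ker_le_center (M : Model D K Γ)
    (hD : D ∈ [chevG2, chevB2, chevD4, chevF4, chevE6, chevE7, chevE8]) (tf : TF D)
    (hp : M.InjPos) (hmono : ∀ g ∈ M.Mbar, M.IsMono g) (hbr : M.Bruhat) (hgen : M.Gen)
    (hNm : ∀ i, i < D.rank → ∀ t : K, t ≠ 0 → ∀ g : GL D.Idx K,
      (g : Matrix D.Idx D.Idx K) = D.nMat K (D.simple i) t → g ∈ D.monomialSubgroup K) :
    M.π.ker ≤ Subgroup.center Γ :=
  ker_le_center_core M tf hp hmono hbr hgen hNm (Cfsg.Agent.S1040.result D hD).1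
    (fun s s' hs hs' c h => x_one_inj hD s s' hs hs' c h)

end Cfsg.Agent.Lib.Helper47.St
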