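/-
helper47: module ST-[L3] of helper35's project STEINBERG (Lemma 3): `Act` from `ActOff`.
-/
import Cfsg.Agent.Lib.Helper47.StL3Core
import Cfsg.Agent.S1037
import Cfsg.Agent.S1024

set_option autoImplicit false

namespace Cfsg.Agent.Lib.Helper47.St

open Cfsg.Lie Cfsg.Agent.Lib.Helper35.St

universe u v

variable {D : ChevalleyDatum} {K : Type u} [Field K] {Γ : Type v} [Group Γ]

/-- **ST-[L3]** (Lemma 3). -/
theorem act_of_actOff (M : Model D K Γ)
    (hD : D ∈ [chevG2, chevB2, chevD4, chevF4, chevE6, chevE7, chevE8]) (tf : TF D) (hG : GAct D K)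
    (hp : M.InjPos) (hN : M.Norm) (hA : M.ActOff) (hc : ∀ i, i < D.rank → L3Cert D i) : M.Act := by
  refine act_core M tf hG hp hN hA hc ?_ (fun r hr t h => (Cfsg.Agent.S1024.result D hD r hr t).1 h)
  rw [eq_bot_iff]
  have h := (Cfsg.Agent.S1037.result (F := K) D hD).1
  rw [← h]
  exact inf_le_inf_right _ le_sup_left

end Cfsg.Agent.Lib.Helper47.St
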