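import Mathlib
import Cfsg.Prelude.Def_LocalStructure

set_option autoImplicit false

namespace Cfsg.Agent.Lib.Helper47

open Cfsg

/-- Averaging ("trace") argument: let the finite group `Γ` act on the abelian group `A`, let `T` be
a subgroup of index prime to `p` fixing the element `z` of order dividing `p`, and let `W` be a
subgroup of `A` containing all `(γ • z) z⁻¹`. Then `z ∈ C_A(Γ) W`. -/
theorem trace_abstract {Γ : Type*} [Group Γ] [Finite Γ] {A : Type*} [CommGroup A]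
    [MulDistribMulAction Γ A] {p : ℕ} [hp : Fact p.Prime] (T : Subgroup Γ) (hidx : ¬ p ∣ T.index)
    (z : A) (hzp : z ^ p = 1) (hzT : ∀ t ∈ T, t • z = z) (W : Subgroup A)
    (hW : ∀ γ : Γ, (γ • z) * z⁻¹ ∈ W) :
    ∃ c : A, c ^ p = 1 ∧ (∀ γ : Γ, γ • c = c) ∧ ∃ w ∈ W, z = c * w := by
  classical
  have hfin : Finite (MulAction.orbit Γ z) :=
    Set.Finite.to_subtype (Set.finite_range (fun γ : Γ => γ • z))
  letI : Fintype (MulAction.orbit Γ z) := Fintype.ofFinite _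
  set n := Fintype.card (MulAction.orbit Γ z) with hn
  set s : A := ∏ y : MulAction.orbit Γ z, (y : A) with hs
  have hinv : ∀ γ : Γ, γ • s = s := by
    intro γ
    rw [hs, Finset.smul_prod']
    exact Fintype.prod_equiv (MulAction.toPerm γ) _ _ (fun y => rfl)
  have hmod : s * (z ^ n)⁻¹ ∈ W := by
    have h1 : s * (z ^ n)⁻¹ = ∏ y : MulAction.orbit Γ z, ((y : A) * z⁻¹) := by
      rw [Finset.prod_mul_distrib, Finset.prod_const, Finset.card_univ, inv_pow]
    rw [h1]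
    apply Subgroup.prod_mem
    rintro ⟨y, γ, rfl⟩ _
    exact hW γ
  have hn_ndvd : ¬ p ∣ n := by
    intro hpn
    apply hidx
    have h1 : (MulAction.stabilizer Γ z).index = n := by
      rw [MulAction.index_stabilizer, hn, ← Nat.card_eq_fintype_card, Nat.card_coe_set_eq]
    have h2 : T ≤ MulAction.stabilizer Γ z := fun t ht => hzT t ht
    exact hpn.trans (h1 ▸ Subgroup.index_dvd_of_le h2)
  have hn_cop : Nat.Coprime n p :=
    (Nat.Coprime.symm ((Nat.Prime.coprime_iff_not_dvd hp.out).mpr hn_ndvd))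
  obtain ⟨m, -, hm⟩ := Nat.exists_mul_mod_eq_one_of_coprime hn_cop hp.out.one_lt
  -- z ^ (n * m) = z
  have hznm : z ^ (n * m) = z := by
    have h1 : n * m = p * (n * m / p) + 1 := by
      have := Nat.div_add_mod (n * m) p
      rw [hm] at this
      exact this.symm
    rw [h1, pow_succ, pow_mul, hzp, one_pow, one_mul]
  have hsp : s ^ p = 1 := by
    rw [hs, ← Finset.prod_pow]
    apply Finset.prod_eq_one
    rintro ⟨y, γ, rfl⟩ _
    show (γ • z) ^ p = 1
    rw [← smul_pow', hzp, smul_one]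
  refine ⟨s ^ m, ?_, ?_, ⟨(s ^ m)⁻¹ * z, ?_, by group⟩⟩
  · rw [← pow_mul, mul_comm, pow_mul, hsp, one_pow]
  · intro γ
    rw [smul_pow', hinv]
  · -- (s^m)⁻¹ z = ((s (z^n)⁻¹)^m)⁻¹
    have h1 : (s ^ m)⁻¹ * z = ((s * (z ^ n)⁻¹) ^ m)⁻¹ := by
      rw [mul_pow, inv_pow, ← pow_mul, hznm, mul_inv, inv_inv]
    rw [h1]
    exact W.inv_mem (W.pow_mem hmod m)

end Cfsg.Agent.Lib.Helper47

namespace Cfsg.Agent.Lib.Helper47

open scoped IsMulCommutative commutatorElement

/-- Subgroup form of the averaging argument: `L` normalizes the abelian subgroup `Z`, `T ≤ L` has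
index prime to `p` in `L` and centralizes `z ∈ Z` with `z ^ p = 1`. Then `z = c w` with
`c ∈ C_Z(L)`, `c ^ p = 1`, and `w ∈ [Z, L]`. -/
theorem trace_decomp {G : Type*} [Group G] [Finite G] {p : ℕ} [Fact p.Prime] {L Z T : Subgroup G}
    (hLZ : L ≤ Subgroup.normalizer (Z : Set G)) (hZc : IsMulCommutative ↥Z)
    (hidx : ¬ p ∣ (T.subgroupOf L).index)
    {z : G} (hz : z ∈ Z) (hzp : z ^ p = 1) (hzT : ∀ t ∈ T, t * z * t⁻¹ = z) :
    ∃ c ∈ Z, c ^ p = 1 ∧ (∀ l ∈ L, l * c * l⁻¹ = c) ∧ ∃ w ∈ ⁅Z, L⁆, z = c * w := by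
  letI : MulDistribMulAction ↥L ↥Z := MulDistribMulAction.compHom ↥Z (Subgroup.inclusion hLZ)
  have hsmul : ∀ (l : ↥L) (a : ↥Z), ((l • a : ↥Z) : G) = (l : G) * (a : G) * (l : G)⁻¹ :=
    fun _ _ => rfl
  obtain ⟨c, hcp, hcinv, w, hw, hzcw⟩ := trace_abstract (Γ := ↥L) (A := ↥Z) (T.subgroupOf L) hidx
    ⟨z, hz⟩ (Subtype.ext (by simpa using hzp))
    (fun t ht => Subtype.ext (by rw [hsmul]; exact hzT _ ht))
    ((⁅Z, L⁆).subgroupOf Z)
    (fun γ => by
      rw [Subgroup.mem_subgroupOf]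
      have h1 : (((γ • (⟨z, hz⟩ : ↥Z)) * (⟨z, hz⟩ : ↥Z)⁻¹ : ↥Z) : G) = (⁅z, (γ : G)⁆)⁻¹ := by
        rw [Subgroup.coe_mul, hsmul]
        simp [commutatorElement_def, mul_assoc]
      rw [h1]
      exact Subgroup.inv_mem _ (Subgroup.commutator_mem_commutator hz γ.2))
  refine ⟨c, c.2, ?_, ?_, w, ?_, ?_⟩
  · have := congrArg Subtype.val hcp
    simpa using this
  · intro l hl
    have := congrArg Subtype.val (hcinv ⟨l, hl⟩)
    rw [hsmul] at this
    exact this
  · rw [Subgroup.mem_subgroupOf] at hw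
    exact hw
  · have := congrArg Subtype.val hzcw
    simpa using this

end Cfsg.Agent.Lib.Helper47
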