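import Cfsg.Agent.Lib.Helper82.TwoBlocks.Defs
import Cfsg.Agent.Lib.Helper82.OneBlock.Criterion
import Cfsg.Agent.Lib.Helper82.OneBlock.Constrained
import Cfsg.Agent.Lib.Helper61.ChevJ.Cent
import Cfsg.Agent.S1049
import Cfsg.Agent.S2155

/-!
# TB-[BL-CONSTR] (helper82's sheet for S2441): the normalizer of a proper unipotent radical in a
Chevalley group has a single `p`-block (helper47)
-/

set_option autoImplicit false
universe u

namespace Cfsg.Agent.Lib.Helper47.TwoBlocks

open Cfsg Cfsg.Lie Cfsg.Agent.Lib.Helper18 Cfsg.Agent.Lib.Helper61.ChevJ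
open Cfsg.Agent.Lib.Helper82.OneBlock

variable {F : Type u} [Field F] {D : ChevalleyDatum}

/-- BL-[CONSTR]: `N_G(U_J) = P_J` (S1049) is `p`-constrained with `O_{p'} = 1` (proof of `S2155.main`), hence has
one block (`hasOneBlock_of_normal_pSubgroup` with `E = pCore`). -/
theorem hasOneBlock_normalizer_radical [Fintype F] (p : ℕ) [Fact p.Prime] [CharP F p]
    (hD : D ∈ [chevG2, chevB2, chevD4, chevF4, chevE6, chevE7, chevE8])
    (M : Ideal AlgInt) (hM : IsPModular p M) (J : Set ℕ) (hJ : ∃ i < D.rank, i ∉ J) :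
    HasOneBlock M ↥(Subgroup.normalizer
      (((D.unipotentRadical F J).subgroupOf (D.group F) : Subgroup ↥(D.group F)) : Set ↥(D.group F))) := by
  classical
  obtain ⟨Y⟩ := nonempty_jData2.{u} D hD
  obtain ⟨i₀, hi₀, hi₀J⟩ := hJ
  have hU := Cfsg.Agent.S2155.isPGroup_posUnipotent (F := F) p D hD
  have hUJP : D.unipotentRadical F J ≤ D.parabolicSubgroup F J :=
    (unipotentRadical_le_posUnipotent J).trans
      (fun g hg => le_sup_left (a := D.borelSubgroup F) (borel_of_posUnipotent g hg))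
  have hPG : D.parabolicSubgroup F J ≤ D.group F := Cfsg.Agent.S1049.parabolic_le_group hD Y.X.C J
  have hUJG : D.unipotentRadical F J ≤ D.group F := hUJP.trans hPG
  set UJ' : Subgroup ↥(D.group F) := (D.unipotentRadical F J).subgroupOf (D.group F) with hUJ'
  set H : Subgroup ↥(D.group F) := Subgroup.normalizer (UJ' : Set ↥(D.group F)) with hH
  set φ : ↥H →* GL D.Idx F := (D.group F).subtype.comp H.subtype with hφ
  have hφinj : Function.Injective φ := by
    intro a b hab
    apply Subtype.ext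
    apply Subtype.ext
    exact hab
  -- every element of `H` has value in `P_J`
  have hHP : ∀ y : ↥H, φ y ∈ D.parabolicSubgroup F J := by
    intro y
    rw [← Cfsg.Agent.S1049.main hD J]
    refine ⟨?_, y.1.2⟩
    have hy : (y : ↥(D.group F)) ∈ Subgroup.normalizer (UJ' : Set ↥(D.group F)) := y.2
    rw [Subgroup.mem_normalizer_iff] at hy
    show φ y ∈ Subgroup.normalizer (D.unipotentRadical F J : Set (GL D.Idx F))
    rw [Subgroup.mem_normalizer_iff]
    intro z
    constructor
    · intro hz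
      have h1 := (hy ⟨z, hUJG hz⟩).mp (Subgroup.mem_subgroupOf.mpr hz)
      exact Subgroup.mem_subgroupOf.mp h1
    · intro hz
      have hzG : z ∈ D.group F := by
        have h2 : (φ y)⁻¹ * (φ y * z * (φ y)⁻¹) * (φ y) ∈ D.group F :=
          mul_mem (mul_mem (inv_mem y.1.2) (hUJG hz)) y.1.2
        have e : (φ y)⁻¹ * (φ y * z * (φ y)⁻¹) * (φ y) = z := by group
        rwa [e] at h2
      have h1 := (hy ⟨z, hzG⟩).mpr (Subgroup.mem_subgroupOf.mpr hz)
      exact Subgroup.mem_subgroupOf.mp h1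
  -- the two normal `p`-subgroups
  set A : Subgroup ↥H := (D.unipotentRadical F J).comap φ with hA
  set Cc : Subgroup ↥H := (centUJ D F J).comap φ with hCc
  have hAn : A.Normal := by
    refine ⟨fun a ha y => ?_⟩
    rw [hA, Subgroup.mem_comap] at ha ⊢
    rw [map_mul, map_mul, map_inv]
    have hyN := parabolic_le_normalizer hD Y.X J (hHP y)
    exact (Subgroup.mem_normalizer_iff.mp hyN (φ a)).mp ha
  have hCn : Cc.Normal := by
    refine ⟨fun c hc y => ?_⟩
    rw [hCc, Subgroup.mem_comap] at hc ⊢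
    rw [map_mul, map_mul, map_inv]
    exact conj_mem_centUJ hD Y.X J (φ y) (hHP y) (φ c) hc
  have hAp : IsPGroup p A :=
    (hU.to_le (unipotentRadical_le_posUnipotent J)).comap_of_injective φ hφinj
  have hCp : IsPGroup p Cc :=
    (hU.to_le (Y.centUJ_le_posUnipotent hD J i₀ hi₀ hi₀J)).comap_of_injective φ hφinj
  have h1 : A ≤ pCore p ↥H := Cfsg.Agent.Lib.Helper1.le_pCore hAn hAp
  have h2 : Cc ≤ pCore p ↥H := Cfsg.Agent.Lib.Helper1.le_pCore hCn hCp
  have hcent : Subgroup.centralizer ((pCore p ↥H : Subgroup ↥H) : Set ↥H) ≤ pCore p ↥H := by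
    intro y hy
    apply h2
    rw [hCc, Subgroup.mem_comap, mem_centUJ]
    refine ⟨?_, hHP y⟩
    intro z hz
    have hzH : (⟨z, hUJG hz⟩ : ↥(D.group F)) ∈ H :=
      Subgroup.le_normalizer (Subgroup.mem_subgroupOf.mpr hz)
    have hzA : (⟨⟨z, hUJG hz⟩, hzH⟩ : ↥H) ∈ A := by
      rw [hA, Subgroup.mem_comap]
      exact hz
    have := (Subgroup.mem_centralizer_iff.mp hy) _ (h1 hzA)
    exact congrArg φ this
  have : (pCore p ↥H).Normal := Cfsg.Agent.Lib.Helper1.pCore_normal p
  exact hasOneBlock_of_normal_pSubgroup p M hM (pCore p ↥H)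
    (Cfsg.Agent.Lib.Helper1.pCore_isPGroup p) hcent

end Cfsg.Agent.Lib.Helper47.TwoBlocks
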