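import Cfsg.Agent.Lib.Helper82.TwoBlocks.Defs
import Cfsg.Agent.Lib.Helper82.OneBlock.Criterion
import Cfsg.Agent.Lib.Helper82.StUniq.Vanish
import Cfsg.Agent.Lib.Helper44.StChev.Final

/-!
# TB-[BL-ZERO] (helper82's sheet for S2441): a block of defect zero of a Chevalley group in its own
characteristic is the block of the Steinberg character (helper47)
-/

set_option autoImplicit false
universe u

namespace Cfsg.Agent.Lib.Helper47.TwoBlocks

open Cfsg Cfsg.Lie Cfsg.Agent.Lib.Helper18 Cfsg.Agent.Lib.Helper16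

variable {F : Type u} [Field F] {D : ChevalleyDatum}

/-- BL-[ZERO]: a block of defect zero is the block of the Steinberg character. -/
theorem eq_blockOf_steinberg_of_defect_zero [Fintype F] (p : ℕ) [Fact p.Prime] [CharP F p]
    (hD : D ∈ [chevG2, chevB2, chevD4, chevF4, chevE6, chevE7, chevE8])
    (M : Ideal AlgInt) (hM : IsPModular p M) (B : Set (IrrCharacter ↥(D.group F))) (hB : IsPBlock M B)
    (h0 : blockDefect p B = 0) : B = blockOf M (D.steinbergCharacter F) := by
  classical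
  have hMp : M.IsPrime := isPModular_isPrime hM
  have hMtop : M ≠ ⊤ := hMp.ne_top
  unfold blockDefect at h0
  set S : Set ℕ := (fun χ : IrrCharacter ↥(D.group F) =>
    (charDegree (χ : ↥(D.group F) → ℂ)).factorization p) '' B with hS
  have hne : S.Nonempty := (IsPBlock_nonempty hMtop hB).image _
  obtain ⟨χ, hχB, hχ⟩ := Nat.sInf_mem hne
  have hle : (Nat.card ↥(D.group F)).factorization p ≤
      (charDegree (χ : ↥(D.group F) → ℂ)).factorization p := by
    have hχ' : (charDegree (χ : ↥(D.group F) → ℂ)).factorization p = sInf S := hχ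
    rw [hχ']; omega
  have hdvd : p ^ (Nat.card ↥(D.group F)).factorization p ∣ charDegree (χ : ↥(D.group F) → ℂ) :=
    (pow_dvd_pow p hle).trans (Nat.ordProj_dvd _ _)
  have hdeg : (χ : ↥(D.group F) → ℂ) 1 = ((charDegree (χ : ↥(D.group F) → ℂ) : ℕ) : ℂ) := by
    obtain ⟨m, ρ, -, hχρ⟩ := χ.2
    have h1 : ρ.character 1 = (m : ℂ) := by
      rw [Representation.char_one]
      simp
    have h2 : charDegree (χ : ↥(D.group F) → ℂ) = m := by
      unfold charDegree
      rw [← hχρ, h1]
      simp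
    rw [h2, ← hχρ, h1]
  have hv : ∀ g : ↥(D.group F), p ∣ orderOf g → (χ : ↥(D.group F) → ℂ) g = 0 :=
    Cfsg.Agent.Lib.Helper82.StUniq.vanish_of_full_p_part p (χ : ↥(D.group F) → ℂ) χ.2
      ⟨_, hdeg, hdvd⟩
  have hSt : (χ : ↥(D.group F) → ℂ) = D.steinbergCharacter F :=
    Cfsg.Agent.Lib.Helper44.StChev.steinberg_unique p hD (χ : ↥(D.group F) → ℂ) χ.2
      (fun u hu hu1 => hv u (Cfsg.Agent.Lib.Helper44.StChev.dvd_orderOf_of_mem_UG p hD u hu hu1))
  rw [IsPBlock_eq_blockOf hB hχB, hSt]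

end Cfsg.Agent.Lib.Helper47.TwoBlocks
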