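import Cfsg.Agent.Lib.Helper47.TwoBlocksG3Of
import Cfsg.Agent.Lib.Helper82.TwoBlocks.Lin

/-!
# TB-[G3] (helper82's sheet for S2441), exact statement: a monomial element keeping all fundamental roots
positive lies in `B` (helper47)
-/

set_option autoImplicit false
universe u

namespace Cfsg.Agent.Lib.Helper47.TwoBlocks

open Cfsg Cfsg.Lie Cfsg.Agent.Lib.Helper18 Cfsg.Agent.Lib.Helper61.ChevJ Cfsg.Agent.Lib.Helper82.TwoBlocks

variable {F : Type u} [Field F] {D : ChevalleyDatum}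

/-- G3: LIN-[POS] gives `m U m⁻¹ ≤ U`; equality by finiteness; `S1049.main hD ∅` and
`not_inRootSub_empty` (`U_∅ = U`, `P_∅ = B`). -/
theorem mem_borel_of_simple_pos [Finite F] (hD : D ∈ [chevG2, chevB2, chevD4, chevF4, chevE6, chevE7, chevE8])
    (Z : LData.{u} D) (ws : List ℕ) (hws : ∀ i ∈ ws, i < D.rank) (h : GL D.Idx F)
    (hh : h ∈ D.diagonalSubgroup F)
    (hpos : ∀ j < D.rank, D.nroots / 2 ≤ wordRootF Z.Y.X.C.tabs ws (D.simple j)) :
    nW hD Z.Y.X.C ws * h ∈ D.borelSubgroup F :=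
  mem_borel_of_pos_of hD Z.Y.X.C ws hws h hh
    (fun r hr => wordRootF_pos_of_simple_pos hD Z ws hws hpos r hr)

end Cfsg.Agent.Lib.Helper47.TwoBlocks
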