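import Cfsg.Agent.Lib.Helper82.TwoBlocks.Defs
import Cfsg.Agent.Lib.Helper61.ChevJ.Cent
import Cfsg.Agent.S1049

/-!
# TB-[G3] (helper82's sheet for S2441), `_of` form: a monomial element `nW ws * h` whose word keeps every
positive root positive lies in the Borel subgroup (helper47)

`mem_borel_of_pos_of` takes the conclusion of LIN-[POS] as a hypothesis.
-/

set_option autoImplicit false
universe u

namespace Cfsg.Agent.Lib.Helper47.TwoBlocks

open Cfsg Cfsg.Lie Cfsg.Agent.Lib.Helper18 Cfsg.Agent.Lib.Helper61.ChevJ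

variable {F : Type u} [Field F] {D : ChevalleyDatum}

/-- If the word `ws` keeps every positive root positive, then `nW ws` conjugates `U` into `U`. -/
theorem nW_conj_mem_posUnipotent_of (hD : D ∈ [chevG2, chevB2, chevD4, chevF4, chevE6, chevE7, chevE8])
    (C : ChevData.{u} D) (ws : List ℕ) (hws : ∀ i ∈ ws, i < D.rank)
    (hLP : ∀ r, D.IsPosRoot r → D.nroots / 2 ≤ wordRootF C.tabs ws r)
    (u : GL D.Idx F) (hu : u ∈ D.posUnipotent F) :
    nW hD C ws * u * (nW hD C ws)⁻¹ ∈ D.posUnipotent F := by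
  unfold ChevalleyDatum.posUnipotent at hu
  induction hu using Subgroup.closure_induction with
  | mem g hg =>
    obtain ⟨r, t, hr, hg⟩ := hg
    have hg' : g = xG hD r t := Units.ext hg
    rw [hg', nW_conj_xG hD C ws hws r hr.1 t]
    exact xG_mem_posUnipotent hD _ _
      ((isPosRoot_iff hD _).mpr ⟨wordRootF_lt C ws hws r hr.1, hLP r hr⟩)
  | one =>
    rw [mul_one, mul_inv_cancel]
    exact one_mem _
  | mul a b _ _ ha hb =>
    have e : nW hD C ws * (a * b) * (nW hD C ws)⁻¹ =
        (nW hD C ws * a * (nW hD C ws)⁻¹) * (nW hD C ws * b * (nW hD C ws)⁻¹) := by group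
    rw [e]
    exact mul_mem ha hb
  | inv a _ ha =>
    have e : nW hD C ws * a⁻¹ * (nW hD C ws)⁻¹ = (nW hD C ws * a * (nW hD C ws)⁻¹)⁻¹ := by group
    rw [e]
    exact inv_mem ha

/-- `U_∅ = U`. -/
theorem unipotentRadical_empty (hD : D ∈ [chevG2, chevB2, chevD4, chevF4, chevE6, chevE7, chevE8]) :
    D.unipotentRadical F ∅ = D.posUnipotent F := by
  unfold ChevalleyDatum.unipotentRadical ChevalleyDatum.posUnipotent
  congr 1
  ext g
  constructor
  · rintro ⟨r, t, hr, -, hg⟩
    exact ⟨r, t, hr, hg⟩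
  · rintro ⟨r, t, hr, hg⟩
    exact ⟨r, t, hr, not_inRootSub_empty hD r hr, hg⟩

/-- `P_∅ = B`. -/
theorem parabolicSubgroup_empty : D.parabolicSubgroup F ∅ = D.borelSubgroup F := by
  unfold ChevalleyDatum.parabolicSubgroup
  have h : {g : GL D.Idx F | ∃ j ∈ (∅ : Set ℕ), j < D.rank ∧
      (g : Matrix D.Idx D.Idx F) = D.nMat F (D.simple j) 1} = ∅ := by
    ext g
    simp
  rw [h, Subgroup.closure_empty, sup_bot_eq]

/-- G3, `_of` form: LIN-[POS] as a hypothesis. -/
theorem mem_borel_of_pos_of [Finite F] (hD : D ∈ [chevG2, chevB2, chevD4, chevF4, chevE6, chevE7, chevE8])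
    (C : ChevData.{u} D) (ws : List ℕ) (hws : ∀ i ∈ ws, i < D.rank) (h : GL D.Idx F)
    (hh : h ∈ D.diagonalSubgroup F)
    (hLP : ∀ r, D.IsPosRoot r → D.nroots / 2 ≤ wordRootF C.tabs ws r) :
    nW hD C ws * h ∈ D.borelSubgroup F := by
  obtain ⟨hBG, hNG, -⟩ := Cfsg.Agent.S1043.result (F := F) D hD
  have hHN := (Cfsg.Agent.S1036.result (F := F) D hD).1
  have hmap : ∀ u ∈ D.posUnipotent F, (nW hD C ws * h) * u * (nW hD C ws * h)⁻¹ ∈ D.posUnipotent F := by
    intro u hu
    have h1 : h * u * h⁻¹ ∈ D.posUnipotent F := (Subgroup.mem_normalizer_iff.mp (hHN hh) u).mp hu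
    have e : (nW hD C ws * h) * u * (nW hD C ws * h)⁻¹ =
        nW hD C ws * (h * u * h⁻¹) * (nW hD C ws)⁻¹ := by group
    rw [e]
    exact nW_conj_mem_posUnipotent_of hD C ws hws hLP _ h1
  have hle : (D.posUnipotent F).map (MulAut.conj (nW hD C ws * h)).toMonoidHom ≤ D.posUnipotent F := by
    rintro _ ⟨u, hu, rfl⟩
    exact hmap u hu
  have heq : (D.posUnipotent F).map (MulAut.conj (nW hD C ws * h)).toMonoidHom = D.posUnipotent F := by
    apply Subgroup.eq_of_le_of_card_ge hle
    rw [Subgroup.card_map_of_injective (MulAut.conj (nW hD C ws * h)).injective]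
  have hmN : nW hD C ws * h ∈ Subgroup.normalizer (D.posUnipotent F : Set (GL D.Idx F)) := by
    rw [Subgroup.mem_normalizer_iff]
    intro g
    constructor
    · exact hmap g
    · intro hg
      rw [← heq] at hg
      obtain ⟨u, hu, hug⟩ := hg
      have hug' : (nW hD C ws * h) * u * (nW hD C ws * h)⁻¹ = (nW hD C ws * h) * g * (nW hD C ws * h)⁻¹ := hug
      have : u = g := by
        have := mul_right_cancel hug'
        exact mul_left_cancel this
      rw [← this]
      exact hu
  have hmG : nW hD C ws * h ∈ D.group F :=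
    mul_mem (hNG (nW_mem_monomial hD C ws)) (hBG (le_sup_right (a := D.posUnipotent F) hh))
  have hP := Cfsg.Agent.S1049.main (F := F) hD ∅
  rw [unipotentRadical_empty hD, parabolicSubgroup_empty] at hP
  rw [← hP]
  exact ⟨hmN, hmG⟩

end Cfsg.Agent.Lib.Helper47.TwoBlocks
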