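/-
helper47: project S2244 (helper5), module S2244-[SEP]: the separation lemma.
A set `T` of multipliers in `ι → K` whose coordinates each generate `K` as a ring and are pairwise not related by a
ring endomorphism of `K`; a `T`-stable additive subgroup `Y` of `ι → K` projecting nontrivially on each coordinate
is everything.
-/
import Mathlib

set_option autoImplicit false

namespace Cfsg.Agent.Lib.Helper47.WC

theorem sep {K : Type*} [Field K] {ι : Type*} [Fintype ι] [DecidableEq ι]
    (T : Set (ι → K)) (Y : AddSubgroup (ι → K))
    (hY : ∀ τ ∈ T, ∀ y ∈ Y, τ * y ∈ Y)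
    (T1 : ∀ i, Subring.closure ((fun τ : ι → K => τ i) '' T) = ⊤)
    (T2 : ∀ i i', i ≠ i' → ∀ σ : K →+* K, ∃ τ ∈ T, τ i' ≠ σ (τ i))
    (hne : ∀ i, ∃ y ∈ Y, y i ≠ 0) : Y = ⊤ := by
  classical
  set R : Subring (ι → K) := Subring.closure T with hR
  -- `Y` is `R`-stable
  have hRY : ∀ r ∈ R, ∀ y ∈ Y, r * y ∈ Y := by
    intro r hr
    induction hr using Subring.closure_induction with
    | mem x hx => exact hY x hx
    | zero => intro y _; rw [zero_mul]; exact Y.zero_mem
    | one => intro y hy; rwa [one_mul]
    | add a b _ _ iha ihb => intro y hy; rw [add_mul]; exact Y.add_mem (iha y hy) (ihb y hy)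
    | neg a _ iha => intro y hy; rw [neg_mul]; exact Y.neg_mem (iha y hy)
    | mul a b _ _ iha ihb => intro y hy; rw [mul_assoc]; exact iha _ (ihb y hy)
  -- each coordinate is surjective on `R`
  have hsurj : ∀ i (a : K), ∃ r ∈ R, r i = a := by
    intro i a
    have h1 : R.map (Pi.evalRingHom (fun _ : ι => K) i) = ⊤ := by
      rw [hR, RingHom.map_closure]
      exact T1 i
    have h2 : a ∈ R.map (Pi.evalRingHom (fun _ : ι => K) i) := by rw [h1]; exact Subring.mem_top a
    obtain ⟨r, hr, hra⟩ := Subring.mem_map.1 h2
    exact ⟨r, hr, hra⟩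
  -- separation of two coordinates
  have hsep : ∀ i i', i ≠ i' → ∃ r ∈ R, r i = 1 ∧ r i' = 0 := by
    intro i i' hii
    by_cases hA : ∃ r ∈ R, r i ≠ 0 ∧ r i' = 0
    · obtain ⟨r, hr, hri, hri'⟩ := hA
      obtain ⟨s, hs, hsi⟩ := hsurj i (r i)⁻¹
      refine ⟨s * r, R.mul_mem hs hr, ?_, ?_⟩
      · rw [Pi.mul_apply, hsi, inv_mul_cancel₀ hri]
      · rw [Pi.mul_apply, hri', mul_zero]
    · exfalso
      push Not at hA
      -- the `i`-coordinate is a function of the `i'`-coordinate
      choose f hfR hf using hsurj i'
      have key : ∀ r ∈ R, r i = f (r i') i := by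
        intro r hr
        have h0 : (r - f (r i')) i' = 0 := by rw [Pi.sub_apply, hf, sub_self]
        have h1 : (r - f (r i')) i = 0 := by
          by_contra hc
          exact hA _ (R.sub_mem hr (hfR _)) hc h0
        rw [Pi.sub_apply, sub_eq_zero] at h1
        exact h1
      let σ : K →+* K :=
        { toFun := fun b => f b i
          map_one' := by
            have := key 1 R.one_mem
            simp only [Pi.one_apply] at this
            exact this.symm
          map_mul' := by
            intro a b
            have := key (f a * f b) (R.mul_mem (hfR a) (hfR b))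
            simp only [Pi.mul_apply, hf] at this
            exact this.symm
          map_zero' := by
            have := key 0 R.zero_mem
            simp only [Pi.zero_apply] at this
            exact this.symm
          map_add' := by
            intro a b
            have := key (f a + f b) (R.add_mem (hfR a) (hfR b))
            simp only [Pi.add_apply, hf] at this
            exact this.symm }
      obtain ⟨τ, hτ, hne'⟩ := T2 i' i hii.symm σ
      exact hne' (key τ (Subring.subset_closure hτ))
  -- the idempotents lie in `R`
  have hidem : ∀ i (a : K), Pi.single i a ∈ R := by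
    intro i a
    choose g hgR hg1 hg0 using hsep i
    obtain ⟨r, hr, hra⟩ := hsurj i a
    have hprod : (∏ i' ∈ Finset.univ.erase i, if h : i ≠ i' then g i' h else 1) ∈ R := by
      apply Subring.prod_mem
      intro c _
      split_ifs with h
      · exact hgR c h
      · exact R.one_mem
    have heq : Pi.single i a = r * ∏ i' ∈ Finset.univ.erase i, if h : i ≠ i' then g i' h else 1 := by
      funext j
      rw [Pi.mul_apply, Finset.prod_apply]
      by_cases hj : j = i
      · subst hj
        rw [Pi.single_eq_same, hra]
        rw [Finset.prod_eq_one, mul_one]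
        intro c hc
        have hcj : j ≠ c := fun h => (Finset.ne_of_mem_erase hc) h.symm
        rw [dif_pos hcj]
        exact hg1 c hcj
      · rw [Pi.single_eq_of_ne hj]
        have hij : i ≠ j := fun h => hj h.symm
        rw [Finset.prod_eq_zero (i := j) (Finset.mem_erase.2 ⟨hj, Finset.mem_univ j⟩), mul_zero]
        rw [dif_pos hij]
        exact hg0 j hij
    rw [heq]
    exact R.mul_mem hr hprod
  -- hence `Y` contains all `Pi.single i a`
  have hYs : ∀ i (a : K), Pi.single i a ∈ Y := by
    intro i a
    obtain ⟨y, hy, hyi⟩ := hne i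
    have h1 := hRY _ (hidem i (a * (y i)⁻¹)) y hy
    have h2 : Pi.single i (a * (y i)⁻¹) * y = Pi.single i a := by
      funext j
      rw [Pi.mul_apply]
      by_cases hj : j = i
      · subst hj
        rw [Pi.single_eq_same, Pi.single_eq_same, mul_assoc, inv_mul_cancel₀ hyi, mul_one]
      · rw [Pi.single_eq_of_ne hj, Pi.single_eq_of_ne hj, zero_mul]
    rwa [h2] at h1
  rw [eq_top_iff]
  intro y _
  rw [← Finset.univ_sum_single y]
  exact Y.sum_mem fun i _ => hYs i (y i)

end Cfsg.Agent.Lib.Helper47.WC
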