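import Mathlib
import Cfsg.Agent.Lib.Helper12.ZassDefs
import Cfsg.Agent.Lib.Helper47.ZassAT1
import Cfsg.Agent.Lib.Helper48.Coprime
import Cfsg.Agent.S3378

/-!
# S0690 (Zassenhaus), MODULE AT3 for helper12 (helper47)

A perfect group with the `Free3` properties, of order not divisible by `16`, in which every element
of order `3` normalizes nontrivially a subgroup of order `8`, is `SL(2,5)`.
-/

set_option autoImplicit false

namespace Cfsg.Agent.Lib.Helper47

open Cfsg.Agent.Lib.Helper12.Zass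
open scoped commutatorElement

section zass3

variable {G : Type*} [Group G] [Finite G]

omit [Finite G] in
theorem zass_isPGroup_of_card_eight {Q : Subgroup G} (hQ : Nat.card Q = 8) : IsPGroup 2 Q :=
  IsPGroup.of_card (n := 3) (by rw [hQ]; norm_num)

/-- a `2`-subgroup normalizing a subgroup `Q` of order `8` lies in `Q` when `16 ∤ |G|` -/
theorem zass_le_of_normalizing (h16 : ¬ 16 ∣ Nat.card G) {Q T : Subgroup G}
    (hQ : Nat.card Q = 8) (hT : IsPGroup 2 T) (hTQ : T ≤ Subgroup.normalizer (Q : Set G)) :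
    T ≤ Q := by
  have : Fact (Nat.Prime 2) := ⟨Nat.prime_two⟩
  have hQ2 := zass_isPGroup_of_card_eight hQ
  have hW : IsPGroup 2 (T ⊔ Q : Subgroup G) := IsPGroup.to_sup_of_normal_right' hT hQ2 hTQ
  obtain ⟨k, hk⟩ := hW.exists_card_eq
  have hk3 : k ≤ 3 := by
    by_contra hcon
    have h4 : 4 ≤ k := by omega
    apply h16
    have h1 : 2 ^ 4 ∣ 2 ^ k := pow_dvd_pow 2 h4
    have h2 : 2 ^ k ∣ Nat.card G := hk ▸ Subgroup.card_subgroup_dvd_card _
    exact (by norm_num : (16 : ℕ) = 2 ^ 4) ▸ h1.trans h2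
  have hle : Nat.card (T ⊔ Q : Subgroup G) ≤ Nat.card Q := by
    rw [hk, hQ]
    calc 2 ^ k ≤ 2 ^ 3 := Nat.pow_le_pow_right (by norm_num) hk3
      _ = 8 := by norm_num
  have heq : Q = T ⊔ Q := Subgroup.eq_of_le_of_card_ge le_sup_right hle
  rw [heq]
  exact le_sup_left

omit [Finite G] in
/-- a subgroup of order `8` is a Sylow `2`-subgroup when `16 ∤ |G|` -/
theorem zass_exists_sylow (h16 : ¬ 16 ∣ Nat.card G) {Q : Subgroup G} (hQ : Nat.card Q = 8) :
    ∃ P : Sylow 2 G, (P : Subgroup G) = Q := by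
  have : Fact (Nat.Prime 2) := ⟨Nat.prime_two⟩
  have hQ2 := zass_isPGroup_of_card_eight hQ
  have hidx : ¬ 2 ∣ Q.index := by
    intro h
    apply h16
    have := Subgroup.card_mul_index Q
    rw [hQ] at this
    rw [← this]
    obtain ⟨c, hc⟩ := h
    rw [hc]
    exact ⟨c, by ring⟩
  exact ⟨hQ2.toSylow hidx, rfl⟩

/-- an element of order dividing `3` normalizing a cyclic `2`-group centralizes it -/
theorem zass_centralizes_cyclic_two {R : Subgroup G} (hRc : IsCyclic ↥R) (hR2 : IsPGroup 2 R)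
    {x : G} (hxR : x ∈ Subgroup.normalizer (R : Set G)) (hx3 : x ^ 3 = 1) :
    x ∈ Subgroup.centralizer (R : Set G) := by
  have : Fact (Nat.Prime 2) := ⟨Nat.prime_two⟩
  set xN : Subgroup.normalizer (R : Set G) := ⟨x, hxR⟩ with hxN
  set α : MulAut ↥R := R.normalizerMonoidHom xN with hα
  have h3 : α ^ 3 = 1 := by
    rw [hα, ← map_pow]
    have : xN ^ 3 = 1 := Subtype.ext (by simpa using hx3)
    rw [this, map_one]
  have hcard : Nat.card (MulAut ↥R) = Nat.totient (Nat.card R) := IsCyclic.card_mulAut ↥R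
  obtain ⟨k, hk⟩ := hR2.exists_card_eq
  have h2 : orderOf α ∣ 2 ^ k := by
    have hd := orderOf_dvd_natCard α
    rw [hcard, hk] at hd
    rcases k with _ | k
    · simpa using hd
    · rw [Nat.totient_prime_pow_succ Nat.prime_two] at hd
      refine hd.trans ?_
      rw [pow_succ]
      exact ⟨2, by ring⟩
  have h1 : orderOf α ∣ 3 := orderOf_dvd_of_pow_eq_one h3
  have hcop : Nat.Coprime 3 (2 ^ k) := Nat.Coprime.pow_right k (by norm_num)
  have ho : orderOf α = 1 := Nat.eq_one_of_dvd_coprimes hcop h1 h2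
  have hα1 : α = 1 := orderOf_eq_one_iff.mp ho
  have hker : xN ∈ R.normalizerMonoidHom.ker := MonoidHom.mem_ker.mpr hα1
  rw [Subgroup.normalizerMonoidHom_ker, Subgroup.mem_subgroupOf] at hker
  exact hker

theorem zass_mem_normalizer {Q : Subgroup G} {x : G} (h : ∀ q ∈ Q, x * q * x⁻¹ ∈ Q) :
    x ∈ Subgroup.normalizer (Q : Set G) := by
  rw [Subgroup.mem_normalizer_iff_map_conj_eq]
  apply Subgroup.eq_of_le_of_card_ge
  · rintro _ ⟨q, hq, rfl⟩
    exact h q hq
  · rw [Subgroup.card_map_of_injective (MulAut.conj x).injective]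

omit [Finite G] in
theorem zass_comm_of_card_dvd_four {R : Subgroup G} (h : Nat.card R ∣ 4) :
    ∀ a ∈ R, ∀ b ∈ R, a * b = b * a := by
  have : Fact (Nat.Prime 2) := ⟨Nat.prime_two⟩
  have h4 : (4 : ℕ) = 2 ^ 2 := by norm_num
  rw [h4] at h
  obtain ⟨j, hj, hc⟩ := (Nat.dvd_prime_pow Nat.prime_two).mp h
  intro a ha b hb
  interval_cases j
  · rw [pow_zero] at hc
    have hs : Subsingleton ↥R := (Nat.card_eq_one_iff_unique.mp hc).1
    have : (⟨a, ha⟩ : ↥R) = ⟨b, hb⟩ := Subsingleton.elim _ _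
    have hab : a = b := congrArg Subtype.val this
    rw [hab]
  · rw [pow_one] at hc
    exact zass_comm_of_card_prime Nat.prime_two hc a ha b hb
  · have := (IsPGroup.isMulCommutative_of_card_eq_prime_sq hc).is_comm.comm ⟨a, ha⟩ ⟨b, hb⟩
    exact congrArg Subtype.val this

/-- `[Q, x] = Q` for a subgroup `Q` of order `8` normalized, not centralized, by `x` of order 3 -/
theorem zass_commutator_eq
    (hcyc : ∀ A : Subgroup G, (∀ a ∈ A, ∀ b ∈ A, a * b = b * a) → IsCyclic A)
    {x : G} (hx : orderOf x = 3) {Q : Subgroup G} (hQ : QSub x Q) :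
    ⁅Q, Subgroup.zpowers x⁆ = Q := by
  have hp3 : Fact (Nat.Prime 3) := ⟨Nat.prime_three⟩
  obtain ⟨hcard, hnorm, q0, hq0, hq0x⟩ := hQ
  have hx3 : x ^ 3 = 1 := by rw [← hx]; exact pow_orderOf_eq_one x
  set E : Subgroup G := Subgroup.zpowers x with hE
  have hE3 : IsPGroup 3 E :=
    IsPGroup.of_card (n := 1) (by rw [hE, Nat.card_zpowers, hx, pow_one])
  have hxQ : x ∈ Subgroup.normalizer (Q : Set G) := zass_mem_normalizer hnorm
  have hEQ : E ≤ Subgroup.normalizer (Q : Set G) := by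
    rw [hE, Subgroup.zpowers_le]; exact hxQ
  have h3Q : ¬ 3 ∣ Nat.card Q := by rw [hcard]; norm_num
  set R : Subgroup G := ⁅Q, E⁆ with hR
  have hRQ : R ≤ Q := Subgroup.le_normalizer_iff_commutator_le_left.mp hEQ
  have hRR : ⁅R, E⁆ = R := Cfsg.Agent.Lib.Helper48.commutator_commutator_eq hE3 h3Q hEQ
  by_contra hne
  have hcardR : Nat.card R ∣ 4 := by
    have h8 : Nat.card R ∣ 2 ^ 3 := by
      have := Subgroup.card_dvd_of_le hRQ
      rw [hcard] at this
      exact (by norm_num : (8 : ℕ) = 2 ^ 3) ▸ this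
    obtain ⟨j, hj, hc⟩ := (Nat.dvd_prime_pow Nat.prime_two).mp h8
    have hj3 : j ≠ 3 := by
      intro h3
      apply hne
      apply Subgroup.eq_of_le_of_card_ge hRQ
      rw [hc, h3, hcard]; norm_num
    have hj2 : j ≤ 2 := by omega
    rw [hc]
    exact (by norm_num : (4 : ℕ) = 2 ^ 2) ▸ pow_dvd_pow 2 hj2
  have hRc : IsCyclic ↥R := hcyc R (zass_comm_of_card_dvd_four hcardR)
  have hR2 : IsPGroup 2 R := (zass_isPGroup_of_card_eight hcard).to_le hRQ
  have hxR : x ∈ Subgroup.normalizer ((R : Subgroup G) : Set G) :=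
    Subgroup.normalizer_commutator_ge_right Q E (Subgroup.mem_zpowers x)
  have hxC := zass_centralizes_cyclic_two hRc hR2 hxR hx3
  have hEC : E ≤ Subgroup.centralizer ((R : Subgroup G) : Set G) := by
    rw [hE, Subgroup.zpowers_le]; exact hxC
  have hbot : ⁅R, E⁆ = ⊥ :=
    Subgroup.commutator_eq_bot_iff_le_centralizer.mpr (Subgroup.le_centralizer_iff.mp hEC)
  rw [hRR] at hbot
  have hQC : Q ≤ Subgroup.centralizer ((E : Subgroup G) : Set G) :=
    Subgroup.commutator_eq_bot_iff_le_centralizer.mp hbot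
  apply hq0x
  have := Subgroup.mem_centralizer_iff.mp (hQC hq0) x (Subgroup.mem_zpowers x)
  -- this : x * q0 = q0 * x
  rw [this]; group

/-- no element normalizing a Sylow `2`-subgroup `Q` of order `8` inverts an element of order `3`
normalizing `Q` -/
theorem zass_no_inverting (h16 : ¬ 16 ∣ Nat.card G) {Q : Subgroup G} (hQ : Nat.card Q = 8)
    {x : G} (hx : orderOf x = 3) (hxQ : x ∈ Subgroup.normalizer (Q : Set G)) {w : G}
    (hwQ : w ∈ Subgroup.normalizer (Q : Set G)) (hw : w * x * w⁻¹ = x⁻¹) : False := by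
  have hx3 : x ^ 3 = 1 := by rw [← hx]; exact pow_orderOf_eq_one x
  have hw2 : Commute (w ^ 2) x := by
    have e1 : w * x⁻¹ * w⁻¹ = x := by
      have : (w * x * w⁻¹)⁻¹ = w * x⁻¹ * w⁻¹ := by group
      rw [← this, hw, inv_inv]
    show w ^ 2 * x = x * w ^ 2
    rw [pow_two]
    calc w * w * x = w * (w * x * w⁻¹) * w := by group
      _ = w * x⁻¹ * w := by rw [hw]
      _ = (w * x⁻¹ * w⁻¹) * (w * w) := by group
      _ = x * (w * w) := by rw [e1]
  obtain ⟨k, m, hm, ho⟩ := Nat.exists_eq_two_pow_mul_odd (orderOf_pos w).ne'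
  obtain ⟨j, hj⟩ := hm
  set t : G := w ^ m with ht
  have ht2 : t ^ (2 ^ k) = 1 := by
    rw [ht, ← pow_mul, mul_comm, ← ho, pow_orderOf_eq_one]
  have htP : IsPGroup 2 (Subgroup.zpowers t) := by
    intro g
    obtain ⟨n, hn⟩ := Subgroup.mem_zpowers_iff.mp g.2
    refine ⟨k, Subtype.ext ?_⟩
    rw [Subgroup.coe_pow, ← hn, Subgroup.coe_one, ← zpow_natCast, ← zpow_mul, mul_comm, zpow_mul,
      zpow_natCast, ht2, one_zpow]
  have htN : Subgroup.zpowers t ≤ Subgroup.normalizer (Q : Set G) := by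
    rw [Subgroup.zpowers_le, ht]
    exact Subgroup.pow_mem _ hwQ m
  have htQ : t ∈ Q := zass_le_of_normalizing h16 hQ htP htN (Subgroup.mem_zpowers t)
  have htx : t * x * t⁻¹ = x⁻¹ := by
    have e : t = (w ^ 2) ^ j * w := by
      rw [ht, hj, pow_succ, pow_mul]
    have hc : Commute ((w ^ 2) ^ j) x⁻¹ := (hw2.pow_left j).inv_right
    calc t * x * t⁻¹ = (w ^ 2) ^ j * (w * x * w⁻¹) * ((w ^ 2) ^ j)⁻¹ := by rw [e]; group
      _ = (w ^ 2) ^ j * x⁻¹ * ((w ^ 2) ^ j)⁻¹ := by rw [hw]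
      _ = x⁻¹ := by rw [hc.eq, mul_inv_cancel_right]
  have hxQ' : x ∈ Q := by
    have h1 : x * t⁻¹ * x⁻¹ ∈ Q :=
      (Subgroup.mem_normalizer_iff.mp hxQ t⁻¹).mp (Q.inv_mem htQ)
    have h2 : t * (x * t⁻¹ * x⁻¹) ∈ Q := Q.mul_mem htQ h1
    have e : t * (x * t⁻¹ * x⁻¹) = x := by
      calc t * (x * t⁻¹ * x⁻¹) = (t * x * t⁻¹) * x⁻¹ := by group
        _ = x⁻¹ * x⁻¹ := by rw [htx]
        _ = x := by
          have : x * (x * x) = 1 := by
            have h3' := hx3
            rw [pow_succ, pow_two] at h3'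
            rw [← mul_assoc]; exact h3'
          calc x⁻¹ * x⁻¹ = x⁻¹ * x⁻¹ * (x * (x * x)) := by rw [this, mul_one]
            _ = x := by group
    rwa [e] at h2
  have := Subgroup.orderOf_dvd_natCard Q hxQ'
  rw [hx, hQ] at this
  norm_num at this

/-- a normal subgroup containing a Sylow `2`-subgroup of a perfect group whose abelian subgroups
are cyclic is the whole group -/
theorem zass_normal_eq_top
    (hcyc : ∀ A : Subgroup G, (∀ a ∈ A, ∀ b ∈ A, a * b = b * a) → IsCyclic A)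
    (hperf : commutator G = ⊤) (N : Subgroup G) [N.Normal] (P₀ : Sylow 2 G)
    (hPN : (P₀ : Subgroup G) ≤ N) : N = ⊤ := by
  have hp2 : Fact (Nat.Prime 2) := ⟨Nat.prime_two⟩
  apply zass_quotient_trivial_of_perfect hperf N
  have hodd : ¬ 2 ∣ Nat.card (G ⧸ N) := by
    intro h
    have h1 : Nat.card (G ⧸ N) = N.index := rfl
    rw [h1] at h
    exact P₀.not_dvd_index (h.trans (Subgroup.index_dvd_of_le hPN))
  have hZ : IsZGroup (G ⧸ N) := by
    refine ⟨fun p hp Pbar => ?_⟩
    have : Fact p.Prime := ⟨hp⟩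
    by_cases hp2' : p = 2
    · subst hp2'
      have hc : Nat.card (Pbar : Subgroup (G ⧸ N)) = 1 := by
        rw [Sylow.card_eq_multiplicity, Nat.factorization_eq_zero_of_not_dvd hodd, pow_zero]
      have : Subsingleton ↥(Pbar : Subgroup (G ⧸ N)) := (Nat.card_eq_one_iff_unique.mp hc).1
      exact isCyclic_of_subsingleton
    · obtain ⟨P, rfl⟩ := Sylow.mapSurjective_surjective (QuotientGroup.mk'_surjective N) p Pbar
      have hPc : IsCyclic ↥(P : Subgroup G) := by
        rcases zass_sylow_cyclic_or_quaternion hcyc P with hc | ⟨h2, -⟩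
        · exact hc
        · exact absurd h2 hp2'
      show IsCyclic ↥((P : Subgroup G).map (QuotientGroup.mk' N))
      exact isCyclic_of_surjective ((QuotientGroup.mk' N).subgroupMap (P : Subgroup G))
        (MonoidHom.subgroupMap_surjective _ _)
  infer_instance

end zass3

/-- MODULE AT3 of S0690. -/
theorem at3 {G : Type*} [Group G] [Finite G] (h : Free3 G) (hperf : commutator G = ⊤)
    (h16 : ¬ 16 ∣ Nat.card G) (x : G) (hx : orderOf x = 3)
    (hQ : ∀ y : G, orderOf y = 3 → ∃ Q : Subgroup G, QSub y Q) :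
    Nonempty (G ≃* Matrix.SpecialLinearGroup (Fin 2) (ZMod 5)) := by
  have hp2 : Fact (Nat.Prime 2) := ⟨Nat.prime_two⟩
  set E : Subgroup G := Subgroup.zpowers x with hE
  obtain ⟨Q₁, hQ₁⟩ := hQ x hx
  have hxN : ∀ Q : Subgroup G, QSub x Q → x ∈ Subgroup.normalizer (Q : Set G) :=
    fun Q hQ' => zass_mem_normalizer hQ'.2.1
  have hxnot : ∀ Q : Subgroup G, Nat.card Q = 8 → x ∉ Q := by
    intro Q hc hxQ
    have := Subgroup.orderOf_dvd_natCard Q hxQ
    rw [hx, hc] at this
    norm_num at this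
  have hconj3 : ∀ g : G, orderOf (g * x * g⁻¹) = 3 := by
    intro g
    have := (MulAut.conj g).orderOf_eq x
    rw [MulAut.conj_apply] at this
    rw [this, hx]
  obtain ⟨P₀, hP₀⟩ := zass_exists_sylow h16 hQ₁.1
  -- Step 1: a second subgroup
  have step1 : ∃ Q₂ : Subgroup G, QSub x Q₂ ∧ Q₂ ≠ Q₁ := by
    by_contra hcon
    have huniq : ∀ Q : Subgroup G, QSub x Q → Q = Q₁ := by
      intro Q hQ'
      by_contra hne
      exact hcon ⟨Q, hQ', hne⟩
    set B : Subgroup G := Q₁ ⊔ E with hB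
    have hBN : B ≤ Subgroup.normalizer (Q₁ : Set G) :=
      sup_le Subgroup.le_normalizer (by rw [hE, Subgroup.zpowers_le]; exact hxN Q₁ hQ₁)
    have hxB : x ∈ B := Subgroup.mem_sup_right (Subgroup.mem_zpowers x)
    have hconjB : ∀ g : G, g * x * g⁻¹ ∈ B := by
      intro g
      by_cases hyx : g * x * g⁻¹ ∈ E
      · exact Subgroup.mem_sup_right hyx
      · have hmem := h.e5 x _ hx (hconj3 g) hyx
        refine (Subgroup.closure_le B).mpr ?_ hmem
        rintro q (hq | ⟨Q, hQ', hqQ⟩)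
        · rw [Set.mem_singleton_iff] at hq
          rw [hq]; exact hxB
        · rw [huniq Q hQ'] at hqQ
          exact Subgroup.mem_sup_left hqQ
    set X : Subgroup G := Subgroup.normalClosure ({x} : Set G) with hX
    have hXB : X ≤ B := by
      rw [hX, Subgroup.normalClosure, Subgroup.closure_le]
      intro a ha
      obtain ⟨b, hb, hconj⟩ := Group.mem_conjugatesOfSet_iff.mp ha
      rw [Set.mem_singleton_iff] at hb
      subst hb
      obtain ⟨c, rfl⟩ := isConj_iff.mp hconj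
      exact hconjB c
    have hxX : x ∈ X := Subgroup.subset_normalClosure (Set.mem_singleton x)
    have hXn : X.Normal := Subgroup.normalClosure_normal
    have hQ₁X : Q₁ ≤ X := by
      rw [← zass_commutator_eq h.cyc hx hQ₁]
      exact (Subgroup.commutator_mono le_top
        (by rw [Subgroup.zpowers_le]; exact hxX)).trans (Subgroup.commutator_le_right ⊤ X)
    have hQ₁n : Q₁.Normal := by
      constructor
      intro q hq g
      have hT : Q₁.map (MulAut.conj g).toMonoidHom ≤ Q₁ := by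
        apply zass_le_of_normalizing h16 hQ₁.1 ((zass_isPGroup_of_card_eight hQ₁.1).map _)
        refine le_trans ?_ (hXB.trans hBN)
        rintro _ ⟨q', hq', rfl⟩
        exact hXn.conj_mem _ (hQ₁X hq') g
      exact hT ⟨q, hq, rfl⟩
    have htop := zass_normal_eq_top h.cyc hperf Q₁ P₀ hP₀.le
    exact hxnot Q₁ hQ₁.1 (htop ▸ Subgroup.mem_top x)
  obtain ⟨Q₂, hQ₂, hne⟩ := step1
  -- Step 2: no third subgroup
  have step2 : ∀ Q : Subgroup G, QSub x Q → Q = Q₁ ∨ Q = Q₂ := by
    intro Q₃ hQ₃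
    by_contra hcon
    rw [not_or] at hcon
    obtain ⟨h31, h32⟩ := hcon
    obtain ⟨-, u12, hu12x, hu12a, -⟩ := h.e8 x Q₁ Q₂ hx hQ₁ hQ₂ (Ne.symm hne)
    obtain ⟨-, u23, hu23x, hu23a, -⟩ := h.e8 x Q₂ Q₃ hx hQ₂ hQ₃ (Ne.symm h32)
    obtain ⟨-, u31, hu31x, hu31a, -⟩ := h.e8 x Q₃ Q₁ hx hQ₃ hQ₁ h31
    have e1 : u23 * x⁻¹ * u23⁻¹ = x := by
      have : (u23 * x * u23⁻¹)⁻¹ = u23 * x⁻¹ * u23⁻¹ := by group
      rw [← this, hu23x, inv_inv]
    have hwx : (u31 * u23 * u12) * x * (u31 * u23 * u12)⁻¹ = x⁻¹ := by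
      calc (u31 * u23 * u12) * x * (u31 * u23 * u12)⁻¹
          = u31 * (u23 * (u12 * x * u12⁻¹) * u23⁻¹) * u31⁻¹ := by group
        _ = u31 * (u23 * x⁻¹ * u23⁻¹) * u31⁻¹ := by rw [hu12x]
        _ = u31 * x * u31⁻¹ := by rw [e1]
        _ = x⁻¹ := hu31x
    have hwQ : ∀ q ∈ Q₁, (u31 * u23 * u12) * q * (u31 * u23 * u12)⁻¹ ∈ Q₁ := by
      intro q hq
      have h1 := hu31a _ (hu23a _ (hu12a q hq))
      have e : (u31 * u23 * u12) * q * (u31 * u23 * u12)⁻¹ =
          u31 * (u23 * (u12 * q * u12⁻¹) * u23⁻¹) * u31⁻¹ := by group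
      rw [e]; exact h1
    exact zass_no_inverting h16 hQ₁.1 hx (hxN _ hQ₁) (zass_mem_normalizer hwQ) hwx
  -- Step 3: `H = Q₁ Q₂ ⟨x⟩` is normal
  set H : Subgroup G := Q₁ ⊔ Q₂ ⊔ E with hH
  have hHcard : Nat.card H = 120 := (h.e8 x Q₁ Q₂ hx hQ₁ hQ₂ (Ne.symm hne)).1
  have hxH : x ∈ H := Subgroup.mem_sup_right (Subgroup.mem_zpowers x)
  set S3 : Set G := {y : G | orderOf y = 3} with hS3
  set L : Subgroup G := Subgroup.closure S3 with hL
  have hLn : L.Normal := by
    have hconjS : Group.conjugatesOfSet S3 = S3 := by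
      apply Set.Subset.antisymm
      · intro a ha
        obtain ⟨b, hb, hconj⟩ := Group.mem_conjugatesOfSet_iff.mp ha
        obtain ⟨c, rfl⟩ := isConj_iff.mp hconj
        show orderOf (c * b * c⁻¹) = 3
        have := (MulAut.conj c).orderOf_eq b
        rw [MulAut.conj_apply] at this
        rw [this]; exact hb
      · exact Group.subset_conjugatesOfSet
    have : L = Subgroup.normalClosure S3 := by
      rw [hL, Subgroup.normalClosure, hconjS]
    rw [this]
    exact Subgroup.normalClosure_normal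
  have hxL : x ∈ L := Subgroup.subset_closure hx
  have hLH : L ≤ H := by
    rw [hL, Subgroup.closure_le]
    intro y hy
    by_cases hyx : y ∈ E
    · exact Subgroup.mem_sup_right hyx
    · have hmem := h.e5 x y hx hy hyx
      refine (Subgroup.closure_le H).mpr ?_ hmem
      rintro q (hq | ⟨Q, hQ', hqQ⟩)
      · rw [Set.mem_singleton_iff] at hq
        rw [hq]; exact hxH
      · rcases step2 Q hQ' with rfl | rfl
        · exact Subgroup.mem_sup_left (Subgroup.mem_sup_left hqQ)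
        · exact Subgroup.mem_sup_left (Subgroup.mem_sup_right hqQ)
  have hQL : ∀ Q : Subgroup G, QSub x Q → Q ≤ L := by
    intro Q hQ'
    rw [← zass_commutator_eq h.cyc hx hQ']
    exact (Subgroup.commutator_mono le_top
      (by rw [Subgroup.zpowers_le]; exact hxL)).trans (Subgroup.commutator_le_right ⊤ L)
  have hHL : H = L :=
    le_antisymm (sup_le (sup_le (hQL _ hQ₁) (hQL _ hQ₂))
      (by rw [hE, Subgroup.zpowers_le]; exact hxL)) hLH
  have hHn : H.Normal := hHL ▸ hLn
  have hHtop : H = ⊤ :=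
    zass_normal_eq_top h.cyc hperf H P₀ (hP₀.le.trans (le_sup_left.trans le_sup_left))
  have hGcard : Nat.card G = 120 := by
    rw [← hHcard, hHtop, Subgroup.card_top]
  have hnt : Nontrivial G := ⟨⟨x, 1, fun h1 => by
    rw [h1, orderOf_one] at hx; norm_num at hx⟩⟩
  have hns : ¬ Group.IsSolvable G := by
    intro hsol
    exact (Group.IsSolvable.commutator_lt_top_of_nontrivial G).ne hperf
  apply Cfsg.Agent.S3378.result.1 G hGcard hns
  intro P
  have hcardP : Nat.card (P : Subgroup G) = 8 := by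
    rw [Sylow.card_eq_multiplicity, ← Sylow.card_eq_multiplicity P₀, hP₀, hQ₁.1]
  rcases zass_sylow_cyclic_or_quaternion h.cyc P with hc | ⟨-, n, ⟨e⟩⟩
  · exfalso
    apply hns
    have hZ : IsZGroup G := ⟨fun p hp P' => by
      have : Fact p.Prime := ⟨hp⟩
      rcases zass_sylow_cyclic_or_quaternion h.cyc P' with hc' | ⟨h2, -⟩
      · exact hc'
      · subst h2
        exact (Sylow.equiv P' P).isCyclic.mpr hc⟩
    infer_instance
  · have hcq : Nat.card (QuaternionGroup (2 ^ n)) = 8 := by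
      rw [← Nat.card_congr e.toEquiv]; exact hcardP
    have hn : n = 1 := by
      rw [Nat.card_eq_fintype_card, QuaternionGroup.card] at hcq
      have h2n : 2 ^ n = 2 := by omega
      exact Nat.pow_right_injective (le_refl 2) (by simpa using h2n)
    subst hn
    exact ⟨e⟩

end Cfsg.Agent.Lib.Helper47
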